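import Mathlib
import Cfsg.Prelude.Def_LieExceptional
import Cfsg.Agent.Lib.Helper38.Mackey
import Cfsg.Agent.Lib.Helper79.Basic
import Cfsg.Agent.Lib.Helper15.IrrCrit
import Cfsg.Agent.Lib.Helper3.Induced
import Cfsg.Agent.Lib.Helper3.CharBasic
import Cfsg.Agent.Lib.Helper55.Transfer2

/-!
# Zassenhaus groups with two-point stabilizer of odd order: induced linear characters

`G` a simple Zassenhaus group, `N = G_a`, `E = G_{ab}` of odd order.  A non-principal linear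
character `μ` of `N` trivial on the Frobenius kernel induces irreducibly to `G`.
-/

set_option autoImplicit false
set_option linter.unusedSectionVars false
set_option linter.unusedVariables false

namespace Cfsg.Agent.Lib.Helper69.Zass

open Cfsg MulAction
open scoped ComplexConjugate

/-! ### transfer of an invariant homomorphism -/

theorem transfer_eq_pow_of_hom_invariant {G A : Type*} [Group G] [CommGroup A] (H : Subgroup G)
    [H.FiniteIndex] (φ : H →* A) (g : G) (hg : g ∈ H)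
    (key : ∀ (k : ℕ) (g₀ : G) (hk : g₀⁻¹ * g ^ k * g₀ ∈ H),
      φ ⟨g₀⁻¹ * g ^ k * g₀, hk⟩ = φ ⟨g, hg⟩ ^ k) :
    MonoidHom.transfer φ g = φ ⟨g, hg⟩ ^ H.index := by
  classical
  letI := H.fintypeQuotientOfFiniteIndex
  rw [MonoidHom.transfer_eq_prod_quotient_orbitRel_zpowers_quot,
    Finset.prod_congr rfl (fun q _ => key _ _ _), Finset.prod_pow_eq_pow_sum,
    ← Subgroup.index_eq_sum_minimalPeriod]

/-! ### vanishing of the Mackey kernel for linear characters -/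

section mackey

variable {G : Type*} [Group G]

theorem extendByZero_hom_mul (N : Subgroup G) (φ : N →* ℂˣ) (n : N) (x : G) :
    extendByZero N (fun t => ((φ t : ℂˣ) : ℂ)) ((n : G) * x) =
      ((φ n : ℂˣ) : ℂ) * extendByZero N (fun t => ((φ t : ℂˣ) : ℂ)) x := by
  by_cases hx : x ∈ N
  · have hnx : (n : G) * x ∈ N := N.mul_mem n.2 hx
    rw [Cfsg.Agent.Lib.Helper25.extendByZero_of_mem N _ hx,
      Cfsg.Agent.Lib.Helper25.extendByZero_of_mem N _ hnx]
    have : (⟨(n : G) * x, hnx⟩ : N) = n * ⟨x, hx⟩ := rfl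
    rw [this, map_mul, Units.val_mul]
  · have hnx : (n : G) * x ∉ N := by
      intro h
      apply hx
      have := N.mul_mem (N.inv_mem n.2) h
      rwa [inv_mul_cancel_left] at this
    rw [Cfsg.Agent.Lib.Helper25.extendByZero_of_not_mem N _ hx,
      Cfsg.Agent.Lib.Helper25.extendByZero_of_not_mem N _ hnx, mul_zero]

/-- If some `s ∈ N ∩ τ N τ⁻¹` has `φ s ≠ φ (τ⁻¹ s τ)`, the Mackey kernel at `τ` vanishes. -/
theorem mackeyPhi_eq_zero (N : Subgroup G) [Fintype N] (φ : N →* ℂˣ) (τ : G) (s : N)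
    (hs : τ⁻¹ * (s : G) * τ ∈ N) (hne : φ s ≠ φ ⟨τ⁻¹ * (s : G) * τ, hs⟩) :
    Cfsg.Agent.Lib.Helper38.mackeyPhi N (fun t => ((φ t : ℂˣ) : ℂ))
      (fun t => ((φ t : ℂˣ) : ℂ)) τ = 0 := by
  set c : ℂ := ((φ s : ℂˣ) : ℂ) * conj (((φ ⟨τ⁻¹ * (s : G) * τ, hs⟩ : ℂˣ) : ℂ)) with hc
  have hnorm : ∀ t : N, ‖((φ t : ℂˣ) : ℂ)‖ = 1 := by
    intro t
    have h1 : (φ t) ^ Fintype.card N = 1 := by
      rw [← map_pow, pow_card_eq_one, map_one]
    have h2 : (((φ t : ℂˣ) : ℂ)) ^ Fintype.card N = 1 := by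
      rw [← Units.val_pow_eq_pow_val, h1, Units.val_one]
    exact Complex.norm_eq_one_of_pow_eq_one h2 Fintype.card_ne_zero
  have hc1 : c ≠ 1 := by
    intro h
    apply hne
    apply Units.ext
    have h3 := Complex.inv_eq_conj (hnorm ⟨τ⁻¹ * (s : G) * τ, hs⟩)
    rw [hc, ← h3] at h
    have h4 : ((φ ⟨τ⁻¹ * (s : G) * τ, hs⟩ : ℂˣ) : ℂ) ≠ 0 := Units.ne_zero _
    field_simp at h
    exact h
  refine eq_zero_of_mul_eq_self_left hc1 ?_
  unfold Cfsg.Agent.Lib.Helper38.mackeyPhi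
  rw [Finset.mul_sum]
  refine Fintype.sum_bijective (fun t => s * t) (Group.mulLeft_bijective s) _ _ (fun t => ?_)
  have h5 : τ⁻¹ * ((s * t : N) : G) * τ = ((⟨τ⁻¹ * (s : G) * τ, hs⟩ : N) : G) * (τ⁻¹ * (t : G) * τ) := by
    simp only [Subgroup.coe_mul]
    group
  rw [h5, extendByZero_hom_mul, map_mul]
  show c * (((φ t : ℂˣ) : ℂ) * _) = ((φ (s * t) : ℂˣ) : ℂ) * _
  rw [map_mul, Units.val_mul, hc]
  ring

end mackey


/-! ### geometry of a Zassenhaus group -/

section zass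

variable {G Ω : Type*} [Group G] [MulAction G Ω]

theorem double_coset (h2 : IsMultiplyPretransitive G Ω 2) {a b : Ω} (hab : a ≠ b) (τ : G)
    (hτa : τ • a = b) (y : G) (hy : y ∉ stabilizer G a) :
    ∃ b₁ b₂ : stabilizer G a, y = (b₁ : G) * τ * (b₂ : G) := by
  have hc : a ≠ y • a := fun h => hy (mem_stabilizer_iff.mpr h.symm)
  obtain ⟨n, hna, hnb⟩ := (is_two_pretransitive_iff.mp h2) hab hc
  refine ⟨⟨n, mem_stabilizer_iff.mpr hna⟩, ⟨(n * τ)⁻¹ * y, ?_⟩, ?_⟩
  · rw [mem_stabilizer_iff, mul_smul, inv_smul_eq_iff, mul_smul, hτa, hnb]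
  · show y = n * τ * ((n * τ)⁻¹ * y)
    group

theorem fix_two
    (h3 : ∀ g : G, ∀ a b c : Ω, a ≠ b → b ≠ c → a ≠ c → g • a = a → g • b = b → g • c = c → g = 1)
    {a b : Ω} (hab : a ≠ b) {x : G} (hx1 : x ≠ 1) (hxa : x • a = a) (hxb : x • b = b) {c : Ω}
    (hc : x • c = c) : c = a ∨ c = b := by
  by_contra hcon
  push Not at hcon
  exact hx1 (h3 x a b c hab (Ne.symm hcon.2) (Ne.symm hcon.1) hxa hxb hc)

theorem conj_mem_cases
    (h3 : ∀ g : G, ∀ a b c : Ω, a ≠ b → b ≠ c → a ≠ c → g • a = a → g • b = b → g • c = c → g = 1)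
    {a b : Ω} (hab : a ≠ b) (τ : G) (hτa : τ • a = b) (hτb : τ • b = a) {x : G} (hx1 : x ≠ 1)
    (hxa : x • a = a) (hxb : x • b = b) (g : G) (hga : (g⁻¹ * x * g) • a = a)
    (hgb : (g⁻¹ * x * g) • b = b) :
    (g • a = a ∧ g • b = b) ∨ ((τ⁻¹ * g) • a = a ∧ (τ⁻¹ * g) • b = b) := by
  rw [mul_smul, mul_smul, inv_smul_eq_iff] at hga hgb
  have hne : g • a ≠ g • b := fun h => hab (MulAction.injective g h)
  have hτa' : τ⁻¹ • b = a := inv_smul_eq_iff.mpr hτa.symm
  have hτb' : τ⁻¹ • a = b := inv_smul_eq_iff.mpr hτb.symm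
  rcases fix_two h3 hab hx1 hxa hxb hga with h1 | h1 <;>
    rcases fix_two h3 hab hx1 hxa hxb hgb with h2 | h2
  · exact absurd (h1.trans h2.symm) hne
  · exact Or.inl ⟨h1, h2⟩
  · right
    rw [mul_smul, mul_smul, h1, h2]
    exact ⟨hτa', hτb'⟩
  · exact absurd (h1.trans h2.symm) hne

theorem not_comm (hZ : IsZassenhausGroup G Ω) : ¬ IsMulCommutative G := by
  intro hc
  obtain ⟨hf, h2, h3, ⟨g, hg1, c, d, hcd, hgc, hgd⟩, h5⟩ := hZ
  apply hg1
  haveI := hf
  apply FaithfulSMul.eq_of_smul_eq_smul (α := Ω)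
  intro e
  rw [one_smul]
  haveI : IsPretransitive G Ω := by
    haveI := h2
    exact isPretransitive_of_is_two_pretransitive
  obtain ⟨h, rfl⟩ := exists_smul_eq G c e
  rw [← mul_smul, hc.is_comm.comm g h, mul_smul, hgc]

theorem coprime_card_index [Finite G]
    (h3 : ∀ g : G, ∀ a b c : Ω, a ≠ b → b ≠ c → a ≠ c → g • a = a → g • b = b → g • c = c → g = 1)
    {a b : Ω} (hab : a ≠ b) (τ : G) (hτa : τ • a = b) (hτb : τ • b = a)
    (hodd : Odd (Nat.card ↥(stabilizer G a ⊓ stabilizer G b : Subgroup G))) :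
    Nat.Coprime (Nat.card ↥(stabilizer G a ⊓ stabilizer G b : Subgroup G))
      (stabilizer G a ⊓ stabilizer G b : Subgroup G).index := by
  classical
  by_contra hcop
  obtain ⟨r, hr, hr1, hr2⟩ := Nat.Prime.not_coprime_iff_dvd.mp hcop
  haveI := Fact.mk hr
  obtain ⟨⟨y, hyE⟩, hy⟩ := exists_prime_orderOf_dvd_card' r hr1
  have hyo : orderOf y = r := by
    rw [← hy]
    exact (Subgroup.orderOf_mk y hyE).symm
  have hy1 : y ≠ 1 := by
    intro h
    rw [h, orderOf_one] at hyo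
    exact hr.one_lt.ne hyo
  have hya : y • a = a := hyE.1
  have hyb : y • b = b := hyE.2
  have hτa' : τ⁻¹ • b = a := inv_smul_eq_iff.mpr hτa.symm
  have hτb' : τ⁻¹ • a = b := inv_smul_eq_iff.mpr hτb.symm
  set E : Subgroup G := stabilizer G a ⊓ stabilizer G b with hE
  have hP : IsPGroup r (Subgroup.zpowers y) :=
    IsPGroup.of_card (n := 1) (by rw [Nat.card_zpowers, hyo, pow_one])
  have hmod := hP.card_modEq_card_fixedPoints (G ⧸ E)
  have hfix : fixedPoints (Subgroup.zpowers y) (G ⧸ E) =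
      {((1 : G) : G ⧸ E), ((τ : G) : G ⧸ E)} := by
    ext q
    induction q using QuotientGroup.induction_on with
    | H g =>
    simp only [mem_fixedPoints, Set.mem_insert_iff, Set.mem_singleton_iff]
    constructor
    · intro h
      have h1 : y • (g : G ⧸ E) = g := h ⟨y, Subgroup.mem_zpowers y⟩
      rw [MulAction.Quotient.smul_mk, QuotientGroup.eq] at h1
      have h2 : g⁻¹ * y * g ∈ E := by
        have := E.inv_mem h1
        have e : ((y • g)⁻¹ * g)⁻¹ = g⁻¹ * y * g := by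
          simp only [smul_eq_mul]
          group
        rwa [e] at this
      rcases conj_mem_cases h3 hab τ hτa hτb hy1 hya hyb g h2.1 h2.2 with ⟨h4, h5⟩ | ⟨h4, h5⟩
      · left
        rw [QuotientGroup.eq]
        have : g ∈ E := ⟨h4, h5⟩
        simpa using E.inv_mem this
      · right
        rw [QuotientGroup.eq]
        have : τ⁻¹ * g ∈ E := ⟨h4, h5⟩
        have := E.inv_mem this
        simpa using this
    · rintro (h | h) ⟨z, hz⟩
      · rw [h]
        show z • ((1 : G) : G ⧸ E) = ((1 : G) : G ⧸ E)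
        rw [MulAction.Quotient.smul_mk, QuotientGroup.eq]
        have hzE : z ∈ E := by
          have : Subgroup.zpowers y ≤ E := (Subgroup.zpowers_le).mpr hyE
          exact this hz
        simpa using hzE
      · rw [h]
        show z • ((τ : G) : G ⧸ E) = ((τ : G) : G ⧸ E)
        rw [MulAction.Quotient.smul_mk, QuotientGroup.eq]
        have hzE : z ∈ E := by
          have : Subgroup.zpowers y ≤ E := (Subgroup.zpowers_le).mpr hyE
          exact this hz
        have hza : z • a = a := hzE.1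
        have hzb : z • b = b := hzE.2
        have h6 : τ⁻¹ * z * τ ∈ E :=
          ⟨mem_stabilizer_iff.mpr (by rw [mul_smul, mul_smul, hτa, hzb, hτa']),
            mem_stabilizer_iff.mpr (by rw [mul_smul, mul_smul, hτb, hza, hτb'])⟩
        have := E.inv_mem h6
        have e : (τ⁻¹ * z * τ)⁻¹ = (z • τ)⁻¹ * τ := by
          simp only [smul_eq_mul]
          group
        rwa [e] at this
  have hne : ((1 : G) : G ⧸ E) ≠ ((τ : G) : G ⧸ E) := by
    intro h
    rw [QuotientGroup.eq] at h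
    have h7 : τ ∈ E := by simpa using h
    exact hab (h7.1.symm.trans hτa)
  have hcard : Nat.card (fixedPoints (Subgroup.zpowers y) (G ⧸ E)) = 2 := by
    rw [hfix, Nat.card_coe_set_eq, Set.ncard_pair hne]
  rw [hcard] at hmod
  have h8 : r ∣ 2 := by
    have h9 : (Nat.card (G ⧸ E)) % r = 0 := Nat.mod_eq_zero_of_dvd hr2
    have := hmod
    unfold Nat.ModEq at this
    rw [h9] at this
    exact Nat.dvd_of_mod_eq_zero this.symm
  have h10 : r = 2 := (Nat.prime_dvd_prime_iff_eq hr Nat.prime_two).mp h8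
  rw [h10] at hr1
  exact (Nat.not_even_iff_odd.mpr hodd) (even_iff_two_dvd.mpr hr1)

theorem exists_not_invariant [Finite G] [IsSimpleGroup G] (hZ : IsZassenhausGroup G Ω) {a b : Ω}
    (hab : a ≠ b)
    (hodd : Odd (Nat.card ↥(stabilizer G a ⊓ stabilizer G b : Subgroup G))) (τ : G)
    (hτa : τ • a = b) (hτb : τ • b = a) (φ : stabilizer G a →* ℂˣ) (s₀ : G)
    (hs₀ : s₀ ∈ (stabilizer G a ⊓ stabilizer G b : Subgroup G))
    (hφs₀ : φ ⟨s₀, hs₀.1⟩ ≠ 1) :
    ∃ (s : stabilizer G a) (hs : τ⁻¹ * (s : G) * τ ∈ stabilizer G a),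
      φ s ≠ φ ⟨τ⁻¹ * (s : G) * τ, hs⟩ := by
  by_contra hcon
  push Not at hcon
  have hτa' : τ⁻¹ • b = a := inv_smul_eq_iff.mpr hτa.symm
  have hτb' : τ⁻¹ • a = b := inv_smul_eq_iff.mpr hτb.symm
  have hcop := coprime_card_index hZ.2.2.1 hab τ hτa hτb hodd
  set E : Subgroup G := stabilizer G a ⊓ stabilizer G b with hE
  let φE : E →* ℂˣ := φ.comp (Subgroup.inclusion inf_le_left)
  have hφE : ∀ (x : G) (hx : x ∈ E), φE ⟨x, hx⟩ = φ ⟨x, hx.1⟩ := fun x hx => rfl
  have hnc : ¬ IsMulCommutative G := not_comm hZ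
  have hV : MonoidHom.transfer φE s₀ = 1 :=
    Cfsg.Agent.Lib.Helper55.hom_eq_one_of_simple hnc _ _
  have hkey : ∀ (k : ℕ) (g₀ : G) (hk : g₀⁻¹ * s₀ ^ k * g₀ ∈ E),
      φE ⟨g₀⁻¹ * s₀ ^ k * g₀, hk⟩ = φE ⟨s₀, hs₀⟩ ^ k := by
    intro k g₀ hk
    have hpow : (⟨s₀, hs₀⟩ : E) ^ k = ⟨s₀ ^ k, E.pow_mem hs₀ k⟩ := rfl
    by_cases h1 : s₀ ^ k = 1
    · have e1 : (⟨g₀⁻¹ * s₀ ^ k * g₀, hk⟩ : E) = 1 := by
        apply Subtype.ext
        simp [h1]
      have e2 : (⟨s₀, hs₀⟩ : E) ^ k = 1 := by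
        rw [hpow]
        apply Subtype.ext
        simp [h1]
      rw [e1, map_one, ← map_pow, e2, map_one]
    · have hxa : s₀ ^ k • a = a := (E.pow_mem hs₀ k).1
      have hxb : s₀ ^ k • b = b := (E.pow_mem hs₀ k).2
      rcases conj_mem_cases hZ.2.2.1 hab τ hτa hτb h1 hxa hxb g₀ hk.1 hk.2 with
        ⟨h2, h3⟩ | ⟨h2, h3⟩
      · have hg : g₀ ∈ E := ⟨h2, h3⟩
        have e1 : (⟨g₀⁻¹ * s₀ ^ k * g₀, hk⟩ : E) =
            (⟨g₀, hg⟩ : E)⁻¹ * ⟨s₀, hs₀⟩ ^ k * ⟨g₀, hg⟩ := by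
          rw [hpow]
          rfl
        rw [e1, map_mul, map_mul, map_inv, map_pow, mul_comm, mul_inv_cancel_left]
      · have hg : τ⁻¹ * g₀ ∈ E := ⟨h2, h3⟩
        have hτE : τ⁻¹ * s₀ ^ k * τ ∈ E :=
          ⟨mem_stabilizer_iff.mpr (by rw [mul_smul, mul_smul, hτa, hxb, hτa']),
            mem_stabilizer_iff.mpr (by rw [mul_smul, mul_smul, hτb, hxa, hτb'])⟩
        have e1 : (⟨g₀⁻¹ * s₀ ^ k * g₀, hk⟩ : E) =
            (⟨τ⁻¹ * g₀, hg⟩ : E)⁻¹ * ⟨τ⁻¹ * s₀ ^ k * τ, hτE⟩ * ⟨τ⁻¹ * g₀, hg⟩ := by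
          apply Subtype.ext
          show g₀⁻¹ * s₀ ^ k * g₀ = (τ⁻¹ * g₀)⁻¹ * (τ⁻¹ * s₀ ^ k * τ) * (τ⁻¹ * g₀)
          group
        rw [e1, map_mul, map_mul, map_inv, mul_comm, mul_inv_cancel_left, ← map_pow, hpow,
          hφE, hφE]
        exact (hcon ⟨s₀ ^ k, (E.pow_mem hs₀ k).1⟩ hτE.1).symm
  have h4 := transfer_eq_pow_of_hom_invariant E φE s₀ hs₀ hkey
  rw [hV] at h4
  have h5 : φE ⟨s₀, hs₀⟩ ^ Nat.card E = 1 := by
    rw [← map_pow, pow_card_eq_one', map_one]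
  have h6 := (pow_eq_one_iff_of_coprime hcop).mp ⟨h5, h4.symm⟩
  exact hφs₀ h6

theorem exists_H_smul_eq [Finite Ω] {a b : Ω} (hab : a ≠ b) (H : Subgroup G) [Finite H]
    (hHa : H ≤ stabilizer G a) (hHcard : Nat.card H + 1 = Nat.card Ω)
    (hHfix : ∀ u ∈ H, u ≠ 1 → ∀ c : Ω, u • c = c → c = a) (t : G) (ht : t • a = a) :
    ∃ u ∈ H, u • b = t • b := by
  let f : Option H → Ω := fun o => o.elim a (fun u => (u : G) • b)
  have hinj : Function.Injective f := by
    intro o₁ o₂ h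
    rcases o₁ with _ | u₁ <;> rcases o₂ with _ | u₂
    · rfl
    · exfalso
      have h' : a = (u₂ : G) • b := h
      have := hHa u₂.2
      rw [mem_stabilizer_iff] at this
      rw [← this] at h'
      exact hab (MulAction.injective _ h')
    · exfalso
      have h' : (u₁ : G) • b = a := h
      have := hHa u₁.2
      rw [mem_stabilizer_iff] at this
      rw [← this] at h'
      exact hab (MulAction.injective _ h').symm
    · have h' : (u₁ : G) • b = (u₂ : G) • b := h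
      have h2 : ((u₂ : G)⁻¹ * (u₁ : G)) • b = b := by
        rw [mul_smul, inv_smul_eq_iff, h']
      by_cases h3 : (u₂ : G)⁻¹ * (u₁ : G) = 1
      · have : (u₁ : G) = u₂ := by
          have := inv_mul_eq_one.mp h3
          exact this.symm
        rw [Subtype.ext this]
      · exfalso
        exact hab (hHfix _ (H.mul_mem (H.inv_mem u₂.2) u₁.2) h3 b h2).symm
  have hbij : Function.Bijective f :=
    hinj.bijective_of_nat_card_le (by rw [Finite.card_option, hHcard])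
  obtain ⟨o, ho⟩ := hbij.2 (t • b)
  rcases o with _ | u
  · exfalso
    have h' : a = t • b := ho
    rw [← ht] at h'
    exact hab (MulAction.injective _ h')
  · exact ⟨u, u.2, ho⟩

end zass


/-! ### the main theorem -/

theorem induced_linear_irreducible {G Ω : Type*} [Group G] [Fintype G] [MulAction G Ω] [Fintype Ω]
    (hZ : IsZassenhausGroup G Ω) {a b : Ω} (hab : a ≠ b) [IsSimpleGroup G]
    (hodd : Odd (Nat.card ↥(stabilizer G a ⊓ stabilizer G b : Subgroup G)))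
    (H : Subgroup G) (hHa : H ≤ stabilizer G a) (hHcard : Nat.card H + 1 = Fintype.card Ω)
    (hHfix : ∀ u ∈ H, u ≠ 1 → ∀ c : Ω, u • c = c → c = a)
    (μ : stabilizer G a → ℂ) (hμ : IsCharacter (stabilizer G a) μ ∧ μ 1 = 1)
    (hμH : ∀ u : stabilizer G a, (u : G) ∈ H → μ u = 1) (hμne : μ ≠ fun _ => 1) :
    IsIrrCharacter G (indFun (stabilizer G a) μ) ∧
      ∀ u ∈ H, u ≠ 1 → indFun (stabilizer G a) μ u = 1 := by
  classical
  haveI : Fintype (stabilizer G a) := Fintype.ofFinite _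
  obtain ⟨φ, hφ⟩ := Cfsg.Agent.Lib.Helper79.exists_monoidHom_of_isCharacter_of_one hμ.1 hμ.2
  have hμφ : μ = fun t => ((φ t : ℂˣ) : ℂ) := funext hφ
  subst hμφ
  obtain ⟨τ, hτa, hτb⟩ := (is_two_pretransitive_iff.mp hZ.2.1) hab hab.symm
  have hφH : ∀ (u : G) (hu : u ∈ H), φ ⟨u, hHa hu⟩ = 1 := by
    intro u hu
    apply Units.ext
    rw [Units.val_one]
    exact hμH ⟨u, hHa hu⟩ hu
  have hs₀ : ∃ s₀ : G, ∃ hs₀ : s₀ ∈ (stabilizer G a ⊓ stabilizer G b : Subgroup G),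
      φ ⟨s₀, hs₀.1⟩ ≠ 1 := by
    by_contra hcon
    push Not at hcon
    apply hμne
    funext t
    obtain ⟨u, huH, hu⟩ := exists_H_smul_eq hab H hHa
      (by rw [hHcard, Nat.card_eq_fintype_card]) hHfix (t : G) t.2
    have hua : u • a = a := hHa huH
    have hta : (t : G) • a = a := t.2
    have hE : u⁻¹ * (t : G) ∈ (stabilizer G a ⊓ stabilizer G b : Subgroup G) :=
      ⟨mem_stabilizer_iff.mpr (by rw [mul_smul, hta, inv_smul_eq_iff, hua]),
        mem_stabilizer_iff.mpr (by rw [mul_smul, inv_smul_eq_iff, hu])⟩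
    have h1 := hcon _ hE
    have h2 := hφH u huH
    have e : t = ⟨u, hHa huH⟩ * ⟨u⁻¹ * (t : G), hE.1⟩ := by
      apply Subtype.ext
      show (t : G) = u * (u⁻¹ * (t : G))
      group
    show ((φ t : ℂˣ) : ℂ) = 1
    rw [e, map_mul, h1, h2, mul_one, Units.val_one]
  obtain ⟨s₀, hs₀, hφs₀⟩ := hs₀
  obtain ⟨s, hs, hne⟩ := exists_not_invariant hZ hab hodd τ hτa hτb φ s₀ hs₀ hφs₀
  have hM := mackeyPhi_eq_zero (stabilizer G a) φ τ s hs hne
  have hirrN : IsIrrCharacter (stabilizer G a) (fun t => ((φ t : ℂˣ) : ℂ)) :=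
    Cfsg.Agent.Lib.Helper79.isIrrCharacter_of_monoidHom φ
  have hcl : IsClassFunction (stabilizer G a) (fun t => ((φ t : ℂˣ) : ℂ)) :=
    Cfsg.Agent.Lib.Helper3.IsCharacter.isClassFunction hμ.1
  have hdc := double_coset hZ.2.1 hab τ hτa
  have hnorm := Cfsg.Agent.Lib.Helper38.mackey_two_cosets (stabilizer G a) _ _ hcl hcl τ hdc
  rw [hM, mul_zero, add_zero, Cfsg.Agent.Lib.Helper3.classInner_irr hirrN hirrN, if_pos rfl]
    at hnorm
  refine ⟨Cfsg.Agent.Lib.Helper15.isIrrCharacter_of_norm_one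
    (Cfsg.Agent.Lib.Helper3.isCharacter_indFun _ hμ.1) hnorm, ?_⟩
  intro u huH hu1
  rw [Cfsg.Agent.Lib.Helper25.indFun_apply]
  have hua : u • a = a := hHa huH
  have hterm : ∀ x : G, extendByZero (stabilizer G a) (fun t => ((φ t : ℂˣ) : ℂ)) (x⁻¹ * u * x) =
      if x ∈ stabilizer G a then 1 else 0 := by
    intro x
    split_ifs with hx
    · have hxa : x • a = a := hx
      have hmem : x⁻¹ * u * x ∈ stabilizer G a :=
        mem_stabilizer_iff.mpr (by rw [mul_smul, mul_smul, hxa, hua, inv_smul_eq_iff, hxa])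
      rw [Cfsg.Agent.Lib.Helper25.extendByZero_of_mem _ _ hmem]
      have e : (⟨x⁻¹ * u * x, hmem⟩ : stabilizer G a) =
          (⟨x, hx⟩ : stabilizer G a)⁻¹ * ⟨u, hHa huH⟩ * ⟨x, hx⟩ := rfl
      rw [e, map_mul, map_mul, map_inv, mul_comm, mul_inv_cancel_left, hφH u huH, Units.val_one]
    · have hmem : x⁻¹ * u * x ∉ stabilizer G a := by
        intro h
        apply hx
        rw [mem_stabilizer_iff, mul_smul, mul_smul, inv_smul_eq_iff] at h
        exact mem_stabilizer_iff.mpr (hHfix u huH hu1 _ h)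
      rw [Cfsg.Agent.Lib.Helper25.extendByZero_of_not_mem _ _ hmem]
  rw [Finset.sum_congr rfl (fun x _ => hterm x), Finset.sum_boole]
  have hc : (Finset.univ.filter (fun x : G => x ∈ stabilizer G a)).card =
      Nat.card (stabilizer G a) := by
    rw [Nat.card_eq_fintype_card, Fintype.card_subtype]
  rw [hc]
  have hpos : (Nat.card (stabilizer G a) : ℂ) ≠ 0 := by
    exact_mod_cast Nat.card_pos.ne'
  exact inv_mul_cancel₀ hpos

end Cfsg.Agent.Lib.Helper69.Zass
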