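import Mathlib

set_option autoImplicit false

namespace Cfsg.Agent.Lib.Helper69

theorem map_centralizer_toConjAct {G : Type*} [Group G] (x : G) :
    (Subgroup.centralizer ({x} : Set G)).map (ConjAct.toConjAct (G := G) : G →* ConjAct G)
      = MulAction.stabilizer (ConjAct G) x := by
  ext g
  rw [Subgroup.mem_map, MulAction.mem_stabilizer_iff]
  constructor
  · rintro ⟨h, hh, rfl⟩
    rw [Subgroup.mem_centralizer_iff] at hh
    have := hh x rfl
    show h * x * h⁻¹ = x
    rw [← this]; group
  · intro hg
    refine ⟨ConjAct.ofConjAct g, ?_, by simp⟩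
    rw [Subgroup.mem_centralizer_iff]
    intro y hy
    rw [Set.mem_singleton_iff] at hy
    subst hy
    have : ConjAct.ofConjAct g * y * (ConjAct.ofConjAct g)⁻¹ = y := hg
    nth_rewrite 1 [← this]
    group

theorem index_centralizer_eq_card_isConj {G : Type*} [Group G] (x : G) :
    (Subgroup.centralizer ({x} : Set G)).index = Nat.card {y : G // IsConj x y} := by
  rw [← Subgroup.index_map_equiv _ (ConjAct.toConjAct (G := G)), map_centralizer_toConjAct,
    MulAction.index_stabilizer, ← Nat.card_coe_set_eq]
  apply Nat.card_congr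
  apply Equiv.subtypeEquivRight
  intro y
  rw [ConjAct.mem_orbit_conjAct, isConj_comm]

theorem index_centralizer_eq_card_carrier {G : Type*} [Group G] (x : G) :
    (Subgroup.centralizer ({x} : Set G)).index = Nat.card (ConjClasses.mk x).carrier := by
  rw [index_centralizer_eq_card_isConj]
  apply Nat.card_congr
  apply Equiv.subtypeEquivRight
  intro y
  rw [ConjClasses.mem_carrier_iff_mk_eq, ConjClasses.mk_eq_mk_iff_isConj, isConj_comm]

end Cfsg.Agent.Lib.Helper69
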