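import Mathlib
import Cfsg.Prelude.Def_ClassicalGeometry
import Cfsg.Prelude.Def_GeometricClasses
import Cfsg.Prelude.Def_Classical
import Cfsg.Agent.Lib.Helper15.HqDefs
import Cfsg.Agent.Lib.Helper33.HyT1
import Cfsg.Agent.Lib.Helper83.HyT3

/-! # HQ-SQM2 (helper15's S5974 hive "Hq"): for an isometry with `f² = -1` the type of an invariant
nondegenerate subspace `W` is determined by its dimension: plus type iff `-1` is a square or
`4 ∣ dim W`. -/

set_option autoImplicit false

namespace Cfsg.Agent.Lib.Helper15.Hq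

open Module
open Cfsg.Agent.Lib.Helper2.BG Cfsg.Agent.Lib.Helper99 Cfsg.Agent.Lib.Helper48.Ti
open Cfsg.Agent.Lib.Helper5.Hy (Plus Fixes)

section oddq

variable {F V : Type*} [Field F] [AddCommGroup V] [Module F V] [FiniteDimensional F V]
variable {B : V →ₗ[F] V →ₗ[F] F}

theorem sqm2_ff {f : Module.End F V} (hff : f * f = -1) (x : V) : f (f x) = -x := by
  have := congrArg (fun g : Module.End F V => g x) hff
  simpa using this

theorem sqm2_orth (h2 : (2 : F) ≠ 0) (hs : ∀ u v, B u v = B v u)
    {f : Module.End F V} (hf : Isom B f) (hff : f * f = -1) (x : V) : B x (f x) = 0 := by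
  have h1 := hf x (f x)
  rw [sqm2_ff hff, map_neg, hs (f x) x] at h1
  have h3 : 2 * B x (f x) = 0 := by linear_combination -h1
  exact (mul_eq_zero.mp h3).resolve_left h2

/-- the type of a plane with Gram matrix `diag(a, a)` -/
theorem sqm2_plane (hs : ∀ u v, B u v = B v u) (v w : V) (a : F) (ha : a ≠ 0)
    (hvv : B v v = a) (hww : B w w = a) (hvw : B v w = 0)
    (hfr : finrank F ↥(Submodule.span F {v} ⊔ Submodule.span F {w}) = 2) :
    Plus B (Submodule.span F {v} ⊔ Submodule.span F {w}) ↔ IsSquare (-1 : F) := by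
  constructor
  · rintro ⟨U, hUP, hUti, hUfr⟩
    have hU1 : finrank F U = 1 := by omega
    have hU0 : U ≠ ⊥ := by
      intro h0
      rw [h0, finrank_bot] at hU1
      omega
    obtain ⟨u, hu, hu0⟩ := Submodule.exists_mem_ne_zero_of_ne_bot hU0
    obtain ⟨p, hp, q, hq, hpq⟩ := Submodule.mem_sup.mp (hUP hu)
    obtain ⟨x, rfl⟩ := Submodule.mem_span_singleton.mp hp
    obtain ⟨y, rfl⟩ := Submodule.mem_span_singleton.mp hq
    have huu := hUti u hu u hu
    rw [← hpq] at huu
    simp only [map_add, map_smul, LinearMap.add_apply, LinearMap.smul_apply, smul_eq_mul] at huu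
    rw [hvv, hww, hvw, hs w v, hvw] at huu
    have hxy : x * x + y * y = 0 := by
      have : a * (x * x + y * y) = 0 := by linear_combination huu
      exact (mul_eq_zero.mp this).resolve_left ha
    have hy0 : y ≠ 0 := by
      rintro rfl
      have hx0 : x = 0 := by
        have : x * x = 0 := by linear_combination hxy
        exact mul_self_eq_zero.mp this
      apply hu0
      rw [← hpq, hx0]
      simp
    refine ⟨x / y, ?_⟩
    field_simp
    linear_combination -hxy
  · rintro ⟨ι, hι⟩
    have hι' : ι * ι = -1 := hι.symm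
    set u : V := v + ι • w with hu
    have huu : B u u = 0 := by
      rw [hu]
      simp only [map_add, map_smul, LinearMap.add_apply, LinearMap.smul_apply, smul_eq_mul]
      rw [hvv, hww, hvw, hs w v, hvw]
      linear_combination a * hι'
    have hu0 : u ≠ 0 := by
      intro h0
      have h1 : B u v = a := by
        rw [hu]
        simp only [map_add, map_smul, LinearMap.add_apply, LinearMap.smul_apply, smul_eq_mul]
        rw [hvv, hs w v, hvw]
        ring
      rw [h0] at h1
      simp at h1
      exact ha h1.symm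
    refine ⟨Submodule.span F {u}, ?_, Cfsg.Agent.Lib.Helper5.Hy.t3_ti_span huu, ?_⟩
    · rw [Submodule.span_singleton_le_iff_mem]
      exact Submodule.add_mem _
        (Submodule.mem_sup_left (Submodule.mem_span_singleton_self v))
        (Submodule.mem_sup_right (Submodule.smul_mem _ _ (Submodule.mem_span_singleton_self w)))
    · rw [finrank_span_singleton hu0, hfr]

theorem sqm2_aux [Fintype F] (h2 : (2 : F) ≠ 0) (hs : ∀ u v, B u v = B v u)
    {f : Module.End F V} (hf : Isom B f) (hff : f * f = -1) :
    ∀ n : ℕ, ∀ W : Submodule F V, finrank F W = n → Inv f W → Nd B W →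
      Even n ∧ (Plus B W ↔ (IsSquare (-1 : F) ∨ 4 ∣ n)) := by
  intro n
  induction n using Nat.strong_induction_on with
  | _ n ih =>
  intro W hn hWi hW
  by_cases hW0 : W = ⊥
  · subst hW0
    rw [finrank_bot] at hn
    subst hn
    refine ⟨by simp, ?_⟩
    constructor
    · intro _
      exact Or.inr (dvd_zero 4)
    · intro _
      exact Cfsg.Agent.Lib.Helper5.Hy.t1_plus_bot
  · obtain ⟨v, hvW, hvv⟩ := Cfsg.Agent.Lib.Helper5.Hy.t3_exists_norm h2 hs hW hW0
    set a := B v v with ha
    set w := f v with hw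
    have hfw : f w = -v := sqm2_ff hff v
    have hvw : B v w = 0 := sqm2_orth h2 hs hf hff v
    have hww : B w w = a := hf v v
    have hwW : w ∈ W := hWi v hvW
    set P : Submodule F V := Submodule.span F {v} ⊔ Submodule.span F {w} with hP
    obtain ⟨hPnd, hPfr⟩ := Cfsg.Agent.Lib.Helper5.Hy.t3_plane hs v w
      (by rw [hww, hvw, ← ha]; simpa using mul_ne_zero hvv hvv)
    have hPW : P ≤ W := by
      rw [hP]
      refine sup_le ?_ ?_
      · rw [Submodule.span_singleton_le_iff_mem]; exact hvW
      · rw [Submodule.span_singleton_le_iff_mem]; exact hwW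
    have hPi : Inv f P := by
      intro x hx
      obtain ⟨p, hp, q, hq, rfl⟩ := Submodule.mem_sup.mp hx
      obtain ⟨x, rfl⟩ := Submodule.mem_span_singleton.mp hp
      obtain ⟨y, rfl⟩ := Submodule.mem_span_singleton.mp hq
      rw [map_add, map_smul, map_smul, hfw, ← hw]
      refine Submodule.add_mem _
        (Submodule.mem_sup_right (Submodule.smul_mem _ _ (Submodule.mem_span_singleton_self w)))
        (Submodule.mem_sup_left (Submodule.smul_mem _ _
          (Submodule.neg_mem _ (Submodule.mem_span_singleton_self v))))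
    obtain ⟨hW'nd, hdisj, hsup⟩ := Cfsg.Agent.Lib.Helper5.Hy.t3_nd_perp hs hW hPW hPnd
    set W' : Submodule F V := W ⊓ LinearMap.BilinForm.orthogonal B P with hW'
    have hW'i : Inv f W' := by
      intro u hu
      refine ⟨hWi u hu.1, ?_⟩
      intro p hp
      show B p (f u) = 0
      have hp' : -(f p) ∈ P := Submodule.neg_mem _ (hPi p hp)
      have h1 : f (-(f p)) = p := by
        rw [map_neg, sqm2_ff hff, neg_neg]
      have h3 := hf (-(f p)) u
      rw [h1] at h3
      rw [h3]
      exact hu.2 _ hp'
    have hfrW' : finrank F W' + 2 = n := by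
      have h1 := Submodule.finrank_sup_add_finrank_inf_eq P W'
      rw [hsup, disjoint_iff.mp hdisj, finrank_bot, hn, hPfr] at h1
      omega
    have ho : Cfsg.Agent.Lib.Helper5.Hy.Orth B P W' := by
      intro p hp u hu
      exact hu.2 p hp
    obtain ⟨hev', hplus'⟩ := ih (finrank F W') (by omega) W' rfl hW'i hW'nd
    have hPeven : Even (finrank F P) := by rw [hPfr]; exact even_two
    have hsupplus := Cfsg.Agent.Lib.Helper5.Hy.plus_sup h2 hs hPnd hW'nd ho hPeven hev'
    rw [hsup] at hsupplus
    have hplane : Plus B P ↔ IsSquare (-1 : F) :=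
      sqm2_plane hs v w a hvv ha.symm hww hvw hPfr
    obtain ⟨k, hk⟩ := hev'
    have hn2 : n = 2 * (k + 1) := by omega
    refine ⟨⟨k + 1, by omega⟩, ?_⟩
    rw [hsupplus, hplane, hplus']
    by_cases hsq : IsSquare (-1 : F)
    · simp [hsq]
    · simp only [hsq, false_or, false_iff]
      rw [hk, hn2]
      omega

/-- HQ-SQM2 -/
theorem sq_neg_type [Fintype F] (h2 : (2 : F) ≠ 0) (hs : ∀ u v, B u v = B v u)
    {f : Module.End F V} (hf : Isom B f) (hff : f * f = -1) {W : Submodule F V} (hWi : Inv f W)
    (hW : Nd B W) : Plus B W ↔ (IsSquare (-1 : F) ∨ 4 ∣ finrank F W) :=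
  (sqm2_aux h2 hs hf hff (finrank F W) W rfl hWi hW).2

end oddq

end Cfsg.Agent.Lib.Helper15.Hq
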