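import Cfsg.Agent.Lib.Helper12.D3Defs
import Cfsg.Agent.Lib.Helper75.D4gMEM
import Cfsg.Agent.Lib.Helper75.D4gCONJ
import Cfsg.Agent.Lib.Helper65.D4gCOMM

/-! # D3 hive (S2183, owner helper12): leaf D3-RS2 (helper69)

`x_{2a+b}(c)`, `c ≠ 0`, is conjugate in `³D₄(q)` (`q` even) to `x_a(1)`: the Weyl element `n_{[0,2,3]}` maps the
orbit `{21,17,20}` to `{15,19,16}`, `n_{[1]}` maps `{19,16,15}` to `{18,13,12}`, and the torus element
`tA z` with `z² s = 1` scales `x_a(s)` to `x_a(1)`. -/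

set_option autoImplicit false
set_option maxRecDepth 100000

namespace Cfsg.Agent.Lib.Helper12.D3

open Cfsg Cfsg.Lie Cfsg.Agent.Lib.Helper36 Cfsg.Agent.Lib.Helper75.D4g

variable (K : Type*) [Field K] (φ : K →+* K)

theorem d3rs2_lt023 : ∀ i ∈ [0, 2, 3], i < chevD4.rank := by decide

theorem d3rs2_lt1 : ∀ i ∈ [1], i < chevD4.rank := by decide

/-- `n_{[0,2,3]}` maps `x_{2a+b}(c)` to `x_15(c) x_19(φ c) x_16(φ² c)` -/
theorem d3rs2_step1 [CharP K 2] (c : K) :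
    nWordGL chevD4 hD4 K [0, 2, 3] * x2ab K φ c * (nWordGL chevD4 hD4 K [0, 2, 3])⁻¹ =
      xg K 15 c * xg K 19 (φ c) * xg K 16 (φ (φ c)) := by
  unfold x2ab xg
  rw [d4gconj_three,
    nWordGL_conj_sign chevD4 hD4 K _ d3rs2_lt023 21 (by decide),
    nWordGL_conj_sign chevD4 hD4 K _ d3rs2_lt023 17 (by decide),
    nWordGL_conj_sign chevD4 hD4 K _ d3rs2_lt023 20 (by decide)]
  have r1 : wRoot chevD4 [0, 2, 3] 21 = 15 := by decide
  have r2 : wRoot chevD4 [0, 2, 3] 17 = 19 := by decide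
  have r3 : wRoot chevD4 [0, 2, 3] 20 = 16 := by decide
  have s1 : wSign chevD4 [0, 2, 3] 21 = -1 := by decide
  have s2 : wSign chevD4 [0, 2, 3] 17 = -1 := by decide
  have s3 : wSign chevD4 [0, 2, 3] 20 = -1 := by decide
  rw [r1, r2, r3, s1, s2, s3]
  simp [CharTwo.neg_eq]

/-- `x_15(c) x_19(φ c) x_16(φ² c) = x_{a+b}(φ c)` -/
theorem d3rs2_reorder (h3 : ∀ x : K, φ (φ (φ x)) = x) (c : K) :
    xg K 15 c * xg K 19 (φ c) * xg K 16 (φ (φ c)) = xab K φ (φ c) := by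
  unfold xab
  rw [h3]
  have c1 : xg K 15 c * xg K 19 (φ c) = xg K 19 (φ c) * xg K 15 c :=
    d4gcomm_nil 15 19 (by decide) (by decide) (by decide) (by decide) (by decide +kernel) c (φ c)
  have c2 : xg K 15 c * xg K 16 (φ (φ c)) = xg K 16 (φ (φ c)) * xg K 15 c :=
    d4gcomm_nil 15 16 (by decide) (by decide) (by decide) (by decide) (by decide +kernel) c (φ (φ c))
  rw [c1, mul_assoc, c2, ← mul_assoc]

/-- `n_{[1]}` maps `x_{a+b}(s)` to `x_a(s)` -/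
theorem d3rs2_step2 [CharP K 2] (s : K) :
    nWordGL chevD4 hD4 K [1] * xab K φ s * (nWordGL chevD4 hD4 K [1])⁻¹ = xa K φ s := by
  unfold xab xa xg
  rw [d4gconj_three,
    nWordGL_conj_sign chevD4 hD4 K _ d3rs2_lt1 19 (by decide),
    nWordGL_conj_sign chevD4 hD4 K _ d3rs2_lt1 16 (by decide),
    nWordGL_conj_sign chevD4 hD4 K _ d3rs2_lt1 15 (by decide)]
  have r1 : wRoot chevD4 [1] 19 = 18 := by decide
  have r2 : wRoot chevD4 [1] 16 = 13 := by decide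
  have r3 : wRoot chevD4 [1] 15 = 12 := by decide
  have s1 : wSign chevD4 [1] 19 = -1 := by decide
  have s2 : wSign chevD4 [1] 16 = 1 := by decide
  have s3 : wSign chevD4 [1] 15 = 1 := by decide
  rw [r1, r2, r3, s1, s2, s3]
  simp [CharTwo.neg_eq]

theorem d3rs2_conj3 {G : Type*} [Group G] (a b c x : G) :
    (a * b * c) * x * (a * b * c)⁻¹ = a * (b * (c * x * c⁻¹) * b⁻¹) * a⁻¹ := by group

/-- the torus element `tA z` scales a root element of the orbit `{18, 13, 12}` -/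
theorem d3rs2_tA_conj (z : K) (hz : z ≠ 0) (r : ℕ) (hr : r < chevD4.nroots) (t : K) :
    tA K φ z * xg K r t * (tA K φ z)⁻¹ =
      xg K r (z ^ (gc chevD4 18 r) * ((φ z) ^ (gc chevD4 13 r) * ((φ (φ z)) ^ (gc chevD4 12 r) * t))) := by
  have hz1 : φ z ≠ 0 := by
    intro h
    exact hz ((map_eq_zero φ).mp h)
  have hz2 : φ (φ z) ≠ 0 := by
    intro h
    exact hz1 ((map_eq_zero φ).mp h)
  unfold tA hg xg
  rw [d3rs2_conj3, hGL_conj_xGL chevD4 hD4 K 12 r (by decide) hr _ hz2,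
    hGL_conj_xGL chevD4 hD4 K 13 r (by decide) hr _ hz1,
    hGL_conj_xGL chevD4 hD4 K 18 r (by decide) hr _ hz]

/-- `tA z` maps `x_a(s)` to `x_a(z² s)` -/
theorem d3rs2_step3 (z : K) (hz : z ≠ 0) (s : K) :
    tA K φ z * xa K φ s * (tA K φ z)⁻¹ = xa K φ (z ^ 2 * s) := by
  unfold xa
  rw [d4gconj_three, d3rs2_tA_conj K φ z hz 18 (by decide), d3rs2_tA_conj K φ z hz 13 (by decide),
    d3rs2_tA_conj K φ z hz 12 (by decide)]
  have g1 : gc chevD4 18 18 = 2 := by decide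
  have g2 : gc chevD4 13 18 = 0 := by decide
  have g3 : gc chevD4 12 18 = 0 := by decide
  have g4 : gc chevD4 18 13 = 0 := by decide
  have g5 : gc chevD4 13 13 = 2 := by decide
  have g6 : gc chevD4 12 13 = 0 := by decide
  have g7 : gc chevD4 18 12 = 0 := by decide
  have g8 : gc chevD4 13 12 = 0 := by decide
  have g9 : gc chevD4 12 12 = 2 := by decide
  rw [g1, g2, g3, g4, g5, g6, g7, g8, g9]
  simp only [zpow_zero, one_mul, map_mul, map_pow]
  norm_cast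

/-- square roots in a finite field of characteristic two -/
theorem d3rs2_sqrt [Fintype K] [CharP K 2] (s : K) (hs : s ≠ 0) : ∃ z : K, z ≠ 0 ∧ z ^ 2 * s = 1 := by
  haveI : Fact (Nat.Prime 2) := ⟨Nat.prime_two⟩
  obtain ⟨z, hz⟩ := (bijective_frobenius K 2).surjective s⁻¹
  rw [frobenius_def] at hz
  refine ⟨z, ?_, ?_⟩
  · intro h0
    rw [h0] at hz
    have : s⁻¹ = 0 := by rw [← hz]; simp
    exact hs (inv_eq_zero.mp this)
  · rw [hz, inv_mul_cancel₀ hs]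

/-- D3-RS2 -/
theorem rs2 [Fintype K] [CharP K 2] {q : ℕ} (hK : Fintype.card K = q ^ 3) (hφ : ∀ t : K, φ t = t ^ q)
    (c : K) (hc : c ≠ 0) : Cj K q (x2ab K φ c) (xa K φ 1) := by
  have h3 : ∀ x : K, φ (φ (φ x)) = x := fun x => d4gmem_frob_cube hK φ hφ x
  have hc1 : φ c ≠ 0 := by
    intro h
    exact hc ((map_eq_zero φ).mp h)
  obtain ⟨z, hz0, hz⟩ := d3rs2_sqrt K (φ c) hc1
  have m1 : nWordGL chevD4 hD4 K [0, 2, 3] ∈ twistedD4 K q := by
    rw [twistedD4_eq K q φ hφ hK]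
    exact nWord_fund_mem chevD4 hD4 graphD4 orbsD4 fundD4 K φ chkOrb_D4 chkFund_D4 [0, 2, 3] (by simp [fundD4])
  have m2 : nWordGL chevD4 hD4 K [1] ∈ twistedD4 K q := by
    rw [twistedD4_eq K q φ hφ hK]
    exact nWord_fund_mem chevD4 hD4 graphD4 orbsD4 fundD4 K φ chkOrb_D4 chkFund_D4 [1] (by simp [fundD4])
  have m3 : tA K φ z ∈ twistedD4 K q := tA_mem hK φ hφ z hz0
  refine ⟨tA K φ z * nWordGL chevD4 hD4 K [1] * nWordGL chevD4 hD4 K [0, 2, 3],
    mul_mem (mul_mem m3 m2) m1, ?_⟩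
  rw [d3rs2_conj3, d3rs2_step1, d3rs2_reorder K φ h3, d3rs2_step2, d3rs2_step3 K φ z hz0, hz]

end Cfsg.Agent.Lib.Helper12.D3
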