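import Mathlib

/-! # Rt hive (helper12): leaf RT-SYLCONJ `exists_conj_le_of_factorization` (helper69) -/

set_option autoImplicit false

namespace Cfsg.Agent.Lib.Helper12.Rt

/-- RT-SYLCONJ. -/
theorem exists_conj_le_of_factorization {G : Type*} [Group G] [Finite G] (M : Subgroup G) (ℓ : ℕ) [Fact ℓ.Prime]
    (h : (Nat.card M).factorization ℓ = (Nat.card G).factorization ℓ) (Q : Subgroup G) (hQ : IsPGroup ℓ Q) :
    ∃ g : G, ∀ x ∈ Q, g * x * g⁻¹ ∈ M := by
  classical
  obtain ⟨P0⟩ : Nonempty (Sylow ℓ M) := inferInstance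
  have hc0 : Nat.card P0 = ℓ ^ (Nat.card M).factorization ℓ := P0.card_eq_multiplicity
  let P1 : Subgroup G := (P0 : Subgroup M).map M.subtype
  have hc1 : Nat.card P1 = ℓ ^ (Nat.card G).factorization ℓ := by
    rw [← h, ← hc0]
    exact Nat.card_congr
      ((P0 : Subgroup M).equivMapOfInjective M.subtype M.subtype_injective).symm.toEquiv
  let P : Sylow ℓ G := Sylow.ofCard P1 hc1
  obtain ⟨R, hR⟩ := hQ.exists_le_sylow
  obtain ⟨g, hg⟩ := MulAction.exists_smul_eq G R P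
  refine ⟨g, fun x hx => ?_⟩
  have hx' : g * x * g⁻¹ ∈ ((g • R : Sylow ℓ G) : Subgroup G) := by
    rw [Sylow.coe_subgroup_smul]
    have := Subgroup.smul_mem_pointwise_smul x (MulAut.conj g) (R : Subgroup G) (hR hx)
    simpa [MulAut.smul_def] using this
  rw [hg] at hx'
  have hx2 : g * x * g⁻¹ ∈ P1 := hx'
  obtain ⟨y, _, hy⟩ := Subgroup.mem_map.mp hx2
  rw [← hy]
  exact y.2

end Cfsg.Agent.Lib.Helper12.Rt
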