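import Mathlib
import Cfsg.Agent.Lib.Helper14.TuDefs

/-!
# Tu hive (S5953, owner helper14): leaf TU-HALF (`finrank_isotropic_le`)
-/

set_option autoImplicit false

namespace Cfsg.Agent.Lib.Helper14.Tu

open Cfsg.Agent.Lib.Helper40.Herm Cfsg.Agent.Lib.Helper2.BG Polynomial Module

section abs
variable {F : Type*} [Field F] [Fintype F] {q : ℕ} {hF : Fintype.card F = q ^ 2}
  {V : Type*} [AddCommGroup V] [Module F V] [FiniteDimensional F V]
  {H : V →ₗ[F] V →ₛₗ[tauHom hF] F} {g : Module.End F V} {N : ℕ}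

/-- a complement of `U ≤ Z` inside `Z` -/
theorem half_exists_compl_in {Z U : Submodule F V} (hUZ : U ≤ Z) :
    ∃ C : Submodule F V, C ≤ Z ∧ Disjoint U C ∧ U ⊔ C = Z ∧
      finrank F ↥U + finrank F ↥C = finrank F ↥Z := by
  obtain ⟨Q, hQ⟩ := Submodule.exists_isCompl U
  refine ⟨Q ⊓ Z, inf_le_right, ?_, ?_, ?_⟩
  · exact hQ.disjoint.mono_right inf_le_left
  · rw [← sup_inf_assoc_of_le Q hUZ, hQ.sup_eq_top, top_inf_eq]
  · have h1 := Submodule.finrank_sup_add_finrank_inf_eq U (Q ⊓ Z)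
    have h2 : U ⊔ Q ⊓ Z = Z := by
      rw [← sup_inf_assoc_of_le Q hUZ, hQ.sup_eq_top, top_inf_eq]
    have h3 : U ⊓ (Q ⊓ Z) = ⊥ := by
      rw [← disjoint_iff]
      exact hQ.disjoint.mono_right inf_le_left
    rw [h2, h3, finrank_bot, add_zero] at h1
    exact h1.symm

/-- the dimension formula for the orthogonal complement relative to a nondegenerate `Z` -/
theorem half_finrank_perp (hH : IsHermitian H) {Z W : Submodule F V} (hZ : HNondegOn H Z)
    (hWZ : W ≤ Z) : finrank F ↥(Z ⊓ hperp H W) + finrank F ↥W = finrank F ↥Z := by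
  obtain ⟨C, hCZ, hdisj, hsup, hfin⟩ :=
    half_exists_compl_in (Z := Z) (U := Z ⊓ hperp H W) inf_le_left
  have hCW : finrank F ↥C = finrank F ↥W := by
    apply finrank_eq_of_perfect hH W C
    · intro c hc hcw
      have : c ∈ Z ⊓ hperp H W := Submodule.mem_inf.2 ⟨hCZ hc, hcw⟩
      exact (Submodule.disjoint_def.1 hdisj) c this hc
    · intro w hw hcw
      apply hZ w (hWZ hw)
      intro z hz
      apply herm_swap hH
      rw [← hsup] at hz
      obtain ⟨u, hu, c, hc, rfl⟩ := Submodule.mem_sup.1 hz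
      rw [map_add, LinearMap.add_apply, hcw c hc, add_zero]
      exact (Submodule.mem_inf.1 hu).2 w hw
  rw [← hCW]
  exact hfin

/-- TU-HALF.  A totally isotropic subspace of a nondegenerate space has at most half the
dimension. -/
theorem finrank_isotropic_le (hH : IsHermitian H) {Z W : Submodule F V} (hZ : HNondegOn H Z)
    (hWZ : W ≤ Z) (hW : HIsotropic H W) : 2 * finrank F ↥W ≤ finrank F ↥Z := by
  have h1 := half_finrank_perp hH hZ hWZ
  have h2 : W ≤ Z ⊓ hperp H W := by
    intro w hw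
    exact Submodule.mem_inf.2 ⟨hWZ hw, fun w' hw' => hW w hw w' hw'⟩
  have h3 := Submodule.finrank_mono h2
  omega

end abs

end Cfsg.Agent.Lib.Helper14.Tu
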