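import Mathlib

set_option autoImplicit false

namespace Cfsg.Agent.Lib.Helper69

open scoped Pointwise

/-- A subgroup whose index is prime to `p` contains a Sylow `p`-subgroup. -/
theorem exists_sylow_le_of_not_dvd_index {G : Type*} [Group G] [Finite G] {p : ℕ} [Fact p.Prime]
    (C : Subgroup G) (h : ¬ p ∣ C.index) : ∃ P : Sylow p G, (P : Subgroup G) ≤ C := by
  obtain ⟨R⟩ : Nonempty (Sylow p C) := inferInstance
  have hpg : IsPGroup p ((R : Subgroup C).map C.subtype) := R.isPGroup'.map _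
  have hidx : ¬ p ∣ ((R : Subgroup C).map C.subtype).index := by
    rw [Subgroup.index_map_subtype]
    exact Nat.Prime.not_dvd_mul Fact.out R.not_dvd_index h
  refine ⟨hpg.toSylow hidx, ?_⟩
  rw [IsPGroup.toSylow_coe]
  exact Subgroup.map_subtype_le _

/-- If `x` centralizes some Sylow `p`-subgroup then a conjugate of `x` centralizes a given one. -/
theorem exists_conj_mem_centralizer_sylow {G : Type*} [Group G] [Finite G] {p : ℕ} [Fact p.Prime]
    (P P' : Sylow p G) (x : G) (hx : (P' : Subgroup G) ≤ Subgroup.centralizer ({x} : Set G)) :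
    ∃ g : G, g⁻¹ * x * g ∈ Subgroup.centralizer ((P : Subgroup G) : Set G) := by
  obtain ⟨g, hg⟩ := MulAction.exists_smul_eq G P P'
  refine ⟨g, ?_⟩
  rw [Subgroup.mem_centralizer_iff]
  intro u hu
  have hmem : g * u * g⁻¹ ∈ (P' : Subgroup G) := by
    rw [← hg, Sylow.coe_subgroup_smul]
    exact ⟨u, hu, rfl⟩
  have h1 := hx hmem
  rw [Subgroup.mem_centralizer_iff] at h1
  have h2 : x * (g * u * g⁻¹) = g * u * g⁻¹ * x := h1 x rfl
  calc u * (g⁻¹ * x * g) = g⁻¹ * (g * u * g⁻¹ * x) * g := by group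
    _ = g⁻¹ * (x * (g * u * g⁻¹)) * g := by rw [h2]
    _ = g⁻¹ * x * g * u := by group

/-- The non-identity elements lying in some conjugate of `C`, where `C` is normalized by `Nm`. -/
theorem ncard_conj_union_le {G : Type*} [Group G] [Finite G] (C Nm : Subgroup G)
    (hnorm : ∀ n ∈ Nm, ∀ c ∈ C, n⁻¹ * c * n ∈ C) :
    {x : G | x ≠ 1 ∧ ∃ g : G, g⁻¹ * x * g ∈ C}.ncard ≤ Nm.index * (Nat.card C - 1) := by
  classical
  let f : (G ⧸ Nm) × {c : C // c ≠ 1} → G := fun tc => tc.1.out * (tc.2.1 : G) * (tc.1.out)⁻¹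
  have hsub : {x : G | x ≠ 1 ∧ ∃ g : G, g⁻¹ * x * g ∈ C} ⊆ Set.range f := by
    rintro x ⟨hx1, g, hg⟩
    set t : G ⧸ Nm := QuotientGroup.mk g with ht
    have hn : g⁻¹ * t.out ∈ Nm := by
      rw [← QuotientGroup.eq, ht, QuotientGroup.out_eq']
    set n := g⁻¹ * t.out with hn_def
    have hc : n⁻¹ * (g⁻¹ * x * g) * n ∈ C := hnorm n hn _ hg
    have hc1 : (⟨n⁻¹ * (g⁻¹ * x * g) * n, hc⟩ : C) ≠ 1 := by
      intro h0
      have h1 : n⁻¹ * (g⁻¹ * x * g) * n = 1 := congrArg Subtype.val h0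
      apply hx1
      have : x = g * n * (n⁻¹ * (g⁻¹ * x * g) * n) * n⁻¹ * g⁻¹ := by group
      rw [this, h1]; group
    refine ⟨(t, ⟨⟨n⁻¹ * (g⁻¹ * x * g) * n, hc⟩, hc1⟩), ?_⟩
    show t.out * (n⁻¹ * (g⁻¹ * x * g) * n) * (t.out)⁻¹ = x
    have : t.out = g * n := by rw [hn_def]; group
    rw [this]; group
  calc {x : G | x ≠ 1 ∧ ∃ g : G, g⁻¹ * x * g ∈ C}.ncard ≤ (Set.range f).ncard :=
        Set.ncard_le_ncard hsub (Set.toFinite _)
    _ = Nat.card (Set.range f) := (Nat.card_coe_set_eq _).symm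
    _ ≤ Nat.card ((G ⧸ Nm) × {c : C // c ≠ 1}) := Finite.card_range_le f
    _ = Nm.index * (Nat.card C - 1) := by
        rw [Nat.card_prod, Subgroup.index]
        congr 1
        have : Fintype C := Fintype.ofFinite C
        rw [Nat.card_eq_fintype_card, Nat.card_eq_fintype_card, Fintype.card_subtype_compl,
          Fintype.card_subtype_eq]

end Cfsg.Agent.Lib.Helper69
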