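import Mathlib
import Cfsg.Agent.Lib.Helper22.CgDefs

/-! # Cg hive (S4257, owner helper22): leaf CG3c (parallel hand: helper69)

`rstab x` acts freely on the class of `x` by right multiplication: the class is a union of left cosets of
`rstab x`, so `|rstab x|` divides the class size. -/

set_option autoImplicit false

namespace Cfsg.Agent.Lib.Helper22.Cg

open Subgroup

universe u

/-- the class of `x` has `cs x` elements -/
theorem cg3c_card_class {G : Type u} [Group G] (x : G) :
    Nat.card {c : G // ∃ k : G, c = k * x * k⁻¹} = cs x := by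
  show _ = (centralizer ({x} : Set G)).index
  rw [Subgroup.index_eq_card]
  symm
  let f : G ⧸ centralizer ({x} : Set G) → {c : G // ∃ k : G, c = k * x * k⁻¹} := fun q =>
    Quotient.liftOn' q (fun k => ⟨k * x * k⁻¹, k, rfl⟩) (by
      intro a b hab
      rw [QuotientGroup.leftRel_apply] at hab
      apply Subtype.ext
      have h1 : a⁻¹ * b * x = x * (a⁻¹ * b) := (Subgroup.mem_centralizer_iff.mp hab x rfl).symm
      show a * x * a⁻¹ = b * x * b⁻¹
      have h2 : b = a * (a⁻¹ * b) := by group
      rw [h2, mul_assoc a (a⁻¹ * b) x, h1]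
      group)
  refine Nat.card_congr (Equiv.ofBijective f ⟨?_, ?_⟩)
  · intro q1 q2
    induction q1 using QuotientGroup.induction_on with
    | H a =>
    induction q2 using QuotientGroup.induction_on with
    | H b =>
    intro h
    have h1 : a * x * a⁻¹ = b * x * b⁻¹ := congrArg Subtype.val h
    apply QuotientGroup.eq.mpr
    rw [Subgroup.mem_centralizer_iff]
    intro y hy
    rw [Set.mem_singleton_iff] at hy
    subst hy
    have h2 : a⁻¹ * b * y = a⁻¹ * (b * y * b⁻¹) * b := by group
    rw [h2, ← h1]
    group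
  · rintro ⟨c, k, rfl⟩
    exact ⟨QuotientGroup.mk k, rfl⟩

/-- CG3c. `rstab x` acts freely on the class of `x` by right multiplication: its order divides
the class size. -/
theorem cg3c {G : Type u} [Group G] [Finite G] (x : G) : Nat.card (rstab x) ∣ cs x := by
  rw [← cg3c_card_class x]
  let K : Set G := {c | ∃ k : G, c = k * x * k⁻¹}
  have hK : (QuotientGroup.mk ⁻¹' ((QuotientGroup.mk : G → G ⧸ rstab x) '' K)) = K := by
    ext c
    constructor
    · rintro ⟨c', ⟨k, rfl⟩, hcc⟩
      have h1 : (k * x * k⁻¹)⁻¹ * c ∈ rstab x := QuotientGroup.eq.mp hcc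
      obtain ⟨k', hk'⟩ := h1.1 k
      refine ⟨k', ?_⟩
      rw [← hk']
      group
    · intro hc
      exact ⟨c, hc, rfl⟩
  have h2 := QuotientGroup.card_preimage_mk (rstab x) ((QuotientGroup.mk : G → G ⧸ rstab x) '' K)
  rw [hK] at h2
  exact Dvd.intro _ h2.symm

end Cfsg.Agent.Lib.Helper22.Cg
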