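import Mathlib
import Cfsg.Agent.Lib.Helper37.CartanDieudonne

/-! # ON-R2R (helper81's S5989 hive): an isometry `g` with `g² = -1` is a product of `dim`
reflections whose `Q`-values multiply to `2^(dim/2)` times a square; the Gram determinant is a
square. -/

set_option autoImplicit false

namespace Cfsg.Agent.Lib.Helper81.On

open Module Matrix Finset
open Cfsg.Agent.Lib.Helper37

section r2r

variable {κ : Type} [Fintype κ] [DecidableEq κ] {F : Type*} [Field F]
  {Q : (κ → F) → F} {G : Matrix κ κ F}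

/-- the Gram determinant is a square if there is an orthogonal basis whose norms multiply to a
square -/
theorem r2r_det_sq (h : IsGram Q G) {k : ℕ} (hk : k = Fintype.card κ)
    (v : Fin k → (κ → F)) (horth : ∀ i j, i ≠ j → Matrix.toBilin' G (v i) (v j) = 0)
    (hns : ∀ i, Q (v i) ≠ 0) (s : F) (hs : ∏ i, Matrix.toBilin' G (v i) (v i) = s ^ 2) :
    IsSquare G.det := by
  rcases Nat.eq_zero_or_pos k with hk0 | hkpos
  · have : IsEmpty κ := by
      rw [← Fintype.card_eq_zero_iff]; omega
    rw [Matrix.det_isEmpty]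
    exact ⟨1, by ring⟩
  have : Nonempty (Fin k) := ⟨⟨0, hkpos⟩⟩
  have li : LinearIndependent F v :=
    LinearMap.BilinForm.linearIndependent_of_iIsOrtho (B := Matrix.toBilin' G)
      (fun i j hij => horth i j hij) (fun i => h.bilin_self_ne_zero (v i) (hns i))
  let b := basisOfLinearIndependentOfCardEqFinrank li
    (by rw [Fintype.card_fin, Module.finrank_fintype_fun_eq_card]; exact hk)
  have hb : ∀ i, b i = v i := fun i => by
    simp only [b, coe_basisOfLinearIndependentOfCardEqFinrank]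
  let e : Fin k ≃ κ := Fintype.equivOfCardEq (by rw [Fintype.card_fin]; exact hk)
  let c : Basis κ F (κ → F) := b.reindex e
  have hc : ∀ a, c a = v (e.symm a) := fun a => by
    simp only [c, Basis.reindex_apply, hb]
  let P : Matrix κ κ F := (Pi.basisFun F κ).toMatrix c
  have hP : P * c.toMatrix (Pi.basisFun F κ) = 1 := Basis.toMatrix_mul_toMatrix_flip _ _
  have hdetP : P.det ≠ 0 := by
    intro h0
    have := congrArg Matrix.det hP
    rw [Matrix.det_mul, h0, zero_mul, Matrix.det_one] at this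
    exact zero_ne_one this
  have hG : LinearMap.BilinForm.toMatrix (Pi.basisFun F κ) (Matrix.toBilin' G) = G := by
    rw [LinearMap.BilinForm.toMatrix_basisFun, LinearMap.BilinForm.toMatrix'_toBilin']
  have hmul := LinearMap.BilinForm.toMatrix_mul_basis_toMatrix (Pi.basisFun F κ) c
    (Matrix.toBilin' G)
  rw [hG] at hmul
  have hdiag : LinearMap.BilinForm.toMatrix c (Matrix.toBilin' G) =
      Matrix.diagonal (fun a => Matrix.toBilin' G (c a) (c a)) := by
    ext a a'
    rw [LinearMap.BilinForm.toMatrix_apply]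
    by_cases haa : a = a'
    · subst haa
      rw [Matrix.diagonal_apply_eq]
    · rw [Matrix.diagonal_apply_ne _ haa, hc, hc]
      apply horth
      intro h'
      exact haa (e.symm.injective h')
  have hdet := congrArg Matrix.det hmul
  rw [hdiag, Matrix.det_mul, Matrix.det_mul, Matrix.det_transpose, Matrix.det_diagonal] at hdet
  have hprod : ∏ a, Matrix.toBilin' G (c a) (c a) = s ^ 2 := by
    rw [← hs]
    have := Equiv.prod_comp e.symm (fun i => Matrix.toBilin' G (v i) (v i))
    rw [← this]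
    apply Finset.prod_congr rfl
    intro a _
    rw [hc]
  rw [hprod] at hdet
  refine ⟨s / P.det, ?_⟩
  field_simp
  linear_combination hdet

theorem r2r_MM {M : Matrix κ κ F} (hMM : M * M = -1) (x : κ → F) : M *ᵥ (M *ᵥ x) = -x := by
  rw [Matrix.mulVec_mulVec, hMM, Matrix.neg_mulVec, Matrix.one_mulVec]

theorem r2r_orth (h : IsGram Q G) {M : Matrix κ κ F} (hM : ∀ u, Q (M *ᵥ u) = Q u)
    (hMM : M * M = -1) (x : κ → F) : Matrix.toBilin' G x (M *ᵥ x) = 0 := by
  have h1 := h.isometry_bilin M hM x (M *ᵥ x)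
  rw [r2r_MM hMM, map_neg, h.symmB] at h1
  have h2 : (2 : F) * Matrix.toBilin' G x (M *ᵥ x) = 0 := by linear_combination -h1
  rcases mul_eq_zero.mp h2 with h3 | h3
  · exact absurd h3 h.two_ne
  · exact h3

theorem r2r_Q_sub (h : IsGram Q G) (u w : κ → F) (hQw : Q w = Q u)
    (huw : Matrix.toBilin' G u w = 0) : Q (w - u) = 2 * Q u := by
  rw [h.Q_sub, hQw, h.symmB, huw]
  ring

theorem r2r_refl_swap (h : IsGram Q G) (u w : κ → F) (hQw : Q w = Q u)
    (huw : Matrix.toBilin' G u w = 0) (hu : Q u ≠ 0) :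
    Cfsg.reflectionMatrix Q (w - u) *ᵥ u = w := by
  have hne : Q (w - u) ≠ 0 := by
    rw [r2r_Q_sub h u w hQw huw]
    exact mul_ne_zero h.two_ne hu
  rw [h.refl_mulVec]
  have e1 : Matrix.toBilin' G (w - u) u = -(Q (w - u)) := by
    rw [r2r_Q_sub h u w hQw huw]
    simp only [map_sub, LinearMap.sub_apply, h.self u, h.symmB w u, huw]
    ring
  rw [e1, mul_neg, inv_mul_cancel₀ hne, neg_smul, one_smul]
  abel

/-- `∀` over a family extended by `Fin.snoc` -/
theorem r2r_forall_snoc {k : ℕ} (v : Fin k → (κ → F)) (u : κ → F) (p : (κ → F) → Prop) :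
    (∀ i : Fin (k + 1), p (Fin.snoc (α := fun _ => κ → F) v u i)) ↔ (∀ i, p (v i)) ∧ p u := by
  rw [Fin.forall_fin_succ']
  simp only [Fin.snoc_castSucc, Fin.snoc_last]

theorem r2r_snoc_orth (h : IsGram Q G) {k : ℕ} (v : Fin k → (κ → F)) (u : κ → F)
    (horth : ∀ i j, i ≠ j → Matrix.toBilin' G (v i) (v j) = 0)
    (hperp : ∀ j, Matrix.toBilin' G (v j) u = 0) :
    ∀ i j : Fin (k + 1), i ≠ j →
      Matrix.toBilin' G (Fin.snoc (α := fun _ => κ → F) v u i)
        (Fin.snoc (α := fun _ => κ → F) v u j) = 0 := by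
  intro i j hij
  induction i using Fin.lastCases with
  | last =>
    induction j using Fin.lastCases with
    | last => exact absurd rfl hij
    | cast j' =>
      simp only [Fin.snoc_last, Fin.snoc_castSucc]
      rw [h.symmB]; exact hperp j'
  | cast i' =>
    induction j using Fin.lastCases with
    | last => simp only [Fin.snoc_last, Fin.snoc_castSucc]; exact hperp i'
    | cast j' =>
      simp only [Fin.snoc_castSucc]
      exact horth i' j' (fun e => hij (by rw [e]))

theorem r2r_aux (h : IsGram Q G) (hdet : G.det ≠ 0) (g : ↥(Cfsg.isometryGroup F Q))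
    (hgg : toMat Q g * toMat Q g = -1) : ∀ (d k : ℕ), k + d = Fintype.card κ →
    ∀ (v : Fin k → (κ → F)), (∀ i j, i ≠ j → Matrix.toBilin' G (v i) (v j) = 0) →
    (∀ i, Q (v i) ≠ 0) →
    ∀ g' : ↥(Cfsg.isometryGroup F Q), (∀ i, toMat Q g' *ᵥ v i = v i) →
    (∀ x, (∀ i, Matrix.toBilin' G (v i) x = 0) → toMat Q g' *ᵥ x = toMat Q g *ᵥ x) →
    (∃ s : F, ∏ i, Matrix.toBilin' G (v i) (v i) = s ^ 2) →
    IsSquare G.det ∧ ∃ (n : ℕ) (vs : List (κ → F)) (t : F), d = 2 * n ∧ (∀ x ∈ vs, Q x ≠ 0) ∧
      toMat Q g' = (vs.map (fun x => Cfsg.reflectionMatrix Q x)).prod ∧ vs.length = 2 * n ∧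
      t ≠ 0 ∧ (vs.map (fun x => Q x)).prod = 2 ^ n * t ^ 2 := by
  intro d
  induction d using Nat.strong_induction_on with
  | _ d ih =>
  intro k hk v horth hns g' hfix hinv hsq
  rcases Nat.eq_zero_or_pos d with hd0 | hdpos
  · subst hd0
    obtain ⟨s, hs⟩ := hsq
    refine ⟨r2r_det_sq h (by omega) v horth hns s hs, 0, [], 1, by simp, by simp, ?_, by simp,
      one_ne_zero, by simp⟩
    simp only [List.map_nil, List.prod_nil]
    rcases Nat.eq_zero_or_pos k with hk0 | hkpos
    · have : IsEmpty κ := by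
        rw [← Fintype.card_eq_zero_iff]; omega
      exact Subsingleton.elim _ _
    · have : Nonempty (Fin k) := ⟨⟨0, hkpos⟩⟩
      have li : LinearIndependent F v :=
        LinearMap.BilinForm.linearIndependent_of_iIsOrtho (B := Matrix.toBilin' G)
          (fun i j hij => horth i j hij) (fun i => h.bilin_self_ne_zero (v i) (hns i))
      let b := basisOfLinearIndependentOfCardEqFinrank li
        (by rw [Fintype.card_fin, Module.finrank_fintype_fun_eq_card]; omega)
      have hlin : Matrix.toLin' (toMat Q g') = LinearMap.id := by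
        apply b.ext
        intro i
        simp only [b, coe_basisOfLinearIndependentOfCardEqFinrank, Matrix.toLin'_apply,
          LinearMap.id_coe, id_eq]
        exact hfix i
      apply Matrix.toLin'.injective
      rw [hlin, Matrix.toLin'_one]
  · have hklt : k < Fintype.card κ := by omega
    obtain ⟨u, hu, hperp⟩ := h.exists_nonsingular_perp hdet v horth hns hklt
    have hMiso : ∀ x, Q (toMat Q g *ᵥ x) = Q x := IsGram.toMat_isometry g
    have hM'iso : ∀ x, Q (toMat Q g' *ᵥ x) = Q x := IsGram.toMat_isometry g'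
    set w := toMat Q g *ᵥ u with hw
    have hQw : Q w = Q u := hMiso u
    have huw : Matrix.toBilin' G u w = 0 := r2r_orth h hMiso hgg u
    have hg'u : toMat Q g' *ᵥ u = w := hinv u hperp
    have hwperp : ∀ i, Matrix.toBilin' G (v i) w = 0 := by
      intro i
      have := h.isometry_bilin (toMat Q g') hM'iso (v i) u
      rw [hfix i, hg'u] at this
      rw [this]; exact hperp i
    have hg'w : toMat Q g' *ᵥ w = -u := by
      rw [hinv w hwperp, hw, r2r_MM hgg]
    have hQsub : Q (w - u) = 2 * Q u := r2r_Q_sub h u w hQw huw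
    have hne : Q (w - u) ≠ 0 := by
      rw [hQsub]; exact mul_ne_zero h.two_ne hu
    -- the extended family
    let v1 : Fin (k + 1) → (κ → F) := Fin.snoc (α := fun _ => κ → F) v u
    let v2 : Fin (k + 1 + 1) → (κ → F) := Fin.snoc (α := fun _ => κ → F) v1 w
    have horth1 : ∀ i j : Fin (k + 1), i ≠ j → Matrix.toBilin' G (v1 i) (v1 j) = 0 :=
      r2r_snoc_orth h v u horth hperp
    have hperp1 : ∀ j : Fin (k + 1), Matrix.toBilin' G (v1 j) w = 0 :=
      (r2r_forall_snoc v u (fun y => Matrix.toBilin' G y w = 0)).mpr ⟨hwperp, huw⟩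
    have horth2 : ∀ i j : Fin (k + 1 + 1), i ≠ j → Matrix.toBilin' G (v2 i) (v2 j) = 0 :=
      r2r_snoc_orth h v1 w horth1 hperp1
    have hns2 : ∀ i : Fin (k + 1 + 1), Q (v2 i) ≠ 0 :=
      (r2r_forall_snoc v1 w (fun y => Q y ≠ 0)).mpr
        ⟨(r2r_forall_snoc v u (fun y => Q y ≠ 0)).mpr ⟨hns, hu⟩, by rw [hQw]; exact hu⟩
    have li2 : LinearIndependent F v2 :=
      LinearMap.BilinForm.linearIndependent_of_iIsOrtho (B := Matrix.toBilin' G)
        (fun i j hij => horth2 i j hij) (fun i => h.bilin_self_ne_zero (v2 i) (hns2 i))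
    have hcard2 : k + 1 + 1 ≤ Fintype.card κ := by
      have := li2.fintype_card_le_finrank
      rwa [Fintype.card_fin, Module.finrank_fintype_fun_eq_card] at this
    let g'' := h.reflG (w - u) hne * (h.reflG u hu * g')
    have hg'' : toMat Q g'' = Cfsg.reflectionMatrix Q (w - u) *
        (Cfsg.reflectionMatrix Q u * toMat Q g') := by
      simp only [g'', map_mul]; rfl
    have hfix2 : ∀ i : Fin (k + 1 + 1), toMat Q g'' *ᵥ v2 i = v2 i := by
      refine (r2r_forall_snoc v1 w (fun y => toMat Q g'' *ᵥ y = y)).mpr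
        ⟨(r2r_forall_snoc v u (fun y => toMat Q g'' *ᵥ y = y)).mpr ⟨?_, ?_⟩, ?_⟩
      · intro i
        rw [hg'', ← Matrix.mulVec_mulVec, ← Matrix.mulVec_mulVec, hfix i,
          h.refl_fixes u (v i) (by rw [h.symmB]; exact hperp i),
          h.refl_fixes (w - u) (v i)
            (by rw [map_sub, LinearMap.sub_apply, h.symmB w, h.symmB u, hwperp i, hperp i,
              sub_zero])]
      · rw [hg'', ← Matrix.mulVec_mulVec, ← Matrix.mulVec_mulVec, hg'u, h.refl_fixes u w huw,
          h.refl_sub_apply w u hQw hne]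
      · rw [hg'', ← Matrix.mulVec_mulVec, ← Matrix.mulVec_mulVec, hg'w, h.refl_self_apply u hu,
          r2r_refl_swap h u w hQw huw hu]
    have hinv2 : ∀ x, (∀ i, Matrix.toBilin' G (v2 i) x = 0) →
        toMat Q g'' *ᵥ x = toMat Q g *ᵥ x := by
      intro x hx
      obtain ⟨hx1, hxw⟩ := (r2r_forall_snoc v1 w (fun y => Matrix.toBilin' G y x = 0)).mp hx
      obtain ⟨hxv, hxu⟩ := (r2r_forall_snoc v u (fun y => Matrix.toBilin' G y x = 0)).mp hx1
      have e1 : Matrix.toBilin' G u (toMat Q g *ᵥ x) = 0 := by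
        have := h.isometry_bilin (toMat Q g) hMiso w x
        rw [hw, r2r_MM hgg, ← hw, hxw] at this
        simpa using this
      have e2 : Matrix.toBilin' G w (toMat Q g *ᵥ x) = 0 := by
        have := h.isometry_bilin (toMat Q g) hMiso u x
        rw [← hw, hxu] at this
        exact this
      rw [hg'', ← Matrix.mulVec_mulVec, ← Matrix.mulVec_mulVec, hinv x hxv,
        h.refl_fixes u _ e1,
        h.refl_fixes (w - u) _ (by rw [map_sub, LinearMap.sub_apply, e1, e2, sub_zero])]
    have hsq2 : ∃ s : F, ∏ i, Matrix.toBilin' G (v2 i) (v2 i) = s ^ 2 := by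
      obtain ⟨s, hs⟩ := hsq
      refine ⟨s * (2 * Q u), ?_⟩
      rw [Fin.prod_univ_castSucc, Fin.prod_univ_castSucc]
      simp only [v2, v1, Fin.snoc_castSucc, Fin.snoc_last]
      rw [hs, h.self u, h.self w, hQw]
      ring
    obtain ⟨hdetsq, n', vs', t', hd', hvs', hprod', hlen', ht', hQprod'⟩ :=
      ih (d - 2) (by omega) (k + 1 + 1) (by omega) v2 horth2 hns2 g'' hfix2 hinv2 hsq2
    refine ⟨hdetsq, n' + 1, u :: (w - u) :: vs', t' * Q u, by omega, ?_, ?_, ?_,
      mul_ne_zero ht' hu, ?_⟩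
    · intro x hx
      rcases List.mem_cons.mp hx with rfl | hx
      · exact hu
      · rcases List.mem_cons.mp hx with rfl | hx
        · exact hne
        · exact hvs' x hx
    · rw [List.map_cons, List.prod_cons, List.map_cons, List.prod_cons, ← hprod', hg'',
        ← mul_assoc (Cfsg.reflectionMatrix Q (w - u)), h.refl_refl _ hne, one_mul, ← mul_assoc,
        h.refl_refl _ hu, one_mul]
    · simp only [List.length_cons]
      omega
    · rw [List.map_cons, List.prod_cons, List.map_cons, List.prod_cons, hQprod', hQsub]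
      ring

end r2r

section r2rmain

variable {F : Type*} [Field F]

/-- ON-R2R -/
theorem refl_of_sq_neg_one {κ : Type} [Fintype κ] [DecidableEq κ] {Q : (κ → F) → F}
    {G : Matrix κ κ F} (h : Cfsg.Agent.Lib.Helper37.IsGram Q G) (hdet : G.det ≠ 0)
    (g : ↥(Cfsg.isometryGroup F Q))
    (hgg : Cfsg.Agent.Lib.Helper37.toMat Q g * Cfsg.Agent.Lib.Helper37.toMat Q g = -1) :
    IsSquare G.det ∧
    ∃ (n : ℕ) (vs : List (κ → F)) (t : F), Fintype.card κ = 2 * n ∧ (∀ v ∈ vs, Q v ≠ 0) ∧
      Cfsg.Agent.Lib.Helper37.toMat Q g = (vs.map (fun v => Cfsg.reflectionMatrix Q v)).prod ∧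
      vs.length = 2 * n ∧ t ≠ 0 ∧ (vs.map (fun v => Q v)).prod = 2 ^ n * t ^ 2 := by
  exact r2r_aux h hdet g hgg (Fintype.card κ) 0 (by simp) (fun i => i.elim0) (fun i => i.elim0)
    (fun i => i.elim0) g (fun i => i.elim0) (fun _ _ => rfl) ⟨1, by simp⟩

end r2rmain

end Cfsg.Agent.Lib.Helper81.On
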