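import Mathlib
import Cfsg.Prelude.Def_ClassicalGeometry
import Cfsg.Prelude.Def_GeometricClasses
import Cfsg.Prelude.Def_Classical
import Cfsg.Agent.Lib.Helper14.QmDefs
import Cfsg.Agent.Lib.Helper37.MinusAut
import Cfsg.Agent.Lib.Helper69.OnR2R

/-! # QM-R2B (helper14's S5990 hive "Qm"; shared with helper46's Om hive): an element of `Ω⁻` with
`x² = -1` exists only if `2` is a square (`d` odd).  Also the minus twin `r2b_mem_iff` of helper81's
`r2_mem_iff`. -/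

set_option autoImplicit false

namespace Cfsg.Agent.Lib.Helper14.Qm

open Module
open Cfsg.Agent.Lib.Helper37

section oddq_concrete

variable {F : Type*} [Field F] [Fintype F]

/-- the spinor-norm criterion for an isometry of `quadFormMinus k` squaring to `-1` -/
theorem r2b_mem_iff (h2 : (2 : F) ≠ 0) (k : ℕ) (a b : F)
    (hab : ∀ x y : F, x ^ 2 + a * x * y + b * y ^ 2 = 0 → x = 0 ∧ y = 0)
    (g : ↥(Cfsg.isometryGroup F (Cfsg.quadFormMinus k F a b)))
    (hgg : toMat (Cfsg.quadFormMinus k F a b) g * toMat (Cfsg.quadFormMinus k F a b) g = -1) :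
    IsSquare ((gramM k F a b).det) ∧
      (g ∈ Cfsg.Omega F (Cfsg.quadFormMinus k F a b) ↔ IsSquare ((2 : F) ^ (k + 1))) := by
  have hG := minus_isGram h2 k a b
  obtain ⟨hdet, n, vs, t, hcard, hvs, hprod, hlen, ht, hQ⟩ :=
    Cfsg.Agent.Lib.Helper81.On.refl_of_sq_neg_one hG (gramM_det_ne_zero h2 k a b hab) g hgg
  refine ⟨hdet, ?_⟩
  have hn : n = k + 1 := by
    rw [minus_card_two_mul] at hcard
    omega
  subst hn
  rw [mem_omega_iff hG g vs hvs (by rw [← toMat_apply]; exact hprod), hlen, hQ]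
  constructor
  · rintro ⟨-, s, hs⟩
    refine ⟨s / t, ?_⟩
    field_simp
    rw [hs]
    ring
  · rintro ⟨s, hs⟩
    refine ⟨even_two_mul (k + 1), s * t, ?_⟩
    rw [hs]
    ring

/-- QM-R2B -/
theorem isSquare_two_of_sq_neg_one_mem_minus (h2 : (2 : F) ≠ 0) (d : ℕ) (hd : 1 ≤ d)
    (hdo : Odd d) (a b : F)
    (hab : ∀ x y : F, x ^ 2 + a * x * y + b * y ^ 2 = 0 → x = 0 ∧ y = 0) (x : GL (IM d) F)
    (hx : x ∈ Cfsg.Geo.omegaGL (Cfsg.quadFormMinus (d - 1) F a b))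
    (hxx : (x : MM d F) * (x : MM d F) = -1) : IsSquare (2 : F) := by
  obtain ⟨g, hgΩ, rfl⟩ := hx
  have hgg : toMat (Cfsg.quadFormMinus (d - 1) F a b) g *
      toMat (Cfsg.quadFormMinus (d - 1) F a b) g = -1 := hxx
  obtain ⟨-, h3⟩ := r2b_mem_iff h2 (d - 1) a b hab g hgg
  have h4 := h3.1 hgΩ
  have hd1 : d - 1 + 1 = d := by omega
  rw [hd1] at h4
  obtain ⟨j, rfl⟩ := hdo
  obtain ⟨s, hs⟩ := h4
  refine ⟨s / 2 ^ j, ?_⟩
  have h2j : (2 : F) ^ j ≠ 0 := pow_ne_zero _ h2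
  field_simp
  linear_combination hs

end oddq_concrete

end Cfsg.Agent.Lib.Helper14.Qm
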