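import Mathlib
import Cfsg.Agent.Lib.Helper14.TuDefs

/-!
# Tu hive (S5953, owner helper14): leaf TU-FIX (`nondeg_eigen`)
-/

set_option autoImplicit false

namespace Cfsg.Agent.Lib.Helper14.Tu

open Cfsg.Agent.Lib.Helper40.Herm Cfsg.Agent.Lib.Helper2.BG Polynomial Module

section abs
variable {F : Type*} [Field F] [Fintype F] {q : ℕ} {hF : Fintype.card F = q ^ 2}
  {V : Type*} [AddCommGroup V] [Module F V] [FiniteDimensional F V]
  {H : V →ₗ[F] V →ₛₗ[tauHom hF] F} {g : Module.End F V} {N : ℕ}

/-- powers of `g` act on an eigenvector by powers of the eigenvalue -/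
theorem fix_pow_eigen (a : F) (x : V) (hx : g x = a • x) (k : ℕ) : (g ^ k) x = a ^ k • x := by
  induction k with
  | zero => simp
  | succ k ih =>
    rw [pow_succ', Module.End.mul_apply, ih, map_smul, hx, smul_smul, pow_succ]

/-- `H x ((g^k) z)` for an eigenvector `x` -/
theorem fix_form_pow (hc : Ctx hF H g N) (a : F) (x z : V) (hx : g x = a • x) (k : ℕ) :
    a ^ k * H x ((g ^ k) z) = H x z := by
  have hinvk : ∀ k : ℕ, ∀ u v : V, H ((g ^ k) u) ((g ^ k) v) = H u v := by
    intro k
    induction k with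
    | zero => intro u v; simp
    | succ k ih =>
      intro u v
      rw [pow_succ', Module.End.mul_apply, Module.End.mul_apply, hc.inv, ih]
  rw [← hinvk k x z, fix_pow_eigen a x hx k, map_smul, LinearMap.smul_apply, smul_eq_mul]

/-- the averaged vector `∑_{k<N} b^k g^k z` is an `a`-eigenvector when `a b = 1`, `b ^ N = 1` -/
theorem fix_avg_eigen (hN : g ^ N = 1) (hN0 : 0 < N) (a b : F) (hab : a * b = 1) (hbN : b ^ N = 1)
    (z : V) :
    g (∑ k ∈ Finset.range N, b ^ k • (g ^ k) z) = a • ∑ k ∈ Finset.range N, b ^ k • (g ^ k) z := by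
  obtain ⟨M, rfl⟩ : ∃ M, N = M + 1 := ⟨N - 1, by omega⟩
  have hbM : b ^ M = a := by
    calc b ^ M = b ^ M * (a * b) := by rw [hab, mul_one]
      _ = a * b ^ (M + 1) := by ring
      _ = a := by rw [hbN, mul_one]
  rw [map_sum, Finset.smul_sum]
  have h1 : ∀ k, g (b ^ k • (g ^ k) z) = b ^ k • (g ^ (k + 1)) z := by
    intro k
    rw [map_smul, pow_succ', Module.End.mul_apply]
  simp only [h1]
  rw [Finset.sum_range_succ, Finset.sum_range_succ' (fun k => a • b ^ k • (g ^ k) z)]
  have h2 : ∀ k, a • b ^ (k + 1) • (g ^ (k + 1)) z = b ^ k • (g ^ (k + 1)) z := by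
    intro k
    rw [smul_smul]
    congr 1
    calc a * b ^ (k + 1) = (a * b) * b ^ k := by ring
      _ = b ^ k := by rw [hab, one_mul]
  simp only [h2]
  congr 1
  rw [hN, hbM]
  simp

/-- TU-FIX.  The `a`-eigenspace of `g` in a nondegenerate invariant `Z` is nondegenerate when
`a * τ a = 1`. -/
theorem nondeg_eigen (hc : Ctx hF H g N) {Z : Submodule F V} (hZi : Inv g Z) (hZ : HNondegOn H Z)
    (a : F) (ha : a * tauHom hF a = 1) :
    HNondegOn H (Z ⊓ LinearMap.ker (g - a • (1 : Module.End F V))) := by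
  intro x hx hxy
  obtain ⟨hxZ, hxk⟩ := Submodule.mem_inf.1 hx
  have hgx : g x = a • x := by
    have := LinearMap.mem_ker.1 hxk
    rw [LinearMap.sub_apply, LinearMap.smul_apply, Module.End.one_apply] at this
    exact sub_eq_zero.1 this
  by_contra hx0
  -- `a ^ N = 1`
  have haN : a ^ N = 1 := by
    have h1 := fix_pow_eigen a x hgx N
    rw [hc.pow, Module.End.one_apply] at h1
    by_contra hne
    have h2 : (a ^ N - 1) • x = 0 := by rw [sub_smul, one_smul, ← h1, sub_self]
    rcases smul_eq_zero.1 h2 with h | h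
    · exact hne (sub_eq_zero.1 h)
    · exact hx0 h
  set b : F := tauHom hF a with hb
  have hbN : b ^ N = 1 := by rw [hb, ← map_pow, haN, map_one]
  apply hx0
  apply hZ x hxZ
  intro z hz
  set y : V := ∑ k ∈ Finset.range N, b ^ k • (g ^ k) z with hy
  have hyZ : y ∈ Z := by
    apply Submodule.sum_mem
    intro k _
    exact Submodule.smul_mem _ _ (hZi.pow k z hz)
  have hyk : y ∈ LinearMap.ker (g - a • (1 : Module.End F V)) := by
    rw [LinearMap.mem_ker, LinearMap.sub_apply, LinearMap.smul_apply, Module.End.one_apply,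
      fix_avg_eigen hc.pow hc.pos a b ha hbN z, sub_self]
  have h0 : H x y = 0 := hxy y (Submodule.mem_inf.2 ⟨hyZ, hyk⟩)
  have h1 : H x y = (N : F) * H x z := by
    rw [hy, map_sum]
    have : ∀ k ∈ Finset.range N, H x (b ^ k • (g ^ k) z) = H x z := by
      intro k _
      rw [map_smulₛₗ, smul_eq_mul, map_pow, hb, tauHom_tauHom]
      exact fix_form_pow hc a x z hgx k
    rw [Finset.sum_congr rfl this, Finset.sum_const, Finset.card_range, nsmul_eq_mul]
  rw [h1] at h0
  rcases mul_eq_zero.1 h0 with h | h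
  · exact absurd h hc.ne
  · exact h

end abs

end Cfsg.Agent.Lib.Helper14.Tu
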