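import Mathlib
import Cfsg.Agent.Lib.Helper14.TuDefs

/-!
# Tu hive (S5953, owner helper14): leaf TU-ORTH (`eigen_orth`)
-/

set_option autoImplicit false

namespace Cfsg.Agent.Lib.Helper14.Tu

open Cfsg.Agent.Lib.Helper40.Herm Cfsg.Agent.Lib.Helper2.BG Polynomial Module

section abs
variable {F : Type*} [Field F] [Fintype F] {q : ℕ} {hF : Fintype.card F = q ^ 2}
  {V : Type*} [AddCommGroup V] [Module F V] [FiniteDimensional F V]
  {H : V →ₗ[F] V →ₛₗ[tauHom hF] F} {g : Module.End F V} {N : ℕ}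

/-- TU-ORTH.  Eigenspaces for eigenvalues `a`, `a'` with `a * τ a' ≠ 1` are orthogonal. -/
theorem eigen_orth (hc : Ctx hF H g N) (a a' : F) (haa : a * tauHom hF a' ≠ 1) (u v : V)
    (hu : g u = a • u) (hv : g v = a' • v) : H u v = 0 := by
  have h1 : H u v = (a * tauHom hF a') * H u v := by
    conv_lhs => rw [← hc.inv u v, hu, hv]
    rw [map_smulₛₗ, map_smul, LinearMap.smul_apply, smul_eq_mul, smul_eq_mul]
    ring
  have h2 : (a * tauHom hF a' - 1) * H u v = 0 := by
    rw [sub_mul, one_mul, ← h1, sub_self]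
  rcases mul_eq_zero.1 h2 with h | h
  · exact absurd (sub_eq_zero.1 h) haa
  · exact h

end abs

end Cfsg.Agent.Lib.Helper14.Tu
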