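import Mathlib
import Cfsg.Agent.Lib.Helper14.TuDefs
import Cfsg.Agent.Lib.Helper69.TuHALF

/-!
# Tu hive (S5953, owner helper14): leaf TU-TI (`exists_isotropic`)
-/

set_option autoImplicit false

namespace Cfsg.Agent.Lib.Helper14.Tu

open Cfsg.Agent.Lib.Helper40.Herm Cfsg.Agent.Lib.Helper2.BG Polynomial Module

section abs
variable {F : Type*} [Field F] [Fintype F] {q : ℕ} {hF : Fintype.card F = q ^ 2}
  {V : Type*} [AddCommGroup V] [Module F V] [FiniteDimensional F V]
  {H : V →ₗ[F] V →ₛₗ[tauHom hF] F} {g : Module.End F V} {N : ℕ}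

/-- a nondegenerate hermitian space of dimension at least two over a finite field has a nonzero
isotropic vector -/
theorem ti_exists_isotropic_vec (hH : IsHermitian H) {Z : Submodule F V} (hZ : HNondegOn H Z)
    (h2 : 2 ≤ finrank F ↥Z) : ∃ v ∈ Z, v ≠ 0 ∧ H v v = 0 := by
  have hZ0 : Z ≠ ⊥ := by
    intro h
    rw [h, finrank_bot] at h2
    omega
  obtain ⟨v, hvZ, hv0⟩ := Submodule.exists_mem_ne_zero_of_ne_bot hZ0
  by_cases hvv : H v v = 0
  · exact ⟨v, hvZ, hv0, hvv⟩
  -- a vector of `Z` outside the line of `v`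
  have hex : ∃ z ∈ Z, z ∉ Submodule.span F {v} := by
    by_contra hcon
    push Not at hcon
    have hle : Z ≤ Submodule.span F {v} := fun z hz => hcon z hz
    have h3 := Submodule.finrank_mono hle
    rw [finrank_span_singleton hv0] at h3
    omega
  obtain ⟨z, hzZ, hzv⟩ := hex
  set w : V := z - (H z v / H v v) • v with hw
  have hwZ : w ∈ Z := Submodule.sub_mem _ hzZ (Submodule.smul_mem _ _ hvZ)
  have hwv : H w v = 0 := by
    rw [hw, map_sub, LinearMap.sub_apply, map_smul, LinearMap.smul_apply, smul_eq_mul,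
      div_mul_cancel₀ _ hvv, sub_self]
  have hvw : H v w = 0 := herm_swap hH hwv
  have hw0 : w ≠ 0 := by
    intro h
    apply hzv
    have : z = (H z v / H v v) • v := sub_eq_zero.1 (hw ▸ h)
    rw [this]
    exact Submodule.smul_mem _ _ (Submodule.mem_span_singleton_self v)
  by_cases hww : H w w = 0
  · exact ⟨w, hwZ, hw0, hww⟩
  set a : F := H v v with ha
  set b : F := H w w with hb
  have hta : tauHom hF a = a := hH v v
  have htb : tauHom hF b = b := hH w w
  set c : F := -a / b with hc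
  have hc0 : c ≠ 0 := div_ne_zero (neg_ne_zero.2 hvv) hww
  have htc : c ^ q = c := by
    rw [← tauHom_apply hF, hc, map_div₀, map_neg, hta, htb]
  obtain ⟨ε, hε⟩ := Cfsg.Agent.Lib.Helper44.exists_norm_eq hF c hc0 htc
  refine ⟨v + ε • w, Submodule.add_mem _ hvZ (Submodule.smul_mem _ _ hwZ), ?_, ?_⟩
  · intro h
    have h1 : H (v + ε • w) v = 0 := by rw [h]; simp
    rw [map_add, LinearMap.add_apply, map_smul, LinearMap.smul_apply, hwv, smul_zero,
      add_zero] at h1
    exact hvv h1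
  · have e2 : H v (ε • w) = 0 := by rw [map_smulₛₗ, hvw, smul_zero]
    have e3 : H (ε • w) v = 0 := by rw [LinearMap.map_smul₂, hwv, smul_zero]
    have e4 : H (ε • w) (ε • w) = ε ^ (q + 1) * b := by
      rw [LinearMap.map_smul₂, map_smulₛₗ, smul_eq_mul, smul_eq_mul, tauHom_apply]
      ring
    rw [LinearMap.map_add₂, map_add, map_add, e2, e3, e4, hε, hc, div_mul_cancel₀ _ hww]
    ring

/-- peeling a totally isotropic `Y` off a nondegenerate `Z` (the case `g = 1` of TU-PEEL) -/
theorem ti_peel (hH : IsHermitian H) {Z Y : Submodule F V} (hZ : HNondegOn H Z) (hYZ : Y ≤ Z)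
    (hY : HIsotropic H Y) :
    ∃ Z' : Submodule F V, Z' ≤ Z ∧ HNondegOn H Z' ∧ (∀ y ∈ Y, ∀ z ∈ Z', H y z = 0) ∧
      Disjoint Y Z' ∧ finrank F ↥Z' + 2 * finrank F ↥Y = finrank F ↥Z := by
  set U : Submodule F V := Z ⊓ hperp H Y with hU
  have hYU : Y ≤ U := fun y hy =>
    Submodule.mem_inf.2 ⟨hYZ hy, fun y' hy' => hY y hy y' hy'⟩
  have hUZ : U ≤ Z := inf_le_left
  obtain ⟨Z', hZ'U, hdisj, hsup, hfin⟩ := half_exists_compl_in hYU
  have hdimU : finrank F ↥U + finrank F ↥Y = finrank F ↥Z := half_finrank_perp hH hZ hYZ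
  have hdimR : finrank F ↥(Z ⊓ hperp H U) + finrank F ↥U = finrank F ↥Z :=
    half_finrank_perp hH hZ hUZ
  -- the radical of `U` is `Y`
  have hYR : Y ≤ Z ⊓ hperp H U := by
    intro y hy
    refine Submodule.mem_inf.2 ⟨hYZ hy, ?_⟩
    intro u hu
    exact herm_swap hH ((Submodule.mem_inf.1 hu).2 y hy)
  have hRY : Z ⊓ hperp H U = Y := by
    symm
    apply Submodule.eq_of_le_of_finrank_eq hYR
    omega
  refine ⟨Z', hZ'U.trans hUZ, ?_, ?_, hdisj, by omega⟩
  · intro x hx hxy
    have hxU : x ∈ U := hZ'U hx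
    have hxR : x ∈ Z ⊓ hperp H U := by
      refine Submodule.mem_inf.2 ⟨hUZ hxU, ?_⟩
      intro u hu
      rw [← hsup] at hu
      obtain ⟨y, hy, z, hz, rfl⟩ := Submodule.mem_sup.1 hu
      rw [map_add, hxy z hz, add_zero]
      exact (Submodule.mem_inf.1 hxU).2 y hy
    rw [hRY] at hxR
    exact (Submodule.disjoint_def.1 hdisj) x hxR hx
  · intro y hy z hz
    exact herm_swap hH ((Submodule.mem_inf.1 (hZ'U hz)).2 y hy)

/-- TU-TI.  A nondegenerate hermitian space over a finite field has totally isotropic subspaces of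
every dimension up to half. -/
theorem exists_isotropic (hH : IsHermitian H) {Z : Submodule F V} (hZ : HNondegOn H Z) (d : ℕ)
    (hd : 2 * d ≤ finrank F ↥Z) :
    ∃ W : Submodule F V, W ≤ Z ∧ HIsotropic H W ∧ finrank F ↥W = d := by
  induction d generalizing Z with
  | zero =>
    refine ⟨⊥, bot_le, ?_, finrank_bot F V⟩
    intro x hx y _
    rw [(Submodule.mem_bot F).1 hx]
    simp
  | succ d ih =>
    obtain ⟨v, hvZ, hv0, hvv⟩ := ti_exists_isotropic_vec hH hZ (by omega)
    set Y : Submodule F V := Submodule.span F {v} with hYdef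
    have hYZ : Y ≤ Z := by
      rw [hYdef, Submodule.span_singleton_le_iff_mem]
      exact hvZ
    have hY : HIsotropic H Y := by
      intro x hx y hy
      obtain ⟨a, rfl⟩ := Submodule.mem_span_singleton.1 hx
      obtain ⟨b, rfl⟩ := Submodule.mem_span_singleton.1 hy
      rw [map_smulₛₗ, map_smul, LinearMap.smul_apply, hvv, smul_zero, smul_zero]
    have hY1 : finrank F ↥Y = 1 := finrank_span_singleton hv0
    obtain ⟨Z', hZ'Z, hZ'nd, horth, hdisj, hfin⟩ := ti_peel hH hZ hYZ hY
    obtain ⟨W', hW'Z', hW', hW'd⟩ := ih hZ'nd (by omega)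
    refine ⟨Y ⊔ W', sup_le hYZ (hW'Z'.trans hZ'Z), ?_, ?_⟩
    · intro x hx x' hx'
      obtain ⟨y, hy, w, hw, rfl⟩ := Submodule.mem_sup.1 hx
      obtain ⟨y', hy', w', hw', rfl⟩ := Submodule.mem_sup.1 hx'
      rw [map_add, map_add, LinearMap.add_apply, LinearMap.add_apply, hY y hy y' hy',
        horth y hy w' (hW'Z' hw'), herm_swap hH (horth y' hy' w (hW'Z' hw)), hW' w hw w' hw']
      simp
    · have h1 := Submodule.finrank_sup_add_finrank_inf_eq Y W'
      have h2 : Y ⊓ W' = ⊥ := by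
        rw [← disjoint_iff]
        exact hdisj.mono_right hW'Z'
      rw [h2, finrank_bot, add_zero, hY1, hW'd] at h1
      omega

end abs

end Cfsg.Agent.Lib.Helper14.Tu
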