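import Mathlib

/-! # We hive (S2347, helper14): leaf WE-COMMP `commute_parity` (helper69) -/

set_option autoImplicit false

namespace Cfsg.Agent.Lib.Helper14.We

section Abstract

variable {W : Type*} [AddCommGroup W] [Module ℂ W] [FiniteDimensional ℂ W]

/-- WE-COMMP (Mathlib only). The intertwiner commutes with the parity operator. -/
theorem commute_parity {V : Type*} (R : V → Module.End ℂ W)
    (hschur : ∀ S : Module.End ℂ W, (∀ v, S * R v = R v * S) → ∃ c : ℂ, S = c • (1 : Module.End ℂ W))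
    (P : Module.End ℂ W) (hP2 : P * P = 1) (htr : LinearMap.trace ℂ W P ≠ 0)
    (σ : V → V) (hPR : ∀ v, P * R v = R (σ v) * P)
    (γ : V → V) (hγ : Function.Surjective γ) (hσγ : ∀ v, σ (γ v) = γ (σ v))
    (T : W ≃ₗ[ℂ] W) (hT : ∀ v, T.toLinearMap * R v = R (γ v) * T.toLinearMap) :
    T.toLinearMap * P = P * T.toLinearMap := by
  obtain ⟨t, ht⟩ : ∃ t : Module.End ℂ W, t = T.toLinearMap := ⟨_, rfl⟩
  obtain ⟨ti, hti⟩ : ∃ ti : Module.End ℂ W, ti = T.symm.toLinearMap := ⟨_, rfl⟩
  have h1 : t * ti = 1 := by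
    ext x; simp [ht, hti]
  have h2 : ti * t = 1 := by
    ext x; simp [ht, hti]
  rw [← ht]
  have hT2 : ∀ v, t * R v = R (γ v) * t := by
    intro v; rw [ht]; exact hT v
  have hT' : ∀ v, ti * R (γ v) = R v * ti := by
    intro v
    calc ti * R (γ v) = ti * (R (γ v) * t) * ti := by rw [mul_assoc, mul_assoc, h1, mul_one]
      _ = ti * (t * R v) * ti := by rw [hT2]
      _ = R v * ti := by rw [← mul_assoc, h2, one_mul]
  have hPR' : ∀ w, P * R (σ w) = R w * P := by
    intro w
    calc P * R (σ w) = P * (R (σ w) * P) * P := by rw [mul_assoc, mul_assoc, hP2, mul_one]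
      _ = P * (P * R w) * P := by rw [hPR]
      _ = R w * P := by rw [← mul_assoc, hP2, one_mul]
  obtain ⟨P', hP'⟩ : ∃ P' : Module.End ℂ W, P' = t * P * ti := ⟨_, rfl⟩
  have hP'R : ∀ w, P' * R w = R (σ w) * P' := by
    intro w
    obtain ⟨v, rfl⟩ := hγ w
    calc P' * R (γ v) = t * P * (ti * R (γ v)) := by rw [hP', mul_assoc]
      _ = t * P * (R v * ti) := by rw [hT']
      _ = t * (P * R v) * ti := by simp only [mul_assoc]
      _ = t * (R (σ v) * P) * ti := by rw [hPR]
      _ = (t * R (σ v)) * P * ti := by simp only [mul_assoc]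
      _ = (R (γ (σ v)) * t) * P * ti := by rw [hT2]
      _ = R (σ (γ v)) * P' := by rw [hσγ, hP']; simp only [mul_assoc]
  obtain ⟨c, hc⟩ := hschur (P * P') (by
    intro w
    calc P * P' * R w = P * (P' * R w) := by rw [mul_assoc]
      _ = P * (R (σ w) * P') := by rw [hP'R]
      _ = (P * R (σ w)) * P' := by rw [mul_assoc]
      _ = R w * P * P' := by rw [hPR']
      _ = R w * (P * P') := by rw [mul_assoc])
  have hP'c : P' = c • P := by
    calc P' = P * (P * P') := by rw [← mul_assoc, hP2, one_mul]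
      _ = c • P := by rw [hc]; simp
  have htrP' : LinearMap.trace ℂ W P' = LinearMap.trace ℂ W P := by
    rw [hP', LinearMap.trace_mul_comm, ← mul_assoc, h2, one_mul]
  have hc1 : c = 1 := by
    have h := htrP'
    rw [hP'c, map_smul, smul_eq_mul] at h
    exact mul_right_cancel₀ htr (h.trans (one_mul _).symm)
  calc t * P = t * P * (ti * t) := by rw [h2, mul_one]
    _ = P' * t := by rw [hP']; simp only [mul_assoc]
    _ = P * t := by rw [hP'c, hc1, one_smul]

end Abstract

end Cfsg.Agent.Lib.Helper14.We
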