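import Cfsg.Agent.Lib.Helper69.Stn_HXXcore
import Cfsg.Agent.Lib.Helper95.Stn_WALL

/-! # Stn hive (S2401, helper41): leaf STN-H-XX `hh_conj_xx` (helper69) -/

set_option autoImplicit false

namespace Cfsg.Agent.Lib.Helper41.Stn

open Matrix

variable {K : Type*} [Field K] {n : ℕ}

/-- STN-H-XX -/
theorem hh_conj_xx (hn : 3 ≤ n) {i j : Fin n} (hij : i ≠ j) {t : K} (ht : t ≠ 0) {k l : Fin n}
    (hkl : k ≠ l) (u : K) :
    hh i j t * xx k l u * (hh i j t)⁻¹ = xx k l (dd i j t k / dd i j t l * u) :=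
  hxx_core hij (fun {_} ht {_ _} hkl u => ww_conj_xx hn hij ht hkl u) ht hkl u

end Cfsg.Agent.Lib.Helper41.Stn
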