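import Mathlib
import Cfsg.Agent.Lib.Helper21.S11Defs

/-! # S11 mini-hive (S3911, owner helper21): leaf S11-INJ (helper69)

If `q ∤ |M|` and the image of `X` in `G ⧸ M` is commutative, then the `q`-subgroups of `X` are commutative:
a commutator of two elements of `Q` lies in `Q ⊓ M`, so its order is a power of `q` dividing `|M|`. -/

set_option autoImplicit false

namespace Cfsg.Agent.Lib.Helper21.S11

variable {G : Type*} [Group G] [Finite G]

/-- S11-INJ -/
theorem comm_of_not_dvd (M : Subgroup G) [M.Normal] (X : Subgroup G)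
    (hAb : IsMulCommutative ↥(X.map (QuotientGroup.mk' M))) (q : ℕ) [Fact q.Prime]
    (hq : ¬ q ∣ Nat.card ↥M) (Q : Subgroup G) (hQX : Q ≤ X) (hQ : IsPGroup q ↥Q) :
    ∀ a ∈ Q, ∀ b ∈ Q, a * b = b * a := by
  intro a ha b hb
  have hqp : q.Prime := Fact.out
  -- the commutator lies in `Q` and in `M`
  have hcQ : a * b * a⁻¹ * b⁻¹ ∈ Q := Q.mul_mem (Q.mul_mem (Q.mul_mem ha hb) (Q.inv_mem ha)) (Q.inv_mem hb)
  have hma : QuotientGroup.mk' M a ∈ X.map (QuotientGroup.mk' M) := Subgroup.mem_map_of_mem _ (hQX ha)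
  have hmb : QuotientGroup.mk' M b ∈ X.map (QuotientGroup.mk' M) := Subgroup.mem_map_of_mem _ (hQX hb)
  have hcomm : QuotientGroup.mk' M a * QuotientGroup.mk' M b = QuotientGroup.mk' M b * QuotientGroup.mk' M a := by
    have := hAb.is_comm.comm (⟨_, hma⟩ : ↥(X.map (QuotientGroup.mk' M))) ⟨_, hmb⟩
    exact congrArg Subtype.val this
  have hcM : a * b * a⁻¹ * b⁻¹ ∈ M := by
    rw [← QuotientGroup.ker_mk' M, MonoidHom.mem_ker, map_mul, map_mul, map_mul, map_inv, map_inv, hcomm]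
    group
  -- its order is a power of `q` and divides `|M|`
  obtain ⟨k, hk⟩ := hQ ⟨_, hcQ⟩
  have h1 : (a * b * a⁻¹ * b⁻¹) ^ (q ^ k) = 1 := by
    have := congrArg Subtype.val hk
    simpa only [SubmonoidClass.coe_pow, OneMemClass.coe_one] using this
  have h2 : (a * b * a⁻¹ * b⁻¹) ^ (Nat.card ↥M) = 1 := by
    have h0 : (⟨_, hcM⟩ : ↥M) ^ (Nat.card ↥M) = 1 := pow_card_eq_one'
    have := congrArg Subtype.val h0
    simpa only [SubmonoidClass.coe_pow, OneMemClass.coe_one] using this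
  have hcop : Nat.Coprime (q ^ k) (Nat.card ↥M) :=
    Nat.Coprime.pow_left k ((Nat.Prime.coprime_iff_not_dvd hqp).mpr hq)
  have h3 : (a * b * a⁻¹ * b⁻¹) ^ (Nat.gcd (q ^ k) (Nat.card ↥M)) = 1 := pow_gcd_eq_one.mpr ⟨h1, h2⟩
  rw [hcop, pow_one] at h3
  -- conclude
  have : a * b = (a * b * a⁻¹ * b⁻¹) * (b * a) := by group
  rw [this, h3, one_mul]

end Cfsg.Agent.Lib.Helper21.S11
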