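import Mathlib
import Cfsg.Agent.Lib.Helper22.LBalS

/-!
# Lb hive (S1301, owner helper22): leaf LB-FQ, core

Pass to `X = N_G(L) / C_G(L)` and apply the assembly `eq_bot_of_centralizes_sylow` of the skeleton
(taken here as the hypothesis `hF`).
-/

set_option autoImplicit false

namespace Cfsg.Agent.Lib.Helper22.Lb

open Subgroup Cfsg
open scoped commutatorElement
open Cfsg.Agent.Lib.Helper23 (pUp pUp_le mem_pUp_of_pow coreIn coreIn_le)
open Cfsg.Agent.Lib.Helper22.LBal

universe u

/-- a perfect finite group with a central Sylow `2`-subgroup has odd order -/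
theorem lbfq_odd_of_central_sylow {A : Type*} [Group A] [Finite A] (hperf : Group.IsPerfect A)
    (S : Sylow 2 A) (hS : (S : Subgroup A) ≤ center A) : ¬ 2 ∣ Nat.card A := by
  haveI : Fact (Nat.Prime 2) := ⟨Nat.prime_two⟩
  intro h2
  have hcent : centralizer ((S : Subgroup A) : Set A) = ⊤ := by
    rw [eq_top_iff]
    intro g _
    rw [Subgroup.mem_centralizer_iff]
    intro s hs
    exact (Subgroup.mem_center_iff.mp (hS hs) g).symm
  have hP : normalizer ((S : Subgroup A) : Set A) ≤ centralizer ((S : Subgroup A) : Set A) := by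
    rw [hcent]; exact le_top
  have hcomp := MonoidHom.ker_transferSylow_isComplement' S hP
  have hker : (MonoidHom.transferSylow S hP).ker = ⊤ := by
    rw [eq_top_iff, ← hperf.commutator_eq_top, commutator_def, Subgroup.commutator_le]
    intro a _ b _
    rw [MonoidHom.mem_ker, map_commutatorElement, commutatorElement_eq_one_iff_commute]
    have hb := (MonoidHom.transferSylow S hP b).2
    have hb' := Subgroup.mem_center_iff.mp (hS hb)
    show MonoidHom.transferSylow S hP a * MonoidHom.transferSylow S hP b =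
      MonoidHom.transferSylow S hP b * MonoidHom.transferSylow S hP a
    apply Subtype.ext
    exact hb' _
  rw [hker, Subgroup.isComplement'_top_left] at hcomp
  exact S.ne_bot_of_dvd_card h2 hcomp

/-- LB-FQ, core: the skeleton assembly `eq_bot_of_centralizes_sylow` enters as the hypothesis `hF`. -/
theorem lbfq_core {G : Type u} [Group G] [Finite G]
    (hF : ∀ (X : Type u) [Group X] [Finite X] (K : Subgroup X) [K.Normal],
      centralizer (K : Set X) = ⊥ →
      (∀ N : Subgroup X, N ≤ K → K ≤ normalizer (N : Set X) → Odd (Nat.card N) → N = ⊥) →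
      ∀ (R : Subgroup X), R ≤ K → (∃ S : Sylow 2 ↥K, (S : Subgroup ↥K).map K.subtype = R) →
      ∀ (I : Subgroup X), I ≤ centralizer (R : Set X) → ⁅I, I⁆ = I → pUp 2 I = I → I = ⊥)
    (hO : pPrimeCore 2 G = ⊥) {L : Subgroup G}
    (hL : IsComponent L) (R : Subgroup G) (hRL : R ≤ L)
    (hRsyl : ∃ S : Sylow 2 ↥L, (S : Subgroup ↥L).map L.subtype = R)
    (I : Subgroup G) (hIN : I ≤ normalizer (L : Set G)) (hIR : I ≤ centralizer (R : Set G))
    (hperf : ⁅I, I⁆ = I) (hgen : pUp 2 I = I) : I ≤ centralizer (L : Set G) := by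
  classical
  haveI : Fact (Nat.Prime 2) := ⟨Nat.prime_two⟩
  obtain ⟨hLsn, hLperf, hLsimple⟩ := hL
  have hLperf' : ⁅L, L⁆ = L := Subgroup.isPerfect_iff.mp hLperf
  obtain ⟨S, hSR⟩ := hRsyl
  have hLN : L ≤ normalizer (L : Set G) := le_normalizer
  -- the quotient
  let C : Subgroup ↥(normalizer (L : Set G)) :=
    (centralizer (L : Set G)).subgroupOf (normalizer (L : Set G))
  haveI hCn : C.Normal := by
    have : C = L.normalizerMonoidHom.ker := (Subgroup.normalizerMonoidHom_ker L).symm
    rw [this]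
    infer_instance
  let π : ↥(normalizer (L : Set G)) →* ↥(normalizer (L : Set G)) ⧸ C := QuotientGroup.mk' C
  have hπs : Function.Surjective π := QuotientGroup.mk'_surjective C
  have hπker : ∀ n : ↥(normalizer (L : Set G)), π n = 1 ↔ (n : G) ∈ centralizer (L : Set G) := by
    intro n
    show (QuotientGroup.mk n : ↥(normalizer (L : Set G)) ⧸ C) = 1 ↔ _
    rw [QuotientGroup.eq_one_iff]
    exact Subgroup.mem_subgroupOf
  let ι : ↥L →* ↥(normalizer (L : Set G)) := Subgroup.inclusion hLN
  let φ : ↥L →* ↥(normalizer (L : Set G)) ⧸ C := π.comp ι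
  have hφker : ∀ l : ↥L, φ l = 1 ↔ l ∈ center ↥L := by
    intro l
    show π (ι l) = 1 ↔ _
    rw [hπker, Subgroup.mem_centralizer_iff, Subgroup.mem_center_iff]
    constructor
    · intro h g
      apply Subtype.ext
      exact h g g.2
    · intro h g hg
      exact congrArg Subtype.val (h ⟨g, hg⟩)
  -- the image of `L`
  let K : Subgroup (↥(normalizer (L : Set G)) ⧸ C) := φ.range
  haveI hKn : K.Normal := by
    constructor
    rintro _ ⟨l, rfl⟩ y
    obtain ⟨n, rfl⟩ := hπs y
    have hmem : (n : G) * (l : G) * (n : G)⁻¹ ∈ L := (n.2 (l : G)).mp l.2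
    refine ⟨⟨(n : G) * (l : G) * (n : G)⁻¹, hmem⟩, ?_⟩
    show π (ι ⟨(n : G) * (l : G) * (n : G)⁻¹, hmem⟩) = π n * π (ι l) * (π n)⁻¹
    rw [← map_inv, ← map_mul, ← map_mul]
    congr 1
  -- (1) the action is faithful
  have hCK : centralizer (K : Set (↥(normalizer (L : Set G)) ⧸ C)) = ⊥ := by
    set B : Subgroup G :=
      ((centralizer (K : Set (↥(normalizer (L : Set G)) ⧸ C))).comap π).map
        (normalizer (L : Set G)).subtype with hB
    have h1 : ⁅B, L⁆ ≤ centralizer (L : Set G) := by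
      rw [Subgroup.commutator_le]
      rintro _ ⟨n, hn, rfl⟩ l hl
      have hn' : π n ∈ centralizer (K : Set (↥(normalizer (L : Set G)) ⧸ C)) := hn
      have hk : φ ⟨l, hl⟩ ∈ K := ⟨⟨l, hl⟩, rfl⟩
      have hcomm := Subgroup.mem_centralizer_iff.mp hn' _ hk
      have h2 : π (n * ι ⟨l, hl⟩ * n⁻¹ * (ι ⟨l, hl⟩)⁻¹) = 1 := by
        have hφl : π (ι ⟨l, hl⟩) = φ ⟨l, hl⟩ := rfl
        simp only [map_mul, map_inv]
        rw [hφl, ← hcomm]
        group
      have h3 := (hπker _).mp h2
      exact h3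
    have h2 : ⁅⁅B, L⁆, L⁆ = ⊥ := Subgroup.commutator_eq_bot_iff_le_centralizer.mpr h1
    have h3 := Cfsg.Agent.Lib.Helper21.commutator_eq_bot_of_perfect hLperf' h2
    have h4 : B ≤ centralizer (L : Set G) := Subgroup.commutator_eq_bot_iff_le_centralizer.mp h3
    rw [eq_bot_iff]
    intro x hx
    obtain ⟨n, rfl⟩ := hπs x
    rw [Subgroup.mem_bot, hπker]
    apply h4
    exact ⟨n, hx, rfl⟩
  -- (2) no normal subgroup of odd order in `K`
  have hOK : ∀ N' : Subgroup (↥(normalizer (L : Set G)) ⧸ C), N' ≤ K →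
      K ≤ normalizer (N' : Set (↥(normalizer (L : Set G)) ⧸ C)) → Odd (Nat.card N') → N' = ⊥ := by
    intro N' hN'K hKN' hodd
    let M : Subgroup ↥L := N'.comap φ
    haveI hMn : M.Normal := by
      constructor
      intro m hm l
      show φ (l * m * l⁻¹) ∈ N'
      rw [map_mul, map_mul, map_inv]
      have hl : φ l ∈ K := ⟨l, rfl⟩
      exact (Subgroup.mem_normalizer_iff.mp (hKN' hl) (φ m)).mp hm
    have hcM : center ↥L ≤ M := by
      intro z hz
      show φ z ∈ N'
      rw [(hφker z).mpr hz]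
      exact N'.one_mem
    have hN'eq : ∀ x ∈ N', ∃ m ∈ M, φ m = x := by
      intro x hx
      obtain ⟨l, rfl⟩ := hN'K hx
      exact ⟨l, hx, rfl⟩
    haveI := hLsimple
    have hmapn : (M.map (QuotientGroup.mk' (center ↥L))).Normal :=
      hMn.map _ (QuotientGroup.mk'_surjective _)
    rcases hmapn.eq_bot_or_eq_top with hb | ht
    · -- `M ≤ Z(L)`
      rw [eq_bot_iff]
      intro x hx
      obtain ⟨m, hm, rfl⟩ := hN'eq x hx
      have h1 : QuotientGroup.mk' (center ↥L) m ∈ M.map (QuotientGroup.mk' (center ↥L)) :=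
        Subgroup.mem_map_of_mem _ hm
      rw [hb, Subgroup.mem_bot] at h1
      have h2 : m ∈ center ↥L := (QuotientGroup.eq_one_iff m).mp h1
      rw [Subgroup.mem_bot]
      exact (hφker m).mpr h2
    · -- `M = L`: then `L / Z(L)` has odd order
      exfalso
      have hMtop : ∀ l : ↥L, l ∈ M := by
        intro l
        have h1 : QuotientGroup.mk' (center ↥L) l ∈ M.map (QuotientGroup.mk' (center ↥L)) := by
          rw [ht]; trivial
        obtain ⟨m, hm, hml⟩ := h1
        have h2 : m⁻¹ * l ∈ center ↥L := by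
          apply (QuotientGroup.eq_one_iff (m⁻¹ * l)).mp
          have : (QuotientGroup.mk' (center ↥L)) (m⁻¹ * l) = 1 := by
            rw [map_mul, map_inv, hml, inv_mul_cancel]
          exact this
        have h3 : m * (m⁻¹ * l) ∈ M := M.mul_mem hm (hcM h2)
        simpa using h3
      -- the Sylow 2-subgroup of `L` is central
      have hScent : (S : Subgroup ↥L) ≤ center ↥L := by
        intro s hs
        apply (hφker s).mp
        have hsN' : φ s ∈ N' := hMtop s
        -- order of `φ s` is a power of two and divides the odd number `|N'|`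
        obtain ⟨k, hk⟩ := (IsPGroup.iff_orderOf.mp S.2) ⟨s, hs⟩
        have hk' : orderOf s = 2 ^ k := by
          rw [← hk]; exact (Subgroup.orderOf_mk s hs).symm
        have h1 : orderOf (φ s) ∣ 2 ^ k := by
          rw [← hk']; exact orderOf_map_dvd φ s
        have h2 : orderOf (φ s) ∣ Nat.card N' := by
          have := orderOf_dvd_natCard (⟨φ s, hsN'⟩ : N')
          rwa [Subgroup.orderOf_mk] at this
        have h3 : orderOf (φ s) = 1 := by
          have hcop : Nat.Coprime (2 ^ k) (Nat.card N') :=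
            Nat.Coprime.pow_left k (Nat.coprime_two_left.mpr hodd)
          exact Nat.eq_one_of_dvd_coprimes hcop h1 h2
        exact orderOf_eq_one_iff.mp h3
      have hoddL : ¬ 2 ∣ Nat.card ↥L := lbfq_odd_of_central_sylow hLperf S hScent
      have hcop : (Nat.card ↥L).Coprime 2 :=
        (Nat.coprime_comm.mp ((Nat.Prime.coprime_iff_not_dvd Nat.prime_two).mpr hoddL))
      have hle := Cfsg.Agent.Lib.Helper23.subnormal_coprime_le_pPrimeCore 2 hLsn hcop
      rw [hO] at hle
      have hLbot : L = ⊥ := eq_bot_iff.mpr hle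
      have hsub : Subsingleton ↥L := by
        rw [hLbot]; infer_instance
      have hnt : Nontrivial (↥L ⧸ center ↥L) := IsSimpleGroup.toNontrivial
      obtain ⟨a, b, hab⟩ := hnt
      apply hab
      induction a using QuotientGroup.induction_on with
      | H x =>
        induction b using QuotientGroup.induction_on with
        | H y => rw [Subsingleton.elim x y]
  -- (3) the image of the Sylow 2-subgroup
  let S' : Sylow 2 ↥K := S.mapSurjective φ.rangeRestrict_surjective
  let R' : Subgroup (↥(normalizer (L : Set G)) ⧸ C) := (S' : Subgroup ↥K).map K.subtype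
  have hR'K : R' ≤ K := Subgroup.map_subtype_le _
  have hR'mem : ∀ x ∈ R', ∃ s : ↥L, (s : G) ∈ R ∧ φ s = x := by
    rintro _ ⟨y, hy, rfl⟩
    have hy' : y ∈ (S : Subgroup ↥L).map φ.rangeRestrict := hy
    obtain ⟨s, hs, rfl⟩ := hy'
    refine ⟨s, ?_, rfl⟩
    rw [← hSR]
    exact ⟨s, hs, rfl⟩
  -- (4) the image of `I`
  let I₀ : Subgroup ↥(normalizer (L : Set G)) := I.subgroupOf (normalizer (L : Set G))
  let I' : Subgroup (↥(normalizer (L : Set G)) ⧸ C) := I₀.map π
  have hI'R' : I' ≤ centralizer (R' : Set (↥(normalizer (L : Set G)) ⧸ C)) := by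
    rintro _ ⟨i, hi, rfl⟩
    rw [Subgroup.mem_centralizer_iff]
    intro x hx
    obtain ⟨s, hsR, rfl⟩ := hR'mem x hx
    have hiI : (i : G) ∈ I := Subgroup.mem_subgroupOf.mp hi
    have hcomm : (s : G) * (i : G) = (i : G) * (s : G) :=
      Subgroup.mem_centralizer_iff.mp (hIR hiI) _ hsR
    show π (ι s) * π i = π i * π (ι s)
    rw [← map_mul, ← map_mul]
    congr 1
    apply Subtype.ext
    exact hcomm
  have hI₀perf : ⁅I₀, I₀⁆ = I₀ := by
    apply Subgroup.map_injective (Subgroup.subtype_injective (normalizer (L : Set G)))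
    rw [Subgroup.map_commutator, Subgroup.subgroupOf_map_subtype, inf_eq_left.mpr hIN, hperf]
  have hI'perf : ⁅I', I'⁆ = I' := by
    rw [← Subgroup.map_commutator, hI₀perf]
  have hI₀gen : pUp 2 I₀ = I₀ := pUp_subgroupOf_eq hIN hgen
  have hI'gen : pUp 2 I' = I' := by
    apply le_antisymm (pUp_le 2 I')
    calc I' = (pUp 2 I₀).map π := by rw [hI₀gen]
      _ ≤ pUp 2 (I₀.map π) := pUp_map_le 2 π I₀
  have hI'bot : I' = ⊥ :=
    hF _ K hCK hOK R' hR'K ⟨S', rfl⟩ I' hI'R' hI'perf hI'gen
  intro i hi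
  have h1 : π ⟨i, hIN hi⟩ ∈ I' := ⟨⟨i, hIN hi⟩, Subgroup.mem_subgroupOf.mpr hi, rfl⟩
  rw [hI'bot, Subgroup.mem_bot, hπker] at h1
  exact h1

end Cfsg.Agent.Lib.Helper22.Lb
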