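import Mathlib
import Cfsg.Agent.S0190
import Cfsg.Agent.Lib.Helper3.CharOps
import Cfsg.Agent.Lib.Helper3.Induced
import Cfsg.Agent.Lib.Helper25.Ind
import Cfsg.Agent.Lib.Helper79.Basic
import Cfsg.Agent.Lib.Helper81.OneIrr
import Cfsg.Agent.Lib.Helper81.Irr

/-!
# Permutation characters with a commuting free abelian action

`G` acts transitively on `X`, a finite abelian group `A` acts on `X` commuting with `G`, freely at
`x0`.  If the stabilizer `H` of `x0` has exactly one orbit on `X` outside `A • x0`, then the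
permutation character is `1 +` a sum of `|A|` distinct irreducible characters.
-/

set_option autoImplicit false
set_option linter.unusedSectionVars false
set_option linter.unusedVariables false

namespace Cfsg.Agent.Lib.Helper69.PermTorus

open Cfsg MulAction
open scoped ComplexConjugate

/-! ### the dual group of a finite abelian group -/

theorem sum_hom_apply (A : Type*) [CommGroup A] [Fintype A] [DecidableEq A] [Fintype (A →* ℂˣ)]
    (a : A) :
    ∑ θ : A →* ℂˣ, ((θ a : ℂˣ) : ℂ) = if a = 1 then (Fintype.card A : ℂ) else 0 := by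
  split_ifs with ha
  · subst ha
    simp only [map_one, Units.val_one, Finset.sum_const, Finset.card_univ, nsmul_eq_mul, mul_one]
    have := CommGroup.card_monoidHom_of_hasEnoughRootsOfUnity A ℂ
    rw [Nat.card_eq_fintype_card, Nat.card_eq_fintype_card] at this
    rw [this]
  · obtain ⟨φ, hφ⟩ := CommGroup.exists_apply_ne_one_of_hasEnoughRootsOfUnity A ℂ ha
    have hφ' : ((φ a : ℂˣ) : ℂ) ≠ 1 := by
      intro h; apply hφ; exact Units.ext h
    refine eq_zero_of_mul_eq_self_left hφ' ?_
    rw [Finset.mul_sum]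
    exact Fintype.sum_bijective _ (Group.mulLeft_bijective φ) _ _ fun θ => by
      simp [MonoidHom.mul_apply]

variable {G : Type*} [Group G] {X : Type*} [MulAction G X]
  {A : Type*} [CommGroup A] [MulAction A X] [SMulCommClass G A X]

/-! ### the stabilizer of the `A`-orbit of `x0` -/

/-- the subgroup of all `g` with `g • x0 ∈ A • x0` -/
def lineStab (A : Type*) [CommGroup A] [MulAction A X] [SMulCommClass G A X] (x0 : X) :
    Subgroup G where
  carrier := {g | ∃ a : A, g • x0 = a • x0}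
  one_mem' := ⟨1, by simp⟩
  mul_mem' := by
    rintro g h ⟨a, ha⟩ ⟨b, hb⟩
    refine ⟨b * a, ?_⟩
    rw [mul_smul, hb, smul_comm, ha, ← mul_smul]
  inv_mem' := by
    rintro g ⟨a, ha⟩
    refine ⟨a⁻¹, ?_⟩
    rw [inv_smul_eq_iff, smul_comm, ha, ← mul_smul, inv_mul_cancel, one_smul]

theorem mem_lineStab {x0 : X} {g : G} : g ∈ lineStab (G := G) A x0 ↔ ∃ a : A, g • x0 = a • x0 :=
  Iff.rfl

theorem stabilizer_le_lineStab (x0 : X) : stabilizer G x0 ≤ lineStab (G := G) A x0 := by
  intro g hg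
  exact ⟨1, by rw [one_smul]; exact hg⟩

/-- the eigenvalue of `g` on the `A`-orbit of `x0` -/
noncomputable def eig (x0 : X) (g : lineStab (G := G) A x0) : A := Classical.choose g.2

theorem eig_spec (x0 : X) (g : lineStab (G := G) A x0) : (g : G) • x0 = eig x0 g • x0 :=
  Classical.choose_spec g.2

theorem eig_unique {x0 : X} (hfree : ∀ a : A, a • x0 = x0 → a = 1)
    (g : lineStab (G := G) A x0) {a : A} (h : (g : G) • x0 = a • x0) : eig x0 g = a := by
  have h1 : eig x0 g • x0 = a • x0 := by rw [← eig_spec, h]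
  have h2 : (a⁻¹ * eig x0 g) • x0 = x0 := by
    rw [mul_smul, h1, ← mul_smul, inv_mul_cancel, one_smul]
  have h3 := hfree _ h2
  have h4 : eig x0 g = a * (a⁻¹ * eig x0 g) := by group
  rw [h4, h3, mul_one]

/-- the eigenvalue homomorphism -/
noncomputable def eigHom (x0 : X) (hfree : ∀ a : A, a • x0 = x0 → a = 1) :
    lineStab (G := G) A x0 →* A where
  toFun := eig x0
  map_one' := eig_unique hfree 1 (by simp)
  map_mul' g h := by
    apply eig_unique hfree
    rw [Subgroup.coe_mul, mul_smul, eig_spec x0 h, smul_comm, eig_spec x0 g, ← mul_smul,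
      mul_comm]

theorem eigHom_apply (x0 : X) (hfree : ∀ a : A, a • x0 = x0 → a = 1)
    (g : lineStab (G := G) A x0) : eigHom x0 hfree g = eig x0 g := rfl

theorem mem_stabilizer_iff_eig {x0 : X} (hfree : ∀ a : A, a • x0 = x0 → a = 1)
    (g : lineStab (G := G) A x0) : (g : G) ∈ stabilizer G x0 ↔ eigHom x0 hfree g = 1 := by
  rw [eigHom_apply, mem_stabilizer_iff]
  constructor
  · intro h
    exact eig_unique hfree g (by rw [h, one_smul])
  · intro h
    rw [eig_spec x0 g, h, one_smul]

theorem eigHom_surjective [IsPretransitive G X] {x0 : X}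
    (hfree : ∀ a : A, a • x0 = x0 → a = 1) : Function.Surjective (eigHom (G := G) x0 hfree) := by
  intro a
  obtain ⟨g, hg⟩ := exists_smul_eq G x0 (a • x0)
  refine ⟨⟨g, a, hg⟩, ?_⟩
  exact eig_unique hfree _ hg

theorem card_lineStab [Finite G] [Finite A] [IsPretransitive G X] {x0 : X}
    (hfree : ∀ a : A, a • x0 = x0 → a = 1) :
    Nat.card (lineStab (G := G) A x0) = Nat.card A * Nat.card (stabilizer G x0) := by
  have h1 := Subgroup.card_mul_index (eigHom (G := G) x0 hfree).ker
  rw [Subgroup.index_ker, MonoidHom.range_eq_top.mpr (eigHom_surjective hfree)] at h1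
  have h2 : Nat.card (⊤ : Subgroup A) = Nat.card A := Nat.card_congr Subgroup.topEquiv.toEquiv
  rw [h2] at h1
  have h3 : Nat.card (eigHom (G := G) x0 hfree).ker = Nat.card (stabilizer G x0) := by
    refine Nat.card_congr ⟨fun k => ⟨k.1.1, (mem_stabilizer_iff_eig hfree k.1).mpr k.2⟩,
      fun h => ⟨⟨h.1, stabilizer_le_lineStab x0 h.2⟩,
        (mem_stabilizer_iff_eig hfree ⟨h.1, stabilizer_le_lineStab x0 h.2⟩).mp h.2⟩, ?_, ?_⟩
    · intro k; rfl
    · intro h; rfl
  rw [← h1, h3, mul_comm]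


/-! ### decomposition of the permutation character -/

section decomp

variable [Fintype G] [Fintype A]

/-- the linear character `θ ∘ λ` of the line stabilizer -/
noncomputable def linChar (x0 : X) (hfree : ∀ a : A, a • x0 = x0 → a = 1) (θ : A →* ℂˣ) :
    lineStab (G := G) A x0 → ℂ :=
  fun p => ((θ (eigHom x0 hfree p) : ℂˣ) : ℂ)

theorem linChar_irr (x0 : X) (hfree : ∀ a : A, a • x0 = x0 → a = 1) (θ : A →* ℂˣ) :
    IsIrrCharacter (lineStab (G := G) A x0) (linChar x0 hfree θ) :=
  Cfsg.Agent.Lib.Helper79.isIrrCharacter_of_monoidHom (θ.comp (eigHom x0 hfree))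

theorem linChar_one (x0 : X) (hfree : ∀ a : A, a • x0 = x0 → a = 1) :
    linChar (G := G) x0 hfree (1 : A →* ℂˣ) = fun _ => 1 := by
  funext p
  simp [linChar]

theorem linChar_apply_one (x0 : X) (hfree : ∀ a : A, a • x0 = x0 → a = 1) (θ : A →* ℂˣ) :
    linChar (G := G) x0 hfree θ 1 = 1 := by
  simp [linChar]

theorem sum_extendByZero_linChar [Fintype (A →* ℂˣ)] (x0 : X)
    (hfree : ∀ a : A, a • x0 = x0 → a = 1) (y : G) :
    ∑ θ : A →* ℂˣ, extendByZero (lineStab (G := G) A x0) (linChar x0 hfree θ) y =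
      (Fintype.card A : ℂ) * extendByZero (stabilizer G x0) (fun _ => (1 : ℂ)) y := by
  classical
  by_cases hy : y ∈ lineStab (G := G) A x0
  · simp_rw [Cfsg.Agent.Lib.Helper25.extendByZero_of_mem _ _ hy]
    unfold linChar
    rw [sum_hom_apply]
    by_cases h1 : eigHom x0 hfree ⟨y, hy⟩ = 1
    · have hyH : y ∈ stabilizer G x0 := (mem_stabilizer_iff_eig hfree ⟨y, hy⟩).mpr h1
      rw [if_pos h1, Cfsg.Agent.Lib.Helper25.extendByZero_of_mem _ _ hyH, mul_one]
    · have hyH : y ∉ stabilizer G x0 := fun h =>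
        h1 ((mem_stabilizer_iff_eig hfree ⟨y, hy⟩).mp h)
      rw [if_neg h1, Cfsg.Agent.Lib.Helper25.extendByZero_of_not_mem _ _ hyH, mul_zero]
  · have hyH : y ∉ stabilizer G x0 := fun h => hy (stabilizer_le_lineStab x0 h)
    simp_rw [Cfsg.Agent.Lib.Helper25.extendByZero_of_not_mem _ _ hy]
    rw [Cfsg.Agent.Lib.Helper25.extendByZero_of_not_mem _ _ hyH]
    simp

theorem sum_indFun_linChar [Fintype (A →* ℂˣ)] [IsPretransitive G X] (x0 : X)
    (hfree : ∀ a : A, a • x0 = x0 → a = 1) :
    ∑ θ : A →* ℂˣ, indFun (lineStab (G := G) A x0) (linChar x0 hfree θ) =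
      indFun (stabilizer G x0) (fun _ => (1 : ℂ)) := by
  funext g
  rw [Finset.sum_apply]
  simp only [Cfsg.Agent.Lib.Helper25.indFun_apply]
  rw [← Finset.mul_sum, Finset.sum_comm]
  simp_rw [sum_extendByZero_linChar]
  rw [← Finset.mul_sum, card_lineStab hfree]
  have hA : (Fintype.card A : ℂ) ≠ 0 := by
    exact_mod_cast Fintype.card_ne_zero
  have hH : (Nat.card (stabilizer G x0) : ℂ) ≠ 0 := by
    exact_mod_cast Nat.card_pos.ne'
  rw [Nat.card_eq_fintype_card (α := A)]
  push_cast
  field_simp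

end decomp


/-! ### the norm of the permutation character -/

section norm

theorem burnside_natCard (H : Type*) [Group H] [Fintype H] (X : Type*) [MulAction H X]
    [Fintype X] :
    ∑ h : H, Nat.card (fixedBy X h) = Nat.card (Quotient (orbitRel H X)) * Nat.card H := by
  classical
  simp only [Nat.card_eq_fintype_card]
  exact sum_card_fixedBy_eq_card_orbits_mul_card_group H X

variable [Fintype G] [Fintype X]

theorem classInner_permChar [IsPretransitive G X] (x0 : X) :
    classInner (fun g : G => (Nat.card (fixedBy X g) : ℂ))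
      (fun g : G => (Nat.card (fixedBy X g) : ℂ)) =
      (Nat.card (Quotient (orbitRel (stabilizer G x0) X)) : ℂ) := by
  classical
  have hπ : (fun g : G => (Nat.card (fixedBy X g) : ℂ)) =
      indFun (stabilizer G x0) (fun _ => 1) := Cfsg.Agent.S0190.result X x0
  have hcl : IsClassFunction G (fun g : G => (Nat.card (fixedBy X g) : ℂ)) := by
    rw [hπ]; exact Cfsg.Agent.Lib.Helper25.indFun_isClassFunction _ _
  have h1 : classInner (fun g : G => (Nat.card (fixedBy X g) : ℂ))
      (fun g : G => (Nat.card (fixedBy X g) : ℂ)) =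
      classInner (indFun (stabilizer G x0) (fun _ => (1 : ℂ)))
        (fun g : G => (Nat.card (fixedBy X g) : ℂ)) := by
    conv_lhs => rw [hπ]
    conv_rhs => rw [hπ]
  rw [h1, Cfsg.Agent.Lib.Helper25.frobenius_reciprocity _ _ _ hcl,
    Cfsg.Agent.Lib.Helper25.classInner_def]
  have h2 : ∀ h : stabilizer G x0, (1 : ℂ) * conj ((Nat.card (fixedBy X (h : G)) : ℂ)) =
      ((Nat.card (fixedBy X h) : ℕ) : ℂ) := by
    intro h
    rw [one_mul, Complex.conj_natCast]
    rfl
  simp_rw [h2]
  rw [← Nat.cast_sum, burnside_natCard]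
  have hH : (Nat.card (stabilizer G x0) : ℂ) ≠ 0 := by
    exact_mod_cast Nat.card_pos.ne'
  push_cast
  field_simp

theorem card_orbits_stabilizer [Fintype A] (x0 y0 : X)
    (hfree : ∀ a : A, a • x0 = x0 → a = 1) (hy0 : ∀ a : A, a • x0 ≠ y0)
    (htr : ∀ y : X, (∀ a : A, a • x0 ≠ y) → ∃ h ∈ stabilizer G x0, h • y0 = y) :
    Nat.card (Quotient (orbitRel (stabilizer G x0) X)) = Fintype.card A + 1 := by
  classical
  let f : Option A → Quotient (orbitRel (stabilizer G x0) X) := fun o =>
    match o with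
    | none => Quotient.mk'' y0
    | some a => Quotient.mk'' (a • x0)
  have hstab : ∀ (h : stabilizer G x0) (a : A), h • (a • x0) = a • x0 := by
    intro h a
    rw [Subgroup.smul_def, smul_comm]
    congr 1
    exact h.2
  have hinjA : ∀ a b : A, a • x0 = b • x0 → a = b := by
    intro a b hab
    have h2 : (b⁻¹ * a) • x0 = x0 := by
      rw [mul_smul, hab, ← mul_smul, inv_mul_cancel, one_smul]
    have h3 := hfree _ h2
    have h4 : a = b * (b⁻¹ * a) := by group
    rw [h4, h3, mul_one]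
  have hf : Function.Bijective f := by
    constructor
    · intro o1 o2 h
      cases o1 with
      | none =>
        cases o2 with
        | none => rfl
        | some b =>
          exfalso
          have h' : Quotient.mk'' y0 = (Quotient.mk'' (b • x0) :
            Quotient (orbitRel (stabilizer G x0) X)) := h
          rw [Quotient.eq''] at h'
          have h'' : y0 ∈ orbit (stabilizer G x0) (b • x0) := h'
          obtain ⟨k, hk⟩ := h''
          have hk' : k • (b • x0) = y0 := hk
          rw [hstab] at hk'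
          exact hy0 b hk'
      | some a =>
        cases o2 with
        | none =>
          exfalso
          have h' : Quotient.mk'' (a • x0) = (Quotient.mk'' y0 :
            Quotient (orbitRel (stabilizer G x0) X)) := h
          rw [Quotient.eq''] at h'
          have h'' : a • x0 ∈ orbit (stabilizer G x0) y0 := h'
          obtain ⟨k, hk⟩ := h''
          have hk' : k • y0 = a • x0 := hk
          have : y0 = k⁻¹ • (a • x0) := by rw [← hk', inv_smul_smul]
          rw [hstab] at this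
          exact hy0 a this.symm
        | some b =>
          have h' : Quotient.mk'' (a • x0) = (Quotient.mk'' (b • x0) :
            Quotient (orbitRel (stabilizer G x0) X)) := h
          rw [Quotient.eq''] at h'
          have h'' : a • x0 ∈ orbit (stabilizer G x0) (b • x0) := h'
          obtain ⟨k, hk⟩ := h''
          have hk' : k • (b • x0) = a • x0 := hk
          rw [hstab] at hk'
          rw [hinjA a b hk'.symm]
    · intro ω
      induction ω using Quotient.inductionOn' with
      | h y =>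
        by_cases hy : ∃ a : A, a • x0 = y
        · obtain ⟨a, ha⟩ := hy
          exact ⟨some a, by simp only [f]; rw [ha]⟩
        · push Not at hy
          obtain ⟨h, hh, hhy⟩ := htr y hy
          refine ⟨none, ?_⟩
          simp only [f]
          symm
          rw [Quotient.eq'']
          exact ⟨⟨h, hh⟩, hhy⟩
  rw [← Nat.card_congr (Equiv.ofBijective f hf), Nat.card_eq_fintype_card, Fintype.card_option]

end norm


/-! ### the counting lemma -/

theorem counting {I J : Type*} [Fintype I] [Fintype J] [DecidableEq J] (a : J → I → ℕ) (θ0 : J)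
    (h1 : ∀ θ, 1 ≤ ∑ ψ, a θ ψ) (h2 : 2 ≤ ∑ ψ, a θ0 ψ)
    (hsq : ∑ ψ, (∑ θ, a θ ψ) ^ 2 = Fintype.card J + 1) :
    (∀ ψ, ∑ θ, a θ ψ ≤ 1) ∧ ∑ ψ, ∑ θ, a θ ψ = Fintype.card J + 1 := by
  have hlow : Fintype.card J + 1 ≤ ∑ ψ, ∑ θ, a θ ψ := by
    rw [Finset.sum_comm]
    calc Fintype.card J + 1 = ∑ θ : J, (1 + if θ = θ0 then 1 else 0) := by
          rw [Finset.sum_add_distrib, Finset.sum_ite_eq' Finset.univ θ0]
          simp
      _ ≤ ∑ θ, ∑ ψ, a θ ψ := by
          apply Finset.sum_le_sum
          intro θ _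
          by_cases hθ : θ = θ0
          · subst hθ; simpa using h2
          · simpa [hθ] using h1 θ
  have hle : ∀ ψ ∈ (Finset.univ : Finset I), ∑ θ, a θ ψ ≤ (∑ θ, a θ ψ) ^ 2 :=
    fun ψ _ => Nat.le_self_pow two_ne_zero _
  have hle' : ∑ ψ, ∑ θ, a θ ψ ≤ ∑ ψ, (∑ θ, a θ ψ) ^ 2 := Finset.sum_le_sum hle
  have heq : ∑ ψ, ∑ θ, a θ ψ = ∑ ψ, (∑ θ, a θ ψ) ^ 2 := by omega
  have hall := (Finset.sum_eq_sum_iff_of_le hle).mp heq
  refine ⟨fun ψ => ?_, by omega⟩
  have := hall ψ (Finset.mem_univ _)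
  by_contra hcon
  push Not at hcon
  nlinarith

/-! ### the main theorem -/

section main

variable [Fintype G] [Fintype X] [Fintype A]

theorem lineStab_ne_top [IsPretransitive G X] (x0 y0 : X) (hy0 : ∀ a : A, a • x0 ≠ y0) :
    lineStab (G := G) A x0 ≠ ⊤ := by
  intro htop
  obtain ⟨g, hg⟩ := exists_smul_eq G x0 y0
  have : g ∈ lineStab (G := G) A x0 := by rw [htop]; trivial
  obtain ⟨a, ha⟩ := this
  exact hy0 a (by rw [← ha, hg])

theorem perm_char_decomp [IsPretransitive G X] (x0 y0 : X)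
    (hfree : ∀ a : A, a • x0 = x0 → a = 1) (hy0 : ∀ a : A, a • x0 ≠ y0)
    (htr : ∀ y : X, (∀ a : A, a • x0 ≠ y) → ∃ h ∈ stabilizer G x0, h • y0 = y) :
    ∃ χ : Fin (Fintype.card A) → (G → ℂ), (∀ i, IsIrrCharacter G (χ i)) ∧
      Function.Injective χ ∧
      ∀ g : G, (Nat.card (fixedBy X g) : ℂ) = 1 + ∑ i, χ i g := by
  classical
  haveI : Finite (IrrCharacter G) := Cfsg.Agent.Lib.Helper81.finite_irrCharacter
  haveI : Fintype (IrrCharacter G) := Fintype.ofFinite _
  haveI : Fintype (A →* ℂˣ) := Fintype.ofFinite _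
  have hcardJ : Fintype.card (A →* ℂˣ) = Fintype.card A := by
    have := CommGroup.card_monoidHom_of_hasEnoughRootsOfUnity A ℂ
    rwa [Nat.card_eq_fintype_card, Nat.card_eq_fintype_card] at this
  -- the characters π_θ
  have hchar : ∀ θ : A →* ℂˣ,
      IsCharacter G (indFun (lineStab (G := G) A x0) (linChar x0 hfree θ)) := fun θ =>
    Cfsg.Agent.Lib.Helper3.isCharacter_indFun _
      (Cfsg.Agent.Lib.Helper79.isCharacter_of_isIrrCharacter (linChar_irr x0 hfree θ))
  have hπ : (fun g : G => (Nat.card (fixedBy X g) : ℂ)) =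
      ∑ θ : A →* ℂˣ, indFun (lineStab (G := G) A x0) (linChar x0 hfree θ) := by
    rw [sum_indFun_linChar]; exact Cfsg.Agent.S0190.result X x0
  choose a ha1 ha2 using fun θ => Cfsg.Agent.Lib.Helper3.IsCharacter.exists_mult (hchar θ)
  -- π in terms of the multiplicities
  have hπm : (fun g : G => (Nat.card (fixedBy X g) : ℂ)) =
      ∑ ψ : IrrCharacter G, ((∑ θ, a θ ψ : ℕ) : ℂ) • (ψ : G → ℂ) := by
    rw [hπ]
    calc ∑ θ : A →* ℂˣ, indFun (lineStab (G := G) A x0) (linChar x0 hfree θ)
        = ∑ θ : A →* ℂˣ, ∑ ψ : IrrCharacter G, (a θ ψ : ℂ) • (ψ : G → ℂ) :=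
          Finset.sum_congr rfl (fun θ _ => ha2 θ)
      _ = ∑ ψ : IrrCharacter G, ∑ θ : A →* ℂˣ, (a θ ψ : ℂ) • (ψ : G → ℂ) := Finset.sum_comm
      _ = ∑ ψ : IrrCharacter G, ((∑ θ, a θ ψ : ℕ) : ℂ) • (ψ : G → ℂ) := by
          refine Finset.sum_congr rfl (fun ψ _ => ?_)
          rw [← Finset.sum_smul, Nat.cast_sum]
  -- the norm
  have hnorm : ∑ ψ : IrrCharacter G, (∑ θ, a θ ψ) ^ 2 = Fintype.card (A →* ℂˣ) + 1 := by
    have h1 := classInner_permChar (G := G) (X := X) x0
    rw [card_orbits_stabilizer x0 y0 hfree hy0 htr] at h1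
    have h2 : classInner (fun g : G => (Nat.card (fixedBy X g) : ℂ))
        (fun g : G => (Nat.card (fixedBy X g) : ℂ)) =
        ∑ ψ : IrrCharacter G, ((∑ θ, a θ ψ : ℕ) : ℂ) * conj (((∑ θ, a θ ψ : ℕ) : ℂ)) := by
      conv_lhs => rw [hπm]
      exact Cfsg.Agent.Lib.Helper3.classInner_sum_sum _ _
    rw [h2] at h1
    simp only [Complex.conj_natCast] at h1
    rw [hcardJ]
    have h3 : ((∑ ψ : IrrCharacter G, (∑ θ, a θ ψ) ^ 2 : ℕ) : ℂ) =
        ((Fintype.card A + 1 : ℕ) : ℂ) := by
      rw [← h1]; push_cast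
      refine Finset.sum_congr rfl (fun ψ _ => ?_)
      ring
    exact_mod_cast h3
  -- index of the line stabilizer
  have hidx : (lineStab (G := G) A x0).index ≠ 1 := by
    intro h
    exact lineStab_ne_top (G := G) x0 y0 hy0 (Subgroup.index_eq_one.mp h)
  have hidx0 : (lineStab (G := G) A x0).index ≠ 0 := Subgroup.index_ne_zero_of_finite
  have hdeg : ∀ θ : A →* ℂˣ, indFun (lineStab (G := G) A x0) (linChar x0 hfree θ) 1 =
      ((lineStab (G := G) A x0).index : ℂ) := by
    intro θ
    rw [Cfsg.Agent.Lib.Helper25.indFun_apply]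
    have hx : ∀ x : G, extendByZero (lineStab (G := G) A x0) (linChar x0 hfree θ) (x⁻¹ * 1 * x)
        = 1 := by
      intro x
      have : x⁻¹ * 1 * x = ((1 : lineStab (G := G) A x0) : G) := by simp
      rw [this, Cfsg.Agent.Lib.Helper25.extendByZero_coe, linChar_apply_one]
    simp_rw [hx]
    rw [Finset.sum_const, Finset.card_univ, nsmul_eq_mul, mul_one]
    have h1 := Subgroup.card_mul_index (lineStab (G := G) A x0)
    have hP : (Nat.card (lineStab (G := G) A x0) : ℂ) ≠ 0 := by
      exact_mod_cast Nat.card_pos.ne'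
    rw [← Nat.card_eq_fintype_card, ← h1]
    push_cast
    field_simp
  -- each π_θ has a constituent
  have hone : ∀ θ : A →* ℂˣ, 1 ≤ ∑ ψ, a θ ψ := by
    intro θ
    by_contra hcon
    have h0 : ∑ ψ, a θ ψ = 0 := by omega
    have h0' : ∀ ψ, a θ ψ = 0 := fun ψ =>
      (Finset.sum_eq_zero_iff.mp h0) ψ (Finset.mem_univ _)
    have : indFun (lineStab (G := G) A x0) (linChar x0 hfree θ) = 0 := by
      rw [ha2 θ]
      apply Finset.sum_eq_zero
      intro ψ _
      rw [h0' ψ]; simp
    have h1 := hdeg θ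
    rw [this] at h1
    simp only [Pi.zero_apply] at h1
    exact hidx0 (by exact_mod_cast h1.symm)
  -- π_1 contains the trivial character
  have htriv : a 1 (Cfsg.Agent.Lib.Helper81.oneIrr G) = 1 := by
    have h1 := ha1 1 (Cfsg.Agent.Lib.Helper81.oneIrr G)
    have hcl : IsClassFunction G ((Cfsg.Agent.Lib.Helper81.oneIrr G : IrrCharacter G) : G → ℂ) := by
      intro g h
      rw [Cfsg.Agent.Lib.Helper81.oneIrr_apply, Cfsg.Agent.Lib.Helper81.oneIrr_apply]
    rw [Cfsg.Agent.Lib.Helper25.frobenius_reciprocity _ _ _ hcl, linChar_one] at h1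
    have h2 : (fun h : lineStab (G := G) A x0 =>
        ((Cfsg.Agent.Lib.Helper81.oneIrr G : IrrCharacter G) : G → ℂ) h) = fun _ => 1 := by
      funext h; exact Cfsg.Agent.Lib.Helper81.oneIrr_apply _
    rw [h2, Cfsg.Agent.Lib.Helper3.classInner_irr Cfsg.Agent.Lib.Helper81.isIrrCharacter_one
      Cfsg.Agent.Lib.Helper81.isIrrCharacter_one, if_pos rfl] at h1
    exact_mod_cast h1.symm
  have htwo : 2 ≤ ∑ ψ, a 1 ψ := by
    by_contra hcon
    push Not at hcon
    have hsplit := Finset.add_sum_erase Finset.univ (fun ψ => a 1 ψ)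
      (Finset.mem_univ (Cfsg.Agent.Lib.Helper81.oneIrr G))
    try simp only at hsplit
    rw [htriv] at hsplit
    have h0 : ∑ ψ ∈ Finset.univ.erase (Cfsg.Agent.Lib.Helper81.oneIrr G), a 1 ψ = 0 := by omega
    have h0' : ∀ ψ, ψ ≠ Cfsg.Agent.Lib.Helper81.oneIrr G → a 1 ψ = 0 := fun ψ hψ =>
      (Finset.sum_eq_zero_iff.mp h0) ψ (Finset.mem_erase.mpr ⟨hψ, Finset.mem_univ _⟩)
    have h3 : indFun (lineStab (G := G) A x0) (linChar x0 hfree 1) =
        ((Cfsg.Agent.Lib.Helper81.oneIrr G : IrrCharacter G) : G → ℂ) := by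
      rw [ha2 1, Finset.sum_eq_single (Cfsg.Agent.Lib.Helper81.oneIrr G)]
      · rw [htriv]; simp
      · intro ψ _ hψ
        rw [h0' ψ hψ]; simp
      · intro h; exact absurd (Finset.mem_univ _) h
    have h4 := hdeg 1
    rw [h3, Cfsg.Agent.Lib.Helper81.oneIrr_apply] at h4
    exact hidx (by exact_mod_cast h4.symm)
  obtain ⟨hm1, hmsum⟩ := counting a 1 hone htwo hnorm
  rw [hcardJ] at hmsum
  -- the set of constituents
  set m : IrrCharacter G → ℕ := fun ψ => ∑ θ, a θ ψ with hm
  have hm01 : ∀ ψ, m ψ = 0 ∨ m ψ = 1 := by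
    intro ψ
    have := hm1 ψ
    simp only [hm]
    omega
  set S : Finset (IrrCharacter G) := Finset.univ.filter (fun ψ => m ψ = 1) with hS
  have hScard : S.card = Fintype.card A + 1 := by
    rw [← hmsum, hS, Finset.card_filter]
    refine Finset.sum_congr rfl (fun ψ _ => ?_)
    rcases hm01 ψ with h | h
    · simp only [hm] at h ⊢
      rw [h]; simp
    · simp only [hm] at h ⊢
      rw [h]; simp
  have htrivS : Cfsg.Agent.Lib.Helper81.oneIrr G ∈ S := by
    rw [hS, Finset.mem_filter]
    refine ⟨Finset.mem_univ _, ?_⟩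
    have h1 : a 1 (Cfsg.Agent.Lib.Helper81.oneIrr G) ≤ m (Cfsg.Agent.Lib.Helper81.oneIrr G) :=
      Finset.single_le_sum (f := fun θ => a θ (Cfsg.Agent.Lib.Helper81.oneIrr G))
        (fun _ _ => Nat.zero_le _) (Finset.mem_univ 1)
    rw [htriv] at h1
    rcases hm01 (Cfsg.Agent.Lib.Helper81.oneIrr G) with h | h
    · omega
    · exact h
  have hS'card : (S.erase (Cfsg.Agent.Lib.Helper81.oneIrr G)).card = Fintype.card A := by
    rw [Finset.card_erase_of_mem htrivS, hScard]; simp
  let e := Finset.equivFinOfCardEq hS'card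
  refine ⟨fun i => (((e.symm i : ↥(S.erase (Cfsg.Agent.Lib.Helper81.oneIrr G))) :
    IrrCharacter G) : G → ℂ), fun i => (e.symm i).1.2, ?_, ?_⟩
  · intro i j hij
    have h1 : ((e.symm i : ↥(S.erase (Cfsg.Agent.Lib.Helper81.oneIrr G))) : IrrCharacter G) =
        ((e.symm j : ↥(S.erase (Cfsg.Agent.Lib.Helper81.oneIrr G))) : IrrCharacter G) :=
      Subtype.ext hij
    exact e.symm.injective (Subtype.ext h1)
  · intro g
    have h1 := congrFun hπm g
    try simp only at h1
    rw [h1, Finset.sum_apply]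
    have h2 : ∀ ψ : IrrCharacter G, (((m ψ : ℕ) : ℂ) • (ψ : G → ℂ)) g =
        if m ψ = 1 then (ψ : G → ℂ) g else 0 := by
      intro ψ
      rcases hm01 ψ with h | h
      · rw [h]; simp
      · rw [h]; simp
    have h2' : ∀ ψ : IrrCharacter G, (((∑ θ, a θ ψ : ℕ) : ℂ) • (ψ : G → ℂ)) g =
        if m ψ = 1 then (ψ : G → ℂ) g else 0 := h2
    simp_rw [h2']
    rw [← Finset.sum_filter, ← hS, ← Finset.add_sum_erase S _ htrivS,
      Cfsg.Agent.Lib.Helper81.oneIrr_apply]
    congr 1
    rw [← Finset.sum_coe_sort (S.erase (Cfsg.Agent.Lib.Helper81.oneIrr G))]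
    exact (Equiv.sum_comp e.symm
      (fun ψ : ↥(S.erase (Cfsg.Agent.Lib.Helper81.oneIrr G)) => ((ψ : IrrCharacter G) : G → ℂ) g)).symm

end main

end Cfsg.Agent.Lib.Helper69.PermTorus
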