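import Mathlib

/-!
# `SL_n(F)` acting on the non-zero vectors, `n ≥ 3`

Exact transitivity on linearly independent pairs, and the commuting scalar action.
-/

set_option autoImplicit false
set_option linter.unusedSectionVars false
set_option linter.unusedVariables false

namespace Cfsg.Agent.Lib.Helper69.SLVec

open Matrix MulAction
open scoped LinearAlgebra.Projectivization

section general
variable {F : Type*} [Field F] {ι : Type*} [Fintype ι] [DecidableEq ι]

theorem inv_val_mul (g : Matrix.SpecialLinearGroup ι F) : (g⁻¹).1 * g.1 = 1 := by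
  rw [← Matrix.SpecialLinearGroup.coe_mul, inv_mul_cancel, Matrix.SpecialLinearGroup.coe_one]

theorem mulVec_ne_zero (g : Matrix.SpecialLinearGroup ι F) {u : ι → F} (hu : u ≠ 0) :
    g.1 *ᵥ u ≠ 0 := by
  intro h
  apply hu
  have := congrArg (fun w => (g⁻¹).1 *ᵥ w) h
  simp only [Matrix.mulVec_mulVec, inv_val_mul, Matrix.one_mulVec, Matrix.mulVec_zero] at this
  exact this

/-- 2-transitivity on the projective space, in coordinates. -/
theorem exists_g1 (i0 i1 : ι) (h01 : i0 ≠ i1) (u w : ι → F) (hu : u ≠ 0) (hw : w ≠ 0)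
    (huw : ∀ a : F, a • w ≠ u) :
    ∃ g : Matrix.SpecialLinearGroup ι F, ∃ a b : F, a ≠ 0 ∧ b ≠ 0 ∧
      g.1 *ᵥ Pi.single i0 1 = a • u ∧ g.1 *ᵥ Pi.single i1 1 = b • w := by
  have he0 : (Pi.single i0 1 : ι → F) ≠ 0 := by
    intro h; have := congrFun h i0; simp at this
  have he1 : (Pi.single i1 1 : ι → F) ≠ 0 := by
    intro h; have := congrFun h i1; simp at this
  have hne1 : Projectivization.mk F (Pi.single i0 1 : ι → F) he0 ≠
      Projectivization.mk F (Pi.single i1 1) he1 := by
    intro h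
    rw [Projectivization.mk_eq_mk_iff] at h
    obtain ⟨a, ha⟩ := h
    have := congrFun ha i0
    simp [Units.smul_def, h01.symm] at this
  have hne2 : Projectivization.mk F u hu ≠ Projectivization.mk F w hw := by
    intro h
    rw [Projectivization.mk_eq_mk_iff] at h
    obtain ⟨a, ha⟩ := h
    exact huw a ha
  obtain ⟨g, hg0, hg1⟩ :=
    (MulAction.is_two_pretransitive_iff (G := Matrix.SpecialLinearGroup ι F)).mp
    inferInstance hne1 hne2
  rw [Projectivization.smul_mk, Projectivization.mk_eq_mk_iff] at hg0 hg1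
  obtain ⟨a, ha⟩ := hg0
  obtain ⟨b, hb⟩ := hg1
  exact ⟨g, a, b, a.ne_zero, b.ne_zero, ha.symm, hb.symm⟩

end general

section three
variable {F : Type*} [Field F] (n : ℕ)

/-- the diagonal matrix `diag(a⁻¹, b⁻¹, ab, 1, …)` -/
def dvec (a b : F) : Fin (n + 3) → F :=
  fun i => if i = 0 then a⁻¹ else if i = 1 then b⁻¹ else if i = 2 then a * b else 1

theorem det_diag (a b : F) (ha : a ≠ 0) (hb : b ≠ 0) :
    (Matrix.diagonal (dvec n a b)).det = 1 := by
  rw [Matrix.det_diagonal, Fin.prod_univ_succ, Fin.prod_univ_succ, Fin.prod_univ_succ]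
  have h3 : ∀ i : Fin n, dvec n a b i.succ.succ.succ = 1 := by
    intro i
    have h0 : i.succ.succ.succ ≠ (0 : Fin (n + 3)) := Fin.succ_ne_zero _
    have h1 : i.succ.succ.succ ≠ (1 : Fin (n + 3)) := by
      intro h; have := congrArg Fin.val h; simp at this
    have h2 : i.succ.succ.succ ≠ (2 : Fin (n + 3)) := by
      intro h; have := congrArg Fin.val h
      rw [Fin.val_two] at this
      simp only [Fin.val_succ] at this
      omega
    simp [dvec, h0, h1, h2]
  rw [Finset.prod_congr rfl (fun i _ => h3 i), Finset.prod_const_one, mul_one]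
  have e0 : dvec n a b 0 = a⁻¹ := by simp [dvec]
  have e1 : dvec n a b (Fin.succ 0) = b⁻¹ := by
    have : (Fin.succ 0 : Fin (n + 3)) = 1 := rfl
    rw [this]; simp [dvec]
  have e2 : dvec n a b (Fin.succ (Fin.succ 0)) = a * b := by
    have : (Fin.succ (Fin.succ 0) : Fin (n + 3)) = 2 := rfl
    rw [this]
    have h20 : (2 : Fin (n + 3)) ≠ 0 := by
      intro h; have := congrArg Fin.val h
      rw [Fin.val_two, Fin.val_zero] at this
      omega
    have h21 : (2 : Fin (n + 3)) ≠ 1 := by
      intro h; have := congrArg Fin.val h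
      rw [Fin.val_two, Fin.val_one] at this
      omega
    simp [dvec, h20, h21]
  rw [e0, e1, e2]
  field_simp

/-- the diagonal element of `SL` -/
def dSL (a b : F) (ha : a ≠ 0) (hb : b ≠ 0) : Matrix.SpecialLinearGroup (Fin (n + 3)) F :=
  ⟨Matrix.diagonal (dvec n a b), det_diag n a b ha hb⟩

theorem dSL_val (a b : F) (ha : a ≠ 0) (hb : b ≠ 0) :
    (dSL n a b ha hb).1 = Matrix.diagonal (dvec n a b) := rfl

/-- exact transitivity of `SL_{n+3}` on independent pairs -/
theorem exists_sl_pair (u w : Fin (n + 3) → F) (hw : w ≠ 0) (huw : ∀ a : F, a • w ≠ u) :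
    ∃ g : Matrix.SpecialLinearGroup (Fin (n + 3)) F,
      g.1 *ᵥ Pi.single 0 1 = u ∧ g.1 *ᵥ Pi.single 1 1 = w := by
  have hu : u ≠ 0 := by
    intro h
    exact huw 0 (by rw [zero_smul, h])
  have h01 : (0 : Fin (n + 3)) ≠ 1 := by
    intro h; have := congrArg Fin.val h; simp at this
  obtain ⟨g, a, b, ha, hb, hg0, hg1⟩ := exists_g1 0 1 h01 u w hu hw huw
  refine ⟨g * dSL n a b ha hb, ?_, ?_⟩
  · rw [Matrix.SpecialLinearGroup.coe_mul, ← Matrix.mulVec_mulVec, dSL_val]
    have : Matrix.diagonal (dvec n a b) *ᵥ (Pi.single 0 1 : Fin (n + 3) → F) =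
        a⁻¹ • Pi.single 0 1 := by
      ext i
      rw [Matrix.mulVec_diagonal]
      by_cases hi : i = 0
      · subst hi; simp [dvec]
      · simp [hi]
    show g.1 *ᵥ (Matrix.diagonal (dvec n a b) *ᵥ Pi.single 0 1) = u
    rw [this, Matrix.mulVec_smul, hg0, smul_smul, inv_mul_cancel₀ ha, one_smul]
  · rw [Matrix.SpecialLinearGroup.coe_mul, ← Matrix.mulVec_mulVec, dSL_val]
    have : Matrix.diagonal (dvec n a b) *ᵥ (Pi.single 1 1 : Fin (n + 3) → F) =
        b⁻¹ • Pi.single 1 1 := by
      ext i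
      rw [Matrix.mulVec_diagonal]
      by_cases hi : i = 1
      · subst hi; simp [dvec, h01.symm]
      · simp [hi]
    show g.1 *ᵥ (Matrix.diagonal (dvec n a b) *ᵥ Pi.single 1 1) = w
    rw [this, Matrix.mulVec_smul, hg1, smul_smul, inv_mul_cancel₀ hb, one_smul]

end three


/-! ### the actions on the non-zero vectors -/

section actions
variable {F : Type*} [Field F] {ι : Type*} [Fintype ι] [DecidableEq ι]

/-- the non-zero vectors -/
structure NZ (ι : Type*) (F : Type*) [Field F] where
  /-- the vector -/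
  val : ι → F
  /-- it is not zero -/
  ne : val ≠ 0

theorem NZ.ext' {x y : NZ ι F} (h : x.val = y.val) : x = y := by
  cases x; cases y; cases h; rfl

/-- `NZ` as a subtype -/
def NZ.equivSubtype (ι : Type*) (F : Type*) [Field F] : NZ ι F ≃ {v : ι → F // v ≠ 0} where
  toFun x := ⟨x.val, x.ne⟩
  invFun v := ⟨v.1, v.2⟩
  left_inv x := by cases x; rfl
  right_inv v := by cases v; rfl

noncomputable instance [Fintype F] : Fintype (NZ ι F) := by
  classical
  exact Fintype.ofEquiv _ (NZ.equivSubtype ι F).symm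

instance : MulAction (Matrix.SpecialLinearGroup ι F) (NZ ι F) where
  smul g x := ⟨g.1 *ᵥ x.val, mulVec_ne_zero g x.ne⟩
  one_smul x := by
    apply NZ.ext'
    show (1 : Matrix.SpecialLinearGroup ι F).1 *ᵥ x.val = x.val
    rw [Matrix.SpecialLinearGroup.coe_one, Matrix.one_mulVec]
  mul_smul g h x := by
    apply NZ.ext'
    show (g * h).1 *ᵥ x.val = g.1 *ᵥ (h.1 *ᵥ x.val)
    rw [Matrix.SpecialLinearGroup.coe_mul, Matrix.mulVec_mulVec]

theorem sl_smul_val (g : Matrix.SpecialLinearGroup ι F) (x : NZ ι F) :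
    (g • x).val = g.1 *ᵥ x.val := rfl

instance : MulAction Fˣ (NZ ι F) where
  smul c x := ⟨(c : F) • x.val, smul_ne_zero c.ne_zero x.ne⟩
  one_smul x := by
    apply NZ.ext'
    show ((1 : Fˣ) : F) • x.val = x.val
    rw [Units.val_one, one_smul]
  mul_smul c d x := by
    apply NZ.ext'
    show ((c * d : Fˣ) : F) • x.val = (c : F) • ((d : F) • x.val)
    rw [Units.val_mul, mul_smul]

theorem units_smul_val (c : Fˣ) (x : NZ ι F) : (c • x).val = (c : F) • x.val := rfl

instance : SMulCommClass (Matrix.SpecialLinearGroup ι F) Fˣ (NZ ι F) where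
  smul_comm g c x := by
    apply NZ.ext'
    rw [sl_smul_val, units_smul_val, units_smul_val, sl_smul_val, Matrix.mulVec_smul]

/-- the fixed points, as in the statement -/
def fixedEquiv (g : Matrix.SpecialLinearGroup ι F) :
    {v : ι → F // v ≠ 0 ∧ g.1 *ᵥ v = v} ≃ MulAction.fixedBy (NZ ι F) g where
  toFun v := ⟨⟨v.1, v.2.1⟩, NZ.ext' v.2.2⟩
  invFun x := ⟨x.1.val, x.1.ne, congrArg NZ.val x.2⟩
  left_inv v := by cases v; rfl
  right_inv x := by
    apply Subtype.ext
    apply NZ.ext'
    rfl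

end actions

section three'
variable {F : Type*} [Field F] (n : ℕ)

/-- the basis vector `e_i` -/
def bvec (i : Fin (n + 3)) : NZ (Fin (n + 3)) F :=
  ⟨Pi.single i 1, by intro h; have := congrFun h i; simp at this⟩

theorem bvec_val (i : Fin (n + 3)) : (bvec (F := F) n i).val = Pi.single i 1 := rfl

theorem exists_smul_bvec0 (x : NZ (Fin (n + 3)) F) :
    ∃ g : Matrix.SpecialLinearGroup (Fin (n + 3)) F, g • bvec n 0 = x := by
  -- choose w independent of x
  obtain ⟨i, hi⟩ : ∃ i, x.val i ≠ 0 := by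
    by_contra h
    push Not at h
    exact x.ne (funext h)
  obtain ⟨j, hj⟩ : ∃ j : Fin (n + 3), j ≠ i := by
    by_cases h0 : i = 0
    · refine ⟨1, ?_⟩
      rw [h0]
      intro h; have := congrArg Fin.val h; simp at this
    · exact ⟨0, fun h => h0 h.symm⟩
  have hw : (Pi.single j 1 : Fin (n + 3) → F) ≠ 0 := by
    intro h; have := congrFun h j; simp at this
  have huw : ∀ a : F, a • (Pi.single j 1 : Fin (n + 3) → F) ≠ x.val := by
    intro a h
    have := congrFun h i
    simp only [Pi.smul_apply, Pi.single_apply, smul_eq_mul] at this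
    rw [if_neg (fun h => hj h.symm), mul_zero] at this
    exact hi this.symm
  obtain ⟨g, hg0, _⟩ := exists_sl_pair n x.val _ hw huw
  exact ⟨g, NZ.ext' hg0⟩

instance : MulAction.IsPretransitive (Matrix.SpecialLinearGroup (Fin (n + 3)) F)
    (NZ (Fin (n + 3)) F) where
  exists_smul_eq x y := by
    obtain ⟨g, hg⟩ := exists_smul_bvec0 n x
    obtain ⟨h, hh⟩ := exists_smul_bvec0 n y
    refine ⟨h * g⁻¹, ?_⟩
    rw [mul_smul, ← hg, inv_smul_smul, hh]

theorem hfree_bvec (a : Fˣ) (h : a • bvec (F := F) n 0 = bvec n 0) : a = 1 := by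
  have := congrFun (congrArg NZ.val h) 0
  rw [units_smul_val, bvec_val] at this
  simp only [Pi.smul_apply, Pi.single_eq_same, smul_eq_mul, mul_one] at this
  exact Units.ext this

theorem hy0_bvec (a : Fˣ) : a • bvec (F := F) n 0 ≠ bvec n 1 := by
  intro h
  have := congrFun (congrArg NZ.val h) 1
  rw [units_smul_val, bvec_val, bvec_val] at this
  have h10 : (1 : Fin (n + 3)) ≠ 0 := by
    intro h; have := congrArg Fin.val h; simp at this
  simp only [Pi.smul_apply, Pi.single_eq_same, smul_eq_mul, Pi.single_apply, if_neg h10,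
    mul_zero] at this
  exact zero_ne_one this

theorem htr_bvec (y : NZ (Fin (n + 3)) F) (hy : ∀ a : Fˣ, a • bvec (F := F) n 0 ≠ y) :
    ∃ h ∈ MulAction.stabilizer (Matrix.SpecialLinearGroup (Fin (n + 3)) F) (bvec (F := F) n 0),
      h • bvec n 1 = y := by
  have huw : ∀ a : F, a • y.val ≠ (Pi.single 0 1 : Fin (n + 3) → F) := by
    intro a h
    have ha : a ≠ 0 := by
      intro h0
      rw [h0, zero_smul] at h
      have := congrFun h 0
      simp at this
    apply hy (Units.mk0 a ha)⁻¹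
    apply NZ.ext'
    rw [units_smul_val, bvec_val, ← h, smul_smul]
    simp [ha]
  obtain ⟨g, hg0, hg1⟩ := exists_sl_pair n (Pi.single 0 1) y.val y.ne huw
  refine ⟨g, ?_, NZ.ext' hg1⟩
  rw [MulAction.mem_stabilizer_iff]
  exact NZ.ext' hg0

end three'

end Cfsg.Agent.Lib.Helper69.SLVec
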