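import Cfsg.Agent.Lib.Helper41.StnDefs

set_option autoImplicit false

namespace Cfsg.Agent.Lib.Helper41.Stn

open Matrix

variable {K : Type*} [Field K] {n : ℕ}

/-- the scalar identity behind `hh_conj_ww`: `mu t (τ k) * mu (-1) k = dd t k`. -/
theorem hww_mu_mul {i j : Fin n} (hij : i ≠ j) (t : K) (k : Fin n) :
    mu i j t (Equiv.swap i j k) * mu i j (-1 : K) k = dd i j t k := by
  unfold mu dd
  by_cases hki : k = i
  · subst hki
    simp [hij.symm]
  · by_cases hkj : k = j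
    · subst hkj
      simp [hij.symm]
    · simp [hki, hkj, Equiv.swap_apply_of_ne_of_ne hki hkj]

theorem hww_mu_ne {i j : Fin n} {t : K} (ht : t ≠ 0) (k : Fin n) : mu i j t k ≠ 0 := by
  unfold mu
  split_ifs <;> simp [ht]

/-- core: `hh_conj_ww` from `ww_conj_ww` as a hypothesis -/
theorem hww_core {i j : Fin n} (hij : i ≠ j)
    (H : ∀ {t : K}, t ≠ 0 → ∀ {k l : Fin n}, k ≠ l → ∀ {u : K}, u ≠ 0 →
      ww i j t * ww k l u * (ww i j t)⁻¹ =
        ww (Equiv.swap i j k) (Equiv.swap i j l) (mu i j t k / mu i j t l * u))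
    {t : K} (ht : t ≠ 0) {k l : Fin n} (hkl : k ≠ l) {u : K} (hu : u ≠ 0) :
    hh i j t * ww k l u * (hh i j t)⁻¹ = ww k l (dd i j t k / dd i j t l * u) := by
  have h1 : (-1 : K) ≠ 0 := by simp
  have hkl' : Equiv.swap i j k ≠ Equiv.swap i j l := fun h => hkl ((Equiv.swap i j).injective h)
  have hu' : mu i j (-1 : K) k / mu i j (-1 : K) l * u ≠ 0 :=
    mul_ne_zero (div_ne_zero (hww_mu_ne h1 k) (hww_mu_ne h1 l)) hu
  have e1 := H h1 hkl hu
  have e2 := H ht hkl' hu'
  simp only [Equiv.swap_apply_self] at e2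
  unfold hh
  rw [_root_.mul_inv_rev]
  calc ww i j t * ww i j (-1) * ww k l u * ((ww i j (-1))⁻¹ * (ww i j t)⁻¹)
      = ww i j t * (ww i j (-1) * ww k l u * (ww i j (-1))⁻¹) * (ww i j t)⁻¹ := by group
    _ = _ := by
      rw [e1, e2]
      congr 1
      rw [← hww_mu_mul hij t k, ← hww_mu_mul hij t l]
      have := hww_mu_ne (i := i) (j := j) ht (Equiv.swap i j l)
      have := hww_mu_ne (i := i) (j := j) h1 l
      field_simp

end Cfsg.Agent.Lib.Helper41.Stn
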