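import Cfsg.Agent.Lib.Helper31.TiDefs

/-! # Ti mini-hive (S1074, owner helper31): leaf TI-VEC (helper69)

`vecB_mul`: the packed row-vector product `rmul` computes `Matrix.vecMul` against `bitMat`;
`vecB_inj`: `vecB` determines the low 52 bits. -/

set_option autoImplicit false

namespace Cfsg.Agent.Lib.Helper31.Ti

open Cfsg Cfsg.Lie Cfsg.Agent.Lib.Helper36

theorem tivec_rmul_nil (v acc : ℕ) : rmul v [] acc = acc := by
  unfold rmul
  rfl

theorem tivec_rmul_cons (v r : ℕ) (rs : List ℕ) (acc : ℕ) :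
    rmul v (r :: rs) acc = rmul (v / 2) rs (if v % 2 = 1 then acc ^^^ r else acc) := by
  rw [rmul]

theorem tivec_bitZ_testBit_zero (v : ℕ) : bitZ (v.testBit 0) = if v % 2 = 1 then 1 else 0 := by
  rw [Nat.testBit_zero]
  by_cases h : v % 2 = 1
  · simp [bitZ, h]
  · simp [bitZ, h]

/-- the bits of `rmul v R acc` -/
theorem tivec_rmul_testBit (R : List ℕ) : ∀ (v acc j : ℕ),
    bitZ ((rmul v R acc).testBit j) = bitZ (acc.testBit j) +
      ∑ k ∈ Finset.range R.length, bitZ (v.testBit k) * bitZ ((R.getD k 0).testBit j) := by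
  induction R with
  | nil =>
    intro v acc j
    rw [tivec_rmul_nil]
    simp
  | cons r rs ih =>
    intro v acc j
    rw [tivec_rmul_cons, ih, List.length_cons, Finset.sum_range_succ']
    have h1 : ∀ k, bitZ (v.testBit (k + 1)) * bitZ (((r :: rs).getD (k + 1) 0).testBit j) =
        bitZ ((v / 2).testBit k) * bitZ ((rs.getD k 0).testBit j) := by
      intro k
      rw [Nat.testBit_succ]
      rfl
    simp only [h1]
    have h0 : ((r :: rs).getD 0 0) = r := rfl
    rw [h0, tivec_bitZ_testBit_zero]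
    by_cases h : v % 2 = 1
    · rw [if_pos h, if_pos h, Nat.testBit_xor, bitZ_xor]
      ring
    · rw [if_neg h, if_neg h]
      ring

theorem vecB_mul (v : ℕ) (R : List ℕ) (hR : R.length = 52) :
    Matrix.vecMul (vecB v) (bitMat R) = vecB (rmul v R 0) := by
  ext j
  show ∑ i, vecB v i * bitMat R i j = bitZ ((rmul v R 0).testBit (f4Num j))
  rw [tivec_rmul_testBit, hR]
  show ∑ i, bitZ (v.testBit (f4Num i)) * bitZ ((R.getD (f4Num i) 0).testBit (f4Num j)) = _
  rw [sum_f4Num (fun k => bitZ (v.testBit k) * bitZ ((R.getD k 0).testBit (f4Num j)))]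
  simp [bitZ]

theorem tivec_bitZ_inj (p q : Bool) (h : bitZ p = bitZ q) : p = q := by
  cases p <;> cases q <;> first | rfl | (exfalso; revert h; decide)

/-- an index with a given number -/
theorem tivec_exists_idx (k : ℕ) (hk : k < 52) : ∃ j : chevF4.Idx, f4Num j = k := by
  by_cases h4 : k < 4
  · exact ⟨Sum.inl ⟨k, h4⟩, rfl⟩
  · refine ⟨Sum.inr ⟨k - 4, ?_⟩, ?_⟩
    · show k - 4 < 48
      omega
    · show 4 + (k - 4) = k
      omega

theorem vecB_inj (v w : ℕ) (h : vecB v = vecB w) : v % 2 ^ 52 = w % 2 ^ 52 := by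
  apply Nat.eq_of_testBit_eq
  intro i
  rw [Nat.testBit_mod_two_pow, Nat.testBit_mod_two_pow]
  by_cases hi : i < 52
  · obtain ⟨j, hj⟩ := tivec_exists_idx i hi
    have := congrFun h j
    have h2 : bitZ (v.testBit (f4Num j)) = bitZ (w.testBit (f4Num j)) := this
    rw [hj] at h2
    rw [tivec_bitZ_inj _ _ h2]
  · simp [hi]

end Cfsg.Agent.Lib.Helper31.Ti
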