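import Mathlib
import Cfsg.Agent.Lib.Helper81.Mi.Defs
import Cfsg.Agent.Lib.Helper43.MiTV1

/-! # Mi hive (S2140, helper81), leaf MI-QV (helper69): `mem_Qv_iff`, `mem_Rphi_iff`, `card_Qv`, `cj_Qv`. -/

set_option autoImplicit false

namespace Cfsg.Agent.Lib.Helper81.Mi

open Matrix

variable {F : Type*} [Field F] {n : ℕ}

theorem qv_inv_mul (γ : SLn n F) :
    ((γ⁻¹ : SLn n F) : Matrix (Fin n) (Fin n) F) * (γ : Matrix (Fin n) (Fin n) F) = 1 := by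
  have h : ((γ⁻¹ * γ : SLn n F) : Matrix (Fin n) (Fin n) F) =
      ((1 : SLn n F) : Matrix (Fin n) (Fin n) F) := by rw [inv_mul_cancel]
  rwa [Matrix.SpecialLinearGroup.coe_mul, Matrix.SpecialLinearGroup.coe_one] at h

theorem qv_mul_inv (γ : SLn n F) :
    (γ : Matrix (Fin n) (Fin n) F) * ((γ⁻¹ : SLn n F) : Matrix (Fin n) (Fin n) F) = 1 := by
  have h : ((γ * γ⁻¹ : SLn n F) : Matrix (Fin n) (Fin n) F) =
      ((1 : SLn n F) : Matrix (Fin n) (Fin n) F) := by rw [mul_inv_cancel]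
  rwa [Matrix.SpecialLinearGroup.coe_mul, Matrix.SpecialLinearGroup.coe_one] at h

/-- (= MI-TV2 `vecMul_inv_dotProduct`, private copy) -/
theorem qv_dot (γ : SLn n F) (φ x : Fin n → F) :
    (φ ᵥ* ((γ⁻¹ : SLn n F) : Matrix (Fin n) (Fin n) F)) ⬝ᵥ ((γ : Matrix (Fin n) (Fin n) F) *ᵥ x) =
      φ ⬝ᵥ x := by
  rw [Matrix.dotProduct_mulVec, Matrix.vecMul_vecMul, qv_inv_mul, Matrix.vecMul_one]

/-- (= MI-TV2 `conj_tv`, private copy) -/
theorem qv_conj_tv (γ : SLn n F) (v φ : Fin n → F) :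
    γ * tv v φ * γ⁻¹ =
      tv ((γ : Matrix (Fin n) (Fin n) F) *ᵥ v)
        (φ ᵥ* ((γ⁻¹ : SLn n F) : Matrix (Fin n) (Fin n) F)) := by
  by_cases h : φ ⬝ᵥ v = 0
  · have h' := (qv_dot γ φ v).trans h
    apply Subtype.ext
    show γ.1 * (tv v φ).1 * (γ⁻¹).1 = (tv (γ.1 *ᵥ v) (φ ᵥ* (γ⁻¹).1)).1
    rw [show (tv v φ).1 = tmat v φ from coe_tv v φ h,
      show (tv (γ.1 *ᵥ v) (φ ᵥ* (γ⁻¹).1)).1 = tmat (γ.1 *ᵥ v) (φ ᵥ* (γ⁻¹).1) from coe_tv _ _ h']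
    unfold tmat
    rw [Matrix.mul_add, Matrix.add_mul, Matrix.mul_one, qv_mul_inv, Matrix.mul_vecMulVec,
      Matrix.vecMulVec_mul]
  · have h' : (φ ᵥ* ((γ⁻¹ : SLn n F) : Matrix (Fin n) (Fin n) F)) ⬝ᵥ
        ((γ : Matrix (Fin n) (Fin n) F) *ᵥ v) ≠ 0 := by
      rw [qv_dot]; exact h
    rw [tv_of_ne _ _ h, tv_of_ne _ _ h', mul_one, mul_inv_cancel]

/-- MI-QV -/
theorem mem_Qv_iff (v : Fin n → F) (g : SLn n F) :
    g ∈ Qv v ↔ ∃ φ : Fin n → F, φ ⬝ᵥ v = 0 ∧ g = tv v φ := by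
  constructor
  · intro hg
    unfold Qv at hg
    induction hg using Subgroup.closure_induction with
    | mem x hx => exact hx
    | one => exact ⟨0, zero_dotProduct v, (tv_zero_right v).symm⟩
    | mul x y _ _ hx hy =>
      obtain ⟨φ, h1, rfl⟩ := hx
      obtain ⟨ψ, h2, rfl⟩ := hy
      exact ⟨φ + ψ, by rw [add_dotProduct, h1, h2, add_zero], tv_mul v φ ψ h1 h2⟩
    | inv x _ hx =>
      obtain ⟨φ, h1, rfl⟩ := hx
      exact ⟨-φ, by rw [neg_dotProduct, h1, neg_zero], tv_inv v φ⟩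
  · intro h
    exact Subgroup.subset_closure h

/-- MI-QV -/
theorem mem_Rphi_iff (φ : Fin n → F) (g : SLn n F) :
    g ∈ Rphi φ ↔ ∃ u : Fin n → F, φ ⬝ᵥ u = 0 ∧ g = tv u φ := by
  constructor
  · intro hg
    unfold Rphi at hg
    induction hg using Subgroup.closure_induction with
    | mem x hx => exact hx
    | one => exact ⟨0, dotProduct_zero φ, (tv_zero_left φ).symm⟩
    | mul x y _ _ hx hy =>
      obtain ⟨u, h1, rfl⟩ := hx
      obtain ⟨w, h2, rfl⟩ := hy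
      exact ⟨u + w, by rw [dotProduct_add, h1, h2, add_zero], tv_mul' u w φ h1 h2⟩
    | inv x _ hx =>
      obtain ⟨u, h1, rfl⟩ := hx
      refine ⟨-u, by rw [dotProduct_neg, h1, neg_zero], ?_⟩
      rw [tv_inv, show -φ = (-1 : F) • φ by simp, ← tv_smul, show (-1 : F) • u = -u by simp]
  · intro h
    exact Subgroup.subset_closure h

/-- the functional `φ ↦ φ ⬝ᵥ v` -/
def qv_fun (v : Fin n → F) : (Fin n → F) →ₗ[F] F where
  toFun φ := φ ⬝ᵥ v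
  map_add' φ ψ := add_dotProduct φ ψ v
  map_smul' c φ := by simp [smul_dotProduct]

theorem qv_fun_surj (v : Fin n → F) (hv : v ≠ 0) : Function.Surjective (qv_fun v) := by
  obtain ⟨i, hi⟩ := Function.ne_iff.mp hv
  intro c
  refine ⟨(c / v i) • Pi.single i 1, ?_⟩
  show ((c / v i) • Pi.single i 1) ⬝ᵥ v = c
  rw [smul_dotProduct, single_dotProduct, one_mul, smul_eq_mul]
  exact div_mul_cancel₀ c hi

theorem qv_finrank_ker (v : Fin n → F) (hv : v ≠ 0) :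
    Module.finrank F (LinearMap.ker (qv_fun v)) = n - 1 := by
  have h := LinearMap.finrank_range_add_finrank_ker (qv_fun v)
  rw [LinearMap.range_eq_top.mpr (qv_fun_surj v hv), finrank_top, Module.finrank_self,
    Module.finrank_fin_fun] at h
  omega

theorem qv_tv_inj (v : Fin n → F) (hv : v ≠ 0) (φ ψ : Fin n → F) (h1 : φ ⬝ᵥ v = 0)
    (h2 : ψ ⬝ᵥ v = 0) (h : tv v φ = tv v ψ) : φ = ψ := by
  have h3 : (tv v φ).1 = (tv v ψ).1 := by rw [h]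
  rw [show (tv v φ).1 = tmat v φ from coe_tv v φ h1,
    show (tv v ψ).1 = tmat v ψ from coe_tv v ψ h2] at h3
  unfold tmat at h3
  have h4 : Matrix.vecMulVec v φ = Matrix.vecMulVec v ψ := add_left_cancel h3
  obtain ⟨i, hi⟩ := Function.ne_iff.mp hv
  funext j
  have h5 := congrFun (congrFun h4 i) j
  rw [Matrix.vecMulVec_apply, Matrix.vecMulVec_apply] at h5
  exact mul_left_cancel₀ hi h5

/-- MI-QV -/
theorem card_Qv [Finite F] (hn : 1 ≤ n) (v : Fin n → F) (hv : v ≠ 0) :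
    Nat.card (Qv v) = Nat.card F ^ (n - 1) := by
  have hbij : Function.Bijective (fun φ : LinearMap.ker (qv_fun v) =>
      (⟨tv v φ.1, (mem_Qv_iff v _).2 ⟨φ.1, LinearMap.mem_ker.mp φ.2, rfl⟩⟩ : Qv v)) := by
    constructor
    · intro φ ψ h
      have h' : tv v φ.1 = tv v ψ.1 := congrArg Subtype.val h
      exact Subtype.ext (qv_tv_inj v hv φ.1 ψ.1 (LinearMap.mem_ker.mp φ.2)
        (LinearMap.mem_ker.mp ψ.2) h')
    · rintro ⟨g, hg⟩
      obtain ⟨φ, h1, rfl⟩ := (mem_Qv_iff v g).1 hg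
      exact ⟨⟨φ, LinearMap.mem_ker.mpr h1⟩, rfl⟩
  rw [← Nat.card_congr (Equiv.ofBijective _ hbij), Module.natCard_eq_pow_finrank (K := F),
    qv_finrank_ker v hv]

/-- MI-QV -/
theorem cj_Qv (γ : SLn n F) (v : Fin n → F) :
    cj γ (Qv v) = Qv ((γ : Matrix (Fin n) (Fin n) F) *ᵥ v) := by
  ext x
  rw [mem_cj, mem_Qv_iff, mem_Qv_iff]
  constructor
  · rintro ⟨φ, h1, h2⟩
    refine ⟨φ ᵥ* ((γ⁻¹ : SLn n F) : Matrix (Fin n) (Fin n) F), (qv_dot γ φ v).trans h1, ?_⟩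
    rw [← qv_conj_tv, ← h2]
    group
  · rintro ⟨ψ, h1, rfl⟩
    refine ⟨ψ ᵥ* (γ : Matrix (Fin n) (Fin n) F), ?_, ?_⟩
    · rw [← Matrix.dotProduct_mulVec]; exact h1
    · have h := qv_conj_tv γ⁻¹ ((γ : Matrix (Fin n) (Fin n) F) *ᵥ v) ψ
      rw [inv_inv] at h
      rw [h, Matrix.mulVec_mulVec, qv_inv_mul, Matrix.one_mulVec]

end Cfsg.Agent.Lib.Helper81.Mi
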