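import Mathlib
import Cfsg.Statements.S2924
import Cfsg.Agent.Lib.Helper22.FStar
import Cfsg.Agent.Lib.Helper22.OcDefs

/-! # Oc hive (S2924, owner helper22): leaf OC3d (helper69)

A component of `G` contained in a subgroup `S` gives a component of `S`, so the layer of `S` is nontrivial. -/

set_option autoImplicit false
open Cfsg Subgroup

namespace Cfsg.Agent.Lib.Helper22.Oc

universe u

/-- a component of `G` inside `S` is a component of `S` -/
theorem oc3d_isComponent {G : Type u} [Group G] (K S : Subgroup G) (hK : IsComponent K)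
    (hKS : K ≤ S) : IsComponent (K.subgroupOf S) := by
  refine ⟨hK.1.subgroupOf, ?_⟩
  exact Cfsg.Agent.Lib.Helper21.quasisimple_of_mulEquiv (Subgroup.subgroupOfEquivOfLe hKS).symm hK.2

/-- OC3d. A component of `G` contained in a subgroup `S` gives a component of `S`. -/
theorem oc3d {G : Type u} [Group G] [Finite G] (K S : Subgroup G) (hK : IsComponent K)
    (hKS : K ≤ S) : layer ↥S ≠ ⊥ := by
  have hc := oc3d_isComponent K S hK hKS
  intro hbot
  have hle := Cfsg.Agent.Lib.Helper22.component_le_layer hc
  rw [hbot, le_bot_iff] at hle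
  exact Cfsg.Agent.Lib.Helper22.component_ne_bot hc hle

end Cfsg.Agent.Lib.Helper22.Oc
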