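import Cfsg.Agent.Lib.Helper37.GtDefs

/-! # Gt hive (S2734, helper37): leaf GT-REL3 `rel3` (helper69)

The relation (R3) `h_r(t₁) h_r(t₂) = h_r(t₁ t₂)` for the images of the `G₂` root elements in `O₈⁺(F)`.
Self-contained (imports `GtDefs` only): `rel3_act_HY` is a private copy of the glued statement `act_HY` of the three
GT-HDIAG leaves, proved here root by root after the pattern of `ex_act_HY_7`. Then the model of helper53's `Do_REL3`. -/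

set_option autoImplicit false
set_option linter.unusedSectionVars false
set_option linter.unusedVariables false

namespace Cfsg.Agent.Lib.Helper37.Gt

open Matrix Module QuadraticMap
open Cfsg.Agent.Lib.Helper8 Cfsg.Agent.Lib.Helper13 Cfsg.Agent.Lib.Helper37 Cfsg.Agent.Lib.Helper37.D4O8

variable {F : Type*} [Field F]

theorem rel3_neg0 : Cfsg.Lie.chevG2.neg 0 = 11 := by decide
theorem rel3_neg1 : Cfsg.Lie.chevG2.neg 1 = 10 := by decide
theorem rel3_neg2 : Cfsg.Lie.chevG2.neg 2 = 9 := by decide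
theorem rel3_neg3 : Cfsg.Lie.chevG2.neg 3 = 8 := by decide
theorem rel3_neg4 : Cfsg.Lie.chevG2.neg 4 = 7 := by decide
theorem rel3_neg5 : Cfsg.Lie.chevG2.neg 5 = 6 := by decide
theorem rel3_neg6 : Cfsg.Lie.chevG2.neg 6 = 5 := by decide
theorem rel3_neg7 : Cfsg.Lie.chevG2.neg 7 = 4 := by decide
theorem rel3_neg8 : Cfsg.Lie.chevG2.neg 8 = 3 := by decide
theorem rel3_neg9 : Cfsg.Lie.chevG2.neg 9 = 2 := by decide
theorem rel3_neg10 : Cfsg.Lie.chevG2.neg 10 = 1 := by decide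
theorem rel3_neg11 : Cfsg.Lie.chevG2.neg 11 = 0 := by decide

theorem rel3_hd0 (t : F) (ht : t ≠ 0) (x : I8 → F) :
    act (Q8 F) (wprodY (Cfsg.Lie.chevG2.hWord 0 t)) x =
      mk8 ((t⁻¹) * ca1 x) ((t⁻¹) * ca2 x) ((1) * ca3 x) (ca4 x)
        ((t⁻¹)⁻¹ * cb1 x) ((t⁻¹)⁻¹ * cb2 x) ((1)⁻¹ * cb3 x) (cb4 x) := by
  unfold wprodY Cfsg.Lie.ChevalleyDatum.hWord Cfsg.Lie.ChevalleyDatum.nWord
  rw [rel3_neg0]
  simp only [List.map_cons, List.map_nil, List.prod_cons, List.prod_nil, mul_one, List.cons_append, List.nil_append]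
  simp only [Yn_0, Yn_11]
  simp only [act_mul]
  simp only [act_X0, act_X23]
  apply ext8 <;> simp <;> field_simp <;> ring

theorem rel3_hd1 (t : F) (ht : t ≠ 0) (x : I8 → F) :
    act (Q8 F) (wprodY (Cfsg.Lie.chevG2.hWord 1 t)) x =
      mk8 ((t⁻¹) * ca1 x) ((1) * ca2 x) ((t⁻¹) * ca3 x) (ca4 x)
        ((t⁻¹)⁻¹ * cb1 x) ((1)⁻¹ * cb2 x) ((t⁻¹)⁻¹ * cb3 x) (cb4 x) := by
  unfold wprodY Cfsg.Lie.ChevalleyDatum.hWord Cfsg.Lie.ChevalleyDatum.nWord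
  rw [rel3_neg1]
  simp only [List.map_cons, List.map_nil, List.prod_cons, List.prod_nil, mul_one, List.cons_append, List.nil_append]
  simp only [Yn_1, Yn_10]
  simp only [act_mul]
  simp only [act_X1, act_X22]
  apply ext8 <;> simp <;> field_simp <;> ring

theorem rel3_hd2 (t : F) (ht : t ≠ 0) (x : I8 → F) :
    act (Q8 F) (wprodY (Cfsg.Lie.chevG2.hWord 2 t)) x =
      mk8 ((t⁻¹ * t⁻¹) * ca1 x) ((t⁻¹) * ca2 x) ((t⁻¹) * ca3 x) (ca4 x)
        ((t⁻¹ * t⁻¹)⁻¹ * cb1 x) ((t⁻¹)⁻¹ * cb2 x) ((t⁻¹)⁻¹ * cb3 x) (cb4 x) := by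
  unfold wprodY Cfsg.Lie.ChevalleyDatum.hWord Cfsg.Lie.ChevalleyDatum.nWord
  rw [rel3_neg2]
  simp only [List.map_cons, List.map_nil, List.prod_cons, List.prod_nil, mul_one, List.cons_append, List.nil_append]
  simp only [Yn_2, Yn_9]
  simp only [act_mul]
  simp only [act_X2, act_X3, act_X6, act_X17, act_X20, act_X21]
  apply ext8 <;> simp <;> field_simp <;> ring

theorem rel3_hd3 (t : F) (ht : t ≠ 0) (x : I8 → F) :
    act (Q8 F) (wprodY (Cfsg.Lie.chevG2.hWord 3 t)) x =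
      mk8 ((t⁻¹) * ca1 x) ((t⁻¹ * t⁻¹) * ca2 x) ((t) * ca3 x) (ca4 x)
        ((t⁻¹)⁻¹ * cb1 x) ((t⁻¹ * t⁻¹)⁻¹ * cb2 x) ((t)⁻¹ * cb3 x) (cb4 x) := by
  unfold wprodY Cfsg.Lie.ChevalleyDatum.hWord Cfsg.Lie.ChevalleyDatum.nWord
  rw [rel3_neg3]
  simp only [List.map_cons, List.map_nil, List.prod_cons, List.prod_nil, mul_one, List.cons_append, List.nil_append]
  simp only [Yn_3, Yn_8]
  simp only [act_mul]
  simp only [act_X4, act_X7, act_X8, act_X15, act_X16, act_X19]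
  apply ext8 <;> simp <;> field_simp <;> ring

theorem rel3_hd4 (t : F) (ht : t ≠ 0) (x : I8 → F) :
    act (Q8 F) (wprodY (Cfsg.Lie.chevG2.hWord 4 t)) x =
      mk8 ((t⁻¹) * ca1 x) ((t) * ca2 x) ((t⁻¹ * t⁻¹) * ca3 x) (ca4 x)
        ((t⁻¹)⁻¹ * cb1 x) ((t)⁻¹ * cb2 x) ((t⁻¹ * t⁻¹)⁻¹ * cb3 x) (cb4 x) := by
  unfold wprodY Cfsg.Lie.ChevalleyDatum.hWord Cfsg.Lie.ChevalleyDatum.nWord
  rw [rel3_neg4]
  simp only [List.map_cons, List.map_nil, List.prod_cons, List.prod_nil, mul_one, List.cons_append, List.nil_append]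
  simp only [Yn_4, Yn_7]
  simp only [act_mul]
  simp only [act_X5, act_X10, act_X11, act_X12, act_X13, act_X18]
  apply ext8 <;> simp <;> field_simp <;> ring

theorem rel3_hd5 (t : F) (ht : t ≠ 0) (x : I8 → F) :
    act (Q8 F) (wprodY (Cfsg.Lie.chevG2.hWord 5 t)) x =
      mk8 ((1) * ca1 x) ((t⁻¹) * ca2 x) ((t) * ca3 x) (ca4 x)
        ((1)⁻¹ * cb1 x) ((t⁻¹)⁻¹ * cb2 x) ((t)⁻¹ * cb3 x) (cb4 x) := by
  unfold wprodY Cfsg.Lie.ChevalleyDatum.hWord Cfsg.Lie.ChevalleyDatum.nWord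
  rw [rel3_neg5]
  simp only [List.map_cons, List.map_nil, List.prod_cons, List.prod_nil, mul_one, List.cons_append, List.nil_append]
  simp only [Yn_5, Yn_6]
  simp only [act_mul]
  simp only [act_X9, act_X14]
  apply ext8 <;> simp <;> field_simp <;> ring

theorem rel3_hd6 (t : F) (ht : t ≠ 0) (x : I8 → F) :
    act (Q8 F) (wprodY (Cfsg.Lie.chevG2.hWord 6 t)) x =
      mk8 ((1) * ca1 x) ((t) * ca2 x) ((t⁻¹) * ca3 x) (ca4 x)
        ((1)⁻¹ * cb1 x) ((t)⁻¹ * cb2 x) ((t⁻¹)⁻¹ * cb3 x) (cb4 x) := by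
  unfold wprodY Cfsg.Lie.ChevalleyDatum.hWord Cfsg.Lie.ChevalleyDatum.nWord
  rw [rel3_neg6]
  simp only [List.map_cons, List.map_nil, List.prod_cons, List.prod_nil, mul_one, List.cons_append, List.nil_append]
  simp only [Yn_5, Yn_6]
  simp only [act_mul]
  simp only [act_X9, act_X14]
  apply ext8 <;> simp <;> field_simp <;> ring

theorem rel3_hd7 (t : F) (ht : t ≠ 0) (x : I8 → F) :
    act (Q8 F) (wprodY (Cfsg.Lie.chevG2.hWord 7 t)) x =
      mk8 ((t) * ca1 x) ((t⁻¹) * ca2 x) ((t * t) * ca3 x) (ca4 x)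
        ((t)⁻¹ * cb1 x) ((t⁻¹)⁻¹ * cb2 x) ((t * t)⁻¹ * cb3 x) (cb4 x) := by
  unfold wprodY Cfsg.Lie.ChevalleyDatum.hWord Cfsg.Lie.ChevalleyDatum.nWord
  rw [rel3_neg7]
  simp only [List.map_cons, List.map_nil, List.prod_cons, List.prod_nil, mul_one, List.cons_append, List.nil_append]
  simp only [Yn_4, Yn_7]
  simp only [act_mul]
  simp only [act_X5, act_X10, act_X11, act_X12, act_X13, act_X18]
  apply ext8 <;> simp <;> field_simp <;> ring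

theorem rel3_hd8 (t : F) (ht : t ≠ 0) (x : I8 → F) :
    act (Q8 F) (wprodY (Cfsg.Lie.chevG2.hWord 8 t)) x =
      mk8 ((t) * ca1 x) ((t * t) * ca2 x) ((t⁻¹) * ca3 x) (ca4 x)
        ((t)⁻¹ * cb1 x) ((t * t)⁻¹ * cb2 x) ((t⁻¹)⁻¹ * cb3 x) (cb4 x) := by
  unfold wprodY Cfsg.Lie.ChevalleyDatum.hWord Cfsg.Lie.ChevalleyDatum.nWord
  rw [rel3_neg8]
  simp only [List.map_cons, List.map_nil, List.prod_cons, List.prod_nil, mul_one, List.cons_append, List.nil_append]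
  simp only [Yn_3, Yn_8]
  simp only [act_mul]
  simp only [act_X4, act_X7, act_X8, act_X15, act_X16, act_X19]
  apply ext8 <;> simp <;> field_simp <;> ring

theorem rel3_hd9 (t : F) (ht : t ≠ 0) (x : I8 → F) :
    act (Q8 F) (wprodY (Cfsg.Lie.chevG2.hWord 9 t)) x =
      mk8 ((t * t) * ca1 x) ((t) * ca2 x) ((t) * ca3 x) (ca4 x)
        ((t * t)⁻¹ * cb1 x) ((t)⁻¹ * cb2 x) ((t)⁻¹ * cb3 x) (cb4 x) := by
  unfold wprodY Cfsg.Lie.ChevalleyDatum.hWord Cfsg.Lie.ChevalleyDatum.nWord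
  rw [rel3_neg9]
  simp only [List.map_cons, List.map_nil, List.prod_cons, List.prod_nil, mul_one, List.cons_append, List.nil_append]
  simp only [Yn_2, Yn_9]
  simp only [act_mul]
  simp only [act_X2, act_X3, act_X6, act_X17, act_X20, act_X21]
  apply ext8 <;> simp <;> field_simp <;> ring

theorem rel3_hd10 (t : F) (ht : t ≠ 0) (x : I8 → F) :
    act (Q8 F) (wprodY (Cfsg.Lie.chevG2.hWord 10 t)) x =
      mk8 ((t) * ca1 x) ((1) * ca2 x) ((t) * ca3 x) (ca4 x)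
        ((t)⁻¹ * cb1 x) ((1)⁻¹ * cb2 x) ((t)⁻¹ * cb3 x) (cb4 x) := by
  unfold wprodY Cfsg.Lie.ChevalleyDatum.hWord Cfsg.Lie.ChevalleyDatum.nWord
  rw [rel3_neg10]
  simp only [List.map_cons, List.map_nil, List.prod_cons, List.prod_nil, mul_one, List.cons_append, List.nil_append]
  simp only [Yn_1, Yn_10]
  simp only [act_mul]
  simp only [act_X1, act_X22]
  apply ext8 <;> simp <;> field_simp <;> ring

theorem rel3_hd11 (t : F) (ht : t ≠ 0) (x : I8 → F) :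
    act (Q8 F) (wprodY (Cfsg.Lie.chevG2.hWord 11 t)) x =
      mk8 ((t) * ca1 x) ((t) * ca2 x) ((1) * ca3 x) (ca4 x)
        ((t)⁻¹ * cb1 x) ((t)⁻¹ * cb2 x) ((1)⁻¹ * cb3 x) (cb4 x) := by
  unfold wprodY Cfsg.Lie.ChevalleyDatum.hWord Cfsg.Lie.ChevalleyDatum.nWord
  rw [rel3_neg11]
  simp only [List.map_cons, List.map_nil, List.prod_cons, List.prod_nil, mul_one, List.cons_append, List.nil_append]
  simp only [Yn_0, Yn_11]
  simp only [act_mul]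
  simp only [act_X0, act_X23]
  apply ext8 <;> simp <;> field_simp <;> ring

/-- private copy of the glued statement `act_HY` of the three GT-HDIAG leaves -/
theorem rel3_act_HY (s : Fin 12) (t : F) (ht : t ≠ 0) (x : I8 → F) :
    act (Q8 F) (wprodY (Cfsg.Lie.chevG2.hWord (s : ℕ) t)) x =
      mk8 (hb1 s t * ca1 x) (hb2 s t * ca2 x) (hb3 s t * ca3 x) (ca4 x)
        ((hb1 s t)⁻¹ * cb1 x) ((hb2 s t)⁻¹ * cb2 x) ((hb3 s t)⁻¹ * cb3 x) (cb4 x) := by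
  obtain ⟨s, hs12⟩ := s
  interval_cases s
  · exact rel3_hd0 t ht x
  · exact rel3_hd1 t ht x
  · exact rel3_hd2 t ht x
  · exact rel3_hd3 t ht x
  · exact rel3_hd4 t ht x
  · exact rel3_hd5 t ht x
  · exact rel3_hd6 t ht x
  · exact rel3_hd7 t ht x
  · exact rel3_hd8 t ht x
  · exact rel3_hd9 t ht x
  · exact rel3_hd10 t ht x
  · exact rel3_hd11 t ht x

theorem rel3_hb1_mul (s : Fin 12) (t₁ t₂ : F) : hb1 s (t₁ * t₂) = hb1 s t₁ * hb1 s t₂ := by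
  fin_cases s <;> simp [hb1] <;> ring

theorem rel3_hb2_mul (s : Fin 12) (t₁ t₂ : F) : hb2 s (t₁ * t₂) = hb2 s t₁ * hb2 s t₂ := by
  fin_cases s <;> simp [hb2] <;> ring

theorem rel3_hb3_mul (s : Fin 12) (t₁ t₂ : F) : hb3 s (t₁ * t₂) = hb3 s t₁ * hb3 s t₂ := by
  fin_cases s <;> simp [hb3] <;> ring

/-- GT-REL3 (from `act_HY`, `reflElt_ext`, `hb1..hb3` multiplicative in `t`). Model: helper53's Do_REL3 / Bo_REL3. -/
theorem rel3 (r : ℕ) (hr : r < 12) (t₁ t₂ : F) (h₁ : t₁ ≠ 0) (h₂ : t₂ ≠ 0) :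
    wprodY (Cfsg.Lie.chevG2.hWord r t₁) * wprodY (Cfsg.Lie.chevG2.hWord r t₂)
      = wprodY (Cfsg.Lie.chevG2.hWord r (t₁ * t₂)) := by
  apply reflElt_ext
  intro x
  rw [act_mul]
  have e1 := fun (t : F) (ht : t ≠ 0) (y : I8 → F) => rel3_act_HY (⟨r, hr⟩ : Fin 12) t ht y
  simp only [] at e1
  rw [e1 t₂ h₂, e1 t₁ h₁, e1 (t₁ * t₂) (mul_ne_zero h₁ h₂), rel3_hb1_mul, rel3_hb2_mul, rel3_hb3_mul]
  apply ext8 <;> simp <;> ring

end Cfsg.Agent.Lib.Helper37.Gt
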