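import Mathlib
import Cfsg.Agent.Lib.Helper38.RhDefs

/-! # Rh hive (helper38): leaf RH-T6 `mem_torus_iff` (helper69) -/

set_option autoImplicit false

namespace Cfsg.Agent.Lib.Helper38.Rh

section abstract
variable {G : Type*} [Group G] [Finite G] {N : ℕ}

/-- RH-T6.  The non-identity elements of order dividing `N` are exactly the non-identity elements of the tori. -/
theorem mem_torus_iff (h : TorusHyp G N) (g : G) (hg : g ≠ 1) :
    orderOf g ∣ N ↔ ∃ T : Subgroup G, IsTorus N T ∧ g ∈ T := by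
  constructor
  · intro hN
    have h1 : orderOf g ≠ 1 := fun h1 => hg (orderOf_eq_one_iff.mp h1)
    obtain ⟨p, hp, hpd⟩ := Nat.exists_prime_and_dvd h1
    have h0 : orderOf g ≠ 0 := (orderOf_pos g).ne'
    refine ⟨Subgroup.centralizer ({g ^ (orderOf g / p)} : Set G),
      ⟨g ^ (orderOf g / p), p, hp, dvd_trans hpd hN, orderOf_pow_orderOf_div h0 hpd, rfl⟩, ?_⟩
    rw [Subgroup.mem_centralizer_singleton_iff]
    rw [← pow_succ, ← pow_succ']
  · rintro ⟨T, ⟨x, p, hp, hpN, hx, rfl⟩, hgT⟩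
    exact dvd_trans (Subgroup.orderOf_dvd_natCard _ hgT) (h x p hp hpN hx).2.1

end abstract

end Cfsg.Agent.Lib.Helper38.Rh
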