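import Mathlib
import Cfsg.Agent.Lib.Helper40.OpBNDefs
import Cfsg.Agent.Lib.Helper89.FieldTransfer
import Cfsg.Prelude.Def_Characters

/-! # S2548 hive (helper40, "OpBN"): core of the leaf EXC (`steinberg_two_two`)

The transfer `F ≃ ZMod 2`: `|Ω⁺_4(F)| = |commutator (O⁺_4(ZMod 2))|`.  The group-theoretic input
EXC-W (`|commutator| ∣ 18` for `O⁺_4(ZMod 2) = S_3 ≀ C_2`) and the character-theoretic input EXC-A
are hypotheses of `exc_core`. -/

set_option autoImplicit false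

namespace Cfsg.Agent.Lib.Helper40.OpBN

open Matrix Cfsg

variable {F : Type*} [Field F]

/-- the commutator subgroups of isomorphic groups have the same order -/
theorem exc_card_commutator_congr {G H : Type*} [Group G] [Group H] (e : G ≃* H) :
    Nat.card ↥(commutator G) = Nat.card ↥(commutator H) := by
  have h1 : (commutator G).map e.toMonoidHom = commutator H := by
    rw [commutator_def, commutator_def, Subgroup.map_commutator]
    have : (⊤ : Subgroup G).map e.toMonoidHom = ⊤ := by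
      rw [← MonoidHom.range_eq_map]
      exact MonoidHom.range_eq_top.2 e.surjective
    rw [this]
  rw [← h1]
  exact Nat.card_congr
    ((commutator G).equivMapOfInjective e.toMonoidHom e.injective).toEquiv

/-- `|Ω⁺_4(F)| = |commutator (O⁺_4(ZMod 2))|` for a field `F` with two elements -/
theorem exc_card_omega [Fintype F] (hF : Fintype.card F = 2) :
    Nat.card ↥(Cfsg.Omega F (Cfsg.quadFormPlus 2 F)) =
      Nat.card ↥(commutator ↥(Cfsg.isometryGroup (ZMod 2) (Cfsg.quadFormPlus 2 (ZMod 2)))) := by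
  let σ : ZMod 2 ≃+* F := ZMod.ringEquivOfPrime F Nat.prime_two hF
  have h : ∀ v : Fin 2 ⊕ Fin 2 → ZMod 2,
      Cfsg.quadFormPlus 2 F (σ ∘ v) = σ (Cfsg.quadFormPlus 2 (ZMod 2) v) := by
    intro v
    unfold Cfsg.quadFormPlus
    rw [map_sum]
    apply Finset.sum_congr rfl
    intro i _
    rw [map_mul]
    rfl
  have e := Cfsg.Agent.Lib.Helper89.isometryGroupCongr σ
    (Cfsg.quadFormPlus 2 (ZMod 2)) (Cfsg.quadFormPlus 2 F) h
  exact (exc_card_commutator_congr e).symm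

/-- core of EXC: the statement of `steinberg_two_two` from EXC-W and EXC-A -/
theorem exc_core [Fintype F] (hF : Fintype.card F = 2)
    (hW : Nat.card ↥(commutator ↥(Cfsg.isometryGroup (ZMod 2) (Cfsg.quadFormPlus 2 (ZMod 2)))) ∣ 18)
    (hA : Nat.card ↥(Cfsg.Omega F (Cfsg.quadFormPlus 2 F)) ∣ 18 →
      ∃ χ : Cfsg.POmega F (Cfsg.quadFormPlus 2 F) → ℂ,
        Cfsg.IsIrrCharacter (Cfsg.POmega F (Cfsg.quadFormPlus 2 F)) χ ∧
        ∀ P : Sylow 2 (Cfsg.POmega F (Cfsg.quadFormPlus 2 F)), χ 1 = Nat.card P ∧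
          ∀ x : Cfsg.POmega F (Cfsg.quadFormPlus 2 F), x ∈ P → x ≠ 1 → χ x = 0) :
    ∃ χ : Cfsg.POmega F (Cfsg.quadFormPlus 2 F) → ℂ,
      Cfsg.IsIrrCharacter (Cfsg.POmega F (Cfsg.quadFormPlus 2 F)) χ ∧
      ∀ P : Sylow 2 (Cfsg.POmega F (Cfsg.quadFormPlus 2 F)), χ 1 = Nat.card P ∧
        ∀ x : Cfsg.POmega F (Cfsg.quadFormPlus 2 F), x ∈ P → x ≠ 1 → χ x = 0 := by
  apply hA
  rw [exc_card_omega hF]
  exact hW

end Cfsg.Agent.Lib.Helper40.OpBN
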