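import Mathlib
import Cfsg.Agent.Lib.Helper40.OpBNDefs
import Cfsg.Agent.Lib.Helper69.OpBN_EXCcore
import Cfsg.Agent.Lib.Helper47.OpBN_EXCW
import Cfsg.Agent.Lib.Helper13.OpBN_EXCA
import Cfsg.Agent.S2566

/-! # OPBN-EXC (helper40's S2548 hive): the Steinberg-type character of `PΩ⁺₄(2)`.
Assembly of `exc_core` (helper69), `exc_w` (helper47), `exca_exists_char` (helper13) and `S2566`. -/

set_option autoImplicit false

namespace Cfsg.Agent.Lib.Helper40.OpBN

open Matrix Cfsg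

variable {F : Type*} [Field F] {m : ℕ}

theorem steinberg_two_two [Fintype F] (hF : Fintype.card F = 2) :
    ∃ χ : Cfsg.POmega F (Cfsg.quadFormPlus 2 F) → ℂ,
      Cfsg.IsIrrCharacter (Cfsg.POmega F (Cfsg.quadFormPlus 2 F)) χ ∧
      ∀ P : Sylow 2 (Cfsg.POmega F (Cfsg.quadFormPlus 2 F)), χ 1 = Nat.card P ∧
        ∀ x : Cfsg.POmega F (Cfsg.quadFormPlus 2 F), x ∈ P → x ≠ 1 → χ x = 0 := by
  apply exc_core hF
  · obtain ⟨h72, A, B, hA, hB, hAB, hcomm, hidx, -⟩ := Cfsg.Agent.S2566.result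
    exact exc_w h72 A B hA hB hAB hcomm hidx
  · intro h
    exact exca_exists_char h

end Cfsg.Agent.Lib.Helper40.OpBN
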