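import Cfsg.Agent.Lib.Helper69.Stn_HWWcore
import Cfsg.Agent.Lib.Helper95.Stn_WWW

/-! # Stn hive (S2401, helper41): leaf STN-H-WW `hh_conj_ww` (helper69) -/

set_option autoImplicit false

namespace Cfsg.Agent.Lib.Helper41.Stn

open Matrix

variable {K : Type*} [Field K] {n : ℕ}

/-- STN-H-WW -/
theorem hh_conj_ww (hn : 3 ≤ n) {i j : Fin n} (hij : i ≠ j) {t : K} (ht : t ≠ 0) {k l : Fin n}
    (hkl : k ≠ l) {u : K} (hu : u ≠ 0) :
    hh i j t * ww k l u * (hh i j t)⁻¹ = ww k l (dd i j t k / dd i j t l * u) :=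
  hww_core hij (fun {_} ht {_ _} hkl {_} hu => ww_conj_ww hn hij ht hkl hu) ht hkl hu

end Cfsg.Agent.Lib.Helper41.Stn
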