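import Cfsg.Agent.Lib.Helper43.FwDefs
import Cfsg.Agent.Lib.Helper30.ZStarMain

/-! # Fw hive (S3211, owner helper43): leaf FW-TOP (helper69)

If `j` is an isolated involution of the finite group `G`, then `G = C_G(j) O(G)`: by Glauberman's
`Z*`-theorem (`Helper30.zstar_main`) `u = j (g j g⁻¹)` lies in `O(G)`, it has odd order `2k+1` and is inverted
by `j`, so `m = u^k ∈ O(G)` conjugates `j` to `g j g⁻¹` and `m⁻¹ g ∈ C_G(j)`. -/

set_option autoImplicit false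

namespace Cfsg.Agent.Lib.Helper43.Fw

variable {G : Type*} [Group G] {L₁ L₂ : Subgroup G} {j n : G}

/-- the dihedral computation: if `j² = 1`, `j u j⁻¹ = u⁻¹` and `u^(2k+1) = 1` then `u^k j (u^k)⁻¹ = j u` -/
theorem fwtop_dihedral (j u : G) (hjj : j * j = 1) (hju : j * u = u⁻¹ * j) (k : ℕ)
    (hk : u ^ (2 * k + 1) = 1) : u ^ k * j * (u ^ k)⁻¹ = j * u := by
  have h1 : SemiconjBy j u u⁻¹ := hju
  have h2 : SemiconjBy j (u ^ k) (u⁻¹ ^ k) := h1.pow_right k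
  have h3 : SemiconjBy j (u ^ k)⁻¹ (u⁻¹ ^ k)⁻¹ := h2.inv_right
  have h4 : j * (u ^ k)⁻¹ = u ^ k * j := by
    have := h3.eq
    rw [inv_pow, inv_inv] at this
    exact this
  have h5 : u ^ k * u ^ k = u⁻¹ := by
    rw [← pow_add, eq_inv_iff_mul_eq_one, ← pow_succ, show k + k + 1 = 2 * k + 1 by ring, hk]
  calc u ^ k * j * (u ^ k)⁻¹ = u ^ k * (j * (u ^ k)⁻¹) := by rw [mul_assoc]
    _ = u ^ k * (u ^ k * j) := by rw [h4]
    _ = (u ^ k * u ^ k) * j := by rw [mul_assoc]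
    _ = u⁻¹ * j := by rw [h5]
    _ = j * u := hju.symm

/-- FW-TOP -/
theorem top_of_isolated [Finite G] (j : G) (hiso : Cfsg.IsIsolatedInvolution j) :
    Subgroup.centralizer ({j} : Set G) ⊔ Cfsg.oddCore G = ⊤ := by
  have hjj : j * j = 1 := by
    have := pow_orderOf_eq_one j
    rw [hiso.1, pow_two] at this
    exact this
  have hjinv : j⁻¹ = j := inv_eq_of_mul_eq_one_right hjj
  have hcop : (Nat.card (Cfsg.pPrimeCore 2 G)).Coprime 2 :=
    Cfsg.Agent.Lib.Helper30.pPrimeCore_card_coprime 2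
  have hodd : Odd (Nat.card (Cfsg.pPrimeCore 2 G)) := hcop.odd_of_right
  obtain ⟨k, hk⟩ := hodd
  rw [eq_top_iff]
  intro g _
  -- `u = j * (g * j * g⁻¹)` lies in the odd core
  have hu : j * (g * j * g⁻¹) ∈ Cfsg.pPrimeCore 2 G := by
    have := Cfsg.Agent.Lib.Helper30.zstar_main hiso g
    rw [hjinv] at this
    have e : j * g * j * g⁻¹ = j * (g * j * g⁻¹) := by group
    rw [e] at this
    exact this
  set u := j * (g * j * g⁻¹) with hudef
  have hupow : u ^ (2 * k + 1) = 1 := by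
    have h0 : (⟨u, hu⟩ : ↥(Cfsg.pPrimeCore 2 G)) ^ (Nat.card ↥(Cfsg.pPrimeCore 2 G)) = 1 :=
      pow_card_eq_one'
    have h00 := congrArg Subtype.val h0
    rw [hk] at h00
    simpa only [SubmonoidClass.coe_pow, OneMemClass.coe_one] using h00
  have htt : (g * j * g⁻¹) * (g * j * g⁻¹) = 1 := by
    have : (g * j * g⁻¹) * (g * j * g⁻¹) = g * (j * j) * g⁻¹ := by group
    rw [this, hjj, mul_one, mul_inv_cancel]
  have htinv : (g * j * g⁻¹)⁻¹ = g * j * g⁻¹ := inv_eq_of_mul_eq_one_right htt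
  have hju : j * u = u⁻¹ * j := by
    have e1 : j * u = g * j * g⁻¹ := by
      rw [hudef, ← mul_assoc, hjj, one_mul]
    have e2 : u⁻¹ * j = g * j * g⁻¹ := by
      rw [hudef, mul_inv_rev, htinv, hjinv, mul_assoc, hjj, mul_one]
    rw [e1, e2]
  have hm : u ^ k ∈ Cfsg.pPrimeCore 2 G := Subgroup.pow_mem _ hu k
  have hconj : u ^ k * j * (u ^ k)⁻¹ = g * j * g⁻¹ := by
    rw [fwtop_dihedral j u hjj hju k hupow, hudef, ← mul_assoc, hjj, one_mul]
  have hc : (u ^ k)⁻¹ * g ∈ Subgroup.centralizer ({j} : Set G) := by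
    rw [Subgroup.mem_centralizer_iff]
    intro h hh
    rw [Set.mem_singleton_iff] at hh
    rw [hh]
    -- `j * (m⁻¹ g) = (m⁻¹ g) * j`
    have e1 : j * ((u ^ k)⁻¹ * g) = (u ^ k)⁻¹ * (u ^ k * j * (u ^ k)⁻¹) * g := by group
    have e2 : (u ^ k)⁻¹ * g * j = (u ^ k)⁻¹ * (g * j * g⁻¹) * g := by group
    rw [e1, e2, hconj]
  have hg : g = u ^ k * ((u ^ k)⁻¹ * g) := by group
  rw [hg, sup_comm]
  exact Subgroup.mul_mem_sup hm hc

end Cfsg.Agent.Lib.Helper43.Fw
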