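import Cfsg.Agent.Lib.Helper47.FLDefs

set_option autoImplicit false

/-! # FL hive (helper47, S2863): leaf MOD-CENT (helper69)

`n = y y' y` exchanging `C_V(P)` and `C_V(P')` squares to `-1` on `V = C_V(P) ⊕ C_V(P')`. -/

namespace Cfsg.Agent.Lib.Helper47.FL

section mod

variable {X : Type*} [Group X] {V : Type*} [AddCommGroup V] {ρ : X →* AddMonoid.End V}
  {P : Subgroup X}

/-- quadratic action of the conjugate `cj g P` -/
theorem modcent_quad (h : ModSetup ρ P) (g : X) {y' : X} (hy' : y' ∈ cj g P) (v : V) :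
    ρ y' v - v ∈ fx ρ (cj g P) := by
  obtain ⟨z, hz, rfl⟩ := mem_cj.mp hy'
  have h1 : ρ (g * z * g⁻¹) v - v = ρ g (ρ z (ρ g⁻¹ v) - ρ g⁻¹ v) := by
    rw [map_sub, rho_cancel_inv, rho_mul, rho_mul]
  rw [h1]
  exact rho_mem_fx_cj (h.quad z hz _)

/-- on `C_V(P)`: `n v1 = y' v1 - v1` -/
theorem modcent_V1 (h : ModSetup ρ P) {g : X} (hg : cj g P ≠ P) {y y' : X} (hy : y ∈ P)
    (hy' : y' ∈ cj g P) (h1 : cj (y * y' * y) P = cj g P) {v1 : V} (hv1 : v1 ∈ fx ρ P) :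
    ρ (y * y' * y) v1 = ρ y' v1 - v1 := by
  have hyv : ρ y v1 = v1 := hv1 y hy
  have hm : ρ y' v1 - v1 ∈ fx ρ (cj g P) := modcent_quad h g hy' v1
  have hk : ρ y (ρ y' v1 - v1) - (ρ y' v1 - v1) ∈ fx ρ P := h.quad y hy _
  have hn : ρ (y * y' * y) v1 =
      (ρ y' v1 - v1) + (v1 + (ρ y (ρ y' v1 - v1) - (ρ y' v1 - v1))) := by
    rw [rho_mul, rho_mul, hyv, map_sub, hyv]
    abel
  have hnV2 : ρ (y * y' * y) v1 ∈ fx ρ (cj g P) := by
    have := rho_mem_fx_cj (ρ := ρ) (g := y * y' * y) hv1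
    rwa [h1] at this
  have h2 : v1 + (ρ y (ρ y' v1 - v1) - (ρ y' v1 - v1)) ∈ fx ρ (cj g P) := by
    have := (fx ρ (cj g P)).sub_mem hnV2 hm
    rw [hn, add_sub_cancel_left] at this
    exact this
  have h3 : v1 + (ρ y (ρ y' v1 - v1) - (ρ y' v1 - v1)) ∈ fx ρ P := (fx ρ P).add_mem hv1 hk
  have h0 := h.disj g hg _ h3 h2
  rw [hn, h0, add_zero]

/-- on `C_V(P')`: `n v2 = y v2 - v2` -/
theorem modcent_V2 (h : ModSetup ρ P) {g : X} (hg : cj g P ≠ P) {y y' : X} (hy : y ∈ P)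
    (hy' : y' ∈ cj g P) (h2 : cj (y * y' * y) (cj g P) = P) {v2 : V}
    (hv2 : v2 ∈ fx ρ (cj g P)) :
    ρ (y * y' * y) v2 = ρ y v2 - v2 := by
  have hyv : ρ y' v2 = v2 := hv2 y' hy'
  -- k' = y v2 - v2 ∈ V1
  have hk' : ρ y v2 - v2 ∈ fx ρ P := h.quad y hy v2
  -- m' = y' k' - k' ∈ V2
  have hm' : ρ y' (ρ y v2 - v2) - (ρ y v2 - v2) ∈ fx ρ (cj g P) := modcent_quad h g hy' _
  -- k'' = y m' - m' ∈ V1
  have hk'' : ρ y (ρ y' (ρ y v2 - v2) - (ρ y v2 - v2)) -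
      (ρ y' (ρ y v2 - v2) - (ρ y v2 - v2)) ∈ fx ρ P := h.quad y hy _
  have hyk' : ρ y (ρ y v2 - v2) = ρ y v2 - v2 := hk' y hy
  -- y v2 = v2 + k', y' (v2 + k') = v2 + k' + m', y (v2 + k' + m') = v2 + k' + k' + m' + k''
  have hn : ρ (y * y' * y) v2 =
      (v2 + (ρ y' (ρ y v2 - v2) - (ρ y v2 - v2))) +
        ((ρ y v2 - v2) + (ρ y v2 - v2) +
          (ρ y (ρ y' (ρ y v2 - v2) - (ρ y v2 - v2)) -
            (ρ y' (ρ y v2 - v2) - (ρ y v2 - v2)))) := by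
    have e1 : ρ y' (ρ y v2) = ρ y' (ρ y v2 - v2) + v2 := by
      rw [map_sub, hyv]; abel
    have e2 : ρ y (ρ y' (ρ y v2 - v2)) =
        ρ y (ρ y' (ρ y v2 - v2) - (ρ y v2 - v2)) + (ρ y v2 - v2) := by
      rw [map_sub (ρ y) (ρ y' (ρ y v2 - v2)), hyk']; abel
    rw [rho_mul, rho_mul, e1, map_add, e2]
    abel
  have hnV1 : ρ (y * y' * y) v2 ∈ fx ρ P := by
    have := rho_mem_fx_cj (ρ := ρ) (g := y * y' * y) hv2
    rwa [h2] at this
  have hA : (ρ y v2 - v2) + (ρ y v2 - v2) +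
          (ρ y (ρ y' (ρ y v2 - v2) - (ρ y v2 - v2)) -
            (ρ y' (ρ y v2 - v2) - (ρ y v2 - v2))) ∈ fx ρ P :=
    (fx ρ P).add_mem ((fx ρ P).add_mem hk' hk') hk''
  have h3 : v2 + (ρ y' (ρ y v2 - v2) - (ρ y v2 - v2)) ∈ fx ρ P := by
    have := (fx ρ P).sub_mem hnV1 hA
    rw [hn, add_sub_cancel_right] at this
    exact this
  have h4 : v2 + (ρ y' (ρ y v2 - v2) - (ρ y v2 - v2)) ∈ fx ρ (cj g P) :=
    (fx ρ (cj g P)).add_mem hv2 hm'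
  have h0 := h.disj g hg _ h3 h4
  -- m' = - v2
  have hm'eq : ρ y' (ρ y v2 - v2) - (ρ y v2 - v2) = - v2 := by
    have := eq_neg_of_add_eq_zero_right h0
    exact this
  rw [hn, h0, zero_add, hm'eq, map_neg]
  abel

/-- LEAF MOD-CENT. -/
theorem mod_cent (h : ModSetup ρ P) {g : X} (hg : cj g P ≠ P) {y y' : X} (hy : y ∈ P)
    (hy' : y' ∈ cj g P) (h1 : cj (y * y' * y) P = cj g P) (h2 : cj (y * y' * y) (cj g P) = P) :
    ∀ v : V, ρ ((y * y' * y) * (y * y' * y)) v = -v := by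
  intro v
  obtain ⟨v1, hv1, v2, hv2, rfl⟩ := h.span g hg v
  have hm : ρ y' v1 - v1 ∈ fx ρ (cj g P) := modcent_quad h g hy' v1
  have hk' : ρ y v2 - v2 ∈ fx ρ P := h.quad y hy v2
  have hyv1 : ρ y v1 = v1 := hv1 y hy
  have hyv2 : ρ y' v2 = v2 := hv2 y' hy'
  -- first application
  have a1 := modcent_V1 h hg hy hy' h1 hv1
  have a2 := modcent_V2 h hg hy hy' h2 hv2
  -- second application
  have b1 := modcent_V2 h hg hy hy' h2 hm
  have b2 := modcent_V1 h hg hy hy' h1 hk'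
  -- `n v1 = m` and `n m = y m - m`; also `n m ∈ V1`, and from the proof of V1: need `y m - m = -v1`
  -- use: n (n v1) = y m - m, and n (n v1) + v1 ∈ V1 ∩ V2
  have c1 : ρ (y * y' * y) (ρ (y * y' * y) v1) = - v1 := by
    rw [a1, b1]
    -- goal: ρ y (ρ y' v1 - v1) - (ρ y' v1 - v1) = -v1
    -- from a1: ρ n v1 = ρ y (ρ y' v1) = m  (as ρ y v1 = v1)
    have e : ρ (y * y' * y) v1 = ρ y (ρ y' v1) := by rw [rho_mul, rho_mul, hyv1]
    rw [e] at a1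
    rw [map_sub, a1, hyv1]
    abel
  have c2 : ρ (y * y' * y) (ρ (y * y' * y) v2) = - v2 := by
    rw [a2, b2]
    -- goal: ρ y' (ρ y v2 - v2) - (ρ y v2 - v2) = -v2
    -- from a2: ρ n v2 = ρ y (ρ y' (ρ y v2)) = ρ y v2 - v2, apply ρ y⁻¹ ... use injectivity of ρ y
    have e : ρ (y * y' * y) v2 = ρ y (ρ y' (ρ y v2)) := by rw [rho_mul, rho_mul]
    rw [e] at a2
    have hyk' : ρ y (ρ y v2 - v2) = ρ y v2 - v2 := hk' y hy
    have a3 : ρ y (ρ y' (ρ y v2)) = ρ y (ρ y v2 - v2) := by rw [a2, hyk']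
    have a4 : ρ y' (ρ y v2) = ρ y v2 - v2 := rho_injective ρ y a3
    rw [map_sub, a4, hyv2]
    abel
  rw [rho_mul, map_add, map_add, c1, c2]
  abel

end mod

end Cfsg.Agent.Lib.Helper47.FL
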