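import Mathlib
import Cfsg.Agent.Lib.Helper37.FusDefs
import Cfsg.Agent.Lib.Helper54.FusCDefs

/-!
# FUS-C sub-hive (owner helper54): leaf FUSC-DICH (`dichotomy`)
-/

set_option autoImplicit false

namespace Cfsg.Agent.Lib.Helper37.Fus

open Polynomial

variable {F : Type*} [Field F] {V : Type*} [AddCommGroup V] [Module F V]

/-- powers of a selfadjoint map are selfadjoint -/
theorem dich_adj_pow (B : LinearMap.BilinForm F V) (s : V →ₗ[F] V)
    (hs : ∀ u v, B (s u) v = B u (s v)) (n : ℕ) : ∀ u v, B ((s ^ n) u) v = B u ((s ^ n) v) := by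
  induction n with
  | zero => intro u v; simp
  | succ n ih =>
    intro u v
    rw [pow_succ, Module.End.mul_apply, Module.End.mul_apply, ih, hs]
    rw [← Module.End.mul_apply, ← Module.End.mul_apply, ← pow_succ, ← pow_succ']

/-- polynomials in a selfadjoint map are selfadjoint -/
theorem dich_adj_aeval (B : LinearMap.BilinForm F V) (s : V →ₗ[F] V)
    (hs : ∀ u v, B (s u) v = B u (s v)) (g : F[X]) :
    ∀ u v, B (aeval s g u) v = B u (aeval s g v) := by
  induction g using Polynomial.induction_on' with
  | add p q hp hq =>
    intro u v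
    rw [map_add, LinearMap.add_apply, LinearMap.add_apply, map_add, LinearMap.add_apply, map_add,
      hp, hq]
  | monomial n r =>
    intro u v
    rw [aeval_monomial, Module.algebraMap_end_eq_smul_id]
    simp only [Module.End.mul_apply, LinearMap.smul_apply, LinearMap.id_coe, id_eq, map_smul,
      smul_eq_mul]
    rw [dich_adj_pow B s hs n]

/-- polynomials in `s` commute with whatever commutes with `s` -/
theorem dich_comm_aeval (a s : V →ₗ[F] V) (h : a * s = s * a) (g : F[X]) :
    a * aeval s g = aeval s g * a := by
  have hc : Commute a s := h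
  have : Commute a (aeval s g) := by
    induction g using Polynomial.induction_on' with
    | add p q hp hq =>
      rw [map_add]
      exact hp.add_right hq
    | monomial n r =>
      rw [aeval_monomial]
      exact (Algebra.commute_algebraMap_right r a).mul_right (hc.pow_right n)
  exact this

section Min

variable {B : LinearMap.BilinForm F V} {a a' : V →ₗ[F] V}

theorem dich_adj_a (c : MinCtx B a a') (u v : V) : B (a u) v = B u (a' v) := by
  have h1 : a (a' v) = v := by
    have := LinearMap.congr_fun c.haa' v
    simpa using this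
  conv_lhs => rw [← h1]
  exact c.ha u (a' v)

theorem dich_adj_a' (c : MinCtx B a a') (u v : V) : B (a' u) v = B u (a v) := by
  have h1 : a (a' u) = u := by
    have := LinearMap.congr_fun c.haa' u
    simpa using this
  conv_rhs => rw [← h1]
  exact (c.ha (a' u) v).symm

theorem dich_adj_s (c : MinCtx B a a') (u v : V) : B ((a + a') u) v = B u ((a + a') v) := by
  rw [LinearMap.add_apply, LinearMap.add_apply, map_add, LinearMap.add_apply, map_add,
    dich_adj_a c, dich_adj_a' c, add_comm]

theorem dich_comm_s (c : MinCtx B a a') : a * (a + a') = (a + a') * a := by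
  rw [mul_add, add_mul, c.haa', c.ha'a]

/-- FUSC-DICH. -/
theorem dichotomy [FiniteDimensional F V] (c : MinCtx B a a') (g : F[X]) :
    aeval (a + a') g = 0 ∨ Function.Injective (aeval (a + a') g) := by
  set x : V →ₗ[F] V := aeval (a + a') g with hx
  have hcomm : a * x = x * a := dich_comm_aeval a (a + a') (dich_comm_s c) g
  have hadj : ∀ u v, B (x u) v = B u (x v) := dich_adj_aeval B (a + a') (dich_adj_s c) g
  set K : Submodule F V := LinearMap.ker x with hK
  have hKinv : Inv a K := by
    intro u hu
    rw [hK, LinearMap.mem_ker] at hu ⊢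
    have : x (a u) = a (x u) := by
      have := LinearMap.congr_fun hcomm u
      simpa using this.symm
    rw [this, hu, map_zero]
  -- semisimplicity: `K` and `range x` are complementary
  have hKx : K ∈ Module.End.invtSubmodule x := by
    rw [Module.End.mem_invtSubmodule]
    intro u hu
    rw [Submodule.mem_comap]
    rw [hK, LinearMap.mem_ker] at hu
    rw [hu]
    exact K.zero_mem
  obtain ⟨Q, hQx, hKQ⟩ := (Module.End.isSemisimple_iff.1 (c.hsemi' g)) K hKx
  rw [Module.End.mem_invtSubmodule] at hQx
  have hdisj : Disjoint K (LinearMap.range x) := by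
    rw [Submodule.disjoint_def]
    intro y hyK hyR
    obtain ⟨t, rfl⟩ := LinearMap.mem_range.1 hyR
    have ht : t ∈ K ⊔ Q := by rw [hKQ.sup_eq_top]; trivial
    obtain ⟨k, hk, q', hq', rfl⟩ := Submodule.mem_sup.1 ht
    have hxk : x k = 0 := by
      rw [hK, LinearMap.mem_ker] at hk
      exact hk
    have hxq : x (k + q') = x q' := by rw [map_add, hxk, zero_add]
    rw [hxq] at hyK ⊢
    have hQ' : x q' ∈ Q := hQx hq'
    exact (Submodule.disjoint_def.1 hKQ.disjoint) _ hyK hQ'
  have hsup : K ⊔ LinearMap.range x = ⊤ := by
    apply Submodule.eq_top_of_disjoint _ _ _ hdisj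
    have := LinearMap.finrank_range_add_finrank_ker x
    rw [← hK] at this
    omega
  have hKnd : NondegOn B K := by
    intro u hu huK
    apply c.hnd
    intro v
    have hv : v ∈ K ⊔ LinearMap.range x := by rw [hsup]; trivial
    obtain ⟨k, hk, y, hy, rfl⟩ := Submodule.mem_sup.1 hv
    obtain ⟨t, rfl⟩ := LinearMap.mem_range.1 hy
    have hxu : x u = 0 := by
      rw [hK, LinearMap.mem_ker] at hu
      exact hu
    rw [map_add, huK k hk, zero_add, ← hadj, hxu]
    simp
  rcases c.hmin K hKinv hKnd with h | h
  · right
    exact LinearMap.ker_eq_bot.1 h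
  · left
    exact LinearMap.ker_eq_top.1 h

end Min

end Cfsg.Agent.Lib.Helper37.Fus
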