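import Mathlib
import Cfsg.Agent.Lib.Helper37.FusDefs
import Cfsg.Agent.Lib.Helper54.FusCDefs
import Cfsg.Agent.Lib.Helper69.FusCDICH

/-!
# FUS-C sub-hive (owner helper54): leaf FUSC-CYC (`cyclic_of_aniso`)
-/

set_option autoImplicit false

namespace Cfsg.Agent.Lib.Helper37.Fus

open Polynomial

variable {F : Type*} [Field F] {V : Type*} [AddCommGroup V] [Module F V]

section Min

variable {B : LinearMap.BilinForm F V} {a a' : V →ₗ[F] V}

/-- an invariant subspace of an invertible map is invariant under the inverse -/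
theorem cyc_inv_of_inv [FiniteDimensional F V] (haa' : a * a' = 1) (ha'a : a' * a = 1)
    (U : Submodule F V) (hU : Inv a U) : Inv a' U := by
  let e : V ≃ₗ[F] V := LinearEquiv.ofLinear a a' haa' ha'a
  have hle : U.map (e : V →ₗ[F] V) ≤ U := by
    rintro _ ⟨u, hu, rfl⟩
    exact hU u hu
  have hfr : Module.finrank F ↥(U.map (e : V →ₗ[F] V)) = Module.finrank F ↥U :=
    LinearEquiv.finrank_map_eq e U
  have heq : U.map (e : V →ₗ[F] V) = U := Submodule.eq_of_le_of_finrank_eq hle hfr
  intro u hu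
  rw [← heq] at hu
  obtain ⟨u₀, hu₀, rfl⟩ := hu
  have : a' ((e : V →ₗ[F] V) u₀) = u₀ := by
    show a' (a u₀) = u₀
    have := LinearMap.congr_fun ha'a u₀
    simpa using this
  rw [this]
  exact hu₀

/-- FUSC-CYC. -/
theorem cyclic_of_aniso [FiniteDimensional F V] (c : MinCtx B a a') (w : V) (hw : B w w ≠ 0) :
    Submodule.span F (Set.range fun i : ℕ => (a ^ i) w) = ⊤ := by
  set U : Submodule F V := Submodule.span F (Set.range fun i : ℕ => (a ^ i) w) with hU
  have hwU : w ∈ U := by
    apply Submodule.subset_span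
    exact ⟨0, by simp⟩
  have hUinv : Inv a U := by
    intro u hu
    have hmap : U.map a ≤ U := by
      rw [hU, Submodule.map_span, Submodule.span_le]
      rintro _ ⟨_, ⟨i, rfl⟩, rfl⟩
      apply Submodule.subset_span
      refine ⟨i + 1, ?_⟩
      show (a ^ (i + 1)) w = a ((a ^ i) w)
      rw [pow_succ', Module.End.mul_apply]
    exact hmap ⟨u, hu, by rfl⟩
  have hUinv' : Inv a' U := cyc_inv_of_inv c.haa' c.ha'a U hUinv
  -- the orthogonal complement
  set P : Submodule F V := B.orthogonal U with hP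
  have hmemP : ∀ v, v ∈ P ↔ ∀ u ∈ U, B u v = 0 := by
    intro v
    rw [hP, LinearMap.BilinForm.mem_orthogonal_iff]
  have hPinv : Inv a P := by
    intro v hv
    rw [hmemP] at hv ⊢
    intro u hu
    rw [← dich_adj_a' c]
    exact hv _ (hUinv' u hu)
  set R : Submodule F V := U ⊓ P with hR
  have hRinv : R ∈ Module.End.invtSubmodule a := by
    rw [Module.End.mem_invtSubmodule]
    intro u hu
    rw [Submodule.mem_comap]
    exact Submodule.mem_inf.2 ⟨hUinv u (Submodule.mem_inf.1 hu).1, hPinv u (Submodule.mem_inf.1 hu).2⟩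
  obtain ⟨Q, hQa, hRQ⟩ := (Module.End.isSemisimple_iff.1 c.hsemi) R hRinv
  rw [Module.End.mem_invtSubmodule] at hQa
  set R' : Submodule F V := U ⊓ Q with hR'
  have hR'inv : Inv a R' := by
    intro u hu
    exact Submodule.mem_inf.2 ⟨hUinv u (Submodule.mem_inf.1 hu).1, hQa (Submodule.mem_inf.1 hu).2⟩
  have hRU : R ≤ U := inf_le_left
  have hsup : R ⊔ R' = U := by
    have h1 := sup_inf_assoc_of_le Q hRU
    rw [hRQ.sup_eq_top, top_inf_eq] at h1
    rw [hR', inf_comm U Q]
    exact h1.symm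
  have hR'nd : NondegOn B R' := by
    intro u hu huR'
    have huU : u ∈ U := (Submodule.mem_inf.1 hu).1
    have huQ : u ∈ Q := (Submodule.mem_inf.1 hu).2
    have huP : u ∈ P := by
      rw [hmemP]
      intro u' hu'
      rw [← hsup] at hu'
      obtain ⟨r, hr, r', hr', rfl⟩ := Submodule.mem_sup.1 hu'
      rw [map_add, LinearMap.add_apply, c.hs r' u, huR' r' hr', add_zero, c.hs]
      exact ((hmemP r).1 (Submodule.mem_inf.1 hr).2) u huU
    have huR : u ∈ R := Submodule.mem_inf.2 ⟨huU, huP⟩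
    exact (Submodule.disjoint_def.1 hRQ.disjoint) u huR huQ
  rcases c.hmin R' hR'inv hR'nd with h | h
  · exfalso
    apply hw
    rw [h, sup_bot_eq] at hsup
    have hwR : w ∈ R := by rw [hsup]; exact hwU
    exact ((hmemP w).1 (Submodule.mem_inf.1 hwR).2) w hwU
  · rw [eq_top_iff, ← h]
    exact inf_le_left

end Min

end Cfsg.Agent.Lib.Helper37.Fus
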