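import Mathlib
import Cfsg.Agent.Lib.Helper37.FusDefs
import Cfsg.Agent.Lib.Helper54.FusCDefs
import Cfsg.Agent.Lib.Helper69.FusCDICH

/-!
# FUS-C sub-hive (owner helper54): leaf FUSC-IRR (`minpoly_irreducible`)
-/

set_option autoImplicit false

namespace Cfsg.Agent.Lib.Helper37.Fus

open Polynomial

variable {F : Type*} [Field F] {V : Type*} [AddCommGroup V] [Module F V]

section Min

variable {B : LinearMap.BilinForm F V} {a a' : V →ₗ[F] V}

/-- FUSC-IRR. -/
theorem minpoly_irreducible [FiniteDimensional F V] (c : MinCtx B a a') :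
    Irreducible (minpoly F (a + a')) := by
  obtain ⟨v₀, hv₀⟩ := c.hne
  haveI : Nontrivial (V →ₗ[F] V) :=
    ⟨⟨1, 0, fun h => hv₀ (by simpa using LinearMap.congr_fun h v₀)⟩⟩
  set s : V →ₗ[F] V := a + a' with hs
  have hint : IsIntegral F s := Algebra.IsIntegral.isIntegral s
  have hp0 : minpoly F s ≠ 0 := minpoly.ne_zero hint
  rw [irreducible_iff]
  refine ⟨minpoly.not_isUnit F s, ?_⟩
  intro g h hgh
  have h0 : aeval s g * aeval s h = 0 := by
    rw [← map_mul, ← hgh, minpoly.aeval]
  -- if `p ∣ g` then `h` is a unit (and symmetrically)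
  have key : ∀ g h : F[X], minpoly F s = g * h → aeval s g = 0 → IsUnit h := by
    intro g h hgh hg
    obtain ⟨k, hk⟩ := minpoly.dvd F s hg
    have h1 : minpoly F s * 1 = minpoly F s * (k * h) := by
      rw [mul_one, ← mul_assoc, ← hk]
      exact hgh
    have h2 : 1 = k * h := mul_left_cancel₀ hp0 h1
    exact IsUnit.of_mul_eq_one k (by rw [mul_comm]; exact h2.symm)
  rcases dichotomy c g with hg | hg
  · right
    exact key g h hgh hg
  · left
    apply key h g (by rw [mul_comm]; exact hgh)
    apply LinearMap.ext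
    intro v
    apply hg
    have := LinearMap.congr_fun h0 v
    rw [Module.End.mul_apply] at this
    rw [this]
    simp

end Min

end Cfsg.Agent.Lib.Helper37.Fus
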