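import Mathlib
import Cfsg.Prelude.Def_Local
import Cfsg.Agent.Lib.Helper55.CyclicSylow
import Cfsg.Agent.Lib.Helper32.PPrimeP
import Cfsg.Agent.Lib.Helper2.Basic

set_option autoImplicit false

/-!
# Cyclic Sylow subgroups and normal subgroups (helper69)
-/

namespace Cfsg.Agent.Lib.Helper69

open scoped Pointwise

variable {G : Type*} [Group G]

/-- An element `y` normalizing a cyclic Sylow `p`-subgroup `P` such that all commutators
`[y, u]`, `u ∈ P`, lie in a subgroup `S` not containing `P`, centralizes `P`. -/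
theorem mem_centralizer_of_cyclic_sylow_of_commutator_mem [Finite G] (p : ℕ) [Fact p.Prime]
    (P : Sylow p G) (hcyc : IsCyclic ↥(P : Subgroup G)) (y : G)
    (hy : y ∈ Subgroup.normalizer ((P : Subgroup G) : Set G)) (S : Subgroup G)
    (u₁ : G) (hu₁ : u₁ ∈ (P : Subgroup G)) (hu₁S : u₁ ∉ S)
    (h : ∀ u ∈ (P : Subgroup G), y * u * y⁻¹ * u⁻¹ ∈ S) :
    y ∈ Subgroup.centralizer ((P : Subgroup G) : Set G) := by
  have hconj : ∀ u : ↥(P : Subgroup G), y * u * y⁻¹ ∈ (P : Subgroup G) := fun u =>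
    (Subgroup.mem_normalizer_iff.mp hy u).mp u.2
  let φ : ↥(P : Subgroup G) → ↥(P : Subgroup G) := fun u =>
    ⟨y * u * y⁻¹ * (u : G)⁻¹, mul_mem (hconj u) (inv_mem u.2)⟩
  have hns : ¬ Function.Surjective φ := by
    intro hs
    obtain ⟨u, hu⟩ := hs ⟨u₁, hu₁⟩
    apply hu₁S
    have := congrArg Subtype.val hu
    simp only [φ] at this
    rw [← this]
    exact h u u.2
  have hni : ¬ Function.Injective φ := fun hi => hns (Finite.injective_iff_surjective.mp hi)
  rw [Function.Injective] at hni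
  push Not at hni
  obtain ⟨u, u', huu, hne⟩ := hni
  have e : y * u * y⁻¹ * (u : G)⁻¹ = y * u' * y⁻¹ * (u' : G)⁻¹ := congrArg Subtype.val huu
  have hv : y * ((u' : G)⁻¹ * u) = ((u' : G)⁻¹ * u) * y := by
    have e2 : (y * u' * y⁻¹)⁻¹ * (y * u * y⁻¹) = (u' : G)⁻¹ * u := by
      have : y * u * y⁻¹ = y * u' * y⁻¹ * (u' : G)⁻¹ * u := by
        rw [← e]; group
      rw [this]; group
    have e3 : (y * u' * y⁻¹)⁻¹ * (y * u * y⁻¹) = y * ((u' : G)⁻¹ * u) * y⁻¹ := by group
    rw [e3] at e2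
    calc y * ((u' : G)⁻¹ * u) = y * ((u' : G)⁻¹ * u) * y⁻¹ * y := by group
      _ = ((u' : G)⁻¹ * u) * y := by rw [e2]
  refine Cfsg.Agent.Lib.Helper55.mem_centralizer_of_cyclic_sylow p P hcyc y hy ((u' : G)⁻¹ * u)
    (mul_mem (inv_mem u'.2) u.2) ?_ hv
  intro h1
  apply hne
  have : (u : G) = u' := by
    have := congrArg (fun z => (u' : G) * z) h1
    simpa using this
  exact Subtype.ext this

/-- Let `P` be a cyclic Sylow `p`-subgroup, `H` a normal subgroup not containing `P`.  Every element of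
`H` normalizing `P ⊓ H` centralizes it. -/
theorem cyclic_sylow_inf_normal_core [Finite G] (p : ℕ) [Fact p.Prime] (P : Sylow p G)
    (hcyc : IsCyclic ↥(P : Subgroup G)) (H : Subgroup G) [H.Normal]
    (u₁ : G) (hu₁ : u₁ ∈ (P : Subgroup G)) (hu₁H : u₁ ∉ H)
    (x : G) (hxH : x ∈ H)
    (hx : x ∈ Subgroup.normalizer (((P : Subgroup G) ⊓ H : Subgroup G) : Set G)) :
    x ∈ Subgroup.centralizer (((P : Subgroup G) ⊓ H : Subgroup G) : Set G) := by
  have hIMC : IsMulCommutative ↥(P : Subgroup G) := IsCyclic.isMulCommutative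
  have hPC : (P : Subgroup G) ≤ Subgroup.centralizer ((P : Subgroup G) : Set G) :=
    Subgroup.le_centralizer (P : Subgroup G)
  set Q : Subgroup G := (P : Subgroup G) ⊓ H with hQ
  have hCPQ : Subgroup.centralizer ((P : Subgroup G) : Set G) ≤ Subgroup.centralizer (Q : Set G) :=
    Subgroup.centralizer_le (by intro z hz; exact (Subgroup.mem_inf.mp hz).1)
  set D : Subgroup G := Subgroup.centralizer (Q : Set G) ⊓ ((P : Subgroup G) ⊔ H) with hD
  have hPD : (P : Subgroup G) ≤ D := le_inf (hPC.trans hCPQ) le_sup_left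
  have hHPH : H ≤ (P : Subgroup G) ⊔ H := le_sup_right
  have hPPH : (P : Subgroup G) ≤ (P : Subgroup G) ⊔ H := le_sup_left
  have hxPD : ((x • P : Sylow p G) : Subgroup G) ≤ D := by
    intro z hz
    have hz' : x⁻¹ * z * x ∈ (P : Subgroup G) := (Helper2.mem_smul_sylow_iff P x z).mp hz
    refine Subgroup.mem_inf.mpr ⟨?_, ?_⟩
    · rw [Subgroup.mem_centralizer_iff]
      intro q hq
      have hq' : x⁻¹ * q * x ∈ Q := by
        refine (Subgroup.mem_normalizer_iff.mp hx (x⁻¹ * q * x)).mpr ?_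
        have : x * (x⁻¹ * q * x) * x⁻¹ = q := by group
        rw [this]; exact hq
      have hc := hCPQ (hPC hz') (x⁻¹ * q * x) hq'
      have h2 : x * ((x⁻¹ * q * x) * (x⁻¹ * z * x)) * x⁻¹ =
          x * ((x⁻¹ * z * x) * (x⁻¹ * q * x)) * x⁻¹ := by rw [hc]
      have h3 : x * ((x⁻¹ * q * x) * (x⁻¹ * z * x)) * x⁻¹ = q * z := by group
      have h4 : x * ((x⁻¹ * z * x) * (x⁻¹ * q * x)) * x⁻¹ = z * q := by group
      rw [h3, h4] at h2
      exact h2
    · have : z = x * (x⁻¹ * z * x) * x⁻¹ := by group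
      rw [this]
      exact mul_mem (mul_mem (hHPH hxH) (hPPH hz')) (inv_mem (hHPH hxH))
  obtain ⟨c, hcD, hc⟩ := Helper2.sylow_conj_in_subgroup P (x • P) D hPD hxPD
  have hn : c * x ∈ Subgroup.normalizer ((P : Subgroup G) : Set G) := by
    refine Sylow.smul_eq_iff_mem_normalizer.mp ?_
    rw [mul_smul]; exact hc
  have hcD' := Subgroup.mem_inf.mp hcD
  have hnPH : c * x ∈ (P : Subgroup G) ⊔ H := mul_mem hcD'.2 (hHPH hxH)
  have hmem : c * x ∈ ((P : Subgroup G) : Set G) * (H : Set G) := by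
    rw [← Subgroup.mul_normal]; exact hnPH
  obtain ⟨u, hu, y, hyH, huy⟩ := Set.mem_mul.mp hmem
  have hyN : y ∈ Subgroup.normalizer ((P : Subgroup G) : Set G) := by
    have : y = u⁻¹ * (c * x) := by rw [← huy]; group
    rw [this]
    exact mul_mem (inv_mem (Subgroup.le_normalizer hu)) hn
  have hyC : y ∈ Subgroup.centralizer ((P : Subgroup G) : Set G) := by
    apply mem_centralizer_of_cyclic_sylow_of_commutator_mem p P hcyc y hyN Q u₁ hu₁
      (fun h => hu₁H (Subgroup.mem_inf.mp h).2)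
    intro v hv
    refine Subgroup.mem_inf.mpr ⟨?_, ?_⟩
    · exact mul_mem ((Subgroup.mem_normalizer_iff.mp hyN v).mp hv) (inv_mem hv)
    · have : y * v * y⁻¹ * v⁻¹ = y * (v * y⁻¹ * v⁻¹) := by group
      rw [this]
      exact mul_mem hyH (Subgroup.Normal.conj_mem inferInstance y⁻¹ (inv_mem hyH) v)
  have hxe : x = c⁻¹ * (u * y) := by rw [huy]; group
  rw [hxe]
  exact mul_mem (inv_mem hcD'.1) (mul_mem (hCPQ (hPC hu)) (hCPQ hyC))

/-- A subgroup `K` of a normal subgroup `M` which is normal in `M` and of order prime to its index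
in `M` is normal in the whole group. -/
theorem normal_of_normal_subgroupOf_of_coprime (K M : Subgroup G) [M.Normal] (hKM : K ≤ M)
    (hn : (K.subgroupOf M).Normal) (hc : (Nat.card K).Coprime (K.relIndex M)) : K.Normal := by
  constructor
  intro n hn' g
  have hzM : g * n * g⁻¹ ∈ M := Subgroup.Normal.conj_mem inferInstance n (hKM hn') g
  have h1 : (g * n * g⁻¹) ^ (Nat.card K) = 1 := by
    rw [conj_pow]
    have h0 : n ^ Nat.card K = 1 := by
      have := pow_card_eq_one' (G := K) (x := ⟨n, hn'⟩)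
      exact congrArg Subtype.val this
    rw [h0]; group
  have h2 : (g * n * g⁻¹) ^ (K.relIndex M) ∈ K := by
    have := Subgroup.pow_index_mem (K.subgroupOf M) (⟨g * n * g⁻¹, hzM⟩ : M)
    rw [Subgroup.mem_subgroupOf, Subgroup.coe_pow] at this
    exact this
  have hb := Nat.gcd_eq_gcd_ab (Nat.card K) (K.relIndex M)
  rw [hc] at hb
  have h3 : g * n * g⁻¹ = ((g * n * g⁻¹) ^ (Nat.card K)) ^ (Nat.gcdA (Nat.card K) (K.relIndex M)) *
      ((g * n * g⁻¹) ^ (K.relIndex M)) ^ (Nat.gcdB (Nat.card K) (K.relIndex M)) := by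
    rw [← zpow_natCast, ← zpow_natCast, ← zpow_mul, ← zpow_mul, ← zpow_add, ← hb]
    simp
  rw [h3, h1, one_zpow, one_mul]
  exact K.zpow_mem h2 _

/-- Burnside's transfer theorem inside a normal subgroup `M` of `G`: if `R ≤ M` is a `p`-subgroup of
index prime to `p` in `M` and `N_M(R) ≤ C_M(R)`, then `M` has a normal `p`-complement, which is normal
in `G`. -/
theorem burnside_in_normal_subgroup [Finite G] (p : ℕ) [Fact p.Prime] (M : Subgroup G) [M.Normal]
    (R : Subgroup G) (hRM : R ≤ M) (hR : IsPGroup p R) (hidx : ¬ p ∣ R.relIndex M)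
    (hNC : ∀ x ∈ M, x ∈ Subgroup.normalizer (R : Set G) → x ∈ Subgroup.centralizer (R : Set G)) :
    ∃ (QS : Sylow p ↥M) (N : Subgroup ↥M), (QS : Subgroup ↥M) = R.subgroupOf M ∧ N.Normal ∧
      N.IsComplement' QS ∧ (N.map M.subtype).Normal ∧ (Nat.card (N.map M.subtype)).Coprime p ∧
      (N.map M.subtype).relIndex M = Nat.card R := by
  let QS : Sylow p ↥M := (hR.comap_subtype (K := M)).toSylow hidx
  have hQS : (QS : Subgroup ↥M) = R.subgroupOf M := rfl
  have hNC' : Subgroup.normalizer ((QS : Subgroup ↥M) : Set ↥M) ≤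
      Subgroup.centralizer ((QS : Subgroup ↥M) : Set ↥M) := by
    intro x hx
    rw [hQS, ← Subgroup.subgroupOf_normalizer_eq hRM, Subgroup.mem_subgroupOf] at hx
    have h2 := hNC x x.2 hx
    rw [Subgroup.mem_centralizer_iff]
    intro q hq
    rw [SetLike.mem_coe, hQS, Subgroup.mem_subgroupOf] at hq
    have := h2 (q : G) hq
    exact Subtype.ext (by simpa using this)
  set N : Subgroup ↥M := (MonoidHom.transferSylow QS hNC').ker with hN
  have hcompl : N.IsComplement' QS := MonoidHom.ker_transferSylow_isComplement' QS hNC'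
  have hNcard : ¬ p ∣ Nat.card N := MonoidHom.not_dvd_card_ker_transferSylow QS hNC'
  have hmapcard : Nat.card (N.map M.subtype) = Nat.card N :=
    Subgroup.card_map_of_injective M.subtype_injective
  have hsub : (N.map M.subtype).subgroupOf M = N :=
    Subgroup.comap_map_eq_self_of_injective M.subtype_injective N
  have hQScard : Nat.card (QS : Subgroup ↥M) = Nat.card R := by
    rw [hQS]
    exact Nat.card_congr (Subgroup.subgroupOfEquivOfLe hRM).toEquiv
  have hrel : (N.map M.subtype).relIndex M = Nat.card R := by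
    rw [Subgroup.relIndex, hsub, hcompl.symm.index_eq_card, hQScard]
  have hcop : (Nat.card (N.map M.subtype)).Coprime p := by
    rw [hmapcard]
    exact ((Nat.Prime.coprime_iff_not_dvd Fact.out).mpr hNcard).symm
  have hle : N.map M.subtype ≤ M := by
    rintro _ ⟨z, -, rfl⟩
    exact z.2
  have hnorm : (N.map M.subtype).Normal := by
    apply normal_of_normal_subgroupOf_of_coprime (N.map M.subtype) M hle
    · rw [hsub]; infer_instance
    · rw [hrel]
      obtain ⟨n, hn⟩ := IsPGroup.iff_card.mp hR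
      rw [hn]
      exact Nat.Coprime.pow_right n hcop
  exact ⟨QS, N, hQS, inferInstance, hcompl, hnorm, hcop, hrel⟩

/-- A normal series `⊥ ≤ K ≤ C ≤ ⊤` with factors `p'`, `p`, `p'` witnesses `p`-solvability. -/
theorem isPSolvable_of_chain3 (p : ℕ) (K C : Subgroup G) [hK : K.Normal] [hC : C.Normal] (hKC : K ≤ C)
    (h0 : (Nat.card K).Coprime p) (h1 : ∃ m : ℕ, K.relIndex C = p ^ m) (h2 : C.index.Coprime p) :
    Cfsg.IsPSolvable p G := by
  refine ⟨3, ![⊥, K, C, ⊤], rfl, rfl, ?_, ?_, ?_⟩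
  · rw [Fin.monotone_iff_le_succ]
    intro i
    fin_cases i
    · exact bot_le
    · exact hKC
    · exact le_top
  · intro i
    fin_cases i
    · exact Subgroup.normal_bot
    · exact hK
    · exact hC
    · exact Subgroup.normal_top
  · intro i
    fin_cases i
    · right
      simpa using h0
    · left
      simpa using h1
    · right
      simpa using h2

/-- If `P` is a cyclic Sylow `p`-subgroup, `H` is a normal subgroup meeting `P` nontrivially and
`H = K (P ⊓ H)` for a normal `p'`-subgroup `K` of `G`, then `G` is `p`-solvable. -/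
theorem isPSolvable_of_cyclic_sylow_of_normal_pComplement [Finite G] (p : ℕ) [Fact p.Prime]
    (P : Sylow p G) (hcyc : IsCyclic ↥(P : Subgroup G)) (H : Subgroup G) [H.Normal]
    (K : Subgroup G) [K.Normal] (hKcop : (Nat.card K).Coprime p)
    (hdec : ∀ h ∈ H, ∃ k ∈ K, ∃ q ∈ (P : Subgroup G), h = k * q)
    (q₀ : G) (hq₀P : q₀ ∈ (P : Subgroup G)) (hq₀H : q₀ ∈ H) (hq₀ : q₀ ≠ 1) :
    Cfsg.IsPSolvable p G := by
  have hIMC : IsMulCommutative ↥(P : Subgroup G) := IsCyclic.isMulCommutative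
  have hPC : (P : Subgroup G) ≤ Subgroup.centralizer ((P : Subgroup G) : Set G) :=
    Subgroup.le_centralizer (P : Subgroup G)
  set π := QuotientGroup.mk' K with hπ
  have hHmapN : (H.map π).Normal :=
    Subgroup.Normal.map inferInstance π (QuotientGroup.mk'_surjective K)
  set C₁ : Subgroup G :=
    (Subgroup.centralizer ((H.map π : Subgroup (G ⧸ K)) : Set (G ⧸ K))).comap π with hC₁
  have hC₁n : C₁.Normal := Subgroup.Normal.comap Subgroup.normal_centralizer π
  have hPC₁ : (P : Subgroup G) ≤ C₁ := by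
    intro u hu
    rw [hC₁, Subgroup.mem_comap, Subgroup.mem_centralizer_iff]
    rintro _ ⟨h, hh, rfl⟩
    obtain ⟨k, hk, q, hq, rfl⟩ := hdec h hh
    have hk1 : π k = 1 := (QuotientGroup.eq_one_iff k).mpr hk
    have hqu : q * u = u * q := hPC hu q hq
    rw [map_mul, hk1, one_mul, ← map_mul, ← map_mul, hqu]
  have hKP : K ⊓ (P : Subgroup G) = ⊥ := by
    apply disjoint_iff.mp
    apply Subgroup.disjoint_of_coprime_natCard
    obtain ⟨n, hn⟩ := IsPGroup.iff_card.mp P.2
    rw [hn]; exact Nat.Coprime.pow_right n hKcop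
  have hNC : ∀ y ∈ C₁, y ∈ Subgroup.normalizer ((P : Subgroup G) : Set G) →
      y ∈ Subgroup.centralizer ((P : Subgroup G) : Set G) := by
    intro y hyC hyN
    have h1 : π q₀ * π y = π y * π q₀ := by
      rw [hC₁, Subgroup.mem_comap, Subgroup.mem_centralizer_iff] at hyC
      exact hyC (π q₀) ⟨q₀, hq₀H, rfl⟩
    rw [← map_mul, ← map_mul] at h1
    have h2 : (q₀ * y)⁻¹ * (y * q₀) ∈ K := QuotientGroup.eq.mp h1
    have h3 : (q₀ * y)⁻¹ * (y * q₀) ∈ (P : Subgroup G) := by
      have : (q₀ * y)⁻¹ * (y * q₀) = (y⁻¹ * q₀⁻¹ * y⁻¹⁻¹) * q₀ := by group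
      rw [this]
      exact mul_mem ((Subgroup.mem_normalizer_iff.mp (inv_mem hyN) q₀⁻¹).mp (inv_mem hq₀P)) hq₀P
    have h4 : (q₀ * y)⁻¹ * (y * q₀) = 1 := by
      have : (q₀ * y)⁻¹ * (y * q₀) ∈ K ⊓ (P : Subgroup G) := Subgroup.mem_inf.mpr ⟨h2, h3⟩
      rw [hKP] at this; exact Subgroup.mem_bot.mp this
    have h5 : y * q₀ = q₀ * y := (inv_mul_eq_one.mp h4).symm
    exact Cfsg.Agent.Lib.Helper55.mem_centralizer_of_cyclic_sylow p P hcyc y hyN q₀ hq₀P hq₀ h5
  obtain ⟨QS₁, N₁, hQS₁, hN₁n, hcompl₁, hK₁n, hK₁cop, hK₁rel⟩ :=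
    burnside_in_normal_subgroup p C₁ P hPC₁ P.2
      (fun h => P.not_dvd_index (h.trans (Subgroup.relIndex_dvd_index_of_le hPC₁))) hNC
  have hK₁le : N₁.map C₁.subtype ≤ C₁ := by
    rintro _ ⟨z, -, rfl⟩
    exact z.2
  refine isPSolvable_of_chain3 p (N₁.map C₁.subtype) C₁ hK₁le hK₁cop ?_ ?_
  · rw [hK₁rel]; exact IsPGroup.iff_card.mp P.2
  · have h3 : ¬ p ∣ C₁.index := fun h => P.not_dvd_index (h.trans (Subgroup.index_dvd_of_le hPC₁))
    exact ((Nat.Prime.coprime_iff_not_dvd Fact.out).mpr h3).symm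

end Cfsg.Agent.Lib.Helper69
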