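import Mathlib
import Cfsg.Agent.Lib.Helper6.Nc.Defs
import Cfsg.Agent.Lib.Helper6.Nc.Leaves

/-! # Nc hive (S3894, helper6): leaf NC-CASE2B1 `nc_case2B1` (helper69)

`n = 2`, `Gh` strictly bigger than `Z·SL₂`: the members containing the two unipotents `uUg`, `uLg` are distinct and both
lie in `Z·SL₂`; merge them. Uses the leaves NC-NFP, NC-ITER, NC-MERGE, NC-U2, NC-F2 as black boxes. -/

set_option autoImplicit false

namespace Cfsg.Agent.Lib.Helper6.Nc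

open Matrix

variable {F : Type*} [Field F]

/-- NC-CASE2B1. -/
theorem nc_case2B1 (Gh : Subgroup (GL (Fin 2) F))
    (hSL : (Matrix.SpecialLinearGroup.toGL :
      Matrix.SpecialLinearGroup (Fin 2) F →* GL (Fin 2) F).range ≤ Gh)
    (AA : Finset (Subgroup (GL (Fin 2) F))) (h : MinNilCover Gh AA)
    (hne : ¬ Gh ≤ Lh 2 F) : False := by
  have hU : uUg F ∈ Gh := hSL ⟨uU F, rfl⟩
  have hL : uLg F ∈ Gh := hSL ⟨uL F, rfl⟩
  obtain ⟨A₁, hA₁, hu₁⟩ := h.cover.covers _ hU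
  obtain ⟨A₂, hA₂, hu₂⟩ := h.cover.covers _ hL
  -- the two members stabilise a line
  have h1 : A₁ ≤ lineStab ![(1 : F), 0] :=
    nc_nfp A₁ (lineStab ![(1 : F), 0]) (h.nilp A₁ hA₁) (uUg F) hu₁ uUg_mem (fun g _ hg => uUg_unique g hg)
  have h2 : A₂ ≤ lineStab ![(0 : F), 1] :=
    nc_nfp A₂ (lineStab ![(0 : F), 1]) (h.nilp A₂ hA₂) (uLg F) hu₂ uLg_mem (fun g _ hg => uLg_unique g hg)
  -- and lie in `Z · SL₂`
  have h1L : A₁ ≤ Lh 2 F := fun g hg =>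
    uU_iter g (h1 hg) (nc_iter A₁ (h.nilp A₁ hA₁) g (uUg F) hg hu₁)
  have h2L : A₂ ≤ Lh 2 F := fun g hg =>
    uL_iter g (h2 hg) (nc_iter A₂ (h.nilp A₂ hA₂) g (uLg F) hg hu₂)
  -- they are distinct
  have hneq : A₁ ≠ A₂ := by
    intro he
    apply uLg_not_mem_e0 (F := F)
    apply h1
    rw [he]
    exact hu₂
  exact nc_merge h A₁ A₂ (Lh 2 F) hA₁ hA₂ hneq le_sup_left hne h1L h2L

end Cfsg.Agent.Lib.Helper6.Nc
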