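import Mathlib
import Cfsg.Agent.Lib.Helper94.Iso8bDefs
import Cfsg.Agent.Lib.Helper8.OrthFormsMinus

/-!
# Iso8b hive (S3590, owner helper94): core of the leaf ISO8B-D3 (`refl_gen`)

Cartan–Dieudonné in characteristic 2 for a tower of hyperbolic planes over an anisotropic plane;
`d3_core` is `refl_gen` with the leaf ISO8B-D2 (`refl_trans`) as a hypothesis.
-/

set_option autoImplicit false

namespace Cfsg.Agent.Lib.Helper94.Iso8

open Module QuadraticMap Cfsg.Agent.Lib.Helper43

universe u v w

section lift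
variable {F : Type v} [Field F] {V : Type u} [AddCommGroup V] [Module F V]
variable {Q : QuadraticForm F V} {e f : V}

/-- the lift of an endomorphism of `perp2 Q e f` to `V`, the identity on `e`, `f` -/
noncomputable def d3_upLin (h : IsHypPair Q e f) (k : perp2 Q e f →ₗ[F] perp2 Q e f) :
    V →ₗ[F] V :=
  (polarBilin Q f).smulRight e + (polarBilin Q e).smulRight f +
    (perp2 Q e f).subtype ∘ₗ k ∘ₗ h.proj

theorem d3_upLin_apply (h : IsHypPair Q e f) (k : perp2 Q e f →ₗ[F] perp2 Q e f) (v : V) :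
    d3_upLin h k v =
      polar Q f v • e + polar Q e v • f + ((k (h.proj v) : perp2 Q e f) : V) := by
  rfl

theorem d3_upLin_pres (h : IsHypPair Q e f) (k : perp2 Q e f →ₗ[F] perp2 Q e f)
    (hk : ∀ w : perp2 Q e f, Q ((k w : perp2 Q e f) : V) = Q (w : V)) (v : V) :
    Q (d3_upLin h k v) = Q v := by
  rw [d3_upLin_apply, h.q_comb, h.q_eq v, hk]

theorem d3_upLin_comp (h : IsHypPair Q e f) (a b : perp2 Q e f →ₗ[F] perp2 Q e f) (v : V) :
    d3_upLin h a (d3_upLin h b v) = d3_upLin h (a ∘ₗ b) v := by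
  rw [d3_upLin_apply h b v, d3_upLin_apply h a, h.polar_f_comb, h.polar_e_comb, h.proj_comb,
    d3_upLin_apply]
  rfl

theorem d3_upLin_id (h : IsHypPair Q e f) (v : V) : d3_upLin h LinearMap.id v = v := by
  rw [d3_upLin_apply]
  exact (h.decomp v).symm

variable [FiniteDimensional F V]

/-- the lift of an isometry of `perp2 Q e f` to an isometry of `V` fixing `e`, `f` -/
noncomputable def d3_up (hQ : (polarBilin Q).Nondegenerate) (h : IsHypPair Q e f)
    (k : OG (Q.comp (perp2 Q e f).subtype)) : OG Q :=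
  ⟨Cfsg.Agent.Lib.Helper8.quadEquiv Q hQ
      (d3_upLin h (k.1 : perp2 Q e f →ₗ[F] perp2 Q e f))
      (fun v => d3_upLin_pres h _ (fun w => k.2 w) v), by
    intro v
    rw [Cfsg.Agent.Lib.Helper8.quadEquiv_apply]
    exact d3_upLin_pres h _ (fun w => k.2 w) v⟩

theorem d3_up_apply (hQ : (polarBilin Q).Nondegenerate) (h : IsHypPair Q e f)
    (k : OG (Q.comp (perp2 Q e f).subtype)) (v : V) :
    (d3_up hQ h k).1 v =
      polar Q f v • e + polar Q e v • f + ((k.1 (h.proj v) : perp2 Q e f) : V) := by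
  exact Eq.trans (Cfsg.Agent.Lib.Helper8.quadEquiv_apply Q hQ
    (d3_upLin h (k.1 : perp2 Q e f →ₗ[F] perp2 Q e f))
    (fun v => d3_upLin_pres h _ (fun w => k.2 w) v) v) (d3_upLin_apply h _ v)

theorem d3_up_mul (hQ : (polarBilin Q).Nondegenerate) (h : IsHypPair Q e f)
    (a b : OG (Q.comp (perp2 Q e f).subtype)) :
    d3_up hQ h (a * b) = d3_up hQ h a * d3_up hQ h b := by
  apply Subtype.ext
  apply LinearEquiv.ext
  intro v
  show (d3_up hQ h (a * b)).1 v = (d3_up hQ h a).1 ((d3_up hQ h b).1 v)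
  rw [d3_up_apply hQ h b v, d3_up_apply hQ h a, h.polar_f_comb, h.polar_e_comb, h.proj_comb,
    d3_up_apply]
  rfl

theorem d3_up_one (hQ : (polarBilin Q).Nondegenerate) (h : IsHypPair Q e f) :
    d3_up hQ h 1 = 1 := by
  apply Subtype.ext
  apply LinearEquiv.ext
  intro v
  show (d3_up hQ h 1).1 v = v
  rw [d3_up_apply]
  exact (h.decomp v).symm

theorem d3_up_inv (hQ : (polarBilin Q).Nondegenerate) (h : IsHypPair Q e f)
    (a : OG (Q.comp (perp2 Q e f).subtype)) :
    d3_up hQ h a⁻¹ = (d3_up hQ h a)⁻¹ := by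
  apply eq_inv_of_mul_eq_one_left
  rw [← d3_up_mul, inv_mul_cancel, d3_up_one]

theorem d3_up_otv (h2 : (2 : F) = 0) (hQ : (polarBilin Q).Nondegenerate) (h : IsHypPair Q e f)
    (w : perp2 Q e f) (hw : Q (w : V) ≠ 0) :
    d3_up hQ h (otv h2 (Q.comp (perp2 Q e f).subtype) w hw) = otv h2 Q (w : V) hw := by
  apply Subtype.ext
  apply LinearEquiv.ext
  intro v
  show (d3_up hQ h (otv h2 (Q.comp (perp2 Q e f).subtype) w hw)).1 v = (otv h2 Q (w : V) hw).1 v
  rw [d3_up_apply, otv_apply h2 Q (w : V) hw v,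
    otv_apply h2 (Q.comp (perp2 Q e f).subtype) w hw (h.proj v), polar_comp_subtype]
  have hQw : (Q.comp (perp2 Q e f).subtype) w = Q (w : V) := rfl
  have hpol : polar Q (w : V) ((h.proj v : perp2 Q e f) : V) = polar Q (w : V) v := by
    rw [h.proj_coe, polar_sub_right, polar_sub_right, polar_smul_right, polar_smul_right,
      polar_comm Q (w : V) e, polar_comm Q (w : V) f, h.polar_e_mem, h.polar_f_mem]
    simp
  rw [hQw, hpol, Submodule.coe_add, Submodule.coe_smul]
  generalize (Q (w : V))⁻¹ * polar Q (w : V) v = c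
  have hdec := h.decomp v
  calc polar Q f v • e + polar Q e v • f + (((h.proj v : perp2 Q e f) : V) + c • (w : V))
      = (polar Q f v • e + polar Q e v • f + ((h.proj v : perp2 Q e f) : V)) + c • (w : V) := by
        abel
    _ = v + c • (w : V) := by rw [← hdec]

theorem d3_up_mem_closure (h2 : (2 : F) = 0) (hQ : (polarBilin Q).Nondegenerate)
    (h : IsHypPair Q e f) (k : OG (Q.comp (perp2 Q e f).subtype))
    (hk : k ∈ Subgroup.closure (reflSet h2 (Q.comp (perp2 Q e f).subtype))) :
    d3_up hQ h k ∈ Subgroup.closure (reflSet h2 Q) := by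
  induction hk using Subgroup.closure_induction with
  | mem x hx =>
    obtain ⟨w, hw, rfl⟩ := hx
    have hw' : Q (w : V) ≠ 0 := hw
    rw [d3_up_otv h2 hQ h w hw']
    exact Subgroup.subset_closure ⟨(w : V), hw', by rfl⟩
  | one =>
    rw [d3_up_one]
    exact Subgroup.one_mem _
  | mul x y _ _ hx hy =>
    rw [d3_up_mul]
    exact Subgroup.mul_mem _ hx hy
  | inv x _ hx =>
    rw [d3_up_inv]
    exact Subgroup.inv_mem _ hx

/-- an isometry fixing `e`, `f` is the lift of its restriction to `perp2 Q e f` -/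
theorem d3_exists_down (hQ : (polarBilin Q).Nondegenerate) (h : IsHypPair Q e f) (g : OG Q)
    (hge : g.1 e = e) (hgf : g.1 f = f) :
    ∃ k : OG (Q.comp (perp2 Q e f).subtype), d3_up hQ h k = g := by
  have hndW : (polarBilin (Q.comp (perp2 Q e f).subtype)).Nondegenerate :=
    nondegenerate_comp_subtype Q _ (perp2_separating Q hQ e f h.qe h.qf h.ef)
  have hmem : ∀ w ∈ perp2 Q e f, (g.1 : V →ₗ[F] V) w ∈ perp2 Q e f := by
    intro w hw
    rw [mem_perp2] at hw ⊢
    constructor
    · have := OG_polar Q g e w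
      rw [hge] at this
      rw [LinearEquiv.coe_coe, this]
      exact hw.1
    · have := OG_polar Q g f w
      rw [hgf] at this
      rw [LinearEquiv.coe_coe, this]
      exact hw.2
  let res : perp2 Q e f →ₗ[F] perp2 Q e f := (g.1 : V →ₗ[F] V).restrict hmem
  have res_coe : ∀ w : perp2 Q e f, ((res w : perp2 Q e f) : V) = g.1 (w : V) := fun w => rfl
  have res_pres : ∀ w : perp2 Q e f,
      (Q.comp (perp2 Q e f).subtype) (res w) = (Q.comp (perp2 Q e f).subtype) w := by
    intro w
    show Q ((res w : perp2 Q e f) : V) = Q (w : V)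
    rw [res_coe]
    exact g.2 w
  let k : OG (Q.comp (perp2 Q e f).subtype) :=
    ⟨Cfsg.Agent.Lib.Helper8.quadEquiv _ hndW res res_pres, by
      intro w
      rw [Cfsg.Agent.Lib.Helper8.quadEquiv_apply]
      exact res_pres w⟩
  have k_apply : ∀ w : perp2 Q e f, ((k.1 w : perp2 Q e f) : V) = g.1 (w : V) := by
    intro w
    show ((Cfsg.Agent.Lib.Helper8.quadEquiv _ hndW res res_pres w : perp2 Q e f) : V) = _
    rw [Cfsg.Agent.Lib.Helper8.quadEquiv_apply]
    exact res_coe w
  refine ⟨k, ?_⟩
  apply Subtype.ext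
  apply LinearEquiv.ext
  intro v
  show (d3_up hQ h k).1 v = g.1 v
  rw [d3_up_apply, k_apply]
  conv_rhs => rw [h.decomp v, map_add, map_add, map_smul, map_smul, hge, hgf]

end lift

section plane
variable {F : Type v} [Field F] {V : Type u} [AddCommGroup V] [Module F V]
  [FiniteDimensional F V]

theorem d3_two_smul (h2 : (2 : F) = 0) (x : V) : x + x = 0 := by
  rw [← two_smul F x, h2, zero_smul]

theorem d3_polar_self (h2 : (2 : F) = 0) (Q : QuadraticForm F V) (x : V) : polar Q x x = 0 := by
  rw [polar_self, two_smul, ← two_mul, h2, zero_mul]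

/-- in an anisotropic plane an isometry fixing a nonzero vector `x` is `1` or the transvection
along `x` -/
theorem d3_plane_fix (h2 : (2 : F) = 0) (Q : QuadraticForm F V)
    (hnd : (polarBilin Q).Nondegenerate) (han : ∀ v, Q v = 0 → v = 0) (hd : finrank F V = 2)
    (x : V) (hx : x ≠ 0) (g : OG Q) (hgx : g.1 x = x) :
    g ∈ Subgroup.closure (reflSet h2 Q) := by
  classical
  have hQx : Q x ≠ 0 := fun h => hx (han x h)
  -- a partner `y` with `polar Q x y = 1`
  obtain ⟨y₀, hy₀⟩ : ∃ y₀, polar Q x y₀ ≠ 0 := by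
    by_contra hcon
    push Not at hcon
    exact hx (hnd.1 x (fun y => hcon y))
  set y : V := (polar Q x y₀)⁻¹ • y₀ with hy
  have hxy : polar Q x y = 1 := by
    rw [hy, polar_smul_right, smul_eq_mul, inv_mul_cancel₀ hy₀]
  have hyx : polar Q y x = 1 := by rw [polar_comm]; exact hxy
  have hxx : polar Q x x = 0 := d3_polar_self h2 Q x
  have hyy : polar Q y y = 0 := d3_polar_self h2 Q y
  have hli : LinearIndependent F ![x, y] := by
    apply linearIndependent_of_dual Q ![x, y] ![y, x]
    intro j k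
    fin_cases j <;> fin_cases k
    · simpa using hyx
    · simpa using hyy
    · simpa using hxx
    · simpa using hxy
  have hspan : Submodule.span F (Set.range ![x, y]) = ⊤ :=
    hli.span_eq_top_of_card_eq_finrank' (by rw [hd]; simp)
  have hrange : Set.range ![x, y] = {x, y} := by
    ext z
    simp only [Set.mem_range, Set.mem_insert_iff, Set.mem_singleton_iff]
    constructor
    · rintro ⟨i, rfl⟩
      fin_cases i
      · left; rfl
      · right; rfl
    · rintro (rfl | rfl)
      · exact ⟨0, rfl⟩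
      · exact ⟨1, rfl⟩
  rw [hrange] at hspan
  -- coordinates of `g y`
  have hgy : g.1 y ∈ Submodule.span F {x, y} := by rw [hspan]; trivial
  obtain ⟨a, b, hab⟩ := Submodule.mem_span_pair.1 hgy
  have hb : b = 1 := by
    have h1 : polar Q x (g.1 y) = 1 := by
      have := OG_polar Q g x y
      rw [hgx] at this
      rw [this, hxy]
    rw [← hab, polar_add_right, polar_smul_right, polar_smul_right, hxx, hxy] at h1
    simpa using h1
  rw [hb, one_smul] at hab
  have hqa : a * (a * Q x + 1) = 0 := by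
    have h1 : Q (g.1 y) = Q y := g.2 y
    rw [← hab, QuadraticMap.map_add (⇑Q), QuadraticMap.map_smul, polar_smul_left, hxy] at h1
    simp only [smul_eq_mul, mul_one] at h1
    linear_combination h1
  -- two isometries agreeing on `x`, `y` are equal
  have hext : ∀ t : OG Q, t.1 x = g.1 x → t.1 y = g.1 y → g = t := by
    intro t htx hty
    apply Subtype.ext
    apply LinearEquiv.toLinearMap_injective
    apply LinearMap.ext_on hspan
    intro z hz
    rcases hz with rfl | rfl
    · exact htx.symm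
    · exact hty.symm
  rcases mul_eq_zero.1 hqa with ha | ha
  · -- `g = 1`
    have : g = 1 := by
      apply hext 1
      · rw [hgx]; rfl
      · rw [← hab, ha, zero_smul, zero_add]; rfl
    rw [this]
    exact Subgroup.one_mem _
  · -- `g = t_x`
    have ha' : a = (Q x)⁻¹ := by
      have h1 : a * Q x = 1 := by
        have h3 : a * Q x + 1 + 1 = 1 := by rw [ha, zero_add]
        have h4 : (1 : F) + 1 = 0 := by rw [one_add_one_eq_two, h2]
        rw [add_assoc, h4, add_zero] at h3
        exact h3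
      exact eq_inv_of_mul_eq_one_left h1
    have : g = otv h2 Q x hQx := by
      apply hext (otv h2 Q x hQx)
      · rw [otv_apply, hxx, hgx]
        simp
      · rw [otv_apply, hxy, ← hab, ha', mul_one, add_comm]
    rw [this]
    exact Subgroup.subset_closure ⟨x, hQx, rfl⟩

/-- Cartan–Dieudonné for an anisotropic plane in characteristic 2 -/
theorem d3_plane (h2 : (2 : F) = 0) (Q : QuadraticForm F V)
    (hnd : (polarBilin Q).Nondegenerate) (han : ∀ v, Q v = 0 → v = 0) (hd : finrank F V = 2)
    (g : OG Q) : g ∈ Subgroup.closure (reflSet h2 Q) := by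
  have hpos : 0 < finrank F V := by rw [hd]; norm_num
  obtain ⟨x, hx⟩ := Module.finrank_pos_iff_exists_ne_zero.1 hpos
  by_cases hgx : g.1 x = x
  · exact d3_plane_fix h2 Q hnd han hd x hx g hgx
  · set v : V := g.1 x - x with hv
    have hv0 : v ≠ 0 := fun h => hgx (sub_eq_zero.1 h)
    have hQv : Q v ≠ 0 := fun h => hv0 (han v h)
    set p : F := polar Q (g.1 x) x with hp
    have hQv' : Q v = -p := by
      rw [hv, sub_eq_add_neg, QuadraticMap.map_add (⇑Q), QuadraticMap.map_neg, polar_neg_right, g.2 x,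
        ← two_mul, h2, zero_mul, zero_add]
    have hpv : polar Q v (g.1 x) = -p := by
      rw [hv, polar_sub_left, d3_polar_self h2 Q, zero_sub, polar_comm]
    have htx : ((otv h2 Q v hQv) * g).1 x = x := by
      show (otv h2 Q v hQv).1 (g.1 x) = x
      rw [otv_apply, hpv, ← hQv', inv_mul_cancel₀ hQv, one_smul, hv]
      have := d3_two_smul h2 (g.1 x)
      calc g.1 x + (g.1 x - x) = (g.1 x + g.1 x) - x := by abel
        _ = -x := by rw [this, zero_sub]
        _ = x := by
          have h3 := d3_two_smul h2 x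
          exact (eq_neg_of_add_eq_zero_left h3).symm
    have h1 := d3_plane_fix h2 Q hnd han hd x hx _ htx
    have h3 : otv h2 Q v hQv ∈ Subgroup.closure (reflSet h2 Q) :=
      Subgroup.subset_closure ⟨v, hQv, rfl⟩
    have : g = (otv h2 Q v hQv)⁻¹ * ((otv h2 Q v hQv) * g) := by
      rw [inv_mul_cancel_left]
    rw [this]
    exact Subgroup.mul_mem _ (Subgroup.inv_mem _ h3) h1

end plane

end Cfsg.Agent.Lib.Helper94.Iso8
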