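import Mathlib
import Cfsg.Agent.Lib.Helper94.Iso8bDefs
import Cfsg.Agent.Lib.Helper8.OrthFormsMinus
import Cfsg.Agent.Lib.Helper68.Iso8bD2
import Cfsg.Agent.Lib.Helper69.Iso8bD3core

/-!
# Iso8b hive (S3590, owner helper94): leaf ISO8B-D3 (`refl_gen`)
-/

set_option autoImplicit false

namespace Cfsg.Agent.Lib.Helper94.Iso8

open Module QuadraticMap Cfsg.Agent.Lib.Helper43

universe u v w

section abs
variable {F : Type v} [Field F]

/-- ISO8B-D3 (Cartan–Dieudonné in characteristic 2 for a tower of hyperbolic planes over an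
anisotropic plane). -/
theorem refl_gen {V₁ : Type w} [AddCommGroup V₁] [Module F V₁] (h2 : (2 : F) = 0)
    (Q₁ : QuadraticForm F V₁) (hQ₁ : (polarBilin Q₁).Nondegenerate)
    (han : ∀ x, Q₁ x = 0 → x = 0) (hd : finrank F V₁ = 2) :
    ∀ (k : ℕ) (V : Type u) [AddCommGroup V] [Module F V] [FiniteDimensional F V]
      (Q : QuadraticForm F V) (j : V₁ →ₗ[F] V) (e f : Fin k → V), IsHypFamily Q Q₁ j k e f →
      ∀ g : OG Q, g ∈ Subgroup.closure (reflSet h2 Q) := by
  haveI : FiniteDimensional F V₁ := Module.finite_of_finrank_pos (by rw [hd]; norm_num)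
  intro k
  induction k with
  | zero =>
    intro V _ _ _ Q j e f H g
    have hbij : Function.Bijective j := by
      refine ⟨H.injective hQ₁, ?_⟩
      intro v
      exact H.surj v (fun i => i.elim0) (fun i => i.elim0)
    let J : V₁ ≃ₗ[F] V := LinearEquiv.ofBijective j hbij
    have hdV : finrank F V = 2 := by rw [← J.finrank_eq, hd]
    have hanV : ∀ v, Q v = 0 → v = 0 := by
      intro v hv
      obtain ⟨x, rfl⟩ := hbij.2 v
      rw [H.qj] at hv
      rw [han x hv, map_zero]
    exact d3_plane h2 Q (H.nondegenerate hQ₁) hanV hdV g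
  | succ k ih =>
    intro V _ _ _ Q j e f H g
    have hQ := H.nondegenerate hQ₁
    have h₀ := H.hypPair (Fin.last k)
    set e₀ := e (Fin.last k) with he₀
    set f₀ := f (Fin.last k) with hf₀
    have hne : ∀ i : Fin k, i.castSucc ≠ Fin.last k := fun i => (Fin.castSucc_lt_last i).ne
    have hmemE : ∀ i : Fin k, e i.castSucc ∈ perp2 Q e₀ f₀ := by
      intro i
      rw [mem_perp2]
      constructor
      · exact H.ee _ _
      · rw [polar_comm, H.ef, if_neg (hne i)]
    have hmemF : ∀ i : Fin k, f i.castSucc ∈ perp2 Q e₀ f₀ := by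
      intro i
      rw [mem_perp2]
      constructor
      · rw [H.ef, if_neg (hne i).symm]
      · exact H.ff _ _
    have hmemJ : ∀ x, j x ∈ perp2 Q e₀ f₀ := by
      intro x
      rw [mem_perp2]
      exact ⟨H.ej _ _, H.fj _ _⟩
    let e' : Fin k → perp2 Q e₀ f₀ := fun i => ⟨e i.castSucc, hmemE i⟩
    let f' : Fin k → perp2 Q e₀ f₀ := fun i => ⟨f i.castSucc, hmemF i⟩
    let j' : V₁ →ₗ[F] perp2 Q e₀ f₀ := j.codRestrict _ hmemJ
    have H' : IsHypFamily (Q.comp (perp2 Q e₀ f₀).subtype) Q₁ j' k e' f' := by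
      refine ⟨fun i => H.qe _, fun i => H.qf _, fun i i' => ?_, fun i i' => ?_, fun i i' => ?_,
        fun x => H.qj x, fun i x => ?_, fun i x => ?_, ?_⟩
      · rw [polar_comp_subtype]; exact H.ee _ _
      · rw [polar_comp_subtype]; exact H.ff _ _
      · rw [polar_comp_subtype]
        show polar Q (e i.castSucc) (f i'.castSucc) = _
        rw [H.ef]
        simp only [Fin.castSucc_inj]
      · rw [polar_comp_subtype]; exact H.ej _ _
      · rw [polar_comp_subtype]; exact H.fj _ _
      · intro v hve hvf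
        obtain ⟨x, hx⟩ := H.surj (v : V)
          (by
            intro i
            refine Fin.lastCases ?_ (fun i => ?_) i
            · exact ((mem_perp2 Q e₀ f₀ v).mp v.2).1
            · have := hve i
              rw [polar_comp_subtype] at this
              exact this)
          (by
            intro i
            refine Fin.lastCases ?_ (fun i => ?_) i
            · exact ((mem_perp2 Q e₀ f₀ v).mp v.2).2
            · have := hvf i
              rw [polar_comp_subtype] at this
              exact this)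
        exact ⟨x, Subtype.ext hx⟩
    have ih' := ih (perp2 Q e₀ f₀) (Q.comp (perp2 Q e₀ f₀).subtype) j' e' f' H'
    -- the hypothesis `hP` of `refl_trans`
    have hP : ∀ w ∈ perp2 Q e₀ f₀, w ≠ 0 → Q w = 0 →
        ∃ z ∈ perp2 Q e₀ f₀, polar Q w z = 0 ∧ Q z ≠ 0 := by
      intro w _ _ _
      let φ : V₁ →ₗ[F] F := (polarBilin Q w).comp j
      have hker : LinearMap.ker φ ≠ ⊥ := by
        apply LinearMap.ker_ne_bot_of_finrank_lt
        rw [hd, Module.finrank_self]
        norm_num
      obtain ⟨x, hxk, hx0⟩ := Submodule.exists_mem_ne_zero_of_ne_bot hker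
      refine ⟨j x, hmemJ x, LinearMap.mem_ker.1 hxk, ?_⟩
      rw [H.qj]
      exact fun h => hx0 (han x h)
    -- move `(g e₀, g f₀)` back to `(e₀, f₀)`
    have h' : IsHypPair Q (g.1 e₀) (g.1 f₀) :=
      ⟨by rw [g.2, h₀.qe], by rw [g.2, h₀.qf], by rw [OG_polar, h₀.ef]⟩
    obtain ⟨r, hr, hre, hrf⟩ := refl_trans h2 Q hQ e₀ f₀ (g.1 e₀) (g.1 f₀) h₀ h' hP
    obtain ⟨k', hk'⟩ := d3_exists_down hQ h₀ (r * g) hre hrf
    have h1 : r * g ∈ Subgroup.closure (reflSet h2 Q) := by
      rw [← hk']
      exact d3_up_mem_closure h2 hQ h₀ k' (ih' k')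
    have : g = r⁻¹ * (r * g) := by rw [inv_mul_cancel_left]
    rw [this]
    exact Subgroup.mul_mem _ (Subgroup.inv_mem _ hr) h1

end abs

end Cfsg.Agent.Lib.Helper94.Iso8
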