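import Mathlib
import Cfsg.Agent.Lib.Helper81.Mi.Defs
import Cfsg.Agent.Lib.Helper43.MiTV1
import Cfsg.Agent.Lib.Helper69.MiQV

/-! # Mi hive (S2140, helper81), sub-hive MI-KI (helper64): leaf KI-S2 `index_trans` (helper69) -/

set_option autoImplicit false

namespace Cfsg.Agent.Lib.Helper81.Mi

open Matrix

section concreteKI

variable {F : Type*} [Field F] {n k : ℕ}

/-- the covector `e_1` -/
def kis2_phi (F : Type*) [Field F] (n : ℕ) : Fin n → F := fun i => if (i : ℕ) = 1 then 1 else 0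

theorem kis2_phi_dot (n : ℕ) : kis2_phi F n ⬝ᵥ e0 F n = 0 := by
  unfold dotProduct kis2_phi e0
  apply Finset.sum_eq_zero
  intro i _
  by_cases h : (i : ℕ) = 1
  · rw [if_pos h, if_neg (by omega), mul_zero]
  · rw [if_neg h, zero_mul]

theorem kis2_e0_ne (hn : 1 ≤ n) : e0 F n ≠ 0 := by
  intro h
  have h1 := congrFun h ⟨0, by omega⟩
  simp [e0] at h1

theorem kis2_phi_ne (hn : 2 ≤ n) : kis2_phi F n ≠ 0 := by
  intro h
  have h1 := congrFun h ⟨1, by omega⟩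
  simp [kis2_phi] at h1

/-- KI-S2 (Step 2): index `q^(n-1)` and `Qv e0` transitive on the cosets. -/
theorem index_trans [Finite F] (hn : 2 ≤ n) (H : Subgroup (SLn n F)) (hI : CaseI H (e0 F n))
    (hno : ∀ (g : SLn n F) (v φ : Fin n → F), φ ⬝ᵥ v = 0 → tv v φ ∈ cj g H → tv v φ = 1) :
    H.index = Nat.card F ^ (n - 1) ∧ ∀ g : SLn n F, ∃ x ∈ Qv (e0 F n), x⁻¹ * g ∈ H := by
  have he0 : e0 F n ≠ 0 := kis2_e0_ne (by omega)
  have hQH : ∀ x ∈ Qv (e0 F n), x ∈ H → x = 1 := by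
    intro x hx hxH
    obtain ⟨φ, hφ, rfl⟩ := (mem_Qv_iff _ _).1 hx
    exact hno 1 _ _ hφ (by rw [mem_cj]; simpa using hxH)
  have hempty : IsEmpty {x : SLn n F ⧸ H // ∀ t ∈ Qv (e0 F n), t • x = x} := by
    constructor
    rintro ⟨x, hx⟩
    obtain ⟨g, rfl⟩ := QuotientGroup.mk_surjective x
    have ht : tv (e0 F n) (kis2_phi F n) ∈ Qv (e0 F n) :=
      (mem_Qv_iff _ _).2 ⟨_, kis2_phi_dot n, rfl⟩
    have h1 := hx _ ht
    have h2 : tv (e0 F n) (kis2_phi F n) ∈ cj g H := by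
      rw [mem_cj]
      have h3 : ((tv (e0 F n) (kis2_phi F n) * g : SLn n F) : SLn n F ⧸ H) =
          (g : SLn n F ⧸ H) := h1
      rw [QuotientGroup.eq] at h3
      have h4 := H.inv_mem h3
      convert h4 using 1
      group
    have h5 := hno g _ _ (kis2_phi_dot n) h2
    rw [tv_eq_one_iff _ _ (kis2_phi_dot n)] at h5
    rcases h5 with h5 | h5
    · exact he0 h5
    · exact kis2_phi_ne hn h5
  have hidx : H.index = Nat.card F ^ (n - 1) := by
    have h0 : Nat.card {x : SLn n F ⧸ H // ∀ t ∈ Qv (e0 F n), t • x = x} = 0 :=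
      Nat.card_of_isEmpty
    rw [hI.2, h0, add_zero]
  refine ⟨hidx, ?_⟩
  have hinj : Function.Injective
      (fun x : Qv (e0 F n) => ((x : SLn n F) : SLn n F ⧸ H)) := by
    intro x y hxy
    have h3 : ((x : SLn n F) : SLn n F ⧸ H) = ((y : SLn n F) : SLn n F ⧸ H) := hxy
    rw [QuotientGroup.eq] at h3
    have h4 := hQH _ ((Qv (e0 F n)).mul_mem ((Qv (e0 F n)).inv_mem x.2) y.2) h3
    exact Subtype.ext (inv_mul_eq_one.mp h4)
  have hcard : Nat.card (Qv (e0 F n)) = Nat.card (SLn n F ⧸ H) := by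
    rw [card_Qv (by omega) _ he0, ← hidx]
    rfl
  have hbij := (Nat.bijective_iff_injective_and_card _).2 ⟨hinj, hcard⟩
  intro g
  obtain ⟨x, hx⟩ := hbij.2 (g : SLn n F ⧸ H)
  exact ⟨x.1, x.2, QuotientGroup.eq.mp hx⟩

end concreteKI

end Cfsg.Agent.Lib.Helper81.Mi
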