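import Mathlib
import Cfsg.Prelude.Def_ClassicalGeometry
import Cfsg.Prelude.Def_GeometricClasses
import Cfsg.Agent.Lib.Helper65.QeDefs
import Cfsg.Agent.Lib.Helper79.TsSplit

/-! # QE-SIEGEL (helper65's S5988 hive "Qe"): if `f - 1` maps `V` into a totally singular
`E ≤ Fix f` of codimension `≤ 1` in `Fix f`, every invariant nondegenerate even-dimensional `W` is of
plus type. -/

set_option autoImplicit false

namespace Cfsg.Agent.Lib.Helper65.Qe

open Polynomial Module
open Cfsg.Agent.Lib.Helper2.BG Cfsg.Agent.Lib.Helper99 Cfsg.Agent.Lib.Helper48.Ti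
open Cfsg.Agent.Lib.Helper5.Hy

section abstract

variable {F V : Type*} [Field F] [Fintype F] [AddCommGroup V] [Module F V] [FiniteDimensional F V]
variable {Q : QuadraticForm F V}

/-- a totally singular subspace is totally isotropic for the polar form -/
theorem siegel_ti {U : Submodule F V} (hU : ∀ u ∈ U, Q u = 0) : TI (pol Q) U := by
  intro u hu v hv
  show QuadraticMap.polar Q u v = 0
  unfold QuadraticMap.polar
  rw [hU _ (U.add_mem hu hv), hU u hu, hU v hv]
  simp

/-- rank–nullity for `f - 1` on an invariant subspace -/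
theorem siegel_rank_nullity {f : Module.End F V} {E W : Submodule F V}
    (hNE : ∀ v, f v - v ∈ E) (hWi : Inv f W) :
    finrank F W ≤ finrank F ↥(W ⊓ E) + finrank F ↥(W ⊓ Fix f) := by
  set g : ↥W →ₗ[F] V := (f - 1) ∘ₗ W.subtype with hg
  have h1 := LinearMap.finrank_range_add_finrank_ker g
  have hrange : LinearMap.range g ≤ W ⊓ E := by
    rintro _ ⟨w, rfl⟩
    have : g w = f (w : V) - (w : V) := by
      simp [hg]
    rw [this]
    exact ⟨W.sub_mem (hWi _ w.2) w.2, hNE _⟩
  have hker : LinearMap.ker g = Submodule.comap W.subtype (Fix f) := by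
    rw [hg, LinearMap.ker_comp]
  have hkerfr : finrank F (LinearMap.ker g) = finrank F ↥(W ⊓ Fix f) := by
    rw [hker, ← Submodule.finrank_map_subtype_eq W (Submodule.comap W.subtype (Fix f)),
      Submodule.map_comap_subtype]
  have h2 := Submodule.finrank_mono hrange
  omega

/-- `W ⊓ Fix f` is at most one dimension bigger than `W ⊓ E` -/
theorem siegel_fix_le {f : Module.End F V} {E : Submodule F V}
    (hEK : E ≤ Fix f) (hK : finrank F ↥(Fix f) ≤ finrank F E + 1) (W : Submodule F V) :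
    finrank F ↥(W ⊓ Fix f) ≤ finrank F ↥(W ⊓ E) + 1 := by
  have h1 := Submodule.finrank_sup_add_finrank_inf_eq (W ⊓ Fix f) E
  have h2 : (W ⊓ Fix f) ⊓ E = W ⊓ E := by
    rw [inf_assoc, inf_eq_right.mpr hEK]
  have h3 : finrank F ↥((W ⊓ Fix f) ⊔ E) ≤ finrank F ↥(Fix f) :=
    Submodule.finrank_mono (sup_le inf_le_right hEK)
  rw [h2] at h1
  omega

/-- QE-SIEGEL -/
theorem plusQ_of_siegel {f : Module.End F V} {E : Submodule F V} (hE : ∀ u ∈ E, Q u = 0)
    (hNE : ∀ v, f v - v ∈ E) (hEK : E ≤ Fix f) (hK : finrank F ↥(Fix f) ≤ finrank F E + 1)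
    {W : Submodule F V} (hWi : Inv f W) (hW : Nd (pol Q) W) (hWe : Even (finrank F W)) :
    PlusQ Q W := by
  refine ⟨W ⊓ E, inf_le_left, fun u hu => hE u hu.2, ?_⟩
  have hti : TI (pol Q) (W ⊓ E) := siegel_ti (fun u hu => hE u hu.2)
  have hrefl : ∀ u v, pol Q u v = 0 → pol Q v u = 0 := by
    intro u v h
    show QuadraticMap.polar Q v u = 0
    rw [QuadraticMap.polar_comm]
    exact h
  have h1 : 2 * finrank F ↥(W ⊓ E) ≤ finrank F W :=
    Cfsg.Agent.Lib.Helper79.TsSwap.ti_bound_refl hrefl hW inf_le_left hti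
  have h2 := siegel_rank_nullity hNE hWi
  have h3 := siegel_fix_le hEK hK W
  obtain ⟨k, hk⟩ := hWe
  omega

end abstract

end Cfsg.Agent.Lib.Helper65.Qe
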