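import Mathlib
import Cfsg.Prelude.Def_ClassicalGeometry
import Cfsg.Prelude.Def_GeometricClasses
import Cfsg.Agent.Lib.Helper65.QeDefs
import Cfsg.Agent.Lib.Helper69.HqSQM2

/-! # QE-I3 (helper65's S5988 hive "Qe"): `q ≡ 3 (mod 4)`, `f² = -1`: an invariant nondegenerate `W` is of
plus type iff `4 ∣ dim W`.  Corollary of HQ-SQM2 `Cfsg.Agent.Lib.Helper15.Hq.sq_neg_type`. -/

set_option autoImplicit false

namespace Cfsg.Agent.Lib.Helper65.Qe

open Polynomial Module
open Cfsg.Agent.Lib.Helper2.BG Cfsg.Agent.Lib.Helper99 Cfsg.Agent.Lib.Helper48.Ti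
open Cfsg.Agent.Lib.Helper5.Hy

section abstract

variable {F V : Type*} [Field F] [Fintype F] [AddCommGroup V] [Module F V] [FiniteDimensional F V]

section oddchar

variable {B : V →ₗ[F] V →ₗ[F] F}

/-- QE-I3 -/
theorem plus_iff_of_sq_neg_one (h2 : (2 : F) ≠ 0) (hs : ∀ u v, B u v = B v u)
    (hq : Fintype.card F % 4 = 3) {f : Module.End F V} (hf : Isom B f) (hff : f * f = -1)
    {W : Submodule F V} (hWi : Inv f W) (hW : Nd B W) :
    Plus B W ↔ finrank F W % 4 = 0 := by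
  rw [Cfsg.Agent.Lib.Helper15.Hq.sq_neg_type h2 hs hf hff hWi hW]
  have hns : ¬ IsSquare (-1 : F) := by
    rw [FiniteField.isSquare_neg_one_iff]
    simp [hq]
  simp only [hns, false_or]
  exact Nat.dvd_iff_mod_eq_zero

end oddchar

end abstract

end Cfsg.Agent.Lib.Helper65.Qe
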