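import Mathlib
import Cfsg.Prelude.Def_ClassicalGeometry
import Cfsg.Prelude.Def_GeometricClasses
import Cfsg.Agent.Lib.Helper65.QeDefs
import Cfsg.Agent.Lib.Helper55.HySUP
import Cfsg.Agent.Lib.Helper69.HqSQM2

/-! # QE-I4 (helper65's S5988 hive "Qe"): if `f² = -1` there are invariant nondegenerate subspaces of
every even dimension `≤ dim V`. -/

set_option autoImplicit false

namespace Cfsg.Agent.Lib.Helper65.Qe

open Polynomial Module
open Cfsg.Agent.Lib.Helper2.BG Cfsg.Agent.Lib.Helper99 Cfsg.Agent.Lib.Helper48.Ti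
open Cfsg.Agent.Lib.Helper5.Hy

section abstract

variable {F V : Type*} [Field F] [Fintype F] [AddCommGroup V] [Module F V] [FiniteDimensional F V]

section oddchar

variable {B : V →ₗ[F] V →ₗ[F] F}

/-- an invariant nondegenerate plane inside a nonzero invariant nondegenerate subspace -/
theorem i4_exists_plane (h2 : (2 : F) ≠ 0) (hs : ∀ u v, B u v = B v u)
    {f : Module.End F V} (hf : Isom B f) (hff : f * f = -1) {Z : Submodule F V}
    (hZ : Nd B Z) (hZi : Inv f Z) (hZ0 : Z ≠ ⊥) :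
    ∃ P : Submodule F V, P ≤ Z ∧ Inv f P ∧ Nd B P ∧ finrank F P = 2 := by
  obtain ⟨v, hvZ, hvv⟩ := t3_exists_norm h2 hs hZ hZ0
  have hfw : f (f v) = -v := Cfsg.Agent.Lib.Helper15.Hq.sqm2_ff hff v
  have hvw : B v (f v) = 0 := Cfsg.Agent.Lib.Helper15.Hq.sqm2_orth h2 hs hf hff v
  have hww : B (f v) (f v) = B v v := hf v v
  obtain ⟨hPnd, hPfr⟩ := t3_plane hs v (f v)
    (by rw [hww, hvw]; simpa using mul_ne_zero hvv hvv)
  refine ⟨Submodule.span F {v} ⊔ Submodule.span F {f v}, ?_, ?_, hPnd, hPfr⟩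
  · refine sup_le ?_ ?_
    · rw [Submodule.span_singleton_le_iff_mem]; exact hvZ
    · rw [Submodule.span_singleton_le_iff_mem]; exact hZi v hvZ
  · intro x hx
    obtain ⟨p, hp, q, hq, rfl⟩ := Submodule.mem_sup.mp hx
    obtain ⟨x, rfl⟩ := Submodule.mem_span_singleton.mp hp
    obtain ⟨y, rfl⟩ := Submodule.mem_span_singleton.mp hq
    rw [map_add, map_smul, map_smul, hfw]
    refine Submodule.add_mem _
      (Submodule.mem_sup_right (Submodule.smul_mem _ _ (Submodule.mem_span_singleton_self (f v))))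
      (Submodule.mem_sup_left (Submodule.smul_mem _ _
        (Submodule.neg_mem _ (Submodule.mem_span_singleton_self v))))

/-- the perp of an invariant subspace is invariant -/
theorem i4_inv_perp {f : Module.End F V} (hf : Isom B f) (hff : f * f = -1) {W : Submodule F V}
    (hWi : Inv f W) : Inv f (⊤ ⊓ LinearMap.BilinForm.orthogonal B W) := by
  intro u hu
  refine ⟨Submodule.mem_top, ?_⟩
  intro p hp
  show B p (f u) = 0
  have hp' : -(f p) ∈ W := Submodule.neg_mem _ (hWi p hp)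
  have h1 : f (-(f p)) = p := by
    rw [map_neg, Cfsg.Agent.Lib.Helper15.Hq.sqm2_ff hff, neg_neg]
  have h3 := hf (-(f p)) u
  rw [h1] at h3
  rw [h3]
  exact hu.2 _ hp'

theorem i4_aux (h2 : (2 : F) ≠ 0) (hs : ∀ u v, B u v = B v u) (hV : Nd B ⊤)
    {f : Module.End F V} (hf : Isom B f) (hff : f * f = -1) :
    ∀ k : ℕ, 2 * k ≤ finrank F V →
      ∃ W : Submodule F V, Inv f W ∧ Nd B W ∧ finrank F W = 2 * k := by
  intro k
  induction k with
  | zero =>
    intro _
    refine ⟨⊥, ?_, ?_, by simp⟩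
    · intro v hv
      rw [(Submodule.mem_bot F).mp hv, map_zero]
      exact Submodule.zero_mem _
    · intro u hu _
      exact (Submodule.mem_bot F).mp hu
  | succ k ih =>
    intro hk
    obtain ⟨W, hWi, hW, hWfr⟩ := ih (by omega)
    obtain ⟨hZnd, hdisj, hsup⟩ := t3_nd_perp hs hV (le_top : W ≤ ⊤) hW
    set Z : Submodule F V := ⊤ ⊓ LinearMap.BilinForm.orthogonal B W with hZ
    have hZi : Inv f Z := i4_inv_perp hf hff hWi
    have hZfr : finrank F W + finrank F Z = finrank F V := by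
      have h1 := Submodule.finrank_sup_add_finrank_inf_eq W Z
      rw [hsup, disjoint_iff.mp hdisj, finrank_bot, finrank_top] at h1
      omega
    have hZ0 : Z ≠ ⊥ := by
      intro h0
      rw [h0, finrank_bot] at hZfr
      omega
    obtain ⟨P, hPZ, hPi, hPnd, hPfr⟩ := i4_exists_plane h2 hs hf hff hZnd hZi hZ0
    have ho : Orth B W P := by
      intro u hu p hp
      exact (hPZ hp).2 u hu
    obtain ⟨hnd, -, hfr⟩ := nd_sup hs hW hPnd ho
    refine ⟨W ⊔ P, ?_, hnd, by rw [hfr, hWfr, hPfr]; ring⟩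
    intro x hx
    obtain ⟨a, ha, b, hb, rfl⟩ := Submodule.mem_sup.mp hx
    rw [map_add]
    exact Submodule.add_mem _ (Submodule.mem_sup_left (hWi a ha))
      (Submodule.mem_sup_right (hPi b hb))

/-- QE-I4 -/
theorem exists_inv_nd_of_sq_neg_one (h2 : (2 : F) ≠ 0) (hs : ∀ u v, B u v = B v u) (hV : Nd B ⊤)
    {f : Module.End F V} (hf : Isom B f) (hff : f * f = -1) (m : ℕ) (hme : Even m)
    (hmn : m ≤ finrank F V) : ∃ W : Submodule F V, Inv f W ∧ Nd B W ∧ finrank F W = m := by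
  obtain ⟨k, hk⟩ := hme
  obtain ⟨W, h1, h2', h3⟩ := i4_aux h2 hs hV hf hff k (by omega)
  exact ⟨W, h1, h2', by omega⟩

end oddchar

end abstract

end Cfsg.Agent.Lib.Helper65.Qe
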