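import Mathlib
import Cfsg.Agent.Lib.Helper65.UndDefs
import Cfsg.Agent.Lib.Helper69.TuFIX
import Cfsg.Agent.Lib.Helper76.TuDEC

/-!
# Und hive (S5954, owner helper65): cores of the leaves UND-C6 / UND-C7

`c6_core` and `c7_core` are the statements of `fixesIn_of_dims` / `dims_of_fixesIn` with the leaves
UND-C1, UND-C2, UND-C5 resp. UND-C4 taken as hypotheses (`c` arbitrary).
-/

set_option autoImplicit false

namespace Cfsg.Agent.Lib.Helper65.Und

open Cfsg.Agent.Lib.Helper40.Herm Cfsg.Agent.Lib.Helper2.BG Cfsg.Agent.Lib.Helper14.Tu Polynomial Module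

section absC
variable {F : Type*} [Field F] [Fintype F] {q : ℕ} {hF : Fintype.card F = q ^ 2}
  {V : Type*} [AddCommGroup V] [Module F V] [FiniteDimensional F V]
  {H : V →ₗ[F] V →ₛₗ[tauHom hF] F} {g : Module.End F V} {N : ℕ}

theorem c6_mem_ker {v : V} : v ∈ LinearMap.ker (g - 1) ↔ g v = v := by
  rw [LinearMap.mem_ker, LinearMap.sub_apply, Module.End.one_apply, sub_eq_zero]

/-- the fixed space of `g` is nondegenerate -/
theorem c6_nondeg_fixed (hc : Ctx hF H g N) (hnd : HNondeg H) :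
    HNondegOn H (LinearMap.ker (g - 1)) := by
  have h := nondeg_eigen hc (Z := ⊤) (fun v _ => trivial) (hnondegOn_top hnd) 1
    (by rw [map_one, mul_one])
  rw [one_smul, top_inf_eq] at h
  exact h

/-- a complement of `W ⊓ ker (g-1)` in a nondegenerate `W`, orthogonal to `ker (g-1)`, is
nondegenerate -/
theorem c6_nondeg_moved (hH : IsHermitian H) {W M : Submodule F V} (hW : HNondegOn H W)
    (hMW : M ≤ W) (hsup : (W ⊓ LinearMap.ker (g - 1)) ⊔ M = W)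
    (horth : ∀ u ∈ LinearMap.ker (g - 1), ∀ v ∈ M, H u v = 0) : HNondegOn H M := by
  intro x hx hxM
  apply hW x (hMW hx)
  intro w hw
  rw [← hsup] at hw
  obtain ⟨w₀, hw₀, w₁, hw₁, rfl⟩ := Submodule.mem_sup.1 hw
  rw [map_add, hxM w₁ hw₁, add_zero]
  exact herm_swap hH (horth w₀ (Submodule.mem_inf.1 hw₀).2 x hx)

/-- core of UND-C6 -/
theorem c6_core {r : ℕ} (hc : Ctx hF H g r) (hr : r.Prime) (hnd : HNondeg H) (c : ℕ)
    (hC1 : ∀ {Y₁ Y₂ : Submodule F V}, HNondegOn H Y₁ → HNondegOn H Y₂ →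
      (∀ u ∈ Y₁, ∀ v ∈ Y₂, H u v = 0) →
      HNondegOn H (Y₁ ⊔ Y₂) ∧ Disjoint Y₁ Y₂ ∧
        finrank F ↥(Y₁ ⊔ Y₂) = finrank F ↥Y₁ + finrank F ↥Y₂)
    (hC2 : ∀ {Z : Submodule F V}, HNondegOn H Z → ∀ a : ℕ, a ≤ finrank F ↥Z →
      ∃ W : Submodule F V, W ≤ Z ∧ HNondegOn H W ∧ finrank F ↥W = a)
    (hC5 : ∀ {M : Submodule F V}, Inv g M → HNondegOn H M → (∀ v ∈ M, g v = v → v = 0) →
      ∀ j : ℕ, j * c ≤ finrank F ↥M → FixesIn H g M (j * c))
    (a j : ℕ) (ha : a ≤ finrank F ↥(LinearMap.ker (g - 1)))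
    (hj : j * c + finrank F ↥(LinearMap.ker (g - 1)) ≤ finrank F V) :
    FixesIn H g ⊤ (a + j * c) := by
  have hCnd := c6_nondeg_fixed hc hnd
  obtain ⟨M, -, hMi, hMfix, hdisj, hsup, horth⟩ :=
    exists_moved hc hr (W := ⊤) (fun v _ => trivial)
  have hMnd : HNondegOn H M :=
    c6_nondeg_moved hc.herm (hnondegOn_top hnd) le_top hsup horth
  rw [top_inf_eq] at hdisj hsup
  have hfin : finrank F ↥(LinearMap.ker (g - 1)) + finrank F ↥M = finrank F V := by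
    have h1 := Submodule.finrank_sup_add_finrank_inf_eq (LinearMap.ker (g - 1)) M
    rw [hsup, hdisj.eq_bot, finrank_bot, add_zero, finrank_top] at h1
    exact h1.symm
  obtain ⟨W₀, hW₀C, hW₀nd, hW₀a⟩ := hC2 hCnd a ha
  obtain ⟨W₁, hW₁M, hW₁i, hW₁nd, hW₁j⟩ := hC5 hMi hMnd hMfix j (by omega)
  have hW₀i : Inv g W₀ := by
    intro v hv
    rw [c6_mem_ker.1 (hW₀C hv)]
    exact hv
  obtain ⟨hnd', -, hfr⟩ := hC1 hW₀nd hW₁nd
    (fun u hu v hv => horth u (hW₀C hu) v (hW₁M hv))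
  refine ⟨W₀ ⊔ W₁, le_top, ?_, hnd', by rw [hfr, hW₀a, hW₁j]⟩
  intro v hv
  obtain ⟨v₀, hv₀, v₁, hv₁, rfl⟩ := Submodule.mem_sup.1 hv
  rw [map_add]
  exact Submodule.add_mem _ (Submodule.mem_sup_left (hW₀i v₀ hv₀))
    (Submodule.mem_sup_right (hW₁i v₁ hv₁))

/-- core of UND-C7 -/
theorem c7_core {r : ℕ} (hc : Ctx hF H g r) (hr : r.Prime) (c : ℕ)
    (hC4 : ∀ {M : Submodule F V}, Inv g M → HNondegOn H M → (∀ v ∈ M, g v = v → v = 0) →
      c ∣ finrank F ↥M)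
    (m : ℕ) (h : FixesIn H g ⊤ m) :
    ∃ a j : ℕ, a ≤ finrank F ↥(LinearMap.ker (g - 1)) ∧
      j * c + finrank F ↥(LinearMap.ker (g - 1)) ≤ finrank F V ∧ a + j * c = m := by
  obtain ⟨W, -, hWi, hWnd, hWm⟩ := h
  obtain ⟨M, hMW, hMi, hMfix, hdisj, hsup, horth⟩ := exists_moved hc hr hWi
  have hMnd : HNondegOn H M := c6_nondeg_moved hc.herm hWnd hMW hsup horth
  obtain ⟨j, hj⟩ := hC4 hMi hMnd hMfix
  have hfin : finrank F ↥(W ⊓ LinearMap.ker (g - 1)) + finrank F ↥M = finrank F ↥W := by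
    have h1 := Submodule.finrank_sup_add_finrank_inf_eq (W ⊓ LinearMap.ker (g - 1)) M
    rw [hsup, hdisj.eq_bot, finrank_bot, add_zero] at h1
    exact h1.symm
  have hdisj' : Disjoint M (LinearMap.ker (g - 1)) := by
    rw [Submodule.disjoint_def]
    intro v hvM hvC
    exact hMfix v hvM (c6_mem_ker.1 hvC)
  have hle := Submodule.finrank_add_finrank_le_of_disjoint hdisj'
  have ha : finrank F ↥(W ⊓ LinearMap.ker (g - 1)) ≤ finrank F ↥(LinearMap.ker (g - 1)) :=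
    Submodule.finrank_mono inf_le_right
  refine ⟨finrank F ↥(W ⊓ LinearMap.ker (g - 1)), j, ha, ?_, ?_⟩
  · rw [mul_comm, ← hj]
    exact hle
  · rw [mul_comm, ← hj, hfin, hWm]

end absC

end Cfsg.Agent.Lib.Helper65.Und
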