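import Mathlib
import Cfsg.Agent.Lib.Helper67.OgDefs
import Cfsg.Agent.Lib.Helper67.OgFam
import Cfsg.Agent.Lib.Helper37.OrthMinus
import Cfsg.Agent.Lib.Helper43.OrthCardMinus
import Cfsg.Agent.Lib.Helper39.SLPerfect
import Cfsg.Agent.Lib.Helper8.OmegaPoints
import Cfsg.Agent.Lib.Helper8.SylowMeet

/-!
# Og hive (helper67, S2413 / S2414 / S2415): leaf OG-P-RHOU (helper69)

The extra unipotent element for the plus type: the single Eichler element
`ρ = E(e i2 + f i3, e i3 - f i2)`.
-/

set_option autoImplicit false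
set_option linter.unusedSectionVars false
set_option linter.unusedVariables false

namespace Cfsg.Agent.Lib.Helper67.Og

open Matrix Module QuadraticMap
open Cfsg.Agent.Lib.Helper37 Cfsg.Agent.Lib.Helper8 Cfsg.Agent.Lib.Helper43
open Cfsg.Agent.Lib.Helper37.OrthField
open scoped commutatorElement

section prhou_abs

variable {ι : Type} [Fintype ι] [DecidableEq ι] {F : Type*} [Field F]

/-- powers of an Eichler element -/
theorem prhou_pow (Q : QuadraticForm F (ι → F)) (hQ : (QuadraticMap.polarBilin Q).Nondegenerate)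
    (u v : ι → F) (hu : Q u = 0) (huv : polar ⇑Q u v = 0) (n : ℕ) :
    (eichlerElt Q hQ u v hu huv) ^ n
      = eichlerElt Q hQ u ((n : F) • v) hu (by rw [polar_smul_right, huv, smul_zero]) := by
  induction n with
  | zero =>
    rw [pow_zero]
    rw [eichlerElt_congr Q hQ u (((0 : ℕ) : F) • v) u 0 hu _ hu (by simp) rfl (by simp),
      eichlerElt_zero]
  | succ n ih =>
    rw [pow_succ, ih, eichlerElt_mul]
    exact eichlerElt_congr Q hQ _ _ _ _ _ _ _ _ rfl (by push_cast; rw [add_smul, one_smul])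

end prhou_abs

section concrete

variable (F : Type*) [Field F]

theorem exists_rho_plus_unip [Fintype F] (m : ℕ) (hm : 4 ≤ m) (i2 i3 : Fin m) (h23 : i2 ≠ i3) :
    ∃ ρ : ↥(Cfsg.isometryGroup F ⇑(plusForm m F)),
      ρ ∈ commutator ↥(Cfsg.isometryGroup F ⇑(plusForm m F)) ∧ ρ ^ (ringChar F) = 1 ∧
      (∀ i, i ≠ i2 → i ≠ i3 → act (plusForm m F) ρ (eP F m i) = eP F m i ∧
        act (plusForm m F) ρ (fP F m i) = fP F m i) ∧
      (∃ j, polar ⇑(plusForm m F) (fP F m j) (act (plusForm m F) ρ (fP F m i2)) ≠ 0) ∧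
      (∃ j, polar ⇑(plusForm m F) (eP F m j) (act (plusForm m F) ρ (eP F m i2)) ≠ 0) := by
  classical
  have hQ := plusForm_nondegenerate m F
  have h32 : i3 ≠ i2 := fun h => h23 h.symm
  -- the two vectors
  set u : Fin m ⊕ Fin m → F := eP F m i2 + fP F m i3 with hu_def
  set v : Fin m ⊕ Fin m → F := eP F m i3 - fP F m i2 with hv_def
  have pu : ∀ x : Fin m ⊕ Fin m → F,
      polar ⇑(plusForm m F) u x = x (Sum.inr i2) + x (Sum.inl i3) := by
    intro x
    rw [hu_def, polar_add_left, polar_plusForm_inl, polar_plusForm_inr]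
  have pv : ∀ x : Fin m ⊕ Fin m → F,
      polar ⇑(plusForm m F) v x = x (Sum.inr i3) - x (Sum.inl i2) := by
    intro x
    rw [hv_def, polar_sub_left, polar_plusForm_inl, polar_plusForm_inr]
  have hu : plusForm m F u = 0 := by
    rw [plusForm_apply]
    apply Finset.sum_eq_zero
    intro i _
    simp only [hu_def, Pi.add_apply, Pi.single_apply, Sum.inl.injEq, Sum.inr.injEq,
      reduceCtorEq, if_false, add_zero, zero_add]
    by_cases h : i = i2
    · subst h; simp [h23]
    · simp [h]
  have hv : plusForm m F v = 0 := by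
    rw [plusForm_apply]
    apply Finset.sum_eq_zero
    intro i _
    simp only [hv_def, Pi.sub_apply, Pi.single_apply, Sum.inl.injEq, Sum.inr.injEq,
      reduceCtorEq, if_false, sub_zero, zero_sub]
    by_cases h : i = i3
    · subst h; simp [h32]
    · simp [h]
  have huv : polar ⇑(plusForm m F) u v = 0 := by
    rw [pu, hv_def]
    simp [Pi.single_apply, h23, h32]
  have hact : ∀ x : Fin m ⊕ Fin m → F,
      act (plusForm m F) (eichlerElt (plusForm m F) hQ u v hu huv) x
        = x + (x (Sum.inr i2) + x (Sum.inl i3)) • v - (x (Sum.inr i3) - x (Sum.inl i2)) • u := by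
    intro x
    rw [act_eichlerElt, pu, pv, hv, zero_mul, zero_smul, sub_zero]
  refine ⟨eichlerElt (plusForm m F) hQ u v hu huv, ?_, ?_, ?_, ⟨i3, ?_⟩, ⟨i3, ?_⟩⟩
  · have hfr : finrank F (Fin m ⊕ Fin m → F) = m + m := by
      rw [Module.finrank_fintype_fun_eq_card, Fintype.card_sum, Fintype.card_fin]
    apply eichlerElt_mem_omega
    · rw [hfr]; omega
    · intro _; rw [hfr]; omega
  · rw [prhou_pow]
    rw [eichlerElt_congr (plusForm m F) hQ u (((ringChar F : ℕ) : F) • v) u 0 hu _ hu (by simp) rfl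
      (by rw [ringChar.Nat.cast_ringChar, zero_smul]), eichlerElt_zero]
  · intro i hi2 hi3
    have hi2' : i2 ≠ i := fun h => hi2 h.symm
    have hi3' : i3 ≠ i := fun h => hi3 h.symm
    constructor
    · rw [hact]
      simp [eP, Pi.single_apply, hi2, hi3, hi2', hi3']
    · rw [hact]
      simp [fP, Pi.single_apply, hi2, hi3, hi2', hi3']
  · rw [polar_plusForm_inr, hact]
    simp [hu_def, hv_def, eP, fP, Pi.single_apply, h23, h32]
  · rw [polar_plusForm_inl, hact]
    simp [hu_def, hv_def, eP, fP, Pi.single_apply, h23, h32]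

end concrete

end Cfsg.Agent.Lib.Helper67.Og
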