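import Mathlib
import Cfsg.Agent.Lib.Helper87.AltModel

set_option autoImplicit false

/-! # S5165 hive, leaf Ao3: a closed family containing all `p`-cycles contains all elements of
order `p`.  Also the generic lemma `ao3_list_prod_mem`: the product of a list of pairwise commuting
members of a closed family is a member. -/

namespace Cfsg.Agent.Lib.Helper87.AltF

open Equiv Equiv.Perm

/-- the closure of a set of pairwise commuting elements is commutative -/
theorem ao3_closure_commute {Ω : Type*} [Group Ω] (S : Set Ω)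
    (hS : ∀ x ∈ S, ∀ y ∈ S, Commute x y) :
    ∀ x ∈ Subgroup.closure S, ∀ y ∈ Subgroup.closure S, Commute x y := by
  have h1 : Subgroup.closure S ≤ Subgroup.centralizer S := by
    rw [Subgroup.closure_le]
    intro x hx
    rw [SetLike.mem_coe, Subgroup.mem_centralizer_iff]
    intro y hy
    exact (hS y hy x hx).eq
  have h2 : Subgroup.closure S ≤ Subgroup.centralizer (Subgroup.centralizer S : Set Ω) := by
    rw [Subgroup.closure_le]
    intro x hx
    rw [SetLike.mem_coe, Subgroup.mem_centralizer_iff]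
    intro y hy
    rw [SetLike.mem_coe, Subgroup.mem_centralizer_iff] at hy
    exact (hy x hx).symm
  intro x hx y hy
  have := h2 hx
  rw [Subgroup.mem_centralizer_iff] at this
  exact (this y (h1 hy)).symm

/-- the closure of a set of pairwise commuting `p`-elements is a `p`-group -/
theorem ao3_closure_isPGroup {Ω : Type*} [Group Ω] (p : ℕ) (S : Set Ω)
    (hS : ∀ x ∈ S, ∀ y ∈ S, Commute x y) (hp : ∀ x ∈ S, ∃ k : ℕ, x ^ (p ^ k) = 1) :
    IsPGroup p (Subgroup.closure S) := by
  have hc := ao3_closure_commute S hS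
  have key : ∀ x ∈ Subgroup.closure S, ∃ k : ℕ, x ^ (p ^ k) = 1 := by
    intro x hx
    induction hx using Subgroup.closure_induction with
    | mem x hx => exact hp x hx
    | one => exact ⟨0, by simp⟩
    | mul x y hx hy ihx ihy =>
      obtain ⟨a, ha⟩ := ihx
      obtain ⟨b, hb⟩ := ihy
      refine ⟨a + b, ?_⟩
      rw [(hc x hx y hy).mul_pow, pow_add, pow_mul, ha, one_pow, mul_comm (p ^ a), pow_mul, hb,
        one_pow, one_mul]
    | inv x hx ihx =>
      obtain ⟨a, ha⟩ := ihx
      exact ⟨a, by rw [inv_pow, ha, inv_one]⟩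
  intro ⟨x, hx⟩
  obtain ⟨k, hk⟩ := key x hx
  exact ⟨k, Subtype.ext (by simpa using hk)⟩

/-- the product of a list of pairwise commuting members of a closed family is a member -/
theorem ao3_list_prod_mem {Ω : Type*} [Group Ω] {p : ℕ} {A : Subgroup Ω} {𝒯 : Set Ω}
    (h𝒯 : ClosedFam p A 𝒯) (l : List Ω) (hcomm : ∀ x ∈ l, ∀ y ∈ l, Commute x y)
    (hmem : ∀ y ∈ l, y ∈ 𝒯) : l.prod ∈ 𝒯 := by
  obtain ⟨h1, h2, _, h4, _⟩ := h𝒯
  set P : Subgroup Ω := Subgroup.closure {y | y ∈ l} with hP
  have hPp : IsPGroup p P := by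
    apply ao3_closure_isPGroup p _ hcomm
    intro x hx
    obtain ⟨k, hk⟩ := (h2 x (hmem x hx)).2
    exact ⟨k, by rw [← hk]; exact pow_orderOf_eq_one x⟩
  have hPA : P ≤ A := by
    rw [hP, Subgroup.closure_le]
    intro x hx
    exact (h2 x (hmem x hx)).1
  have key : ∀ l' : List Ω, (∀ y ∈ l', y ∈ l) → l'.prod ∈ 𝒯 ∧ l'.prod ∈ P := by
    intro l'
    induction l' with
    | nil => intro _; exact ⟨by simpa using h1, by simpa using P.one_mem⟩
    | cons a t ih =>
      intro hl'
      have hat : a ∈ l := hl' a (by simp)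
      obtain ⟨ih1, ih2⟩ := ih (fun y hy => hl' y (by simp [hy]))
      have haP : a ∈ P := Subgroup.subset_closure hat
      rw [List.prod_cons]
      exact ⟨h4 P hPp hPA a haP _ ih2 (hmem a hat) ih1, P.mul_mem haP ih2⟩
  exact (key l (fun y hy => hy)).1

/-- a permutation all of whose cycle factors lie in a closed family lies in it -/
theorem ao3_mem_of_cycleFactors_mem (Z : Type) [Fintype Z] [DecidableEq Z] {p : ℕ}
    {A : Subgroup (Perm Z)} {𝒯 : Set (Perm Z)} (h𝒯 : ClosedFam p A 𝒯) (w : Perm Z)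
    (h : ∀ c ∈ w.cycleFactorsFinset, c ∈ 𝒯) : w ∈ 𝒯 := by
  obtain ⟨l, hl, hl'⟩ := w.cycleFactorsFinset.exists_list_nodup_eq
  have hl2 := hl'
  rw [eq_comm, cycleFactorsFinset_eq_list_toFinset hl] at hl2
  obtain ⟨_, hdisj, hprod⟩ := hl2
  rw [← hprod]
  apply ao3_list_prod_mem h𝒯 l
  · intro x hx y hy
    have hx' : x ∈ w.cycleFactorsFinset := by rw [← hl']; simpa using hx
    have hy' : y ∈ w.cycleFactorsFinset := by rw [← hl']; simpa using hy
    exact cycleFactorsFinset_mem_commute' w hx' hy'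
  · intro y hy
    exact h y (by rw [← hl']; simpa using hy)

/-- [Ao3] (`p` odd) then it contains every element of order `p` (a product of commuting `p`-cycles). -/
theorem closedFam_orderP_mem (Z : Type) [Fintype Z] [DecidableEq Z] (p : ℕ) [Fact p.Prime]
    (hp : p ≠ 2) (𝒯 : Set (Perm Z)) (h𝒯 : ClosedFam p (alternatingGroup Z) 𝒯)
    (h2 : ∀ c : Perm Z, c.IsCycle → c.support.card = p → c ∈ 𝒯) :
    ∀ w : Perm Z, orderOf w = p → w ∈ 𝒯 := by
  intro w hw
  apply ao3_mem_of_cycleFactors_mem Z h𝒯 w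
  intro c hc
  have hcyc : c.IsCycle := (mem_cycleFactorsFinset_iff.mp hc).1
  apply h2 c hcyc
  have hpr : (orderOf w).Prime := by rw [hw]; exact Fact.out
  obtain ⟨n, hn⟩ := cycleType_prime_order hpr
  have hmem : c.support.card ∈ w.cycleType := by
    rw [cycleType_def, Multiset.mem_map]
    exact ⟨c, hc, rfl⟩
  rw [hn, hw] at hmem
  exact Multiset.eq_of_mem_replicate hmem

end Cfsg.Agent.Lib.Helper87.AltF
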