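import Mathlib
import Cfsg.Agent.Lib.Helper87.AltModel
import Cfsg.Agent.Lib.Helper69.AltFAo3

set_option autoImplicit false

/-! # S5165 hive, leaf Ao2: a nontrivial closed family (`p` odd, `|Z| ≥ p + 2`) contains every
`p`-cycle. -/

namespace Cfsg.Agent.Lib.Helper87.AltF

open Equiv Equiv.Perm

/-- if the centralizer of `y` is not inside the alternating group, then every permutation with the
same cycle type is an `A`-conjugate of `y` -/
theorem ao2_conj_mem (Z : Type) [Fintype Z] [DecidableEq Z] {p : ℕ} {𝒯 : Set (Perm Z)}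
    (h𝒯 : ClosedFam p (alternatingGroup Z) 𝒯) (y y' : Perm Z) (hy : y ∈ 𝒯)
    (hct : y.cycleType = y'.cycleType)
    (hcen : ¬ Subgroup.centralizer {y} ≤ alternatingGroup Z) : y' ∈ 𝒯 := by
  obtain ⟨_, _, h3, _, _⟩ := h𝒯
  obtain ⟨g, hg⟩ := isConj_iff.mp (isConj_iff_cycleType_eq.mpr hct)
  by_cases hgA : g ∈ alternatingGroup Z
  · rw [← hg]; exact h3 y hy g hgA
  · rw [SetLike.not_le_iff_exists] at hcen
    obtain ⟨h, hh, hhA⟩ := hcen
    have hgs : sign g = -1 := by
      rcases Int.units_eq_one_or (sign g) with h1 | h1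
      · exact absurd (mem_alternatingGroup.mpr h1) hgA
      · exact h1
    have hhs : sign h = -1 := by
      rcases Int.units_eq_one_or (sign h) with h1 | h1
      · exact absurd (mem_alternatingGroup.mpr h1) hhA
      · exact h1
    have hghA : g * h ∈ alternatingGroup Z := by
      rw [mem_alternatingGroup, Perm.sign_mul, hgs, hhs]; rfl
    have hcomm : h * y = y * h := by
      rw [Subgroup.mem_centralizer_iff] at hh
      exact (hh y rfl).symm
    have : (g * h) * y * (g * h)⁻¹ = y' := by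
      rw [← hg, mul_inv_rev]
      have : h * y * h⁻¹ = y := by rw [hcomm, mul_inv_cancel_right]
      calc g * h * y * (h⁻¹ * g⁻¹) = g * (h * y * h⁻¹) * g⁻¹ := by group
        _ = g * y * g⁻¹ := by rw [this]
    rw [← this]
    exact h3 y hy _ hghA

/-- a permutation of cycle type `p^(n+1)` with `n ≥ 1` or at least two fixed points has an odd
centralizing element -/
theorem ao2_not_le (Z : Type) [Fintype Z] [DecidableEq Z] (p : ℕ) (y : Perm Z) (n : ℕ)
    (hct : y.cycleType = Multiset.replicate (n + 1) p)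
    (h : 1 ≤ n ∨ p + 2 ≤ Fintype.card Z) :
    ¬ Subgroup.centralizer {y} ≤ alternatingGroup Z := by
  intro hle
  rw [centralizer_le_alternating_iff] at hle
  obtain ⟨_, hcard, hcount⟩ := hle
  rcases h with h | h
  · have := hcount p
    rw [hct, Multiset.count_replicate_self] at this
    omega
  · rw [hct, Multiset.sum_replicate, smul_eq_mul] at hcard
    by_cases hn : n = 0
    · subst hn; omega
    · have := hcount p
      rw [hct, Multiset.count_replicate_self] at this
      omega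

/-- [Ao2] (`p` odd) a nontrivial closed family contains every `p`-cycle: it contains an element of
order `p`, of cycle type `p^a`; all elements of that type are `A`-conjugate; products of two
commuting ones give type `p²` and then `p¹`; all `p`-cycles are `A`-conjugate as `|Z| ≥ p + 2`. -/
theorem closedFam_pcycle_mem (Z : Type) [Fintype Z] [DecidableEq Z] (p : ℕ) [Fact p.Prime]
    (hp : p ≠ 2) (hZ : p + 2 ≤ Fintype.card Z) (𝒯 : Set (Perm Z))
    (h𝒯 : ClosedFam p (alternatingGroup Z) 𝒯) (hne : ∃ y ∈ 𝒯, y ≠ 1) :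
    ∀ c : Perm Z, c.IsCycle → c.support.card = p → c ∈ 𝒯 := by
  have hpp : p.Prime := Fact.out
  obtain ⟨m, hm⟩ : ∃ m, p = 2 * m + 1 := by
    rcases hpp.eq_two_or_odd' with h | h
    · exact absurd h hp
    · obtain ⟨m, hm⟩ := h; exact ⟨m, hm⟩
  obtain ⟨y, hy𝒯, hy1⟩ := hne
  have h𝒯' := h𝒯
  obtain ⟨h1, h2, h3, h4, h5⟩ := h𝒯
  -- an element of order `p`
  obtain ⟨k, hk⟩ := (h2 y hy𝒯).2
  have hk0 : k ≠ 0 := by
    rintro rfl
    rw [pow_zero, orderOf_eq_one_iff] at hk
    exact hy1 hk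
  obtain ⟨k', rfl⟩ : ∃ k', k = k' + 1 := ⟨k - 1, by omega⟩
  set y₁ : Perm Z := y ^ (p ^ k') with hy₁
  have hy₁𝒯 : y₁ ∈ 𝒯 := h5 y hy𝒯 _
  have hy₁o : orderOf y₁ = p := by
    rw [hy₁, orderOf_pow_of_dvd (pow_ne_zero _ hpp.ne_zero) (by rw [hk]; exact pow_dvd_pow p (by omega)),
      hk, pow_succ, Nat.mul_div_cancel_left _ (pow_pos hpp.pos _)]
  have hy₁A : y₁ ∈ alternatingGroup Z := (h2 y₁ hy₁𝒯).1
  have hy₁p : y₁ ^ p = 1 := by rw [← hy₁o]; exact pow_orderOf_eq_one y₁
  have hy₁ne : y₁ ≠ 1 := by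
    intro h
    rw [h, orderOf_one] at hy₁o
    exact hpp.one_lt.ne hy₁o
  obtain ⟨n, hn⟩ := cycleType_prime_order (σ := y₁) (by rw [hy₁o]; exact hpp)
  rw [hy₁o] at hn
  -- a cycle factor
  have hcf : y₁.cycleFactorsFinset.Nonempty := by
    rw [Finset.nonempty_iff_ne_empty, Ne, cycleFactorsFinset_eq_empty_iff]
    exact hy₁ne
  obtain ⟨c, hc⟩ := hcf
  have hccyc : c.IsCycle := (mem_cycleFactorsFinset_iff.mp hc).1
  have hccard : c.support.card = p := by
    have hmem : c.support.card ∈ y₁.cycleType := by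
      rw [cycleType_def, Multiset.mem_map]
      exact ⟨c, hc, rfl⟩
    rw [hn] at hmem
    exact Multiset.eq_of_mem_replicate hmem
  have hcp : c ^ p = 1 := by
    rw [← hccard, ← hccyc.orderOf]; exact pow_orderOf_eq_one c
  have hcA : c ∈ alternatingGroup Z := by
    rw [mem_alternatingGroup, hccyc.sign, hccard, hm, pow_succ, pow_mul]
    simp
  set r : Perm Z := y₁ * c⁻¹ with hr
  have hdisj : Disjoint r c := disjoint_mul_inv_of_mem_cycleFactorsFinset hc
  have hcomm : Commute r c := hdisj.commute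
  have hy₁rc : y₁ = r * c := by rw [hr, inv_mul_cancel_right]
  have hrA : r ∈ alternatingGroup Z :=
    (alternatingGroup Z).mul_mem hy₁A ((alternatingGroup Z).inv_mem hcA)
  have hrp : r ^ p = 1 := by
    have : y₁ ^ p = r ^ p * c ^ p := by rw [hy₁rc, hcomm.mul_pow]
    rw [hy₁p, hcp, mul_one] at this
    exact this.symm
  -- the conjugate `c⁻¹ * r`
  set y₂ : Perm Z := c⁻¹ * r with hy₂
  have hy₂𝒯 : y₂ ∈ 𝒯 := by
    apply ao2_conj_mem Z h𝒯' y₁ y₂ hy₁𝒯
    · rw [hy₁rc, hy₂, hdisj.cycleType_mul, hdisj.symm.inv_left.cycleType_mul, cycleType_inv,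
        add_comm]
    · apply ao2_not_le Z p y₁ n hn
      by_cases hn0 : n = 0
      · right; exact hZ
      · left; omega
  -- the `p`-group `⟨c, r⟩`
  set P : Subgroup (Perm Z) := Subgroup.closure {c, r} with hP
  have hPp : IsPGroup p P := by
    apply ao3_closure_isPGroup
    · intro x hx z hz
      rcases hx with rfl | rfl <;> rcases hz with rfl | rfl
      · exact Commute.refl _
      · exact hcomm.symm
      · exact hcomm
      · exact Commute.refl _
    · intro x hx
      rcases hx with rfl | rfl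
      · exact ⟨1, by rw [pow_one]; exact hcp⟩
      · exact ⟨1, by rw [pow_one]; exact hrp⟩
  have hPA : P ≤ alternatingGroup Z := by
    rw [hP, Subgroup.closure_le]
    intro x hx
    rcases hx with rfl | rfl
    · exact hcA
    · exact hrA
  have hcP : c ∈ P := Subgroup.subset_closure (by simp)
  have hrP : r ∈ P := Subgroup.subset_closure (by simp)
  have hy₁P : y₁ ∈ P := by rw [hy₁rc]; exact P.mul_mem hrP hcP
  have hy₂P : y₂ ∈ P := P.mul_mem (P.inv_mem hcP) hrP
  have he : y₁ ^ (p - 1) * y₂ ∈ 𝒯 :=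
    h4 P hPp hPA _ (P.pow_mem hy₁P _) _ hy₂P (h5 y₁ hy₁𝒯 _) hy₂𝒯
  have hy₁inv : y₁ ^ (p - 1) = y₁⁻¹ := by
    rw [eq_inv_iff_mul_eq_one, ← pow_succ, Nat.sub_add_cancel hpp.pos, hy₁p]
  have he2 : y₁ ^ (p - 1) * y₂ = c⁻¹ * c⁻¹ := by
    rw [hy₁inv, hy₁rc, hy₂, mul_inv_rev]
    have : r⁻¹ * (c⁻¹ * r) = c⁻¹ := by
      rw [hcomm.symm.inv_left.eq, inv_mul_cancel_left]
    rw [mul_assoc, this]
  rw [he2] at he
  have hc𝒯 : c ∈ 𝒯 := by
    have := h5 _ he m
    have h6 : (c⁻¹ * c⁻¹) ^ m = c := by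
      rw [← pow_two, ← pow_mul, inv_pow, inv_eq_iff_eq_inv, eq_inv_iff_mul_eq_one, ← pow_succ,
        ← hm, hcp]
    rwa [h6] at this
  -- all `p`-cycles
  intro c' hc' hc'card
  apply ao2_conj_mem Z h𝒯' c c' hc𝒯
  · rw [hccyc.cycleType, hc'.cycleType, hccard, hc'card]
  · apply ao2_not_le Z p c 0
    · rw [hccyc.cycleType, hccard]; rfl
    · right; exact hZ

end Cfsg.Agent.Lib.Helper87.AltF
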