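import Mathlib
import Cfsg.Prelude.Def_Characters

set_option autoImplicit false

/-!
# Averaging over a subgroup

If the restriction of a character to a subgroup `H` does not contain the trivial character
(`∑_{g ∈ H} χ g = 0`), then `∑_{g ∈ H} χ (g * h) = 0` for every `h`.
-/

namespace Cfsg.Agent.Lib.Helper69.Avg

open Cfsg

variable {G : Type*} [Group G]

/-- The sum of the operators `ρ g` over a finite subgroup. -/
noncomputable def opSum {V : Type*} [AddCommGroup V] [Module ℂ V]
    (ρ : Representation ℂ G V) (H : Subgroup G) [Fintype H] : V →ₗ[ℂ] V :=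
  ∑ g : H, ρ (g : G)

theorem opSum_mul_self {V : Type*} [AddCommGroup V] [Module ℂ V]
    (ρ : Representation ℂ G V) (H : Subgroup G) [Fintype H] :
    opSum ρ H * opSum ρ H = (Fintype.card H : ℂ) • opSum ρ H := by
  unfold opSum
  rw [Finset.sum_mul]
  have h1 : ∀ g : H, ρ (g : G) * ∑ h : H, ρ (h : G) = ∑ h : H, ρ (h : G) := by
    intro g
    rw [Finset.mul_sum]
    have : ∀ h : H, ρ (g : G) * ρ (h : G) = ρ ((g * h : H) : G) := by
      intro h
      rw [Subgroup.coe_mul, map_mul]
    simp_rw [this]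
    exact Fintype.sum_bijective (fun h : H => g * h) (Group.mulLeft_bijective g) _ _
      (fun _ => rfl)
  rw [Finset.sum_congr rfl (fun g _ => h1 g), Finset.sum_const, Finset.card_univ,
    Nat.cast_smul_eq_nsmul]

theorem opSum_eq_zero {V : Type*} [AddCommGroup V] [Module ℂ V] [FiniteDimensional ℂ V]
    (ρ : Representation ℂ G V) (H : Subgroup G) [Fintype H]
    (h0 : ∑ g : H, ρ.character (g : G) = 0) : opSum ρ H = 0 := by
  have hc : (Fintype.card H : ℂ) ≠ 0 := by
    have : 0 < Fintype.card H := Fintype.card_pos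
    exact_mod_cast this.ne'
  set π : V →ₗ[ℂ] V := (Fintype.card H : ℂ)⁻¹ • opSum ρ H with hπ
  have hidem : IsIdempotentElem π := by
    unfold IsIdempotentElem
    rw [hπ, smul_mul_smul_comm, opSum_mul_self, smul_smul]
    congr 1
    field_simp
  have htr : LinearMap.trace ℂ V π = 0 := by
    rw [hπ, map_smul]
    unfold opSum
    rw [map_sum]
    have : ∑ g : H, LinearMap.trace ℂ V (ρ (g : G)) = ∑ g : H, ρ.character (g : G) := rfl
    rw [this, h0, smul_zero]
  have hzero : π = 0 := LinearMap.IsIdempotentElem.eq_zero_of_trace_eq_zero hidem htr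
  have : opSum ρ H = (Fintype.card H : ℂ) • π := by
    rw [hπ, smul_smul, mul_inv_cancel₀ hc, one_smul]
  rw [this, hzero, smul_zero]

/-- If `∑_{g ∈ H} χ g = 0` then `∑_{g ∈ H} χ (g * h) = 0` for all `h`. -/
theorem sum_character_mul_eq_zero {V : Type*} [AddCommGroup V] [Module ℂ V]
    [FiniteDimensional ℂ V]
    (ρ : Representation ℂ G V) (H : Subgroup G) [Fintype H]
    (h0 : ∑ g : H, ρ.character (g : G) = 0) (h : G) :
    ∑ g : H, ρ.character ((g : G) * h) = 0 := by
  have h1 := opSum_eq_zero ρ H h0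
  have h2 : ∑ g : H, ρ.character ((g : G) * h) = LinearMap.trace ℂ V (opSum ρ H * ρ h) := by
    unfold opSum
    rw [Finset.sum_mul, map_sum]
    refine Finset.sum_congr rfl (fun g _ => ?_)
    show LinearMap.trace ℂ V (ρ ((g : G) * h)) = _
    rw [map_mul]
  rw [h2, h1, zero_mul, map_zero]

/-- Version for characters in the sense of the Prelude. -/
theorem sum_char_mul_eq_zero {χ : G → ℂ} (hχ : IsCharacter G χ) (H : Subgroup G) [Fintype H]
    (h0 : ∑ g : H, χ (g : G) = 0) (h : G) :
    ∑ g : H, χ ((g : G) * h) = 0 := by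
  obtain ⟨n, ρ, rfl⟩ := hχ
  exact sum_character_mul_eq_zero ρ H h0 h

end Cfsg.Agent.Lib.Helper69.Avg
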