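import Mathlib

/-!
# Arithmetic of the orbit data in the Brauer–Suzuki–Wall configuration
-/

set_option autoImplicit false

namespace Cfsg.Agent.Lib.Helper69.BSW

/-- abstract orbit data -/
structure OData (k N r : ℕ) (O : Finset ℕ) (T w : ℕ → ℕ) : Prop where
  sum : r = ∑ a ∈ O, T a
  ge3 : ∀ a ∈ O, 3 ≤ a
  odd : ∀ a ∈ O, Odd a
  dvdN : ∀ a ∈ O, a ∣ N
  copk : ∀ a ∈ O, Nat.Coprime a k
  Tw : ∀ a ∈ O, T a * w a = 2 * k * (a - 1)
  w2 : ∀ a ∈ O, 2 ∣ w a
  wk : ∀ a ∈ O, w a ∣ k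
  wa : ∀ a ∈ O, w a ∣ a - 1
  hall : ∀ a ∈ O, ∀ ℓ : ℕ, ℓ.Prime → ℓ ∣ a → ℓ ^ (N.factorization ℓ) ∣ a
  cop : ∀ a ∈ O, ∀ b ∈ O, a ≠ b → Nat.Coprime a b

theorem prod_dvd_of_pairwise_coprime (O : Finset ℕ) (M : ℕ)
    (hc : ∀ a ∈ O, ∀ b ∈ O, a ≠ b → Nat.Coprime a b) (hd : ∀ a ∈ O, a ∣ M) :
    ∏ a ∈ O, a ∣ M := by
  classical
  induction O using Finset.induction_on with
  | empty => simp
  | insert a s ha ih =>
    rw [Finset.prod_insert ha]
    apply Nat.Coprime.mul_dvd_of_dvd_of_dvd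
    · apply Nat.Coprime.prod_right
      intro b hb
      apply hc a (Finset.mem_insert_self a s) b (Finset.mem_insert_of_mem hb)
      intro h; rw [h] at ha; exact ha hb
    · exact hd a (Finset.mem_insert_self a s)
    · apply ih
      · intro x hx y hy hxy
        exact hc x (Finset.mem_insert_of_mem hx) y (Finset.mem_insert_of_mem hy) hxy
      · intro x hx
        exact hd x (Finset.mem_insert_of_mem hx)

theorem sum_pred_add_one_le_prod (O : Finset ℕ) (h : ∀ a ∈ O, 1 ≤ a) :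
    ∑ a ∈ O, (a - 1) + 1 ≤ ∏ a ∈ O, a := by
  classical
  induction O using Finset.induction_on with
  | empty => simp
  | insert a s ha ih =>
    rw [Finset.sum_insert ha, Finset.prod_insert ha]
    have h1 := ih (fun x hx => h x (Finset.mem_insert_of_mem hx))
    have h2 := h a (Finset.mem_insert_self a s)
    obtain ⟨b, rfl⟩ : ∃ b, a = b + 1 := ⟨a - 1, by omega⟩
    simp only [Nat.add_sub_cancel]
    generalize ∑ x ∈ s, (x - 1) = S at *
    generalize ∏ x ∈ s, x = P at *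
    have := Nat.mul_le_mul_left (b + 1) h1
    nlinarith

theorem card_le_one_of_sum_eq (O : Finset ℕ) (h : ∀ a ∈ O, 2 ≤ a)
    (heq : ∑ a ∈ O, (a - 1) + 1 = ∏ a ∈ O, a) : ∀ a ∈ O, O = {a} := by
  classical
  intro a ha
  have hO : O = insert a (O.erase a) := (Finset.insert_erase ha).symm
  have hna : a ∉ O.erase a := Finset.notMem_erase a O
  rw [hO, Finset.sum_insert hna, Finset.prod_insert hna] at heq
  have h1 := sum_pred_add_one_le_prod (O.erase a)
    (fun x hx => le_trans (by norm_num) (h x (Finset.mem_of_mem_erase hx)))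
  have h2 := h a ha
  obtain ⟨b, rfl⟩ : ∃ b, a = b + 2 := ⟨a - 2, by omega⟩
  have e1 : b + 2 - 1 = b + 1 := by omega
  rw [e1] at heq
  -- Σ' = 0 and Π' = 1
  have h3 : ∏ x ∈ O.erase (b + 2), x = 1 := by
    generalize ∑ x ∈ O.erase (b + 2), (x - 1) = S at *
    generalize ∏ x ∈ O.erase (b + 2), x = P at *
    have h5 := Nat.mul_le_mul_left (b + 2) h1
    have h6 : S = 0 := by
      by_contra hS
      have : 1 ≤ S := Nat.one_le_iff_ne_zero.mpr hS
      nlinarith
    subst h6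
    have h7 : (b + 2) * P = (b + 2) * 1 := by omega
    exact Nat.eq_of_mul_eq_mul_left (by omega) h7
  by_contra hne
  have : ∃ y ∈ O, y ≠ b + 2 := by
    by_contra hcon
    push Not at hcon
    apply hne
    ext y
    rw [Finset.mem_singleton]
    exact ⟨hcon y, fun hy => hy ▸ ha⟩
  obtain ⟨y, hy, hyne⟩ := this
  have hy' : y ∈ O.erase (b + 2) := Finset.mem_erase.mpr ⟨hyne, hy⟩
  have h4 : y ∣ ∏ x ∈ O.erase (b + 2), x := Finset.dvd_prod_of_mem _ hy'
  rw [h3] at h4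
  have := h y hy
  have := Nat.le_of_dvd one_pos h4
  omega

namespace OData

variable {k N r : ℕ} {O : Finset ℕ} {T w : ℕ → ℕ}

theorem T_le (D : OData k N r O T w) {a : ℕ} (ha : a ∈ O) : T a ≤ k * (a - 1) := by
  have h1 := D.Tw a ha
  obtain ⟨j, hj⟩ := D.w2 a ha
  have h3 := D.ge3 a ha
  rw [hj] at h1
  have hj0 : 0 < j := by
    rcases Nat.eq_zero_or_pos j with h | h
    · exfalso
      have h5 := D.wa a ha
      rw [hj, h, mul_zero, zero_dvd_iff] at h5
      omega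
    · exact h
  have h6 : T a * 2 ≤ T a * (2 * j) := Nat.mul_le_mul_left _ (by omega)
  nlinarith

theorem T_le_r (D : OData k N r O T w) {a : ℕ} (ha : a ∈ O) : T a ≤ r := by
  rw [D.sum]
  exact Finset.single_le_sum (f := T) (fun i _ => Nat.zero_le _) ha

theorem r_le (D : OData k N r O T w) : r ≤ k * ∑ a ∈ O, (a - 1) := by
  rw [D.sum, Finset.mul_sum]
  exact Finset.sum_le_sum (fun a ha => D.T_le ha)

theorem sum_le_of_dvd (D : OData k N r O T w) {M : ℕ} (hM : 0 < M) (hd : ∀ a ∈ O, a ∣ M) :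
    ∑ a ∈ O, (a - 1) + 1 ≤ M := by
  have h1 := prod_dvd_of_pairwise_coprime O M D.cop hd
  have h2 := sum_pred_add_one_le_prod O (fun a ha => le_trans (by norm_num) (D.ge3 a ha))
  exact le_trans h2 (Nat.le_of_dvd hM h1)

end OData

end Cfsg.Agent.Lib.Helper69.BSW
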