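import Mathlib
import Cfsg.Agent.Lib.Helper69.BSWArith

/-!
# Arithmetic of the orbit data: the three cases
-/

set_option autoImplicit false

namespace Cfsg.Agent.Lib.Helper69.BSW

namespace OData

variable {k N r : ℕ} {O : Finset ℕ} {T w : ℕ → ℕ}

theorem dvd_cofactor (D : OData k N r O T w) {M : ℕ} (hN : N = 2 * k * M) {a : ℕ} (ha : a ∈ O) :
    a ∣ M := by
  have h1 : Nat.Coprime a (2 * k) :=
    Nat.Coprime.mul_right (Nat.coprime_two_right.mpr (D.odd a ha)) (D.copk a ha)
  have h2 := D.dvdN a ha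
  rw [hN] at h2
  exact h1.dvd_of_dvd_mul_left h2

theorem q_dvd (D : OData k N r O T w) (hN0 : N ≠ 0) {p e : ℕ} (hp : p.Prime) (hqN : p ^ e ∣ N)
    {a : ℕ} (ha : a ∈ O) (hpa : p ∣ a) : p ^ e ∣ a := by
  have h1 := D.hall a ha p hp hpa
  have h2 := (hp.pow_dvd_iff_le_factorization hN0).mp hqN
  exact dvd_trans (pow_dvd_pow p h2) h1

/-- Case B arithmetic -/
theorem arith_B (D : OData k N r O T w) (hk : 2 ≤ k)
    (hN : N = 2 * k * ((k - 1) * (2 * k - 1))) (hr : r = k * (k - 2))
    {p e : ℕ} (hp : p.Prime) (hq : 2 * k - 1 = p ^ e) :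
    ∀ a ∈ O, a = k - 1 ∧ w a = 2 := by
  obtain ⟨m, rfl⟩ : ∃ m, k = m + 2 := ⟨k - 2, by omega⟩
  have e1 : m + 2 - 1 = m + 1 := by omega
  have e2 : 2 * (m + 2) - 1 = 2 * m + 3 := by omega
  have e3 : m + 2 - 2 = m := by omega
  rw [e1, e2] at hN
  rw [e3] at hr
  rw [e2] at hq
  rw [e1]
  have hN0 : N ≠ 0 := by rw [hN]; positivity
  have hqN : p ^ e ∣ N := by
    rw [← hq, hN]
    exact Dvd.intro_left (2 * (m + 2) * (m + 1)) (by ring)
  -- Step 1: no a is divisible by p
  have step1 : ∀ a ∈ O, ¬ p ∣ a := by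
    intro a ha hpa
    have hqa : (2 * m + 3) ∣ a := by rw [hq]; exact D.q_dvd hN0 hp hqN ha hpa
    have haM := D.dvd_cofactor hN ha
    obtain ⟨e', rfl⟩ := hqa
    have he' : e' ∣ m + 1 := by
      rw [mul_comm (m + 1)] at haM
      exact Nat.dvd_of_mul_dvd_mul_left (by omega) haM
    have h3 := D.ge3 _ ha
    have he'pos : 0 < e' := by
      rcases Nat.eq_zero_or_pos e' with h | h
      · rw [h] at h3; omega
      · exact h
    have hwk := D.wk _ ha
    have hwa := D.wa _ ha
    have hw2 := D.w2 _ ha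
    have hTw := D.Tw _ ha
    have hTr := D.T_le_r ha
    set W := w ((2 * m + 3) * e') with hW
    -- W ∣ e' + 1
    have h4 : W ∣ e' + 1 := by
      have h5 : W ∣ 2 * (m + 2) * e' := Dvd.dvd.mul_right (Dvd.dvd.mul_left hwk 2) e'
      have h6 : e' + 1 = 2 * (m + 2) * e' - ((2 * m + 3) * e' - 1) := by
        have : (2 * m + 3) * e' + e' = 2 * (m + 2) * e' := by ring
        have : 1 ≤ (2 * m + 3) * e' := by nlinarith
        omega
      rw [h6]
      exact Nat.dvd_sub h5 hwa
    have h7 : W ≤ e' + 1 := Nat.le_of_dvd (by omega) h4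
    obtain ⟨A, hA⟩ := Nat.exists_eq_add_of_le' (show 1 ≤ (2 * m + 3) * e' by omega)
    rw [hA] at hTw
    simp only [Nat.add_sub_cancel] at hTw
    rw [hr] at hTr
    have h8 : T (A + 1) * W ≤ (m + 2) * m * (e' + 1) := by
      calc T (A + 1) * W ≤ (m + 2) * m * W := by rw [← hA]; exact Nat.mul_le_mul_right _ hTr
        _ ≤ (m + 2) * m * (e' + 1) := Nat.mul_le_mul_left _ h7
    rw [hTw] at h8
    have h9 : 2 * A ≤ m * (e' + 1) := by
      have : 2 * (m + 2) * A = (m + 2) * (2 * A) := by ring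
      rw [this, mul_assoc] at h8
      exact Nat.le_of_mul_le_mul_left h8 (by omega)
    nlinarith
  -- Step 2: every a divides m + 1
  have step2 : ∀ a ∈ O, a ∣ m + 1 := by
    intro a ha
    have haM := D.dvd_cofactor hN ha
    have hcop : Nat.Coprime a (2 * m + 3) := by
      rw [hq]
      apply Nat.Coprime.pow_right
      exact (Nat.Prime.coprime_iff_not_dvd hp).mpr (step1 a ha) |>.symm
    exact hcop.dvd_of_dvd_mul_right haM
  have step3 : ∑ a ∈ O, (a - 1) + 1 ≤ m + 1 := D.sum_le_of_dvd (by omega) step2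
  have step4 := D.r_le
  rw [hr] at step4
  have hsum : ∑ a ∈ O, (a - 1) = m := by
    have h1 : (m + 2) * m ≤ (m + 2) * ∑ a ∈ O, (a - 1) := step4
    have h2 := Nat.le_of_mul_le_mul_left h1 (by omega)
    omega
  -- termwise equality
  have hT : ∀ a ∈ O, T a = (m + 2) * (a - 1) := by
    have h1 : ∑ a ∈ O, T a = ∑ a ∈ O, (m + 2) * (a - 1) := by
      rw [← D.sum, hr, ← Finset.mul_sum, hsum]
    exact (Finset.sum_eq_sum_iff_of_le (fun a ha => D.T_le ha)).mp h1
  have hprod : ∑ a ∈ O, (a - 1) + 1 = ∏ a ∈ O, a := by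
    have h1 := prod_dvd_of_pairwise_coprime O (m + 1) D.cop step2
    have h2 := Nat.le_of_dvd (by omega) h1
    have h3 := sum_pred_add_one_le_prod O (fun a ha => le_trans (by norm_num) (D.ge3 a ha))
    omega
  have hsingle := card_le_one_of_sum_eq O (fun a ha => le_trans (by norm_num) (D.ge3 a ha)) hprod
  intro a ha
  have h3 := D.ge3 a ha
  constructor
  · have := hsingle a ha
    rw [this, Finset.sum_singleton] at hsum
    omega
  · have h1 := D.Tw a ha
    rw [hT a ha] at h1
    have h2 : 0 < (m + 2) * (a - 1) := by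
      have : 0 < a - 1 := by omega
      positivity
    have h4 : (m + 2) * (a - 1) * w a = (m + 2) * (a - 1) * 2 := by
      rw [h1]; ring
    exact Nat.eq_of_mul_eq_mul_left h2 h4

/-- Case A arithmetic -/
theorem arith_A (D : OData k N r O T w) (hk : 1 ≤ k)
    (hN : N = 2 * k * ((k + 1) * (2 * k + 1))) (hr : r = k * (k + 4))
    {p e : ℕ} (hp : p.Prime) (hq : 2 * k + 1 = p ^ e) : 2 * k + 1 ∈ O := by
  have hN0 : N ≠ 0 := by rw [hN]; positivity
  have hqN : p ^ e ∣ N := by
    rw [← hq, hN]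
    exact Dvd.intro_left (2 * k * (k + 1)) (by ring)
  -- Step 1
  have step1 : ∃ a ∈ O, p ∣ a := by
    by_contra hcon
    push Not at hcon
    have step2 : ∀ a ∈ O, a ∣ k + 1 := by
      intro a ha
      have haM := D.dvd_cofactor hN ha
      have hcop : Nat.Coprime a (2 * k + 1) := by
        rw [hq]
        apply Nat.Coprime.pow_right
        exact (Nat.Prime.coprime_iff_not_dvd hp).mpr (hcon a ha) |>.symm
      exact hcop.dvd_of_dvd_mul_right haM
    have step3 : ∑ a ∈ O, (a - 1) + 1 ≤ k + 1 := D.sum_le_of_dvd (by omega) step2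
    have step4 := D.r_le
    rw [hr] at step4
    have : k * ∑ a ∈ O, (a - 1) ≤ k * k := Nat.mul_le_mul_left _ (by omega)
    nlinarith
  obtain ⟨a, ha, hpa⟩ := step1
  have hqa : (2 * k + 1) ∣ a := by rw [hq]; exact D.q_dvd hN0 hp hqN ha hpa
  have haM := D.dvd_cofactor hN ha
  obtain ⟨e', rfl⟩ := hqa
  have he' : e' ∣ k + 1 := by
    rw [mul_comm (k + 1)] at haM
    exact Nat.dvd_of_mul_dvd_mul_left (by omega) haM
  have h3 := D.ge3 _ ha
  have he'pos : 0 < e' := by
    rcases Nat.eq_zero_or_pos e' with h | h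
    · rw [h] at h3; omega
    · exact h
  rcases Nat.lt_or_ge e' 2 with hlt | hge
  · have : e' = 1 := by omega
    rw [this, mul_one] at ha
    exact ha
  · exfalso
    have hwk := D.wk _ ha
    have hwa := D.wa _ ha
    have hTw := D.Tw _ ha
    have hTr := D.T_le_r ha
    set W := w ((2 * k + 1) * e') with hW
    have h4 : W ∣ e' - 1 := by
      have h5 : W ∣ 2 * k * e' := Dvd.dvd.mul_right (Dvd.dvd.mul_left hwk 2) e'
      have h6 : e' - 1 = ((2 * k + 1) * e' - 1) - 2 * k * e' := by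
        have : (2 * k + 1) * e' = 2 * k * e' + e' := by ring
        omega
      rw [h6]
      exact Nat.dvd_sub hwa h5
    have h7 : W ≤ e' - 1 := Nat.le_of_dvd (by omega) h4
    obtain ⟨A, hA⟩ := Nat.exists_eq_add_of_le' (show 1 ≤ (2 * k + 1) * e' by omega)
    rw [hA] at hTw
    simp only [Nat.add_sub_cancel] at hTw
    rw [hr] at hTr
    have h8 : T (A + 1) * W ≤ k * (k + 4) * (e' - 1) := by
      calc T (A + 1) * W ≤ k * (k + 4) * W := by rw [← hA]; exact Nat.mul_le_mul_right _ hTr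
        _ ≤ k * (k + 4) * (e' - 1) := Nat.mul_le_mul_left _ h7
    rw [hTw] at h8
    have h9 : 2 * A ≤ (k + 4) * (e' - 1) := by
      have h10 : 2 * k * A = k * (2 * A) := by ring
      rw [h10, mul_assoc] at h8
      exact Nat.le_of_mul_le_mul_left h8 (by omega)
    obtain ⟨f, rfl⟩ : ∃ f, e' = f + 2 := ⟨e' - 2, by omega⟩
    have e5 : f + 2 - 1 = f + 1 := by omega
    rw [e5] at h9
    nlinarith

/-- the case `k = 2` -/
theorem arith_small {n : ℕ} (D : OData 2 N r O T w) (hN : N = 2 * 2 * n) (hr : n = r + 3) :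
    (n = 3 ∧ O = ∅) ∨ (n = 15 ∧ 5 ∈ O) := by
  classical
  have hTa : ∀ a ∈ O, T a = 2 * (a - 1) := by
    intro a ha
    have h1 := D.Tw a ha
    have h2 := D.w2 a ha
    have h3 := D.wk a ha
    have h4 : w a = 2 := Nat.dvd_antisymm h3 h2
    rw [h4] at h1
    omega
  have hdn : ∀ a ∈ O, a ∣ n := fun a ha => D.dvd_cofactor hN ha
  have hrsum : r = 2 * ∑ a ∈ O, (a - 1) := by
    rw [D.sum, Finset.mul_sum]
    exact Finset.sum_congr rfl hTa
  rcases Finset.eq_empty_or_nonempty O with hO | ⟨a, ha⟩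
  · left
    rw [hO, Finset.sum_empty] at hrsum
    exact ⟨by omega, hO⟩
  · right
    have hO : O = insert a (O.erase a) := (Finset.insert_erase ha).symm
    have hna : a ∉ O.erase a := Finset.notMem_erase a O
    have h3 := D.ge3 a ha
    have hodd := D.odd a ha
    set O' := O.erase a with hO'
    set P' := ∏ b ∈ O', b with hP'
    set S' := ∑ b ∈ O', (b - 1) with hS'
    have hsub : ∀ b ∈ O', b ∈ O := fun b hb => Finset.mem_of_mem_erase hb
    have hS'P' : S' + 1 ≤ P' :=
      sum_pred_add_one_le_prod O' (fun b hb => le_trans (by norm_num) (D.ge3 b (hsub b hb)))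
    have hP'odd : Odd P' := by
      rw [hP']
      apply Finset.prod_induction _ Odd
      · intro x y hx hy; exact hx.mul hy
      · exact odd_one
      · intro b hb; exact D.odd b (hsub b hb)
    have hcop : Nat.Coprime a P' := by
      apply Nat.Coprime.prod_right
      intro b hb
      apply D.cop a ha b (hsub b hb)
      intro h; rw [← h] at hb; exact hna hb
    have haP'n : a * P' ∣ n := by
      have := prod_dvd_of_pairwise_coprime O n D.cop hdn
      rwa [hO, Finset.prod_insert hna] at this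
    have hsum : ∑ b ∈ O, (b - 1) = (a - 1) + S' := by
      rw [hO, Finset.sum_insert hna]
    have hn : n = 2 * a + 1 + 2 * S' := by omega
    have hnpos : 0 < n := by omega
    have hle : a * P' ≤ n := Nat.le_of_dvd hnpos haP'n
    have hP'pos : 0 < P' := by omega
    -- P' ≠ 1
    have hP'1 : P' ≠ 1 := by
      intro h
      have hS0 : S' = 0 := by omega
      rw [h, mul_one] at haP'n
      rw [hn, hS0] at haP'n
      have : a ∣ 1 := by
        have h5 : a ∣ 2 * a := Dvd.intro_left 2 rfl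
        have h6 : a ∣ 2 * a + 1 + 2 * 0 - 2 * a := Nat.dvd_sub haP'n h5
        have e : 2 * a + 1 + 2 * 0 - 2 * a = 1 := by omega
        rwa [e] at h6
      have := Nat.le_of_dvd one_pos this
      omega
    have hP'3 : 3 ≤ P' := by
      obtain ⟨j, hj⟩ := hP'odd
      omega
    -- (a-2)(P'-2) ≤ 3
    obtain ⟨a', rfl⟩ : ∃ a', a = a' + 3 := ⟨a - 3, by omega⟩
    obtain ⟨p', hp'⟩ : ∃ p', P' = p' + 3 := ⟨P' - 3, by omega⟩
    rw [hp'] at hle hS'P' hcop haP'n hP'odd
    have hkey : (a' + 1) * (p' + 1) ≤ 3 := by nlinarith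
    have ha'le : a' ≤ 2 := by nlinarith
    have hp'le : p' ≤ 2 := by nlinarith
    have ha'odd : a' ≠ 1 := by
      intro h; rw [h] at hodd; exact absurd hodd (by decide)
    have hp'odd : p' ≠ 1 := by
      intro h; rw [h] at hP'odd; exact absurd hP'odd (by decide)
    have hcases : (a' = 0 ∧ p' = 2) ∨ (a' = 2 ∧ p' = 0) := by
      have ha'c : a' = 0 ∨ a' = 2 := by omega
      have hp'c : p' = 0 ∨ p' = 2 := by omega
      rcases ha'c with h1 | h1 <;> rcases hp'c with h2 | h2
      · exfalso; rw [h1, h2] at hcop; revert hcop; decide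
      · exact Or.inl ⟨h1, h2⟩
      · exact Or.inr ⟨h1, h2⟩
      · exfalso; rw [h1, h2] at hkey; omega
    rcases hcases with ⟨h1, h2⟩ | ⟨h1, h2⟩
    · subst h1 h2
      norm_num at hle haP'n hS'P'
      have hn15 : n = 15 := by omega
      refine ⟨hn15, ?_⟩
      -- P' = 5 so some b ∈ O' is divisible by 5, hence equals 5
      have h5 : (5 : ℕ) ∣ ∏ b ∈ O', b := by rw [← hP', hp']
      obtain ⟨b, hb, h5b⟩ := (Nat.prime_five.prime.dvd_finset_prod_iff _).mp h5
      have hb5 : b ∣ 5 := by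
        have := Finset.dvd_prod_of_mem (fun x => x) hb
        rw [← hP', hp'] at this
        exact this
      have : b = 5 := Nat.dvd_antisymm hb5 h5b
      rw [← this]
      exact hsub b hb
    · subst h1 h2
      norm_num at hle haP'n hS'P'
      have hn15 : n = 15 := by omega
      exact ⟨hn15, ha⟩

end OData

end Cfsg.Agent.Lib.Helper69.BSW
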