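import Mathlib

/-!
# Brauer–Suzuki–Wall configuration: basic set-up

`Cfg G` bundles an involution `t`, an abelian subgroup `K` of `C(t)` with `C(t) = K ∪ sK`,
`s` an involution inverting `K`, `K` a TI-subgroup with unique involution `t`, all involutions
of `G` conjugate.
-/

set_option autoImplicit false

namespace Cfsg.Agent.Lib.Helper69.BSW

universe u

variable {G : Type u} [Group G]

/-- involution -/
def IsInv (u : G) : Prop := u * u = 1 ∧ u ≠ 1

theorem IsInv.inv_eq {u : G} (h : IsInv u) : u⁻¹ = u := inv_eq_of_mul_eq_one_right h.1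

theorem IsInv.conj {u : G} (h : IsInv u) (g : G) : IsInv (g * u * g⁻¹) := by
  constructor
  · calc g * u * g⁻¹ * (g * u * g⁻¹) = g * (u * u) * g⁻¹ := by group
      _ = 1 := by rw [h.1]; group
  · intro h1
    apply h.2
    calc u = g⁻¹ * (g * u * g⁻¹) * g := by group
      _ = 1 := by rw [h1]; group

/-- the conjugate subgroup `a K a⁻¹` -/
def conjSub (K : Subgroup G) (a : G) : Subgroup G where
  carrier := {x | a⁻¹ * x * a ∈ K}
  mul_mem' := by
    intro x y hx hy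
    have h := K.mul_mem hx hy
    have e : a⁻¹ * x * a * (a⁻¹ * y * a) = a⁻¹ * (x * y) * a := by group
    rw [e] at h
    exact h
  one_mem' := by
    show a⁻¹ * 1 * a ∈ K
    have e : a⁻¹ * 1 * a = (1 : G) := by group
    rw [e]; exact K.one_mem
  inv_mem' := by
    intro x hx
    have h := K.inv_mem hx
    have e : (a⁻¹ * x * a)⁻¹ = a⁻¹ * x⁻¹ * a := by group
    rw [e] at h
    exact h

theorem mem_conjSub {K : Subgroup G} {a x : G} : x ∈ conjSub K a ↔ a⁻¹ * x * a ∈ K := Iff.rfl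

theorem conj_mem_conjSub {K : Subgroup G} (a : G) {x : G} (hx : x ∈ K) :
    a * x * a⁻¹ ∈ conjSub K a := by
  rw [mem_conjSub]
  have e : a⁻¹ * (a * x * a⁻¹) * a = x := by group
  rw [e]; exact hx

theorem card_conjSub (K : Subgroup G) (a : G) : Nat.card (conjSub K a) = Nat.card K := by
  apply Nat.card_congr
  refine ⟨fun x => ⟨a⁻¹ * x.1 * a, x.2⟩, fun y => ⟨a * y.1 * a⁻¹, conj_mem_conjSub a y.2⟩, ?_, ?_⟩
  · intro x; apply Subtype.ext; show a * (a⁻¹ * x.1 * a) * a⁻¹ = x.1; group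
  · intro y; apply Subtype.ext; show a⁻¹ * (a * y.1 * a⁻¹) * a = y.1; group

/-- the Brauer–Suzuki–Wall configuration -/
structure Cfg (G : Type u) [Group G] where
  t : G
  K : Subgroup G
  s : G
  tt : t * t = 1
  t1 : t ≠ 1
  ss : s * s = 1
  st : s * t = t * s
  Kt : ∀ x ∈ K, x * t = t * x
  Kcomm : ∀ x ∈ K, ∀ y ∈ K, x * y = y * x
  tK : t ∈ K
  sK : s ∉ K
  Hsplit : ∀ g, g * t = t * g → g ∈ K ∨ s * g ∈ K
  Ksq : ∀ x ∈ K, x * x = 1 → x = 1 ∨ x = t
  sinv : ∀ x ∈ K, s * x * s = x⁻¹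
  TI : ∀ g x, x ∈ K → x ≠ 1 → g * x * g⁻¹ ∈ K → g * t = t * g
  allconj : ∀ u : G, u * u = 1 → u ≠ 1 → ∃ g, g * t * g⁻¹ = u

namespace Cfg

variable (c : Cfg G)

theorem tinv : c.t⁻¹ = c.t := inv_eq_of_mul_eq_one_right c.tt

theorem sinv' : c.s⁻¹ = c.s := inv_eq_of_mul_eq_one_right c.ss

theorem t_inv : IsInv c.t := ⟨c.tt, c.t1⟩

theorem s_ne_one : c.s ≠ 1 := fun h => c.sK (h ▸ c.K.one_mem)

theorem s_inv : IsInv c.s := ⟨c.ss, c.s_ne_one⟩

/-- the conjugate configuration -/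
def conj (a : G) : Cfg G where
  t := a * c.t * a⁻¹
  K := conjSub c.K a
  s := a * c.s * a⁻¹
  tt := (c.t_inv.conj a).1
  t1 := (c.t_inv.conj a).2
  ss := (c.s_inv.conj a).1
  st := by
    calc a * c.s * a⁻¹ * (a * c.t * a⁻¹) = a * (c.s * c.t) * a⁻¹ := by group
      _ = a * (c.t * c.s) * a⁻¹ := by rw [c.st]
      _ = a * c.t * a⁻¹ * (a * c.s * a⁻¹) := by group
  Kt := by
    intro x hx
    have h := c.Kt _ hx
    calc x * (a * c.t * a⁻¹) = a * ((a⁻¹ * x * a) * c.t) * a⁻¹ := by group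
      _ = a * (c.t * (a⁻¹ * x * a)) * a⁻¹ := by rw [h]
      _ = a * c.t * a⁻¹ * x := by group
  Kcomm := by
    intro x hx y hy
    have h := c.Kcomm _ hx _ hy
    calc x * y = a * ((a⁻¹ * x * a) * (a⁻¹ * y * a)) * a⁻¹ := by group
      _ = a * ((a⁻¹ * y * a) * (a⁻¹ * x * a)) * a⁻¹ := by rw [h]
      _ = y * x := by group
  tK := conj_mem_conjSub a c.tK
  sK := by
    intro h
    rw [mem_conjSub] at h
    have e : a⁻¹ * (a * c.s * a⁻¹) * a = c.s := by group
    rw [e] at h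
    exact c.sK h
  Hsplit := by
    intro g hg
    have h1 : (a⁻¹ * g * a) * c.t = c.t * (a⁻¹ * g * a) := by
      calc (a⁻¹ * g * a) * c.t = a⁻¹ * (g * (a * c.t * a⁻¹)) * a := by group
        _ = a⁻¹ * ((a * c.t * a⁻¹) * g) * a := by rw [hg]
        _ = c.t * (a⁻¹ * g * a) := by group
    rcases c.Hsplit _ h1 with h | h
    · exact Or.inl h
    · right
      rw [mem_conjSub]
      have e : a⁻¹ * (a * c.s * a⁻¹ * g) * a = c.s * (a⁻¹ * g * a) := by group
      rw [e]; exact h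
  Ksq := by
    intro x hx hxx
    have h1 : (a⁻¹ * x * a) * (a⁻¹ * x * a) = 1 := by
      calc (a⁻¹ * x * a) * (a⁻¹ * x * a) = a⁻¹ * (x * x) * a := by group
        _ = 1 := by rw [hxx]; group
    rcases c.Ksq _ hx h1 with h | h
    · left
      calc x = a * (a⁻¹ * x * a) * a⁻¹ := by group
        _ = 1 := by rw [h]; group
    · right
      calc x = a * (a⁻¹ * x * a) * a⁻¹ := by group
        _ = a * c.t * a⁻¹ := by rw [h]
  sinv := by
    intro x hx
    have h := c.sinv _ hx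
    calc a * c.s * a⁻¹ * x * (a * c.s * a⁻¹) = a * (c.s * (a⁻¹ * x * a) * c.s) * a⁻¹ := by group
      _ = a * (a⁻¹ * x * a)⁻¹ * a⁻¹ := by rw [h]
      _ = x⁻¹ := by group
  TI := by
    intro g x hx hx1 hgx
    rw [mem_conjSub] at hgx
    have h1 : a⁻¹ * x * a ≠ 1 := by
      intro h
      apply hx1
      calc x = a * (a⁻¹ * x * a) * a⁻¹ := by group
        _ = 1 := by rw [h]; group
    have e : a⁻¹ * (g * x * g⁻¹) * a = (a⁻¹ * g * a) * (a⁻¹ * x * a) * (a⁻¹ * g * a)⁻¹ := by group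
    rw [e] at hgx
    have h2 := c.TI _ _ hx h1 hgx
    calc g * (a * c.t * a⁻¹) = a * ((a⁻¹ * g * a) * c.t) * a⁻¹ := by group
      _ = a * (c.t * (a⁻¹ * g * a)) * a⁻¹ := by rw [h2]
      _ = a * c.t * a⁻¹ * g := by group
  allconj := by
    intro u huu hu1
    obtain ⟨g, hg⟩ := c.allconj u huu hu1
    refine ⟨g * a⁻¹, ?_⟩
    rw [← hg]; group

theorem conj_t (a : G) : (c.conj a).t = a * c.t * a⁻¹ := rfl

theorem conj_K (a : G) : (c.conj a).K = conjSub c.K a := rfl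

theorem card_conj_K (a : G) : Nat.card (c.conj a).K = Nat.card c.K := card_conjSub c.K a

/-- for every involution `u` there is a configuration with `t = u` -/
theorem exists_cfg {u : G} (hu : IsInv u) :
    ∃ c' : Cfg G, c'.t = u ∧ Nat.card c'.K = Nat.card c.K := by
  obtain ⟨g, hg⟩ := c.allconj u hu.1 hu.2
  exact ⟨c.conj g, hg, c.card_conj_K g⟩

/-- elements of the coset `sK` -/
theorem sK_eq {g : G} (h : c.s * g ∈ c.K) : g = c.s * (c.s * g) := by
  rw [← mul_assoc, c.ss, one_mul]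

theorem sK_sq {g : G} (h : c.s * g ∈ c.K) : g * g = 1 := by
  have h1 := c.sinv _ h
  calc g * g = (c.s * (c.s * g)) * (c.s * (c.s * g)) := by rw [← c.sK_eq h]
    _ = (c.s * (c.s * g) * c.s) * (c.s * g) := by group
    _ = (c.s * g)⁻¹ * (c.s * g) := by rw [h1]
    _ = 1 := by group

theorem sK_not_mem {g : G} (h : c.s * g ∈ c.K) : g ∉ c.K := by
  intro hg
  apply c.sK
  have : c.s = (c.s * g) * g⁻¹ := by group
  rw [this]
  exact c.K.mul_mem h (c.K.inv_mem hg)

theorem sK_ne_one {g : G} (h : c.s * g ∈ c.K) : g ≠ 1 :=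
  fun h1 => c.sK_not_mem h (h1 ▸ c.K.one_mem)

theorem sK_isInv {g : G} (h : c.s * g ∈ c.K) : IsInv g := ⟨c.sK_sq h, c.sK_ne_one h⟩

theorem sK_ne_t {g : G} (h : c.s * g ∈ c.K) : g ≠ c.t :=
  fun h1 => c.sK_not_mem h (h1 ▸ c.tK)

/-- elements of `sK` invert `K` -/
theorem sK_inverts {g : G} (h : c.s * g ∈ c.K) {x : G} (hx : x ∈ c.K) : g * x * g⁻¹ = x⁻¹ := by
  have hginv : g⁻¹ = g := (c.sK_isInv h).inv_eq
  have h1 := c.sinv _ hx
  have h2 := c.Kcomm _ h _ hx
  -- g = s y with y ∈ K: g x g = s y x y⁻¹ s⁻¹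
  have hy : g = c.s * (c.s * g) := c.sK_eq h
  set y := c.s * g with hy'
  have e1 : g * x * g⁻¹ = c.s * (y * x * y⁻¹) * c.s⁻¹ := by
    rw [hy]; group
  have e2 : y * x * y⁻¹ = x := by rw [h2]; group
  rw [e1, e2, c.sinv', h1]

theorem sK_comm_t {g : G} (h : c.s * g ∈ c.K) : g * c.t = c.t * g := by
  have h1 := c.Kt _ h
  have h2 : g = c.s * (c.s * g) := c.sK_eq h
  set y := c.s * g with hy
  rw [h2]
  calc c.s * y * c.t = c.s * (y * c.t) := by group
    _ = c.s * (c.t * y) := by rw [h1]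
    _ = (c.s * c.t) * y := by group
    _ = (c.t * c.s) * y := by rw [c.st]
    _ = c.t * (c.s * y) := by group

/-- `C(t) = K ∪ sK` -/
theorem comm_t_iff {g : G} : g * c.t = c.t * g ↔ g ∈ c.K ∨ c.s * g ∈ c.K :=
  ⟨c.Hsplit g, fun h => h.elim (c.Kt g) c.sK_comm_t⟩

theorem mem_K_of_comm_of_sq_ne {g : G} (h : g * c.t = c.t * g) (h2 : g * g ≠ 1) : g ∈ c.K := by
  rcases c.Hsplit g h with h | h
  · exact h
  · exact absurd (c.sK_sq h) h2

/-- the involutions of `C(t)` are `t` and the elements of `sK` -/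
theorem invol_comm_t {v : G} (hv : IsInv v) (h : v * c.t = c.t * v) : v = c.t ∨ c.s * v ∈ c.K := by
  rcases c.Hsplit v h with h1 | h1
  · rcases c.Ksq v h1 hv.1 with h2 | h2
    · exact absurd h2 hv.2
    · exact Or.inl h2
  · exact Or.inr h1

/-- centralizers of nonidentity elements of `K` lie in `C(t)` -/
theorem comm_t_of_comm {x : G} (hx : x ∈ c.K) (hx1 : x ≠ 1) {g : G} (h : g * x = x * g) :
    g * c.t = c.t * g := by
  apply c.TI g x hx hx1
  have : g * x * g⁻¹ = x := by rw [h]; group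
  rw [this]; exact hx

/-- `K` is the set of elements of `C(t)` which are not involutions different from `t` -/
theorem mem_K_iff {x : G} : x ∈ c.K ↔ x * c.t = c.t * x ∧ (x * x = 1 → x = 1 ∨ x = c.t) := by
  constructor
  · intro hx
    exact ⟨c.Kt x hx, c.Ksq x hx⟩
  · rintro ⟨h1, h2⟩
    rcases c.Hsplit x h1 with h | h
    · exact h
    · rcases h2 (c.sK_sq h) with h3 | h3
      · exact absurd h3 (c.sK_ne_one h)
      · exact absurd h3 (c.sK_ne_t h)

/-- two configurations with the same involution have the same `K` -/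
theorem K_eq_of_t_eq (c' : Cfg G) (h : c'.t = c.t) : c'.K = c.K := by
  ext x
  rw [c.mem_K_iff, c'.mem_K_iff, h]

/-- an element of `K` is not an involution other than `t` -/
theorem eq_t_of_isInv_mem {x : G} (hx : x ∈ c.K) (hi : IsInv x) : x = c.t := by
  rcases c.Ksq x hx hi.1 with h | h
  · exact absurd h hi.2
  · exact h

end Cfg

end Cfsg.Agent.Lib.Helper69.BSW
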