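import Mathlib
import Cfsg.Agent.Lib.Helper69.BSWCfg

/-!
# BSW configuration: the set `R` of elements not centralized by an involution,
and the centralizers of its strongly real elements.
-/

set_option autoImplicit false

namespace Cfsg.Agent.Lib.Helper69.BSW

universe u

variable {G : Type u} [Group G]

/-- nonidentity elements centralized by no involution -/
def InR (x : G) : Prop := x ≠ 1 ∧ ∀ v : G, IsInv v → v * x ≠ x * v

theorem InR.conj {x : G} (h : InR x) (g : G) : InR (g * x * g⁻¹) := by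
  constructor
  · intro h1
    apply h.1
    calc x = g⁻¹ * (g * x * g⁻¹) * g := by group
      _ = 1 := by rw [h1]; group
  · intro v hv hc
    have hv' : IsInv (g⁻¹ * v * g) := by
      have := hv.conj g⁻¹
      rwa [inv_inv] at this
    apply h.2 _ hv'
    calc g⁻¹ * v * g * x = g⁻¹ * (v * (g * x * g⁻¹)) * g := by group
      _ = g⁻¹ * ((g * x * g⁻¹) * v) * g := by rw [hc]
      _ = x * (g⁻¹ * v * g) := by group

theorem InR.conj' {x : G} (h : InR x) (g : G) : InR (g⁻¹ * x * g) := by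
  have := h.conj g⁻¹
  rwa [inv_inv] at this

theorem InR.inv {x : G} (h : InR x) : InR x⁻¹ := by
  constructor
  · intro h1; exact h.1 (inv_eq_one.mp h1)
  · intro v hv hc
    apply h.2 v hv
    calc v * x = x * (x⁻¹ * v) * x := by group
      _ = x * (v * x⁻¹) * x := by rw [hc]
      _ = x * v := by group

theorem mem_centralizer_singleton {x y : G} :
    y ∈ Subgroup.centralizer ({x} : Set G) ↔ y * x = x * y := by
  rw [Subgroup.mem_centralizer_iff]
  constructor
  · intro h; exact (h x rfl).symm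
  · intro h z hz
    rw [Set.mem_singleton_iff] at hz
    rw [hz]; exact h.symm

theorem mem_normalizer_iff' {A : Subgroup G} {g : G} :
    g ∈ Subgroup.normalizer (A : Set G) ↔ (∀ z ∈ A, g * z * g⁻¹ ∈ A) ∧ (∀ z ∈ A, g⁻¹ * z * g ∈ A) := by
  rw [Subgroup.mem_normalizer_iff]
  constructor
  · intro h
    refine ⟨fun z hz => (h z).mp hz, fun z hz => ?_⟩
    apply (h _).mpr
    have e : g * (g⁻¹ * z * g) * g⁻¹ = z := by group
    simpa [e] using hz
  · rintro ⟨h1, h2⟩ z
    constructor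
    · exact h1 z
    · intro hz
      have := h2 _ hz
      have e : g⁻¹ * (g * z * g⁻¹) * g = z := by group
      rwa [e] at this

theorem mem_normalizer_of_finite [Finite G] {A : Subgroup G} {g : G}
    (h : ∀ z ∈ A, g * z * g⁻¹ ∈ A) : g ∈ Subgroup.normalizer (A : Set G) := by
  rw [mem_normalizer_iff']
  refine ⟨h, ?_⟩
  -- conjugation by g is an injective self-map of the finite set A, hence surjective
  let f : A → A := fun z => ⟨g * z.1 * g⁻¹, h z.1 z.2⟩
  have hinj : Function.Injective f := by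
    intro a b hab
    have h1 : g * a.1 * g⁻¹ = g * b.1 * g⁻¹ := congrArg Subtype.val hab
    apply Subtype.ext
    have h2 : g * a.1 = g * b.1 := mul_right_cancel h1
    exact mul_left_cancel h2
  have hsurj : Function.Surjective f := Finite.surjective_of_injective hinj
  intro z hz
  obtain ⟨w, hw⟩ := hsurj ⟨z, hz⟩
  have h1 : g * w.1 * g⁻¹ = z := congrArg Subtype.val hw
  have : g⁻¹ * z * g = w.1 := by rw [← h1]; group
  rw [this]; exact w.2

section Cfg

/-- nonidentity elements commuting with an element of `R` lie in `R` -/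
theorem InR.of_comm (c : Cfg G) {x y : G} (hx : InR x) (hy1 : y ≠ 1) (h : y * x = x * y) : InR y := by
  refine ⟨hy1, ?_⟩
  intro v hv hvy
  obtain ⟨c', hc', -⟩ := c.exists_cfg hv
  have h1 : y * c'.t = c'.t * y := by rw [hc']; exact hvy.symm
  rcases c'.Hsplit y h1 with h2 | h2
  · -- y ∈ K', so x ∈ C(y) ≤ C(v)
    have h3 := c'.comm_t_of_comm h2 hy1 h.symm
    rw [hc'] at h3
    exact hx.2 v hv h3.symm
  · -- y is an involution commuting with x
    exact hx.2 y (c'.sK_isInv h2) h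

variable [Finite G]

theorem InR.odd_order {x : G} (hx : InR x) : Odd (orderOf x) := by
  by_contra hodd
  rw [Nat.not_odd_iff_even] at hodd
  obtain ⟨m, hm⟩ := hodd
  have hpos : 0 < orderOf x := orderOf_pos x
  have hm0 : 0 < m := by omega
  have h1 : x ^ m * x ^ m = 1 := by
    rw [← pow_add, ← hm, pow_orderOf_eq_one]
  have h2 : x ^ m ≠ 1 := by
    intro h
    have := orderOf_dvd_of_pow_eq_one h
    have := Nat.le_of_dvd hm0 this
    omega
  exact hx.2 (x ^ m) ⟨h1, h2⟩ ((Commute.refl x).pow_left m).eq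

/-- an involution normalizing a subgroup `A` with `A \ 1 ⊆ R` inverts it, and `A` is abelian -/
theorem inverts_of_normalizes (A : Subgroup G) (hA : ∀ y ∈ A, y ≠ 1 → InR y)
    {v : G} (hv : IsInv v) (hn : ∀ y ∈ A, v * y * v⁻¹ ∈ A) :
    (∀ y ∈ A, v * y * v⁻¹ = y⁻¹) ∧ (∀ y ∈ A, ∀ z ∈ A, y * z = z * y) := by
  let φ : A →* A :=
    { toFun := fun y => ⟨v * y.1 * v⁻¹, hn y.1 y.2⟩
      map_one' := by apply Subtype.ext; show v * 1 * v⁻¹ = 1; group
      map_mul' := by
        intro a b; apply Subtype.ext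
        show v * (a.1 * b.1) * v⁻¹ = v * a.1 * v⁻¹ * (v * b.1 * v⁻¹); group }
  have hfpf : MonoidHom.FixedPointFree φ := by
    intro y hy
    by_contra hy1
    have h1 : v * y.1 * v⁻¹ = y.1 := congrArg Subtype.val hy
    have h2 : y.1 ≠ 1 := fun h => hy1 (Subtype.ext h)
    apply (hA y.1 y.2 h2).2 v hv
    calc v * y.1 = (v * y.1 * v⁻¹) * v := by group
      _ = y.1 * v := by rw [h1]
  have hinv : Function.Involutive φ := by
    intro y; apply Subtype.ext
    show v * (v * y.1 * v⁻¹) * v⁻¹ = y.1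
    rw [hv.inv_eq]
    calc v * (v * y.1 * v) * v = (v * v) * y.1 * (v * v) := by group
      _ = y.1 := by rw [hv.1]; group
  constructor
  · intro y hy
    have := congrFun (hfpf.coe_eq_inv_of_involutive hinv) ⟨y, hy⟩
    exact congrArg Subtype.val this
  · intro y hy z hz
    have := hfpf.commute_all_of_involutive hinv ⟨y, hy⟩ ⟨z, hz⟩
    exact congrArg Subtype.val this.eq

/-- strongly real elements of `R` -/
def InSR (x : G) : Prop := InR x ∧ ∃ v : G, IsInv v ∧ v * x * v⁻¹ = x⁻¹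

theorem cent_sub_R (c : Cfg G) {x : G} (hx : InR x) :
    ∀ y ∈ Subgroup.centralizer ({x} : Set G), y ≠ 1 → InR y := by
  intro y hy hy1
  exact hx.of_comm c hy1 (mem_centralizer_singleton.mp hy)

theorem normalizes_cent {x v : G} (hvx : v * x * v⁻¹ = x⁻¹) :
    ∀ y ∈ Subgroup.centralizer ({x} : Set G), v * y * v⁻¹ ∈ Subgroup.centralizer ({x} : Set G) := by
  intro y hy
  rw [mem_centralizer_singleton] at hy ⊢
  have h1 : v⁻¹ * x * v = x⁻¹ := by
    have : x = v⁻¹ * x⁻¹ * v := by rw [← hvx]; group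
    calc v⁻¹ * x * v = (v⁻¹ * x⁻¹ * v)⁻¹ := by group
      _ = x⁻¹ := by rw [← this]
  have h2 : y * x⁻¹ = x⁻¹ * y := by
    calc y * x⁻¹ = x⁻¹ * (x * y) * x⁻¹ := by group
      _ = x⁻¹ * (y * x) * x⁻¹ := by rw [hy]
      _ = x⁻¹ * y := by group
  have h3 : v * x⁻¹ * v⁻¹ = x := by
    calc v * x⁻¹ * v⁻¹ = (v * x * v⁻¹)⁻¹ := by group
      _ = x := by rw [hvx, inv_inv]
  calc v * y * v⁻¹ * x = v * (y * (v⁻¹ * x * v)) * v⁻¹ := by group
    _ = v * (y * x⁻¹) * v⁻¹ := by rw [h1]
    _ = v * (x⁻¹ * y) * v⁻¹ := by rw [h2]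
    _ = (v * x⁻¹ * v⁻¹) * (v * y * v⁻¹) := by group
    _ = x * (v * y * v⁻¹) := by rw [h3]

/-- the centralizer of a strongly real element of `R` is inverted by the involution and abelian -/
theorem cent_inverted (c : Cfg G) {x v : G} (hx : InR x) (hv : IsInv v) (hvx : v * x * v⁻¹ = x⁻¹) :
    (∀ y ∈ Subgroup.centralizer ({x} : Set G), v * y * v⁻¹ = y⁻¹) ∧
    (∀ y ∈ Subgroup.centralizer ({x} : Set G), ∀ z ∈ Subgroup.centralizer ({x} : Set G),
      y * z = z * y) :=
  inverts_of_normalizes _ (cent_sub_R c hx) hv (normalizes_cent hvx)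

/-- CC-property -/
theorem cent_eq (c : Cfg G) {x : G} (hx : InSR x) {y : G}
    (hy : y ∈ Subgroup.centralizer ({x} : Set G)) (hy1 : y ≠ 1) :
    InSR y ∧ Subgroup.centralizer ({y} : Set G) = Subgroup.centralizer ({x} : Set G) := by
  obtain ⟨hxR, v, hv, hvx⟩ := hx
  have hyR : InR y := cent_sub_R c hxR y hy hy1
  obtain ⟨hinv, hcomm⟩ := cent_inverted c hxR hv hvx
  have hySR : InSR y := ⟨hyR, v, hv, hinv y hy⟩
  refine ⟨hySR, ?_⟩
  obtain ⟨hinv', hcomm'⟩ := cent_inverted c hyR hv (hinv y hy)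
  have hxy : x ∈ Subgroup.centralizer ({y} : Set G) := by
    rw [mem_centralizer_singleton]
    exact (mem_centralizer_singleton.mp hy).symm
  have hyy : y ∈ Subgroup.centralizer ({y} : Set G) := mem_centralizer_singleton.mpr rfl
  have hxx : x ∈ Subgroup.centralizer ({x} : Set G) := mem_centralizer_singleton.mpr rfl
  ext z
  constructor
  · intro hz
    rw [mem_centralizer_singleton]
    exact hcomm' z hz x hxy
  · intro hz
    rw [mem_centralizer_singleton]
    exact hcomm z hz y hy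

/-- TI-property of the centralizers of strongly real elements of `R` -/
theorem cent_TI (c : Cfg G) {x : G} (hx : InSR x) {y g : G}
    (hy : y ∈ Subgroup.centralizer ({x} : Set G)) (hy1 : y ≠ 1)
    (hgy : g * y * g⁻¹ ∈ Subgroup.centralizer ({x} : Set G)) :
    g ∈ Subgroup.normalizer ((Subgroup.centralizer ({x} : Set G) : Subgroup G) : Set G) := by
  apply mem_normalizer_of_finite
  intro z hz
  have h1 := (cent_eq c hx hy hy1).2
  have hgy1 : g * y * g⁻¹ ≠ 1 := by
    intro h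
    apply hy1
    calc y = g⁻¹ * (g * y * g⁻¹) * g := by group
      _ = 1 := by rw [h]; group
  have h2 := (cent_eq c hx hgy hgy1).2
  rw [← h2, mem_centralizer_singleton]
  rw [← h1, mem_centralizer_singleton] at hz
  calc g * z * g⁻¹ * (g * y * g⁻¹) = g * (z * y) * g⁻¹ := by group
    _ = g * (y * z) * g⁻¹ := by rw [hz]
    _ = g * y * g⁻¹ * (g * z * g⁻¹) := by group

theorem InR.pow_card_ne (c : Cfg G) {x : G} (hx : InR x) : Odd (orderOf x) := hx.odd_order

/-- the centralizer of an element of `R` has odd order -/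
theorem cent_odd (c : Cfg G) {x : G} (hx : InR x) :
    Odd (Nat.card (Subgroup.centralizer ({x} : Set G))) := by
  by_contra hodd
  rw [Nat.not_odd_iff_even, even_iff_two_dvd] at hodd
  haveI : Fact (Nat.Prime 2) := ⟨Nat.prime_two⟩
  obtain ⟨y, hy⟩ := exists_prime_orderOf_dvd_card' 2 hodd
  have hy1 : y ≠ 1 := by
    intro h; rw [h, orderOf_one] at hy; omega
  have hy1' : y.1 ≠ 1 := fun h => hy1 (Subtype.ext h)
  have hyR := cent_sub_R c hx y.1 y.2 hy1'
  have := hyR.odd_order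
  rw [Subgroup.orderOf_coe, hy] at this
  exact absurd this (by decide)

/-- two involutions inverting `C(x)`: their product lies in `C(x)` and they are conjugate under
`C(x)` -/
theorem exists_conj_of_inverts (c : Cfg G) {x : G} (hx : InR x) {v w : G} (hv : IsInv v)
    (hw : IsInv w)
    (hvA : ∀ y ∈ Subgroup.centralizer ({x} : Set G), v * y * v⁻¹ = y⁻¹)
    (hwA : ∀ y ∈ Subgroup.centralizer ({x} : Set G), w * y * w⁻¹ = y⁻¹) :
    ∃ a ∈ Subgroup.centralizer ({x} : Set G), w = a * v * a⁻¹ := by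
  set A := Subgroup.centralizer ({x} : Set G) with hA
  have hxx : x ∈ A := mem_centralizer_singleton.mpr rfl
  -- b = w v ∈ A
  have hb : w * v ∈ A := by
    rw [hA, mem_centralizer_singleton]
    have h1 := hvA x hxx
    have h2 := hwA x hxx
    have h3 : w * x⁻¹ * w⁻¹ = x := by
      calc w * x⁻¹ * w⁻¹ = (w * x * w⁻¹)⁻¹ := by group
        _ = x := by rw [h2, inv_inv]
    calc w * v * x = w * (v * x * v⁻¹) * v := by group
      _ = w * x⁻¹ * v := by rw [h1]
      _ = (w * x⁻¹ * w⁻¹) * (w * v) := by group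
      _ = x * (w * v) := by rw [h3]
  -- square root of b in A
  obtain ⟨m, hm⟩ := cent_odd c hx
  have hbpow : (w * v) ^ (2 * m + 1) = 1 := by
    have h1 : (⟨w * v, hb⟩ : A) ^ Nat.card A = 1 := pow_card_eq_one'
    rw [hm] at h1
    exact congrArg Subtype.val h1
  refine ⟨(w * v) ^ (m + 1), A.pow_mem hb _, ?_⟩
  set b := w * v with hbdef
  have hinvb : v * (b ^ (m + 1)) * v⁻¹ = (b ^ (m + 1))⁻¹ := hvA _ (A.pow_mem hb _)
  -- a v a⁻¹ = a (v a⁻¹ v⁻¹) v = a a v = b^(2m+2) v = b v = w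
  have h1 : v * (b ^ (m + 1))⁻¹ * v⁻¹ = b ^ (m + 1) := by
    calc v * (b ^ (m + 1))⁻¹ * v⁻¹ = (v * (b ^ (m + 1)) * v⁻¹)⁻¹ := by group
      _ = b ^ (m + 1) := by rw [hinvb, inv_inv]
  have h2 : b ^ (m + 1) * b ^ (m + 1) = b := by
    rw [← pow_add]
    have : m + 1 + (m + 1) = (2 * m + 1) + 1 := by ring
    rw [this, pow_succ, hbpow, one_mul]
  calc w = b * v := by rw [hbdef, mul_assoc, hv.1, mul_one]
    _ = b ^ (m + 1) * b ^ (m + 1) * v := by rw [h2]
    _ = b ^ (m + 1) * (v * (b ^ (m + 1))⁻¹ * v⁻¹) * v := by rw [h1]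
    _ = b ^ (m + 1) * v * (b ^ (m + 1))⁻¹ := by group

/-- Frattini argument: `N(C(x)) = C(x) · (N(C(x)) ∩ C(v))` -/
theorem normalizer_factor (c : Cfg G) {x : G} (hx : InR x) {v : G} (hv : IsInv v)
    (hvx : v * x * v⁻¹ = x⁻¹) {g : G}
    (hg : g ∈ Subgroup.normalizer ((Subgroup.centralizer ({x} : Set G) : Subgroup G) : Set G)) :
    ∃ a ∈ Subgroup.centralizer ({x} : Set G), (a⁻¹ * g) * v = v * (a⁻¹ * g) := by
  set A := Subgroup.centralizer ({x} : Set G) with hA
  obtain ⟨hinv, hcomm⟩ := cent_inverted c hx hv hvx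
  have hw : IsInv (g * v * g⁻¹) := hv.conj g
  rw [mem_normalizer_iff'] at hg
  have hwn : ∀ y ∈ A, (g * v * g⁻¹) * y * (g * v * g⁻¹)⁻¹ ∈ A := by
    intro y hy
    have h1 := hg.2 y hy
    have h2 := hinv _ h1
    have h3 : (g * v * g⁻¹) * y * (g * v * g⁻¹)⁻¹ = g * (v * (g⁻¹ * y * g) * v⁻¹) * g⁻¹ := by group
    rw [h3, h2]
    exact hg.1 _ (A.inv_mem h1)
  have hwA := (inverts_of_normalizes A (cent_sub_R c hx) hw hwn).1
  obtain ⟨a, ha, hav⟩ := exists_conj_of_inverts c hx hv hw hinv hwA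
  refine ⟨a, ha, ?_⟩
  calc a⁻¹ * g * v = a⁻¹ * (g * v * g⁻¹) * g := by group
    _ = a⁻¹ * (a * v * a⁻¹) * g := by rw [hav]
    _ = v * (a⁻¹ * g) := by group

end Cfg

end Cfsg.Agent.Lib.Helper69.BSW
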