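import Mathlib
import Cfsg.Agent.Lib.Helper69.BSWReal

/-!
# General counting lemmas (fibers of conjugation maps, free actions)
-/

set_option autoImplicit false

namespace Cfsg.Agent.Lib.Helper69.BSW

universe u

theorem card_eq_mul_of_fibers {α β : Type*} [DecidableEq β] (S : Finset α) (T : Finset β)
    (f : α → β) (m : ℕ) (hf : ∀ a ∈ S, f a ∈ T)
    (hfib : ∀ b ∈ T, (S.filter (fun a => f a = b)).card = m) : S.card = T.card * m := by
  rw [Finset.card_eq_sum_card_fiberwise hf, Finset.sum_congr rfl hfib, Finset.sum_const,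
    smul_eq_mul]

variable {G : Type u} [Group G]

theorem ncard_setOf_eq_card_filter [Fintype G] (P : G → Prop) [DecidablePred P] :
    {x | P x}.ncard = (Finset.univ.filter P).card := by
  rw [Set.ncard_eq_toFinset_card']
  congr 1
  ext x
  simp

theorem card_subgroup_eq_card_filter [Fintype G] (A : Subgroup G) [DecidablePred (· ∈ A)] :
    Nat.card A = (Finset.univ.filter (· ∈ A)).card := by
  rw [Nat.card_eq_fintype_card, Fintype.card_subtype]

theorem card_subgroup_eq_ncard (A : Subgroup G) : Nat.card A = (A : Set G).ncard := by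
  exact (_root_.Nat.card_coe_set_eq (A : Set G))

/-- fibre counting for the conjugation map `U × (A \ 1) → G` when `A` is TI relative to `U` -/
theorem conj_fiber_count [Finite G] (U A : Subgroup G)
    (hTI : ∀ g ∈ U, ∀ y ∈ A, y ≠ 1 → g * y * g⁻¹ ∈ A → g ∈ Subgroup.normalizer (A : Set G)) :
    Nat.card U * (Nat.card A - 1) =
      {x : G | ∃ g ∈ U, ∃ y ∈ A, y ≠ 1 ∧ x = g * y * g⁻¹}.ncard *
        Nat.card (U ⊓ Subgroup.normalizer (A : Set G) : Subgroup G) := by
  classical
  have := Fintype.ofFinite G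
  set N := U ⊓ Subgroup.normalizer (A : Set G) with hN
  rw [ncard_setOf_eq_card_filter, card_subgroup_eq_card_filter U, card_subgroup_eq_card_filter A,
    card_subgroup_eq_card_filter N]
  set S : Finset (G × G) :=
    (Finset.univ.filter (· ∈ U)) ×ˢ ((Finset.univ.filter (· ∈ A)).erase 1) with hS
  have hScard : S.card = (Finset.univ.filter (· ∈ U)).card *
      ((Finset.univ.filter (· ∈ A)).card - 1) := by
    rw [hS, Finset.card_product, Finset.card_erase_of_mem]
    simp [A.one_mem]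
  rw [← hScard]
  apply card_eq_mul_of_fibers S _ (fun q => q.1 * q.2 * q.1⁻¹)
  · intro q hq
    rw [hS, Finset.mem_product, Finset.mem_filter, Finset.mem_erase, Finset.mem_filter] at hq
    rw [Finset.mem_filter]
    exact ⟨Finset.mem_univ _, q.1, hq.1.2, q.2, hq.2.2.2, hq.2.1, rfl⟩
  · intro x hx
    rw [Finset.mem_filter] at hx
    obtain ⟨-, g₀, hg₀, y₀, hy₀, hy₀1, hx⟩ := hx
    have himg : S.filter (fun q => q.1 * q.2 * q.1⁻¹ = x) =
        (Finset.univ.filter (· ∈ N)).image (fun m => (g₀ * m, m⁻¹ * y₀ * m)) := by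
      ext ⟨g, y⟩
      rw [Finset.mem_filter, hS, Finset.mem_product, Finset.mem_filter, Finset.mem_erase,
        Finset.mem_filter, Finset.mem_image]
      constructor
      · rintro ⟨⟨⟨-, hg⟩, hy1, -, hy⟩, hgy⟩
        simp only at hgy hg hy hy1
        have hm : g₀⁻¹ * g ∈ U := U.mul_mem (U.inv_mem hg₀) hg
        have hmy : (g₀⁻¹ * g) * y * (g₀⁻¹ * g)⁻¹ = y₀ := by
          calc (g₀⁻¹ * g) * y * (g₀⁻¹ * g)⁻¹ = g₀⁻¹ * (g * y * g⁻¹) * g₀ := by group
            _ = g₀⁻¹ * (g₀ * y₀ * g₀⁻¹) * g₀ := by rw [hgy, hx]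
            _ = y₀ := by group
        have hmN : g₀⁻¹ * g ∈ Subgroup.normalizer (A : Set G) :=
          hTI _ hm y hy hy1 (by rw [hmy]; exact hy₀)
        refine ⟨g₀⁻¹ * g, ?_, ?_⟩
        · rw [Finset.mem_filter]
          exact ⟨Finset.mem_univ _, Subgroup.mem_inf.mpr ⟨hm, hmN⟩⟩
        · rw [Prod.mk.injEq]
          constructor
          · group
          · rw [← hmy]; group
      · rintro ⟨m, hm, hmq⟩
        rw [Finset.mem_filter] at hm
        obtain ⟨-, hmUN⟩ := hm
        have hmU : m ∈ U := (Subgroup.mem_inf.mp hmUN).1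
        have hmN : m ∈ Subgroup.normalizer (A : Set G) := (Subgroup.mem_inf.mp hmUN).2
        rw [Prod.mk.injEq] at hmq
        obtain ⟨rfl, rfl⟩ := hmq
        rw [mem_normalizer_iff'] at hmN
        refine ⟨⟨⟨Finset.mem_univ _, U.mul_mem hg₀ hmU⟩, ?_, Finset.mem_univ _, hmN.2 _ hy₀⟩, ?_⟩
        · intro h
          have h : m⁻¹ * y₀ * m = 1 := h
          apply hy₀1
          calc y₀ = m * (m⁻¹ * y₀ * m) * m⁻¹ := by group
            _ = 1 := by rw [h]; group
        · show g₀ * m * (m⁻¹ * y₀ * m) * (g₀ * m)⁻¹ = x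
          rw [hx]; group
    rw [himg, Finset.card_image_of_injective]
    intro m m' h
    have := congrArg Prod.fst h
    exact mul_left_cancel this

/-- a group acting freely on `A \ 1` by conjugation has order dividing `|A| - 1` -/
theorem card_dvd_of_free [Finite G] (W A : Subgroup G)
    (hn : ∀ g ∈ W, ∀ y ∈ A, g * y * g⁻¹ ∈ A)
    (hfree : ∀ g ∈ W, g ≠ 1 → ∀ y ∈ A, g * y = y * g → y = 1) :
    Nat.card W ∣ Nat.card A - 1 := by
  classical
  have := Fintype.ofFinite G
  rw [card_subgroup_eq_card_filter W, card_subgroup_eq_card_filter A]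
  set Wf := Finset.univ.filter (· ∈ W) with hWf
  set S := (Finset.univ.filter (· ∈ A)).erase (1 : G) with hS
  have hScard : S.card = (Finset.univ.filter (· ∈ A)).card - 1 := by
    rw [hS, Finset.card_erase_of_mem]; simp [A.one_mem]
  rw [← hScard]
  let orb : G → Finset G := fun y => Wf.image (fun g => g * y * g⁻¹)
  have horb_mem : ∀ y z, z ∈ orb y ↔ ∃ g ∈ W, g * y * g⁻¹ = z := by
    intro y z
    simp only [orb, Finset.mem_image, hWf, Finset.mem_filter, Finset.mem_univ, true_and]
  have horb_eq : ∀ y, ∀ g ∈ W, orb (g * y * g⁻¹) = orb y := by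
    intro y g hg
    ext z
    rw [horb_mem, horb_mem]
    constructor
    · rintro ⟨h, hh, rfl⟩
      exact ⟨h * g, W.mul_mem hh hg, by group⟩
    · rintro ⟨h, hh, rfl⟩
      exact ⟨h * g⁻¹, W.mul_mem hh (W.inv_mem hg), by group⟩
  have hmemS : ∀ y, y ∈ S ↔ y ∈ A ∧ y ≠ 1 := by
    intro y
    rw [hS, Finset.mem_erase, Finset.mem_filter]
    simp [and_comm]
  have h := card_eq_mul_of_fibers S (S.image orb) orb Wf.card
    (fun a ha => Finset.mem_image_of_mem _ ha) ?_
  · rw [h]; exact Dvd.intro_left _ rfl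
  · intro L hL
    rw [Finset.mem_image] at hL
    obtain ⟨y₀, hy₀, rfl⟩ := hL
    have hy₀' := (hmemS y₀).mp hy₀
    have hfil : S.filter (fun a => orb a = orb y₀) = orb y₀ := by
      ext z
      rw [Finset.mem_filter]
      constructor
      · rintro ⟨-, hz⟩
        rw [← hz, horb_mem]
        exact ⟨1, W.one_mem, by group⟩
      · intro hz
        rw [horb_mem] at hz
        obtain ⟨g, hg, rfl⟩ := hz
        refine ⟨?_, horb_eq y₀ g hg⟩
        rw [hmemS]
        refine ⟨hn g hg y₀ hy₀'.1, ?_⟩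
        intro h1
        apply hy₀'.2
        calc y₀ = g⁻¹ * (g * y₀ * g⁻¹) * g := by group
          _ = 1 := by rw [h1]; group
    rw [hfil]
    apply Finset.card_image_of_injOn
    intro g hg g' hg' hgg
    simp only [hWf, Finset.coe_filter, Finset.mem_univ, true_and, Set.mem_setOf_eq] at hg hg'
    simp only at hgg
    by_contra hne
    have h1 : g'⁻¹ * g ≠ 1 := by
      intro h; apply hne
      calc g = g' * (g'⁻¹ * g) := by group
        _ = g' := by rw [h, mul_one]
    have h2 : (g'⁻¹ * g) * y₀ = y₀ * (g'⁻¹ * g) := by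
      calc (g'⁻¹ * g) * y₀ = g'⁻¹ * (g * y₀ * g⁻¹) * g := by group
        _ = g'⁻¹ * (g' * y₀ * g'⁻¹) * g := by rw [hgg]
        _ = y₀ * (g'⁻¹ * g) := by group
    exact hy₀'.2 (hfree _ (W.mul_mem (W.inv_mem hg') hg) h1 y₀ hy₀'.1 h2)

end Cfsg.Agent.Lib.Helper69.BSW
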