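import Mathlib
import Cfsg.Agent.Lib.Helper69.BSWCount

/-!
# BSW configuration: normalizers of the centralizers `C(x)`, `x ∈ R` inverted by `t`
-/

set_option autoImplicit false

namespace Cfsg.Agent.Lib.Helper69.BSW

universe u

variable {G : Type u} [Group G]

/-- elements of `R` inverted by `t` -/
def InRt (c : Cfg G) (x : G) : Prop := InR x ∧ c.t * x * c.t⁻¹ = x⁻¹

theorem InRt.inSR {c : Cfg G} {x : G} (h : InRt c x) : InSR x := ⟨h.1, c.t, c.t_inv, h.2⟩

theorem orderOf_of_isInv {v : G} (hv : IsInv v) : orderOf v = 2 := by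
  apply orderOf_eq_prime
  · rw [pow_two]; exact hv.1
  · exact hv.2

theorem isInv_of_orderOf {v : G} (hv : orderOf v = 2) : IsInv v := by
  constructor
  · rw [← pow_two, ← hv]; exact pow_orderOf_eq_one v
  · intro h; rw [h, orderOf_one] at hv; omega

variable [Finite G]

/-- `C(x) ∩ C(t) = 1` for `x ∈ R` -/
theorem cent_inter_H (c : Cfg G) {x : G} (hx : InR x) {y : G}
    (hy : y ∈ Subgroup.centralizer ({x} : Set G)) (hyt : y * c.t = c.t * y) : y = 1 := by
  by_contra hy1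
  exact (cent_sub_R c hx y hy hy1).2 c.t c.t_inv hyt.symm

/-- the product of two involutions inverting `C(x)` lies in `C(x)` -/
theorem mul_mem_of_inverts {x v w : G}
    (hvA : ∀ y ∈ Subgroup.centralizer ({x} : Set G), v * y * v⁻¹ = y⁻¹)
    (hwA : ∀ y ∈ Subgroup.centralizer ({x} : Set G), w * y * w⁻¹ = y⁻¹) :
    w * v ∈ Subgroup.centralizer ({x} : Set G) := by
  have hxx : x ∈ Subgroup.centralizer ({x} : Set G) := mem_centralizer_singleton.mpr rfl
  rw [mem_centralizer_singleton]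
  have h1 := hvA x hxx
  have h2 := hwA x hxx
  have h3 : w * x⁻¹ * w⁻¹ = x := by
    calc w * x⁻¹ * w⁻¹ = (w * x * w⁻¹)⁻¹ := by group
      _ = x := by rw [h2, inv_inv]
  calc w * v * x = w * (v * x * v⁻¹) * v := by group
    _ = w * x⁻¹ * v := by rw [h1]
    _ = (w * x⁻¹ * w⁻¹) * (w * v) := by group
    _ = x * (w * v) := by rw [h3]

/-- `N(C(x)) ∩ C(t) ≤ K` -/
theorem W_le_K (c : Cfg G) {x : G} (hx : InRt c x) {g : G}
    (hgN : g ∈ Subgroup.normalizer ((Subgroup.centralizer ({x} : Set G) : Subgroup G) : Set G))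
    (hgt : g * c.t = c.t * g) : g ∈ c.K := by
  rcases c.Hsplit g hgt with h | h
  · exact h
  · exfalso
    have hgi : IsInv g := c.sK_isInv h
    obtain ⟨hinv, -⟩ := cent_inverted c hx.1 c.t_inv hx.2
    have hgA := (inverts_of_normalizes _ (cent_sub_R c hx.1) hgi
      (fun y hy => (mem_normalizer_iff'.mp hgN).1 y hy)).1
    have h1 := mul_mem_of_inverts hinv hgA
    have h2 : (g * c.t) * c.t = c.t * (g * c.t) := by
      calc (g * c.t) * c.t = (c.t * g) * c.t := by rw [hgt]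
        _ = c.t * (g * c.t) := by rw [mul_assoc]
    have h3 := cent_inter_H c hx.1 h1 h2
    apply c.sK_ne_t h
    calc g = (g * c.t) * c.t := by rw [mul_assoc, c.tt, mul_one]
      _ = c.t := by rw [h3, one_mul]

/-- nonidentity elements of `K` act freely on `C(x)` -/
theorem semireg (c : Cfg G) {x : G} (hx : InR x) {g : G} (hg : g ∈ c.K) (hg1 : g ≠ 1) {y : G}
    (hy : y ∈ Subgroup.centralizer ({x} : Set G)) (h : g * y = y * g) : y = 1 := by
  apply cent_inter_H c hx hy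
  exact c.comm_t_of_comm hg hg1 h.symm

/-- `W = N(C(x)) ∩ C(t)` -/
def Wsub (c : Cfg G) (x : G) : Subgroup G :=
  Subgroup.normalizer ((Subgroup.centralizer ({x} : Set G) : Subgroup G) : Set G) ⊓
    Subgroup.centralizer ({c.t} : Set G)

theorem mem_Wsub {c : Cfg G} {x g : G} : g ∈ Wsub c x ↔
    g ∈ Subgroup.normalizer ((Subgroup.centralizer ({x} : Set G) : Subgroup G) : Set G) ∧
      g * c.t = c.t * g := by
  unfold Wsub
  rw [Subgroup.mem_inf, mem_centralizer_singleton]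

theorem Wsub_le_K (c : Cfg G) {x : G} (hx : InRt c x) : Wsub c x ≤ c.K := by
  intro g hg
  rw [mem_Wsub] at hg
  exact W_le_K c hx hg.1 hg.2

theorem t_mem_normalizer (c : Cfg G) {x : G} (hx : InRt c x) :
    c.t ∈ Subgroup.normalizer ((Subgroup.centralizer ({x} : Set G) : Subgroup G) : Set G) := by
  apply mem_normalizer_of_finite
  exact normalizes_cent hx.2

theorem t_mem_Wsub (c : Cfg G) {x : G} (hx : InRt c x) : c.t ∈ Wsub c x := by
  rw [mem_Wsub]
  exact ⟨t_mem_normalizer c hx, rfl⟩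

theorem two_dvd_card_Wsub (c : Cfg G) {x : G} (hx : InRt c x) : 2 ∣ Nat.card (Wsub c x) := by
  have h := orderOf_dvd_natCard (⟨c.t, t_mem_Wsub c hx⟩ : Wsub c x)
  have h2 : orderOf (⟨c.t, t_mem_Wsub c hx⟩ : Wsub c x) = 2 := by
    rw [← Subgroup.orderOf_coe]
    exact orderOf_of_isInv c.t_inv
  rwa [h2] at h

theorem card_Wsub_dvd_K (c : Cfg G) {x : G} (hx : InRt c x) :
    Nat.card (Wsub c x) ∣ Nat.card c.K :=
  Subgroup.card_dvd_of_le (Wsub_le_K c hx)

theorem card_Wsub_dvd_pred (c : Cfg G) {x : G} (hx : InRt c x) :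
    Nat.card (Wsub c x) ∣ Nat.card (Subgroup.centralizer ({x} : Set G)) - 1 := by
  apply card_dvd_of_free
  · intro g hg y hy
    rw [mem_Wsub] at hg
    exact (mem_normalizer_iff'.mp hg.1).1 y hy
  · intro g hg hg1 y hy h
    exact semireg c hx.1 (Wsub_le_K c hx hg) hg1 hy h

/-- `|N(C(x))| = |C(x)| |W|` -/
theorem card_normalizer_cent (c : Cfg G) {x : G} (hx : InRt c x) :
    Nat.card (Subgroup.normalizer ((Subgroup.centralizer ({x} : Set G) : Subgroup G) : Set G)) =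
      Nat.card (Subgroup.centralizer ({x} : Set G)) * Nat.card (Wsub c x) := by
  set A := Subgroup.centralizer ({x} : Set G) with hA
  rw [← Nat.card_prod]
  symm
  let f : A × Wsub c x → Subgroup.normalizer (A : Set G) := fun q =>
    ⟨q.1.1 * q.2.1, Subgroup.mul_mem _ (Subgroup.le_normalizer q.1.2) (mem_Wsub.mp q.2.2).1⟩
  apply Nat.card_congr (Equiv.ofBijective f ⟨?_, ?_⟩)
  · rintro ⟨a, w⟩ ⟨a', w'⟩ h
    have h1 : a.1 * w.1 = a'.1 * w'.1 := congrArg Subtype.val h
    have h2 : a'.1⁻¹ * a.1 = w'.1 * w.1⁻¹ := by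
      calc a'.1⁻¹ * a.1 = a'.1⁻¹ * (a.1 * w.1) * w.1⁻¹ := by group
        _ = a'.1⁻¹ * (a'.1 * w'.1) * w.1⁻¹ := by rw [h1]
        _ = w'.1 * w.1⁻¹ := by group
    have h3 : a'.1⁻¹ * a.1 ∈ A := A.mul_mem (A.inv_mem a'.2) a.2
    have h4 : w'.1 * w.1⁻¹ ∈ Wsub c x := (Wsub c x).mul_mem w'.2 ((Wsub c x).inv_mem w.2)
    have h5 : a'.1⁻¹ * a.1 = 1 := by
      apply cent_inter_H c hx.1 h3
      rw [h2]
      exact (mem_Wsub.mp h4).2
    have h6 : a.1 = a'.1 := by
      calc a.1 = a'.1 * (a'.1⁻¹ * a.1) := by group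
        _ = a'.1 := by rw [h5, mul_one]
    have h7 : w.1 = w'.1 := by
      rw [h6] at h1
      exact mul_left_cancel h1
    exact Prod.ext (Subtype.ext h6) (Subtype.ext h7)
  · rintro ⟨g, hg⟩
    obtain ⟨a, ha, hag⟩ := normalizer_factor c hx.1 c.t_inv hx.2 hg
    have hw : a⁻¹ * g ∈ Wsub c x := by
      rw [mem_Wsub]
      exact ⟨Subgroup.mul_mem _ (Subgroup.inv_mem _ (Subgroup.le_normalizer ha)) hg, hag⟩
    refine ⟨(⟨a, ha⟩, ⟨a⁻¹ * g, hw⟩), ?_⟩
    apply Subtype.ext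
    show a * (a⁻¹ * g) = g
    group

/-- `N(C(x)) = C(x) ⊔ W` -/
theorem normalizer_cent_eq_sup (c : Cfg G) {x : G} (hx : InRt c x) :
    Subgroup.normalizer ((Subgroup.centralizer ({x} : Set G) : Subgroup G) : Set G) =
      Subgroup.centralizer ({x} : Set G) ⊔ Wsub c x := by
  apply le_antisymm
  · intro g hg
    obtain ⟨a, ha, hag⟩ := normalizer_factor c hx.1 c.t_inv hx.2 hg
    have hw : a⁻¹ * g ∈ Wsub c x := by
      rw [mem_Wsub]
      exact ⟨Subgroup.mul_mem _ (Subgroup.inv_mem _ (Subgroup.le_normalizer ha)) hg, hag⟩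
    have : g = a * (a⁻¹ * g) := by group
    rw [this]
    exact Subgroup.mul_mem _ (Subgroup.mem_sup_left ha) (Subgroup.mem_sup_right hw)
  · apply sup_le Subgroup.le_normalizer
    intro g hg
    exact (mem_Wsub.mp hg).1

end Cfsg.Agent.Lib.Helper69.BSW
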