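import Mathlib
import Cfsg.Agent.Lib.Helper69.BSWNorm

/-!
# BSW configuration: Hall property of the centralizers `C(x)`, `x` strongly real in `R`
-/

set_option autoImplicit false

namespace Cfsg.Agent.Lib.Helper69.BSW

open scoped Pointwise

universe u

variable {G : Type u} [Group G] [Finite G]

theorem sylow_conj {p : ℕ} [Fact p.Prime] (S S' : Sylow p G) :
    ∃ g : G, ∀ x, x ∈ S' ↔ g⁻¹ * x * g ∈ S := by
  obtain ⟨g, hg⟩ := MulAction.exists_smul_eq G S S'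
  refine ⟨g, fun x => ?_⟩
  rw [← hg]
  show x ∈ ((g • S : Sylow p G) : Subgroup G) ↔ _
  rw [Sylow.coe_subgroup_smul, Subgroup.mem_pointwise_smul_iff_inv_smul_mem, MulAut.smul_def,
    ← map_inv, MulAut.conj_apply, inv_inv]
  rfl

/-- an element of prime order `ℓ` lies in a Sylow `ℓ`-subgroup, which has a nontrivial central
element -/
theorem exists_sylow_central {ℓ : ℕ} [Fact ℓ.Prime] {y : G} (hy : orderOf y = ℓ) :
    ∃ S : Sylow ℓ G, y ∈ S ∧ ∃ z ∈ S, z ≠ 1 ∧ ∀ w ∈ S, w * z = z * w := by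
  have hp : IsPGroup ℓ (Subgroup.zpowers y) := by
    apply IsPGroup.of_card (n := 1)
    rw [Nat.card_zpowers, hy, pow_one]
  obtain ⟨S, hS⟩ := hp.exists_le_sylow
  have hyS : y ∈ S := hS (Subgroup.mem_zpowers y)
  have hy1 : y ≠ 1 := by
    intro h; rw [h, orderOf_one] at hy
    exact (Fact.out : ℓ.Prime).one_lt.ne hy
  haveI : Nontrivial (S : Subgroup G) := ⟨⟨⟨y, hyS⟩, 1, fun h => hy1 (congrArg Subtype.val h)⟩⟩
  haveI := IsPGroup.center_nontrivial S.2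
  obtain ⟨z, hz⟩ := exists_ne (1 : Subgroup.center (S : Subgroup G))
  refine ⟨S, hyS, z.1.1, z.1.2, ?_, ?_⟩
  · intro h
    apply hz
    apply Subtype.ext; apply Subtype.ext; exact h
  · intro w hw
    have := Subgroup.mem_center_iff.mp z.2 ⟨w, hw⟩
    exact congrArg Subtype.val this

/-- Hall property -/
theorem exists_sylow_le_cent (c : Cfg G) {x : G} (hx : InSR x) {ℓ : ℕ} [Fact ℓ.Prime]
    (hdvd : ℓ ∣ Nat.card (Subgroup.centralizer ({x} : Set G))) :
    ∃ S : Sylow ℓ G, (S : Subgroup G) ≤ Subgroup.centralizer ({x} : Set G) ∧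
      ∃ y ∈ S, y ≠ 1 := by
  obtain ⟨y, hy⟩ := exists_prime_orderOf_dvd_card' ℓ hdvd
  have hy' : orderOf y.1 = ℓ := by rw [Subgroup.orderOf_coe]; exact hy
  have hy1 : y.1 ≠ 1 := by
    intro h; rw [h, orderOf_one] at hy'
    exact (Fact.out : ℓ.Prime).one_lt.ne hy'
  obtain ⟨S, hyS, z, hzS, hz1, hzc⟩ := exists_sylow_central hy'
  have h1 := (cent_eq c hx y.2 hy1)
  have hzA : z ∈ Subgroup.centralizer ({x} : Set G) := by
    rw [← h1.2, mem_centralizer_singleton]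
    exact (hzc y.1 hyS).symm
  have h2 := cent_eq c hx hzA hz1
  refine ⟨S, ?_, y.1, hyS, hy1⟩
  intro w hw
  rw [← h2.2, mem_centralizer_singleton]
  exact hzc w hw

/-- two centralizers of strongly real elements of `R` whose orders have a common prime divisor
are conjugate -/
theorem cent_conj_of_prime_dvd (c : Cfg G) {x x' : G} (hx : InSR x) (hx' : InSR x') {ℓ : ℕ}
    (hℓ : ℓ.Prime) (h1 : ℓ ∣ Nat.card (Subgroup.centralizer ({x} : Set G)))
    (h2 : ℓ ∣ Nat.card (Subgroup.centralizer ({x'} : Set G))) :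
    ∃ g : G, ∀ z, z ∈ Subgroup.centralizer ({x'} : Set G) ↔
      g⁻¹ * z * g ∈ Subgroup.centralizer ({x} : Set G) := by
  haveI : Fact ℓ.Prime := ⟨hℓ⟩
  obtain ⟨S, hS, -⟩ := exists_sylow_le_cent c hx h1
  obtain ⟨S', hS', y', hy'S, hy'1⟩ := exists_sylow_le_cent c hx' h2
  obtain ⟨g, hg⟩ := sylow_conj S S'
  refine ⟨g, fun z => ?_⟩
  have e1 := (cent_eq c hx' (hS' hy'S) hy'1).2
  have hy1 : g⁻¹ * y' * g ≠ 1 := by
    intro h
    apply hy'1
    calc y' = g * (g⁻¹ * y' * g) * g⁻¹ := by group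
      _ = 1 := by rw [h]; group
  have e2 := (cent_eq c hx (hS ((hg y').mp hy'S)) hy1).2
  rw [← e1, ← e2, mem_centralizer_singleton, mem_centralizer_singleton]
  constructor
  · intro h
    calc g⁻¹ * z * g * (g⁻¹ * y' * g) = g⁻¹ * (z * y') * g := by group
      _ = g⁻¹ * (y' * z) * g := by rw [h]
      _ = g⁻¹ * y' * g * (g⁻¹ * z * g) := by group
  · intro h
    calc z * y' = g * (g⁻¹ * z * g * (g⁻¹ * y' * g)) * g⁻¹ := by group
      _ = g * (g⁻¹ * y' * g * (g⁻¹ * z * g)) * g⁻¹ := by rw [h]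
      _ = y' * z := by group

/-- the order of `C(x)` is prime to `|K|` -/
theorem cent_coprime_K (c : Cfg G) {x : G} (hx : InSR x) :
    Nat.Coprime (Nat.card (Subgroup.centralizer ({x} : Set G))) (Nat.card c.K) := by
  apply Nat.Coprime.symm
  apply Nat.coprime_of_dvd
  intro ℓ hℓ hk ha
  haveI : Fact ℓ.Prime := ⟨hℓ⟩
  obtain ⟨S, hS, -⟩ := exists_sylow_le_cent c hx ha
  obtain ⟨y, hy⟩ := exists_prime_orderOf_dvd_card' ℓ hk
  have hy' : orderOf y.1 = ℓ := by rw [Subgroup.orderOf_coe]; exact hy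
  have hy1 : y.1 ≠ 1 := by
    intro h; rw [h, orderOf_one] at hy'
    exact hℓ.one_lt.ne hy'
  obtain ⟨S', hyS', -⟩ := exists_sylow_central hy'
  obtain ⟨g, hg⟩ := sylow_conj S S'
  have h1 : g⁻¹ * y.1 * g ∈ Subgroup.centralizer ({x} : Set G) := hS ((hg y.1).mp hyS')
  have h2 : g⁻¹ * y.1 * g ≠ 1 := by
    intro h
    apply hy1
    calc y.1 = g * (g⁻¹ * y.1 * g) * g⁻¹ := by group
      _ = 1 := by rw [h]; group
  have h3 : InR (g⁻¹ * y.1 * g) := cent_sub_R c hx.1 _ h1 h2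
  have h4 : InR y.1 := by
    have := h3.conj g
    have e : g * (g⁻¹ * y.1 * g) * g⁻¹ = y.1 := by group
    rwa [e] at this
  exact h4.2 c.t c.t_inv (c.Kt y.1 y.2).symm

/-- conjugate centralizers of elements of `R` inverted by `t` are conjugate under `C(t)` -/
theorem cent_conj_H (c : Cfg G) {x x' : G} (hx : InRt c x) (hx' : InRt c x') {g : G}
    (hg : ∀ z, z ∈ Subgroup.centralizer ({x'} : Set G) ↔
      g⁻¹ * z * g ∈ Subgroup.centralizer ({x} : Set G)) :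
    ∃ h : G, h * c.t = c.t * h ∧ ∀ z, z ∈ Subgroup.centralizer ({x'} : Set G) ↔
      h⁻¹ * z * h ∈ Subgroup.centralizer ({x} : Set G) := by
  obtain ⟨hinv, -⟩ := cent_inverted c hx.1 c.t_inv hx.2
  obtain ⟨hinv', -⟩ := cent_inverted c hx'.1 c.t_inv hx'.2
  have hw : IsInv (g * c.t * g⁻¹) := c.t_inv.conj g
  have hwA : ∀ y ∈ Subgroup.centralizer ({x'} : Set G),
      (g * c.t * g⁻¹) * y * (g * c.t * g⁻¹)⁻¹ = y⁻¹ := by
    intro y hy
    have h1 := hinv _ ((hg y).mp hy)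
    calc (g * c.t * g⁻¹) * y * (g * c.t * g⁻¹)⁻¹ = g * (c.t * (g⁻¹ * y * g) * c.t⁻¹) * g⁻¹ := by
          group
      _ = g * (g⁻¹ * y * g)⁻¹ * g⁻¹ := by rw [h1]
      _ = y⁻¹ := by group
  obtain ⟨a, ha, hav⟩ := exists_conj_of_inverts c hx'.1 c.t_inv hw hinv' hwA
  refine ⟨a⁻¹ * g, ?_, fun z => ?_⟩
  · calc a⁻¹ * g * c.t = a⁻¹ * (g * c.t * g⁻¹) * g := by group
      _ = a⁻¹ * (a * c.t * a⁻¹) * g := by rw [hav]
      _ = c.t * (a⁻¹ * g) := by group
  · have e : (a⁻¹ * g)⁻¹ * z * (a⁻¹ * g) = g⁻¹ * (a * z * a⁻¹) * g := by group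
    rw [e, ← hg]
    set A' := Subgroup.centralizer ({x'} : Set G)
    constructor
    · intro hz
      exact A'.mul_mem (A'.mul_mem ha hz) (A'.inv_mem ha)
    · intro hz
      have := A'.mul_mem (A'.mul_mem (A'.inv_mem ha) hz) ha
      have e2 : a⁻¹ * (a * z * a⁻¹) * a = z := by group
      rwa [e2] at this

end Cfsg.Agent.Lib.Helper69.BSW
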