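import Mathlib
import Cfsg.Agent.Lib.Helper69.BSWHall
import Cfsg.Agent.Lib.Helper3.Ortho

/-!
# BSW configuration: counting `C(t)`-orbits of centralizers, the number of involutions
-/

set_option autoImplicit false

namespace Cfsg.Agent.Lib.Helper69.BSW

universe u

variable {G : Type u} [Group G] [Finite G]

theorem cent_conj_eq (y g : G) :
    Subgroup.centralizer ({g * y * g⁻¹} : Set G) = conjSub (Subgroup.centralizer ({y} : Set G)) g := by
  ext z
  rw [mem_conjSub, mem_centralizer_singleton, mem_centralizer_singleton]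
  constructor
  · intro h
    calc g⁻¹ * z * g * y = g⁻¹ * (z * (g * y * g⁻¹)) * g := by group
      _ = g⁻¹ * ((g * y * g⁻¹) * z) * g := by rw [h]
      _ = y * (g⁻¹ * z * g) := by group
  · intro h
    calc z * (g * y * g⁻¹) = g * ((g⁻¹ * z * g) * y) * g⁻¹ := by group
      _ = g * (y * (g⁻¹ * z * g)) * g⁻¹ := by rw [h]
      _ = g * y * g⁻¹ * z := by group

theorem card_cent_conj (y g : G) :
    Nat.card (Subgroup.centralizer ({g * y * g⁻¹} : Set G)) =
      Nat.card (Subgroup.centralizer ({y} : Set G)) := by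
  rw [cent_conj_eq, card_conjSub]

/-- `|C(t)| = 2|K|` -/
theorem card_H (c : Cfg G) :
    Nat.card (Subgroup.centralizer ({c.t} : Set G)) = 2 * Nat.card c.K := by
  classical
  rw [card_subgroup_eq_ncard, card_subgroup_eq_ncard]
  have h1 : ((Subgroup.centralizer ({c.t} : Set G) : Subgroup G) : Set G) =
      (c.K : Set G) ∪ (fun y => c.s * y) '' (c.K : Set G) := by
    ext g
    rw [SetLike.mem_coe, mem_centralizer_singleton, c.comm_t_iff, Set.mem_union, Set.mem_image]
    constructor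
    · rintro (h | h)
      · exact Or.inl h
      · exact Or.inr ⟨c.s * g, h, by rw [← mul_assoc, c.ss, one_mul]⟩
    · rintro (h | ⟨y, hy, rfl⟩)
      · exact Or.inl h
      · right
        rw [← mul_assoc, c.ss, one_mul]; exact hy
  rw [h1, Set.ncard_union_eq, Set.ncard_image_of_injective _ (mul_right_injective c.s)]
  · ring
  · rw [Set.disjoint_left]
    rintro g hg ⟨y, hy, rfl⟩
    apply c.sK
    have : c.s = (c.s * y) * y⁻¹ := by group
    rw [this]
    exact c.K.mul_mem hg (c.K.inv_mem hy)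

/-- elements of `R` inverted by `t` with centralizer of order `a` -/
def Ta (c : Cfg G) (a : ℕ) : Set G :=
  {x | InRt c x ∧ Nat.card (Subgroup.centralizer ({x} : Set G)) = a}

theorem card_cent_ne_one {x : G} (hx : InR x) :
    Nat.card (Subgroup.centralizer ({x} : Set G)) ≠ 1 := by
  intro h
  have hxx : x ∈ Subgroup.centralizer ({x} : Set G) := mem_centralizer_singleton.mpr rfl
  have := (Subgroup.card_eq_one.mp h)
  rw [this, Subgroup.mem_bot] at hxx
  exact hx.1 hxx

/-- orbit counting: `2k (a - 1) = |T_a| · |W|` -/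
theorem card_Ta (c : Cfg G) {x₀ : G} (hx₀ : InRt c x₀) :
    2 * Nat.card c.K * (Nat.card (Subgroup.centralizer ({x₀} : Set G)) - 1) =
      (Ta c (Nat.card (Subgroup.centralizer ({x₀} : Set G)))).ncard * Nat.card (Wsub c x₀) := by
  set A := Subgroup.centralizer ({x₀} : Set G) with hA
  have hfc := conj_fiber_count (Subgroup.centralizer ({c.t} : Set G)) A
    (fun g _ y hy hy1 hgy => cent_TI c hx₀.inSR hy hy1 hgy)
  rw [card_H] at hfc
  have hW : (Subgroup.centralizer ({c.t} : Set G) ⊓ Subgroup.normalizer (A : Set G) : Subgroup G)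
      = Wsub c x₀ := by
    unfold Wsub; rw [inf_comm]
  rw [hW] at hfc
  rw [hfc]
  congr 2
  ext x
  simp only [Ta, Set.mem_setOf_eq]
  obtain ⟨hinv, -⟩ := cent_inverted c hx₀.1 c.t_inv hx₀.2
  constructor
  · rintro ⟨g, hg, y, hy, hy1, rfl⟩
    rw [mem_centralizer_singleton] at hg
    have hyR : InR y := cent_sub_R c hx₀.1 y hy hy1
    refine ⟨⟨hyR.conj g, ?_⟩, ?_⟩
    · have h1 := hinv y hy
      have h2 : c.t * g = g * c.t := hg.symm
      have h3 : g⁻¹ * c.t⁻¹ = c.t⁻¹ * g⁻¹ := by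
        rw [← mul_inv_rev, ← mul_inv_rev, h2]
      calc c.t * (g * y * g⁻¹) * c.t⁻¹ = (c.t * g) * y * (g⁻¹ * c.t⁻¹) := by group
        _ = (g * c.t) * y * (c.t⁻¹ * g⁻¹) := by rw [h2, h3]
        _ = g * (c.t * y * c.t⁻¹) * g⁻¹ := by group
        _ = g * y⁻¹ * g⁻¹ := by rw [h1]
        _ = (g * y * g⁻¹)⁻¹ := by group
    · rw [card_cent_conj, (cent_eq c hx₀.inSR hy hy1).2]
  · rintro ⟨hx, hcard⟩
    have hne : Nat.card A ≠ 1 := card_cent_ne_one hx₀.1
    obtain ⟨ℓ, hℓ, hdvd⟩ := Nat.exists_prime_and_dvd hne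
    have hdvd' : ℓ ∣ Nat.card (Subgroup.centralizer ({x} : Set G)) := by rw [hcard]; exact hdvd
    obtain ⟨g, hg⟩ := cent_conj_of_prime_dvd c hx₀.inSR hx.inSR hℓ hdvd hdvd'
    obtain ⟨h, hht, hh⟩ := cent_conj_H c hx₀ hx hg
    have hxx : x ∈ Subgroup.centralizer ({x} : Set G) := mem_centralizer_singleton.mpr rfl
    refine ⟨h, mem_centralizer_singleton.mpr hht, h⁻¹ * x * h, (hh x).mp hxx, ?_, by group⟩
    intro h1
    apply hx.1.1
    calc x = h * (h⁻¹ * x * h) * h⁻¹ := by group
      _ = 1 := by rw [h1]; group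

/-- the number of involutions -/
noncomputable def nInv (G : Type u) [Group G] : ℕ := {v : G | IsInv v}.ncard

theorem card_G (c : Cfg G) : Nat.card G = nInv G * (2 * Nat.card c.K) := by
  rw [← card_H c, ← Subgroup.index_mul_card (Subgroup.centralizer ({c.t} : Set G)),
    Cfsg.Agent.Lib.Helper3.index_centralizer_eq_ncard]
  congr 2
  ext v
  simp only [Set.mem_setOf_eq]
  constructor
  · intro h
    obtain ⟨g, hg⟩ := isConj_iff.mp h
    have : c.t = g * v * g⁻¹ := hg.symm
    have h2 := (c.t_inv.conj g⁻¹)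
    rw [inv_inv, this] at h2
    have e : g⁻¹ * (g * v * g⁻¹) * g = v := by group
    rwa [e] at h2
  · intro h
    obtain ⟨g, hg⟩ := c.allconj v h.1 h.2
    rw [isConj_comm, isConj_iff]
    exact ⟨g, hg⟩

/-- `|{x : t x t⁻¹ = x⁻¹}| = n + 1` -/
theorem card_J (c : Cfg G) : {x : G | c.t * x * c.t⁻¹ = x⁻¹}.ncard = nInv G + 1 := by
  have h1 : {x : G | c.t * x * c.t⁻¹ = x⁻¹} = (fun v => c.t * v) '' {v : G | v * v = 1} := by
    ext x
    simp only [Set.mem_setOf_eq, Set.mem_image]
    constructor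
    · intro h
      refine ⟨c.t * x, ?_, by rw [← mul_assoc, c.tt, one_mul]⟩
      rw [c.tinv] at h
      calc c.t * x * (c.t * x) = (c.t * x * c.t) * x := by group
        _ = 1 := by rw [h]; group
    · rintro ⟨v, hv, rfl⟩
      rw [c.tinv]
      have hvinv : v⁻¹ = v := inv_eq_of_mul_eq_one_right hv
      calc c.t * (c.t * v) * c.t = (c.t * c.t) * v * c.t := by group
        _ = v * c.t := by rw [c.tt, one_mul]
        _ = v⁻¹ * c.t⁻¹ := by rw [hvinv, c.tinv]
        _ = (c.t * v)⁻¹ := by group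
  rw [h1, Set.ncard_image_of_injective _ (mul_right_injective c.t)]
  have h2 : {v : G | v * v = 1} = insert 1 {v : G | IsInv v} := by
    ext v
    simp only [Set.mem_setOf_eq, Set.mem_insert_iff, IsInv]
    constructor
    · intro h
      by_cases h1 : v = 1
      · exact Or.inl h1
      · exact Or.inr ⟨h, h1⟩
    · rintro (h | h)
      · rw [h, mul_one]
      · exact h.1
  rw [h2, Set.ncard_insert_of_notMem]
  · rfl
  · intro h; exact h.2 rfl

end Cfsg.Agent.Lib.Helper69.BSW
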