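import Mathlib
import Cfsg.Agent.Lib.Helper69.BSWOrbit

/-!
# BSW configuration: counting the elements inverted by `t`
-/

set_option autoImplicit false

namespace Cfsg.Agent.Lib.Helper69.BSW

universe u

variable {G : Type u} [Group G]

/-- the canonical subgroup `K_z` attached to an involution `z`, as a set -/
def Kof (z : G) : Set G := {x | x * z = z * x ∧ (x * x = 1 → x = 1 ∨ x = z)}

theorem Cfg.K_eq_Kof (c : Cfg G) : (c.K : Set G) = Kof c.t := by
  ext x
  rw [SetLike.mem_coe, c.mem_K_iff]
  rfl

theorem Cfg.mem_Kof (c : Cfg G) {x : G} : x ∈ Kof c.t ↔ x ∈ c.K := by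
  rw [← c.K_eq_Kof]; rfl

variable [Finite G]

/-- distinct involutions have `K`'s meeting trivially -/
theorem Kof_disjoint (c : Cfg G) {z z' : G} (hz : IsInv z) (hz' : IsInv z') {x : G}
    (hx : x ∈ Kof z) (hx' : x ∈ Kof z') (hx1 : x ≠ 1) : z = z' := by
  obtain ⟨cz, hcz, -⟩ := c.exists_cfg hz
  rw [← hcz] at hx ⊢
  rw [cz.mem_Kof] at hx
  -- z' commutes with x ∈ K_z \ 1, hence with z
  have h1 : z' * cz.t = cz.t * z' := cz.comm_t_of_comm hx hx1 hx'.1.symm
  rcases cz.invol_comm_t hz' h1 with h2 | h2
  · exact h2.symm
  · exfalso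
    have h3 := cz.sK_inverts h2 hx
    have h4 : z' * x * z'⁻¹ = x := by rw [← hx'.1]; group
    have h5 : x * x = 1 := by
      have : x = x⁻¹ := h4.symm.trans h3
      calc x * x = x * x⁻¹ := by rw [← this]
        _ = 1 := mul_inv_cancel x
    rcases hx'.2 h5 with h6 | h6
    · exact hx1 h6
    · exact cz.sK_not_mem h2 (h6 ▸ hx)

theorem count_J (c : Cfg G) :
    nInv G + 1 = 2 + Nat.card c.K * (Nat.card c.K - 1) + {x : G | InRt c x}.ncard := by
  classical
  have := Fintype.ofFinite G
  rw [← card_J c]
  -- decomposition of J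
  set sKf : Finset G := Finset.univ.filter (fun z => c.s * z ∈ c.K) with hsKf
  let Kz : G → Finset G := fun z => (Finset.univ.filter (fun x => x ∈ Kof z)).erase 1
  set M : Finset G := sKf.biUnion Kz with hM
  set Rt : Finset G := Finset.univ.filter (fun x => InRt c x) with hRt
  have hJ : {x : G | c.t * x * c.t⁻¹ = x⁻¹} = ((({1, c.t} : Finset G) ∪ M ∪ Rt : Finset G) : Set G) := by
    ext x
    simp only [Set.mem_setOf_eq, Finset.coe_union, Set.mem_union, Finset.mem_coe,
      Finset.mem_insert, Finset.mem_singleton]
    constructor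
    · intro hx
      by_cases hx1 : x = 1
      · exact Or.inl (Or.inl (Or.inl hx1))
      by_cases hxR : InR x
      · right
        rw [hRt, Finset.mem_filter]
        exact ⟨Finset.mem_univ _, hxR, hx⟩
      · left
        -- some involution commutes with x
        have : ∃ v : G, IsInv v ∧ v * x = x * v := by
          by_contra hcon
          push Not at hcon
          exact hxR ⟨hx1, hcon⟩
        obtain ⟨v, hv, hvx⟩ := this
        obtain ⟨cv, hcv, -⟩ := c.exists_cfg hv
        have hxv : x * cv.t = cv.t * x := by rw [hcv]; exact hvx.symm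
        have key : ∀ z : G, c.s * z ∈ c.K → x ∈ Kof z → x ∈ M := by
          intro z hz hxz
          rw [hM, Finset.mem_biUnion]
          refine ⟨z, ?_, ?_⟩
          · rw [hsKf, Finset.mem_filter]; exact ⟨Finset.mem_univ _, hz⟩
          · simp only [Kz, Finset.mem_erase, Finset.mem_filter, Finset.mem_univ, true_and]
            exact ⟨hx1, hxz⟩
        rcases cv.Hsplit x hxv with h | h
        · -- x ∈ K_v \ 1
          have h1 : c.t * x * c.t⁻¹ ∈ cv.K := by rw [hx]; exact cv.K.inv_mem h
          have h2 := cv.TI c.t x h hx1 h1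
          rw [hcv] at h2
          rcases c.invol_comm_t hv h2.symm with h3 | h3
          · -- v = t
            have hK : cv.K = c.K := c.K_eq_of_t_eq cv (by rw [hcv, h3])
            rw [hK] at h
            have h4 := c.Kt x h
            have h5 : c.t * x * c.t⁻¹ = x := by rw [← h4]; group
            have h6 : x * x = 1 := by
              have : x = x⁻¹ := h5.symm.trans hx
              calc x * x = x * x⁻¹ := by rw [← this]
                _ = 1 := mul_inv_cancel x
            rcases c.Ksq x h h6 with h7 | h7
            · exact absurd h7 hx1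
            · exact Or.inl (Or.inr h7)
          · right
            apply key v h3
            rw [← hcv, cv.mem_Kof]; exact h
        · -- x is an involution
          have hxi : IsInv x := cv.sK_isInv h
          have h1 : x * c.t = c.t * x := by
            have : c.t * x * c.t⁻¹ = x := by rw [hx, hxi.inv_eq]
            calc x * c.t = (c.t * x * c.t⁻¹) * c.t := by rw [this]
              _ = c.t * x := by group
          rcases c.invol_comm_t hxi h1 with h2 | h2
          · exact Or.inl (Or.inr h2)
          · right
            apply key x h2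
            exact ⟨rfl, fun _ => Or.inr rfl⟩
    · rintro ((h | h) | h)
      · rcases h with h | h
        · rw [h]; group
        · rw [h, c.tinv, c.tt, one_mul]
      · rw [hM, Finset.mem_biUnion] at h
        obtain ⟨z, hz, hxz⟩ := h
        rw [hsKf, Finset.mem_filter] at hz
        simp only [Kz, Finset.mem_erase, Finset.mem_filter, Finset.mem_univ, true_and] at hxz
        obtain ⟨cz, hcz, -⟩ := c.exists_cfg (c.sK_isInv hz.2)
        have h1 : x ∈ cz.K := by rw [← cz.mem_Kof, hcz]; exact hxz.2
        have h2 : c.t * cz.t = cz.t * c.t := by rw [hcz]; exact (c.sK_comm_t hz.2).symm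
        rcases cz.invol_comm_t c.t_inv h2 with h3 | h3
        · exfalso; rw [hcz] at h3; exact c.sK_ne_t hz.2 h3.symm
        · exact cz.sK_inverts h3 h1
      · rw [hRt, Finset.mem_filter] at h
        exact h.2.2
  rw [hJ, Set.ncard_coe_finset]
  have hd1 : Disjoint (({1, c.t} : Finset G) ∪ M) Rt := by
    rw [Finset.disjoint_left]
    intro x hx hxR
    rw [hRt, Finset.mem_filter] at hxR
    rw [Finset.mem_union] at hx
    rcases hx with hx | hx
    · rw [Finset.mem_insert, Finset.mem_singleton] at hx
      rcases hx with hx | hx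
      · exact hxR.2.1.1 hx
      · apply hxR.2.1.2 c.t c.t_inv; rw [hx]
    · rw [hM, Finset.mem_biUnion] at hx
      obtain ⟨z, hz, hxz⟩ := hx
      rw [hsKf, Finset.mem_filter] at hz
      simp only [Kz, Finset.mem_erase, Finset.mem_filter, Finset.mem_univ, true_and] at hxz
      exact hxR.2.1.2 z (c.sK_isInv hz.2) hxz.2.1.symm
  have hd2 : Disjoint ({1, c.t} : Finset G) M := by
    rw [Finset.disjoint_left]
    intro x hx hxM
    rw [Finset.mem_insert, Finset.mem_singleton] at hx
    rw [hM, Finset.mem_biUnion] at hxM
    obtain ⟨z, hz, hxz⟩ := hxM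
    rw [hsKf, Finset.mem_filter] at hz
    simp only [Kz, Finset.mem_erase, Finset.mem_filter, Finset.mem_univ, true_and] at hxz
    rcases hx with hx | hx
    · exact hxz.1 hx
    · rw [hx] at hxz
      rcases hxz.2.2 c.tt with h | h
      · exact c.t1 h
      · exact c.sK_ne_t hz.2 h.symm
  rw [Finset.card_union_of_disjoint hd1, Finset.card_union_of_disjoint hd2]
  have h2 : ({1, c.t} : Finset G).card = 2 := by
    rw [Finset.card_insert_of_notMem, Finset.card_singleton]
    rw [Finset.mem_singleton]; exact c.t1.symm
  have hMcard : M.card = Nat.card c.K * (Nat.card c.K - 1) := by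
    rw [hM, Finset.card_biUnion]
    · have hk : ∀ z ∈ sKf, (Kz z).card = Nat.card c.K - 1 := by
        intro z hz
        rw [hsKf, Finset.mem_filter] at hz
        obtain ⟨cz, hcz, hcard⟩ := c.exists_cfg (c.sK_isInv hz.2)
        simp only [Kz]
        rw [Finset.card_erase_of_mem, ← hcard, card_subgroup_eq_card_filter]
        · congr 2
          ext x
          simp only [Finset.mem_filter, Finset.mem_univ, true_and]
          rw [← hcz, cz.mem_Kof]
        · simp only [Finset.mem_filter, Finset.mem_univ, true_and]
          exact ⟨by rw [one_mul, mul_one], fun _ => Or.inl rfl⟩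
      rw [Finset.sum_congr rfl hk, Finset.sum_const, smul_eq_mul]
      congr 1
      -- |sK| = |K|
      rw [card_subgroup_eq_card_filter, hsKf]
      apply Finset.card_bij (fun z _ => c.s * z)
      · intro z hz
        rw [Finset.mem_filter] at hz ⊢
        exact ⟨Finset.mem_univ _, hz.2⟩
      · intro z _ z' _ h
        exact mul_left_cancel h
      · intro y hy
        rw [Finset.mem_filter] at hy
        refine ⟨c.s * y, ?_, by rw [← mul_assoc, c.ss, one_mul]⟩
        rw [Finset.mem_filter]
        refine ⟨Finset.mem_univ _, ?_⟩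
        rw [← mul_assoc, c.ss, one_mul]; exact hy.2
    · intro z hz z' hz' hne
      rw [Finset.mem_coe, hsKf, Finset.mem_filter] at hz hz'
      rw [Function.onFun, Finset.disjoint_left]
      intro x hx hx'
      simp only [Kz, Finset.mem_erase, Finset.mem_filter, Finset.mem_univ, true_and] at hx hx'
      exact hne (Kof_disjoint c (c.sK_isInv hz.2) (c.sK_isInv hz'.2) hx.2 hx'.2 hx.1)
  rw [h2, hMcard, ncard_setOf_eq_card_filter]

end Cfsg.Agent.Lib.Helper69.BSW
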