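import Mathlib
import Cfsg.Agent.Lib.Helper69.BSWJ

/-!
# BSW configuration: the orbit data `r = Σ_a T_a`, `T_a w_a = 2k(a-1)`
-/

set_option autoImplicit false

namespace Cfsg.Agent.Lib.Helper69.BSW

universe u

variable {G : Type u} [Group G] [Finite G]

/-- properties of the order `a` of a centralizer `C(x)`, `x ∈ R` inverted by `t` -/
theorem cent_card_props (c : Cfg G) {x : G} (hx : InRt c x) :
    3 ≤ Nat.card (Subgroup.centralizer ({x} : Set G)) ∧
    Odd (Nat.card (Subgroup.centralizer ({x} : Set G))) ∧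
    Nat.card (Subgroup.centralizer ({x} : Set G)) ∣ Nat.card G ∧
    Nat.Coprime (Nat.card (Subgroup.centralizer ({x} : Set G))) (Nat.card c.K) := by
  have h1 := cent_odd c hx.1
  have h2 := card_cent_ne_one hx.1
  have h3 : 0 < Nat.card (Subgroup.centralizer ({x} : Set G)) := Nat.card_pos
  refine ⟨?_, h1, Subgroup.card_subgroup_dvd_card _, cent_coprime_K c hx.inSR⟩
  obtain ⟨m, hm⟩ := h1
  omega

/-- Hall property in arithmetic form -/
theorem cent_card_hall (c : Cfg G) {x : G} (hx : InRt c x) {ℓ : ℕ} (hℓ : ℓ.Prime)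
    (hdvd : ℓ ∣ Nat.card (Subgroup.centralizer ({x} : Set G))) :
    ℓ ^ ((Nat.card G).factorization ℓ) ∣ Nat.card (Subgroup.centralizer ({x} : Set G)) := by
  haveI : Fact ℓ.Prime := ⟨hℓ⟩
  obtain ⟨S, hS, -⟩ := exists_sylow_le_cent c hx.inSR hdvd
  rw [← Sylow.card_eq_multiplicity S]
  exact Subgroup.card_dvd_of_le hS

/-- centralizers of different orders have coprime orders -/
theorem cent_card_coprime (c : Cfg G) {x x' : G} (hx : InRt c x) (hx' : InRt c x')
    (hne : Nat.card (Subgroup.centralizer ({x} : Set G)) ≠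
      Nat.card (Subgroup.centralizer ({x'} : Set G))) :
    Nat.Coprime (Nat.card (Subgroup.centralizer ({x} : Set G)))
      (Nat.card (Subgroup.centralizer ({x'} : Set G))) := by
  apply Nat.coprime_of_dvd
  intro ℓ hℓ h1 h2
  obtain ⟨g, hg⟩ := cent_conj_of_prime_dvd c hx.inSR hx'.inSR hℓ h1 h2
  apply hne
  have : Subgroup.centralizer ({x'} : Set G) = conjSub (Subgroup.centralizer ({x} : Set G)) g := by
    ext z
    rw [mem_conjSub]; exact hg z
  rw [this, card_conjSub]

/-- the orbit data -/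
theorem orbit_data (c : Cfg G) :
    ∃ (O : Finset ℕ) (T w : ℕ → ℕ),
      {x : G | InRt c x}.ncard = ∑ a ∈ O, T a ∧
      (∀ a ∈ O, 3 ≤ a ∧ Odd a ∧ a ∣ Nat.card G ∧ Nat.Coprime a (Nat.card c.K) ∧
        T a * w a = 2 * Nat.card c.K * (a - 1) ∧ 2 ∣ w a ∧ w a ∣ Nat.card c.K ∧ w a ∣ a - 1 ∧
        (∀ ℓ : ℕ, ℓ.Prime → ℓ ∣ a → ℓ ^ ((Nat.card G).factorization ℓ) ∣ a) ∧
        ∃ x : G, InRt c x ∧ Nat.card (Subgroup.centralizer ({x} : Set G)) = a ∧
          Nat.card (Wsub c x) = w a) ∧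
      (∀ a ∈ O, ∀ b ∈ O, a ≠ b → Nat.Coprime a b) ∧
      (∀ x : G, InRt c x → Nat.card (Subgroup.centralizer ({x} : Set G)) ∈ O) := by
  classical
  have := Fintype.ofFinite G
  set Rt : Finset G := Finset.univ.filter (fun x => InRt c x) with hRt
  set f : G → ℕ := fun x => Nat.card (Subgroup.centralizer ({x} : Set G)) with hf
  set O : Finset ℕ := Rt.image f with hO
  have hex : ∀ a : ℕ, ∃ x : G, a ∈ O → InRt c x ∧ f x = a := by
    intro a
    by_cases ha : a ∈ O
    · rw [hO, Finset.mem_image] at ha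
      obtain ⟨x, hx, hxa⟩ := ha
      rw [hRt, Finset.mem_filter] at hx
      exact ⟨x, fun _ => ⟨hx.2, hxa⟩⟩
    · exact ⟨1, fun h => absurd h ha⟩
  choose rep hrep using hex
  refine ⟨O, fun a => (Ta c a).ncard, fun a => Nat.card (Wsub c (rep a)), ?_, ?_, ?_, ?_⟩
  · rw [ncard_setOf_eq_card_filter]
    rw [Finset.card_eq_sum_card_fiberwise (f := f) (t := O)
      (fun x hx => Finset.mem_image_of_mem f hx)]
    apply Finset.sum_congr rfl
    intro a _
    show _ = (Ta c a).ncard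
    unfold Ta
    rw [ncard_setOf_eq_card_filter, hRt, Finset.filter_filter]
  · intro a ha
    obtain ⟨hx, hxa⟩ := hrep a ha
    obtain ⟨h1, h2, h3, h4⟩ := cent_card_props c hx
    have h5 := card_Ta c hx
    simp only [hf] at hxa
    rw [hxa] at h1 h2 h3 h4 h5
    refine ⟨h1, h2, h3, h4, h5.symm, two_dvd_card_Wsub c hx, card_Wsub_dvd_K c hx, ?_, ?_,
      rep a, hx, hxa, rfl⟩
    · have := card_Wsub_dvd_pred c hx
      rwa [hxa] at this
    · intro ℓ hℓ hdvd
      have := cent_card_hall c hx hℓ (by rw [hxa]; exact hdvd)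
      rwa [hxa] at this
  · intro a ha b hb hab
    obtain ⟨hx, hxa⟩ := hrep a ha
    obtain ⟨hx', hxb⟩ := hrep b hb
    simp only [hf] at hxa hxb
    have := cent_card_coprime c hx hx' (by rw [hxa, hxb]; exact hab)
    rwa [hxa, hxb] at this
  · intro x hx
    rw [hO, Finset.mem_image]
    exact ⟨x, by rw [hRt, Finset.mem_filter]; exact ⟨Finset.mem_univ _, hx⟩, rfl⟩

end Cfsg.Agent.Lib.Helper69.BSW
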