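import Mathlib
import Cfsg.Agent.Lib.Helper69.BSWData
import Cfsg.Agent.Lib.Helper69.BSWArith2

/-!
# BSW: the goal statement and the conclusion in Case A
-/

set_option autoImplicit false

namespace Cfsg.Agent.Lib.Helper69.BSW

universe u

variable {G : Type u} [Group G]

/-- the conclusion of the abstract Brauer–Suzuki–Wall theorem -/
def Goal (G : Type u) [Group G] : Prop :=
  ∃ Q D : Subgroup G, 2 * Nat.card G = Nat.card ↥Q * (Nat.card ↥Q + 1) * (Nat.card ↥Q - 1) ∧
    (∀ x ∈ Q, x ≠ 1 → Subgroup.centralizer ({x} : Set G) = Q) ∧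
    IsMulCommutative ↥D ∧ 2 * Nat.card ↥D + 1 = Nat.card ↥Q ∧ Q ⊓ D = ⊥ ∧
    Subgroup.normalizer (Q : Set G) = Q ⊔ D ∧
    ∀ X : Subgroup G, X ≤ D → X ≠ ⊥ →
      Subgroup.normalizer (X : Set G) = Subgroup.normalizer (D : Set G) ∧
      ∃ u : G, orderOf u = 2 ∧ u ∉ D ∧ (∀ d ∈ D, u * d * u⁻¹ = d⁻¹) ∧
        Subgroup.normalizer (D : Set G) = D ⊔ Subgroup.zpowers u

variable [Finite G]

/-- `N(X) = C(t)` for nontrivial `X ≤ K` -/
theorem normalizer_of_le_K (c : Cfg G) {X : Subgroup G} (hX : X ≤ c.K) (hX1 : X ≠ ⊥) :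
    Subgroup.normalizer (X : Set G) = Subgroup.centralizer ({c.t} : Set G) := by
  obtain ⟨y, hy, hy1⟩ : ∃ y ∈ X, y ≠ 1 := by
    obtain ⟨a, ha⟩ := Subgroup.ne_bot_iff_exists_ne_one.mp hX1
    exact ⟨a.1, a.2, fun h => ha (Subtype.ext h)⟩
  apply le_antisymm
  · intro g hg
    rw [mem_centralizer_singleton]
    have h1 := (mem_normalizer_iff'.mp hg).1 y hy
    exact c.TI g y (hX hy) hy1 (hX h1)
  · intro g hg
    rw [mem_centralizer_singleton] at hg
    apply mem_normalizer_of_finite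
    intro z hz
    rcases c.Hsplit g hg with h | h
    · have h1 := c.Kcomm g h z (hX hz)
      have : g * z * g⁻¹ = z := by rw [h1]; group
      rw [this]; exact hz
    · rw [c.sK_inverts h (hX hz)]
      exact X.inv_mem hz

theorem H_eq_sup (c : Cfg G) :
    Subgroup.centralizer ({c.t} : Set G) = c.K ⊔ Subgroup.zpowers c.s := by
  apply le_antisymm
  · intro g hg
    rw [mem_centralizer_singleton] at hg
    rcases c.Hsplit g hg with h | h
    · exact Subgroup.mem_sup_left h
    · have : g = c.s * (c.s * g) := c.sK_eq h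
      rw [this]
      exact Subgroup.mul_mem _ (Subgroup.mem_sup_right (Subgroup.mem_zpowers c.s))
        (Subgroup.mem_sup_left h)
  · apply sup_le
    · intro g hg
      rw [mem_centralizer_singleton]; exact c.Kt g hg
    · rw [Subgroup.zpowers_le, mem_centralizer_singleton]
      exact c.st

/-- the statements about `D = K` -/
theorem K_props (c : Cfg G) :
    IsMulCommutative ↥c.K ∧ ∀ X : Subgroup G, X ≤ c.K → X ≠ ⊥ →
      Subgroup.normalizer (X : Set G) = Subgroup.normalizer (c.K : Set G) ∧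
      ∃ u : G, orderOf u = 2 ∧ u ∉ c.K ∧ (∀ d ∈ c.K, u * d * u⁻¹ = d⁻¹) ∧
        Subgroup.normalizer (c.K : Set G) = c.K ⊔ Subgroup.zpowers u := by
  constructor
  · exact ⟨⟨fun a b => Subtype.ext (c.Kcomm a.1 a.2 b.1 b.2)⟩⟩
  · intro X hX hX1
    have hK1 : c.K ≠ ⊥ := by
      intro h
      have := c.tK
      rw [h, Subgroup.mem_bot] at this
      exact c.t1 this
    have hNK := normalizer_of_le_K c (le_refl c.K) hK1
    refine ⟨by rw [normalizer_of_le_K c hX hX1, hNK], c.s, orderOf_of_isInv c.s_inv, c.sK, ?_, ?_⟩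
    · intro d hd
      rw [c.sinv']; exact c.sinv d hd
    · rw [hNK]; exact H_eq_sup c

/-- conclusion in Case A -/
theorem conclude_A (c : Cfg G) {x : G} (hx : InRt c x)
    (hcard : Nat.card (Subgroup.centralizer ({x} : Set G)) = 2 * Nat.card c.K + 1)
    (hW : Nat.card (Wsub c x) = Nat.card c.K)
    (hn : nInv G = (Nat.card c.K + 1) * (2 * Nat.card c.K + 1)) : Goal G := by
  refine ⟨Subgroup.centralizer ({x} : Set G), c.K, ?_, ?_, (K_props c).1, hcard.symm, ?_, ?_,
    (K_props c).2⟩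
  · rw [hcard, card_G c, hn]
    simp only [Nat.add_sub_cancel]
    ring
  · intro y hy hy1
    exact (cent_eq c hx.inSR hy hy1).2
  · rw [eq_bot_iff]
    intro y hy
    rw [Subgroup.mem_inf] at hy
    rw [Subgroup.mem_bot]
    exact cent_inter_H c hx.1 hy.1 (c.Kt y hy.2)
  · rw [normalizer_cent_eq_sup c hx]
    congr 1
    exact Subgroup.eq_of_le_of_card_ge (Wsub_le_K c hx) (le_of_eq hW.symm)

end Cfsg.Agent.Lib.Helper69.BSW
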