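import Mathlib
import Cfsg.Agent.Lib.Helper69.BSWGoal

/-!
# BSW Case B: basic facts
-/

set_option autoImplicit false

namespace Cfsg.Agent.Lib.Helper69.BSW

universe u

variable {G : Type u} [Group G] [Finite G]

/-- hypotheses of Case B -/
structure CaseB (c : Cfg G) (p e : ℕ) : Prop where
  hp : p.Prime
  hk : 2 ≤ Nat.card c.K
  hq : 2 * Nat.card c.K - 1 = p ^ e
  hn : nInv G = (Nat.card c.K - 1) * (2 * Nat.card c.K - 1)
  hR : ∀ x, InRt c x → Nat.card (Subgroup.centralizer ({x} : Set G)) = Nat.card c.K - 1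
  hNp : Nat.card {g : G // p ∣ orderOf g} ≤ (2 * Nat.card c.K - 1) ^ 2 - 1

namespace CaseB

variable {c : Cfg G} {p e : ℕ}

theorem e_ne (B : CaseB c p e) : e ≠ 0 := by
  intro h
  have := B.hq
  rw [h, pow_zero] at this
  have := B.hk
  omega

theorem p_dvd_q (B : CaseB c p e) : p ∣ 2 * Nat.card c.K - 1 := by
  rw [B.hq]; exact dvd_pow_self p B.e_ne

theorem not_dvd_2k (B : CaseB c p e) : ¬ p ∣ 2 * Nat.card c.K := by
  intro h
  have h1 := Nat.dvd_sub h B.p_dvd_q
  have hk := B.hk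
  have e1 : 2 * Nat.card c.K - (2 * Nat.card c.K - 1) = 1 := by omega
  rw [e1] at h1
  have := Nat.le_of_dvd one_pos h1
  have := B.hp.one_lt
  omega

theorem not_dvd_k (B : CaseB c p e) : ¬ p ∣ Nat.card c.K :=
  fun h => B.not_dvd_2k (Dvd.dvd.mul_left h 2)

theorem p_ne_two (B : CaseB c p e) : p ≠ 2 := by
  intro h
  apply B.not_dvd_2k
  rw [h]; exact Dvd.intro _ rfl

theorem p_ge_three (B : CaseB c p e) : 3 ≤ p := by
  have := B.hp.two_le
  have := B.p_ne_two
  omega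

theorem not_dvd_pred (B : CaseB c p e) : ¬ p ∣ Nat.card c.K - 1 := by
  intro h
  have h2 : p ∣ 2 * (Nat.card c.K - 1) := Dvd.dvd.mul_left h 2
  have h1 := Nat.dvd_sub B.p_dvd_q h2
  have hk := B.hk
  have e1 : 2 * Nat.card c.K - 1 - 2 * (Nat.card c.K - 1) = 1 := by omega
  rw [e1] at h1
  have := Nat.le_of_dvd one_pos h1
  have := B.hp.one_lt
  omega

theorem not_dvd_m (B : CaseB c p e) : ¬ p ∣ 2 * Nat.card c.K * (Nat.card c.K - 1) := by
  intro h
  rcases B.hp.dvd_mul.mp h with h | h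
  · exact B.not_dvd_2k h
  · exact B.not_dvd_pred h

theorem card_G (B : CaseB c p e) :
    Nat.card G = p ^ e * (2 * Nat.card c.K * (Nat.card c.K - 1)) := by
  rw [BSW.card_G c, B.hn, B.hq]; ring

theorem m_pos (B : CaseB c p e) : 0 < 2 * Nat.card c.K * (Nat.card c.K - 1) := by
  have := B.hk
  apply Nat.mul_pos
  · omega
  · omega

/-- `q² - 1 = 2m` -/
theorem q_sq (B : CaseB c p e) :
    (2 * Nat.card c.K - 1) ^ 2 - 1 = 2 * (2 * Nat.card c.K * (Nat.card c.K - 1)) := by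
  have hk := B.hk
  obtain ⟨a, ha⟩ : ∃ a, Nat.card c.K = a + 1 := ⟨Nat.card c.K - 1, by omega⟩
  rw [ha]
  have e1 : 2 * (a + 1) - 1 = 2 * a + 1 := by omega
  have e2 : a + 1 - 1 = a := by omega
  rw [e1, e2]
  have : (2 * a + 1) ^ 2 = 2 * (2 * (a + 1) * a) + 1 := by ring
  rw [this]
  omega

/-- `|C(v)| = 2k` for every involution `v` -/
theorem card_cent_inv (c : Cfg G) {v : G} (hv : IsInv v) :
    Nat.card (Subgroup.centralizer ({v} : Set G)) = 2 * Nat.card c.K := by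
  obtain ⟨c', hc', hk'⟩ := c.exists_cfg hv
  rw [← hc', card_H c', hk']

/-- `p`-singular elements lie in `R` -/
theorem psing_inR (B : CaseB c p e) {g : G} (hg : p ∣ orderOf g) : InR g := by
  constructor
  · intro h
    rw [h, orderOf_one] at hg
    have := Nat.le_of_dvd one_pos hg
    have := B.hp.one_lt
    omega
  · intro v hv hvg
    have hmem : g ∈ Subgroup.centralizer ({v} : Set G) := mem_centralizer_singleton.mpr hvg.symm
    have h1 := orderOf_dvd_natCard (⟨g, hmem⟩ : Subgroup.centralizer ({v} : Set G))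
    rw [← Subgroup.orderOf_coe, card_cent_inv c hv] at h1
    exact B.not_dvd_2k (hg.trans h1)

theorem InSR.conj {x : G} (h : InSR x) (g : G) : InSR (g * x * g⁻¹) := by
  obtain ⟨hR, v, hv, hvx⟩ := h
  refine ⟨hR.conj g, g * v * g⁻¹, hv.conj g, ?_⟩
  calc g * v * g⁻¹ * (g * x * g⁻¹) * (g * v * g⁻¹)⁻¹ = g * (v * x * v⁻¹) * g⁻¹ := by group
    _ = g * x⁻¹ * g⁻¹ := by rw [hvx]
    _ = (g * x * g⁻¹)⁻¹ := by group

/-- strongly real elements of `R` have centralizers of order `k - 1` -/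
theorem SR_card (B : CaseB c p e) {y : G} (hy : InSR y) :
    Nat.card (Subgroup.centralizer ({y} : Set G)) = Nat.card c.K - 1 := by
  obtain ⟨hR, v, hv, hvy⟩ := hy
  obtain ⟨g, hg⟩ := c.allconj v hv.1 hv.2
  have hx : InRt c (g⁻¹ * y * g) := by
    refine ⟨hR.conj' g, ?_⟩
    calc c.t * (g⁻¹ * y * g) * c.t⁻¹ = g⁻¹ * ((g * c.t * g⁻¹) * y * (g * c.t * g⁻¹)⁻¹) * g := by
          group
      _ = g⁻¹ * y⁻¹ * g := by rw [hg, hvy]
      _ = (g⁻¹ * y * g)⁻¹ := by group
  have h1 := B.hR _ hx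
  have h2 := card_cent_conj (g⁻¹ * y * g) g
  have e1 : g * (g⁻¹ * y * g) * g⁻¹ = y := by group
  rw [e1] at h2
  rw [h2, h1]

theorem psing_not_SR (B : CaseB c p e) {g : G} (hg : p ∣ orderOf g) : ¬ InSR g := by
  intro h
  have h1 := B.SR_card h
  have hmem : g ∈ Subgroup.centralizer ({g} : Set G) := mem_centralizer_singleton.mpr rfl
  have h2 := orderOf_dvd_natCard (⟨g, hmem⟩ : Subgroup.centralizer ({g} : Set G))
  rw [← Subgroup.orderOf_coe, h1] at h2
  exact B.not_dvd_pred (hg.trans h2)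

end CaseB

/-- a "good" abelian subgroup: odd-order elements normalizing a nontrivial subgroup lie in it -/
def GoodB (p : ℕ) (B : Subgroup G) : Prop :=
  (∀ a ∈ B, ∀ b ∈ B, a * b = b * a) ∧ ¬ p ∣ Nat.card B ∧
  ∀ X : Subgroup G, X ≤ B → X ≠ ⊥ → ∀ g ∈ Subgroup.normalizer (X : Set G),
    Odd (orderOf g) → g ∈ B

theorem not_odd_of_isInv {g : G} (h : IsInv g) : ¬ Odd (orderOf g) := by
  rw [orderOf_of_isInv h]
  decide

theorem mem_K_of_odd (c : Cfg G) {g : G} (hgt : g * c.t = c.t * g) (hodd : Odd (orderOf g)) :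
    g ∈ c.K := by
  rcases c.Hsplit g hgt with h | h
  · exact h
  · exact absurd hodd (not_odd_of_isInv (c.sK_isInv h))

namespace CaseB

variable {c : Cfg G} {p e : ℕ}

theorem K_good (B : CaseB c p e) (c' : Cfg G) (hk' : Nat.card c'.K = Nat.card c.K) :
    GoodB p c'.K := by
  refine ⟨c'.Kcomm, by rw [hk']; exact B.not_dvd_k, ?_⟩
  intro X hX hX1 g hg hodd
  rw [normalizer_of_le_K c' hX hX1, mem_centralizer_singleton] at hg
  exact mem_K_of_odd c' hg hodd

theorem cent_good (B : CaseB c p e) {y : G} (hy : InSR y) :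
    GoodB p (Subgroup.centralizer ({y} : Set G)) := by
  obtain ⟨hR, v, hv, hvy⟩ := hy
  have hy' : InSR y := ⟨hR, v, hv, hvy⟩
  obtain ⟨hinv, hcomm⟩ := cent_inverted c hR hv hvy
  refine ⟨fun a ha b hb => hcomm a ha b hb, by rw [B.SR_card hy']; exact B.not_dvd_pred, ?_⟩
  intro X hX hX1 g hg hodd
  obtain ⟨a, haX, ha1⟩ : ∃ a ∈ X, a ≠ 1 := by
    obtain ⟨a, ha⟩ := Subgroup.ne_bot_iff_exists_ne_one.mp hX1
    exact ⟨a.1, a.2, fun h => ha (Subtype.ext h)⟩
  have hga : g * a * g⁻¹ ∈ X := (mem_normalizer_iff'.mp hg).1 a haX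
  have hgN := cent_TI c hy' (hX haX) ha1 (hX hga)
  obtain ⟨c', hc', hk'⟩ := c.exists_cfg hv
  have hx : InRt c' y := ⟨hR, by rw [hc']; exact hvy⟩
  obtain ⟨b, hb, hbg⟩ := normalizer_factor c' hR c'.t_inv hx.2 hgN
  have hw : b⁻¹ * g ∈ Wsub c' y := by
    rw [mem_Wsub]
    exact ⟨Subgroup.mul_mem _ (Subgroup.le_normalizer (Subgroup.inv_mem _ hb)) hgN, hbg⟩
  -- |W| = 2
  have hW2 : Nat.card (Wsub c' y) = 2 := by
    have h1 := two_dvd_card_Wsub c' hx
    have h2 := card_Wsub_dvd_K c' hx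
    have h3 := card_Wsub_dvd_pred c' hx
    rw [hk'] at h2
    rw [B.SR_card hy'] at h3
    have hne := card_cent_ne_one hR
    rw [B.SR_card hy'] at hne
    have hk := B.hk
    have h4 : Nat.card (Wsub c' y) ∣ 2 := by
      have h5 := Nat.dvd_sub h2 h3
      have e1 : Nat.card c.K - (Nat.card c.K - 1 - 1) = 2 := by omega
      rwa [e1] at h5
    have h6 := Nat.le_of_dvd (by norm_num) h4
    have h7 := Nat.le_of_dvd Nat.card_pos h1
    omega
  have hcases : b⁻¹ * g = 1 ∨ b⁻¹ * g = c'.t := by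
    by_contra hcon
    push Not at hcon
    obtain ⟨z, -, hz⟩ := (Nat.card_eq_two_iff' (1 : Wsub c' y)).mp hW2
    have h1 := hz ⟨b⁻¹ * g, hw⟩ (fun h => hcon.1 (congrArg Subtype.val h))
    have h2 := hz ⟨c'.t, t_mem_Wsub c' hx⟩ (fun h => c'.t1 (congrArg Subtype.val h))
    exact hcon.2 (congrArg Subtype.val (h1.trans h2.symm))
  rcases hcases with h | h
  · have : g = b := by
      calc g = b * (b⁻¹ * g) := by group
        _ = b := by rw [h, mul_one]
    rw [this]; exact hb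
  · have hgb : g = b * c'.t := by
      calc g = b * (b⁻¹ * g) := by group
        _ = b * c'.t := by rw [h]
    have hinvb := hinv b hb
    rw [← hc'] at hinvb
    have hgg : g * g = 1 := by
      rw [hgb]
      calc b * c'.t * (b * c'.t) = b * (c'.t * b * c'.t⁻¹) * (c'.t * c'.t) := by group
        _ = 1 := by rw [hinvb, c'.tt]; group
    have h2 : orderOf g ∣ 2 := orderOf_dvd_of_pow_eq_one (by rw [pow_two]; exact hgg)
    have h3 : orderOf g = 1 := by
      have := Nat.le_of_dvd (by norm_num) h2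
      have hpos := orderOf_pos g
      rcases hodd with ⟨m, hm⟩
      interval_cases h : orderOf g <;> omega
    rw [orderOf_eq_one_iff.mp h3]
    exact Subgroup.one_mem _

end CaseB

end Cfsg.Agent.Lib.Helper69.BSW
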