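import Mathlib
import Cfsg.Agent.Lib.Helper69.BSWB1

/-!
# BSW Case B: elements of prime order different from `p`; centralizers of `p`-elements
-/

set_option autoImplicit false

namespace Cfsg.Agent.Lib.Helper69.BSW

universe u

variable {G : Type u} [Group G] [Finite G]

theorem odd_orderOf_of_mem_sylow {ℓ : ℕ} [Fact ℓ.Prime] (hℓ2 : ℓ ≠ 2) (S : Sylow ℓ G) {a : G}
    (ha : a ∈ S) : Odd (orderOf a) := by
  obtain ⟨j, hj⟩ := (IsPGroup.iff_orderOf.mp S.2) ⟨a, ha⟩
  rw [← Subgroup.orderOf_coe] at hj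
  rw [show ((⟨a, ha⟩ : (S : Subgroup G)) : G) = a from rfl] at hj
  rw [hj]
  apply Odd.pow
  exact (Fact.out : ℓ.Prime).odd_of_ne_two hℓ2

namespace CaseB

variable {c : Cfg G} {p e : ℕ}

/-- there is an element of `R` inverted by `t` when `k ≥ 3` -/
theorem exists_InRt (B : CaseB c p e) (hk3 : 3 ≤ Nat.card c.K) : ∃ x : G, InRt c x := by
  by_contra hcon
  push Not at hcon
  have h0 : {x : G | InRt c x} = ∅ := by
    ext x
    simp only [Set.mem_setOf_eq, Set.mem_empty_iff_false, iff_false]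
    exact hcon x
  have hJ := count_J c
  rw [h0, Set.ncard_empty, B.hn] at hJ
  obtain ⟨a, ha⟩ : ∃ a, Nat.card c.K = a + 1 := ⟨Nat.card c.K - 1, by omega⟩
  rw [ha] at hJ
  have e1 : 2 * (a + 1) - 1 = 2 * a + 1 := by omega
  have e2 : a + 1 - 1 = a := by omega
  rw [e1, e2] at hJ
  have ha2 : 2 ≤ a := by omega
  nlinarith

/-- elements of odd prime order `ℓ ≠ p` lie in a good abelian subgroup containing their
centralizer -/
theorem exists_good (B : CaseB c p e) {z : G} {ℓ : ℕ} (hℓ : ℓ.Prime) (hz : orderOf z = ℓ)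
    (hℓ2 : ℓ ≠ 2) (hℓp : ℓ ≠ p) :
    ∃ A : Subgroup G, GoodB p A ∧ ∀ w : G, w * z = z * w → w ∈ A := by
  haveI : Fact ℓ.Prime := ⟨hℓ⟩
  have hz1 : z ≠ 1 := by
    intro h; rw [h, orderOf_one] at hz
    exact hℓ.one_lt.ne hz
  have hdvd : ℓ ∣ Nat.card G := by rw [← hz]; exact orderOf_dvd_natCard z
  rw [B.card_G] at hdvd
  obtain ⟨S', hzS', -⟩ := exists_sylow_central hz
  have hcases : ℓ ∣ Nat.card c.K ∨ ℓ ∣ Nat.card c.K - 1 := by
    rcases hℓ.dvd_mul.mp hdvd with h | h
    · exact absurd ((Nat.prime_dvd_prime_iff_eq hℓ B.hp).mp (hℓ.dvd_of_dvd_pow h)) hℓp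
    · rcases hℓ.dvd_mul.mp h with h | h
      · rcases hℓ.dvd_mul.mp h with h | h
        · exact absurd ((Nat.prime_dvd_prime_iff_eq hℓ Nat.prime_two).mp h) hℓ2
        · exact Or.inl h
      · exact Or.inr h
  rcases hcases with hk | hk
  · -- ℓ ∣ k
    obtain ⟨y, hy⟩ := exists_prime_orderOf_dvd_card' ℓ hk
    have hy' : orderOf y.1 = ℓ := by rw [Subgroup.orderOf_coe]; exact hy
    have hy1 : y.1 ≠ 1 := by
      intro h; rw [h, orderOf_one] at hy'
      exact hℓ.one_lt.ne hy'
    obtain ⟨S, hyS, w, hwS, hw1, hwc⟩ := exists_sylow_central hy'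
    have hwt : w * c.t = c.t * w := c.comm_t_of_comm y.2 hy1 (hwc y.1 hyS).symm
    have hwK : w ∈ c.K := mem_K_of_odd c hwt (odd_orderOf_of_mem_sylow hℓ2 S hwS)
    have hSK : ∀ a ∈ S, a ∈ c.K := by
      intro a ha
      exact mem_K_of_odd c (c.comm_t_of_comm hwK hw1 (hwc a ha)) (odd_orderOf_of_mem_sylow hℓ2 S ha)
    obtain ⟨g, hg⟩ := sylow_conj S S'
    have hzK : z ∈ (c.conj g).K := by
      rw [c.conj_K, mem_conjSub]
      exact hSK _ ((hg z).mp hzS')
    refine ⟨(c.conj g).K, B.K_good (c.conj g) (c.card_conj_K g), ?_⟩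
    intro w' hw'
    have hw't := (c.conj g).comm_t_of_comm hzK hz1 hw'
    rcases (c.conj g).Hsplit w' hw't with h | h
    · exact h
    · exfalso
      have h1 := (c.conj g).sK_inverts h hzK
      have h2 : w' * z * w'⁻¹ = z := by rw [hw']; group
      rw [h2] at h1
      have h3 : z * z = 1 := by
        calc z * z = z * z⁻¹ := by rw [← h1]
          _ = 1 := mul_inv_cancel z
      have h4 : orderOf z ∣ 2 := orderOf_dvd_of_pow_eq_one (by rw [pow_two]; exact h3)
      rw [hz] at h4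
      exact hℓ2 ((Nat.prime_dvd_prime_iff_eq hℓ Nat.prime_two).mp h4)
  · -- ℓ ∣ k - 1
    have hk3 : 3 ≤ Nat.card c.K := by
      have := Nat.le_of_dvd (by have := B.hk; omega) hk
      have := hℓ.two_le
      omega
    obtain ⟨x₀, hx₀⟩ := B.exists_InRt hk3
    have hdvd' : ℓ ∣ Nat.card (Subgroup.centralizer ({x₀} : Set G)) := by
      rw [B.hR x₀ hx₀]; exact hk
    obtain ⟨S, hS, -⟩ := exists_sylow_le_cent c hx₀.inSR hdvd'
    obtain ⟨g, hg⟩ := sylow_conj S S'
    have hmem : g⁻¹ * z * g ∈ Subgroup.centralizer ({x₀} : Set G) := hS ((hg z).mp hzS')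
    have hne : g⁻¹ * z * g ≠ 1 := by
      intro h
      apply hz1
      calc z = g * (g⁻¹ * z * g) * g⁻¹ := by group
        _ = 1 := by rw [h]; group
    have hSR := (cent_eq c hx₀.inSR hmem hne).1
    have hzSR : InSR z := by
      have := InSR.conj hSR g
      have e1 : g * (g⁻¹ * z * g) * g⁻¹ = z := by group
      rwa [e1] at this
    exact ⟨Subgroup.centralizer ({z} : Set G), B.cent_good hzSR,
      fun w hw => mem_centralizer_singleton.mpr hw⟩

/-- the centralizer of a `p`-singular element consists of `p`-elements -/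
theorem cent_pelement (B : CaseB c p e) {y : G} (hy : p ∣ orderOf y) {w : G}
    (hw : w * y = y * w) : ∃ i : ℕ, orderOf w = p ^ i := by
  by_contra hcon
  have hpos : orderOf w ≠ 0 := (orderOf_pos w).ne'
  obtain ⟨ℓ, hℓ, hℓw, hℓp⟩ : ∃ ℓ : ℕ, ℓ.Prime ∧ ℓ ∣ orderOf w ∧ ℓ ≠ p := by
    by_contra h
    push Not at h
    exact hcon ⟨_, Nat.eq_prime_pow_of_unique_prime_dvd hpos (fun {d} hd hdw => h d hd hdw)⟩
  set h := w ^ (orderOf w / ℓ) with hh
  have hord : orderOf h = ℓ := orderOf_pow_orderOf_div hpos hℓw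
  have hcomm : y * h = h * y := by
    have : Commute y w := hw.symm
    exact this.pow_right _
  by_cases hℓ2 : ℓ = 2
  · rw [hℓ2] at hord
    exact (B.psing_inR hy).2 h (isInv_of_orderOf hord) hcomm.symm
  · obtain ⟨A, hA, hAz⟩ := B.exists_good hℓ hord hℓ2 hℓp
    have hyA := hAz y hcomm
    have h1 := orderOf_dvd_natCard (⟨y, hyA⟩ : A)
    rw [← Subgroup.orderOf_coe] at h1
    exact hA.2.1 (hy.trans h1)

/-- a `p`-singular element is a `p`-element -/
theorem psing_pelement (B : CaseB c p e) {y : G} (hy : p ∣ orderOf y) :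
    ∃ i : ℕ, orderOf y = p ^ i := B.cent_pelement hy rfl

theorem cent_isPGroup (B : CaseB c p e) {y : G} (hy : p ∣ orderOf y) :
    IsPGroup p (Subgroup.centralizer ({y} : Set G)) := by
  intro w
  obtain ⟨i, hi⟩ := B.cent_pelement hy (mem_centralizer_singleton.mp w.2)
  refine ⟨i, ?_⟩
  apply Subtype.ext
  rw [Subgroup.coe_pow, Subgroup.coe_one, ← hi]
  exact pow_orderOf_eq_one _

/-- the centralizer of a `p`-singular element has order `q` -/
theorem card_cent_psing (B : CaseB c p e) {y : G} (hy : p ∣ orderOf y) :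
    Nat.card (Subgroup.centralizer ({y} : Set G)) = p ^ e := by
  classical
  haveI : Fact p.Prime := ⟨B.hp⟩
  obtain ⟨j, hj⟩ := (IsPGroup.iff_card (p := p)
    (G := Subgroup.centralizer ({y} : Set G))).mp (B.cent_isPGroup hy)
  have hdvd : p ^ j ∣ Nat.card G := by
    rw [← hj]; exact Subgroup.card_subgroup_dvd_card _
  rw [B.card_G] at hdvd
  have hcop : Nat.Coprime (p ^ j) (2 * Nat.card c.K * (Nat.card c.K - 1)) :=
    Nat.Coprime.pow_left _ ((Nat.Prime.coprime_iff_not_dvd B.hp).mpr B.not_dvd_m)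
  have hje : j ≤ e := (Nat.pow_dvd_pow_iff_le_right B.hp.one_lt).mp (hcop.dvd_of_dvd_mul_right hdvd)
  rcases Nat.lt_or_ge j e with hlt | hge
  · exfalso
    -- class size
    have hidx := Subgroup.index_mul_card (Subgroup.centralizer ({y} : Set G))
    rw [Cfsg.Agent.Lib.Helper3.index_centralizer_eq_ncard, hj, B.card_G] at hidx
    have hsub : {x : G | IsConj x y} ⊆ {g : G | p ∣ orderOf g} := by
      intro x hx
      rw [Set.mem_setOf_eq] at hx ⊢
      obtain ⟨u, hu⟩ := isConj_iff.mp hx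
      have : orderOf x = orderOf y := by
        have h := (MulAut.conj u).orderOf_eq x
        rw [MulAut.conj_apply, hu] at h
        exact h.symm
      rw [this]; exact hy
    have hle : {x : G | IsConj x y}.ncard ≤ (2 * Nat.card c.K - 1) ^ 2 - 1 := by
      refine le_trans (Set.ncard_le_ncard hsub (Set.toFinite _)) ?_
      have : {g : G | p ∣ orderOf g}.ncard = Nat.card {g : G // p ∣ orderOf g} := by
        rw [← Nat.card_coe_set_eq]; rfl
      rw [this]; exact B.hNp
    rw [B.q_sq] at hle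
    set m := 2 * Nat.card c.K * (Nat.card c.K - 1) with hm
    set N := {x : G | IsConj x y}.ncard with hN
    have hmpos : 0 < m := B.m_pos
    -- N * p^j = p^e * m with j < e
    obtain ⟨d, hd⟩ : ∃ d, e = j + (d + 1) := ⟨e - j - 1, by omega⟩
    have h1 : N = p ^ (d + 1) * m := by
      have hpj : 0 < p ^ j := pow_pos B.hp.pos j
      apply Nat.eq_of_mul_eq_mul_right hpj
      rw [hidx, hd, pow_add]; ring
    have h2 : 3 * m ≤ N := by
      rw [h1]
      apply Nat.mul_le_mul_right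
      calc 3 ≤ p := B.p_ge_three
        _ = p ^ 1 := (pow_one p).symm
        _ ≤ p ^ (d + 1) := Nat.pow_le_pow_right B.hp.pos (by omega)
    omega
  · have : j = e := le_antisymm hje hge
    rw [hj, this]

end CaseB

end Cfsg.Agent.Lib.Helper69.BSW
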