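import Mathlib
import Cfsg.Agent.Lib.Helper69.BSWB2

/-!
# BSW Case B: subgroups without involutions have all their `p`-elements in one `p`-subgroup
-/

set_option autoImplicit false

namespace Cfsg.Agent.Lib.Helper69.BSW

universe u

variable {G : Type u} [Group G] [Finite G]

theorem odd_of_no_inv {x : G} (hx : ∀ m : ℕ, ¬ IsInv (x ^ m)) : Odd (orderOf x) := by
  by_contra hodd
  rw [Nat.not_odd_iff_even] at hodd
  obtain ⟨m, hm⟩ := hodd
  have hpos : 0 < orderOf x := orderOf_pos x
  have hm0 : 0 < m := by omega
  apply hx m
  constructor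
  · rw [← pow_add, ← hm, pow_orderOf_eq_one]
  · intro h
    have := orderOf_dvd_of_pow_eq_one h
    have := Nat.le_of_dvd hm0 this
    omega

namespace CaseB

variable {c : Cfg G} {p e : ℕ}

/-- the main claim, for a finite group `H` embedded in `G` -/
theorem pclaim (B : CaseB c p e) : ∀ (n : ℕ) (H : Type u) [Group H] [Finite H] (ι : H →* G),
    Function.Injective ι → Nat.card H = n → (∀ h : H, ¬ IsInv (ι h)) →
    ∃ P : Subgroup H, IsPGroup p P ∧ ∀ h : H, (∃ i : ℕ, orderOf h = p ^ i) → h ∈ P := by
  intro n
  induction n using Nat.strong_induction_on with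
  | _ n ih =>
  intro H _ _ ι hι hn hinv
  haveI : Fact p.Prime := ⟨B.hp⟩
  by_cases hpg : IsPGroup p H
  · refine ⟨⊤, ?_, fun h _ => Subgroup.mem_top h⟩
    exact hpg.to_subgroup ⊤
  · -- a prime ℓ ≠ p dividing |H|
    rw [IsPGroup.iff_orderOf] at hpg
    · push Not at hpg
      obtain ⟨h₀, hh₀⟩ := hpg
      have hpos : orderOf h₀ ≠ 0 := (orderOf_pos h₀).ne'
      obtain ⟨ℓ, hℓ, hℓh, hℓp⟩ : ∃ ℓ : ℕ, ℓ.Prime ∧ ℓ ∣ orderOf h₀ ∧ ℓ ≠ p := by
        by_contra h
        push Not at h
        exact hh₀ _ (Nat.eq_prime_pow_of_unique_prime_dvd hpos (fun {d} hd hdw => h d hd hdw))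
      haveI : Fact ℓ.Prime := ⟨hℓ⟩
      have hℓH : ℓ ∣ Nat.card H := hℓh.trans (orderOf_dvd_natCard h₀)
      obtain ⟨L⟩ : Nonempty (Sylow ℓ H) := inferInstance
      have hLcard : ℓ ∣ Nat.card (L : Subgroup H) := by
        rw [Sylow.card_eq_multiplicity]
        apply dvd_pow_self
        intro h0
        have := (Nat.factorization_eq_zero_iff (Nat.card H) ℓ).mp h0
        rcases this with h | h | h
        · exact h hℓ
        · exact h hℓH
        · exact Nat.card_pos.ne' h
      -- an element of order ℓ in the center of L
      have hLnt : Nontrivial (L : Subgroup H) := by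
        rw [← Finite.one_lt_card_iff_nontrivial]
        have := Nat.le_of_dvd Nat.card_pos hLcard
        have := hℓ.two_le
        omega
      haveI := hLnt
      have hcnt := IsPGroup.center_nontrivial L.2
      have hcdvd : ℓ ∣ Nat.card (Subgroup.center (L : Subgroup H)) := by
        have hcp : IsPGroup ℓ (Subgroup.center (L : Subgroup H)) := L.2.to_subgroup _
        rcases hcp.card_eq_or_dvd with h | h
        · exfalso
          have := Finite.one_lt_card_iff_nontrivial.mpr hcnt
          omega
        · exact h
      obtain ⟨z, hz⟩ := exists_prime_orderOf_dvd_card' ℓ hcdvd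
      -- z : center L; its image in G
      set z' : H := ((z : (L : Subgroup H)) : H) with hz'
      have hz'ord : orderOf z' = ℓ := by
        rw [hz', Subgroup.orderOf_coe, Subgroup.orderOf_coe]; exact hz
      have hιz : orderOf (ι z') = ℓ := by rw [orderOf_injective ι hι]; exact hz'ord
      have hz'L : z' ∈ (L : Subgroup H) := (z : (L : Subgroup H)).2
      have hzc : ∀ a ∈ (L : Subgroup H), a * z' = z' * a := by
        intro a ha
        have := Subgroup.mem_center_iff.mp z.2 ⟨a, ha⟩
        exact congrArg Subtype.val this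
      have hℓ2 : ℓ ≠ 2 := by
        intro h
        rw [h] at hιz
        exact hinv z' (isInv_of_orderOf hιz)
      obtain ⟨A, hA, hAz⟩ := B.exists_good hℓ hιz hℓ2 hℓp
      have hodd : ∀ g : H, Odd (orderOf (ι g)) := by
        intro g
        apply odd_of_no_inv
        intro m
        rw [← map_pow]
        exact hinv _
      have hLA : ∀ a ∈ (L : Subgroup H), ι a ∈ A := by
        intro a ha
        apply hAz
        rw [← map_mul, ← map_mul, hzc a ha]
      have hz'1 : z' ≠ 1 := by
        intro h; rw [h, orderOf_one] at hz'ord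
        exact hℓ.one_lt.ne hz'ord
      have hL : Subgroup.normalizer ((L : Subgroup H) : Set H) ≤
          Subgroup.centralizer ((L : Subgroup H) : Set H) := by
        intro g hg
        rw [Subgroup.mem_centralizer_iff]
        intro a ha
        have haL : a ∈ (L : Subgroup H) := ha
        have hgA : ι g ∈ A := by
          apply hA.2.2 ((L : Subgroup H).map ι)
          · intro x hx
            obtain ⟨a', ha', rfl⟩ := Subgroup.mem_map.mp hx
            exact hLA a' ha'
          · intro hbot
            have : ι z' ∈ (L : Subgroup H).map ι := Subgroup.mem_map_of_mem ι hz'L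
            rw [hbot, Subgroup.mem_bot] at this
            apply hz'1
            apply hι
            rw [this, map_one]
          · apply mem_normalizer_of_finite
            intro x hx
            obtain ⟨a', ha', rfl⟩ := Subgroup.mem_map.mp hx
            rw [← map_inv, ← map_mul, ← map_mul]
            apply Subgroup.mem_map_of_mem
            exact (mem_normalizer_iff'.mp hg).1 a' ha'
          · exact hodd g
        apply hι
        rw [map_mul, map_mul]
        exact hA.1 _ (hLA a haL) _ hgA
      -- Burnside
      have hcompl := MonoidHom.ker_transferSylow_isComplement' L hL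
      set Ker := (MonoidHom.transferSylow L hL).ker with hKer
      have hcardK : Nat.card Ker * Nat.card (L : Subgroup H) = Nat.card H := hcompl.card_mul
      have hlt : Nat.card Ker < n := by
        have h2 : 2 ≤ Nat.card (L : Subgroup H) := by
          have := Nat.le_of_dvd Nat.card_pos hLcard
          have := hℓ.two_le
          omega
        have hKpos : 0 < Nat.card Ker := Nat.card_pos
        rw [← hn, ← hcardK]
        nlinarith
      obtain ⟨P', hP', hP'all⟩ := ih (Nat.card Ker) hlt Ker (ι.comp Ker.subtype)
        (hι.comp Subtype.val_injective) rfl (fun h => hinv h.1)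
      refine ⟨P'.map Ker.subtype, hP'.map _, ?_⟩
      intro h hh
      obtain ⟨i, hi⟩ := hh
      have hker : h ∈ Ker := by
        rw [hKer, MonoidHom.mem_ker]
        set w := MonoidHom.transferSylow L hL h with hw
        have h1 : orderOf w ∣ p ^ i := by
          rw [← hi]; exact orderOf_map_dvd _ h
        obtain ⟨j, hj⟩ := (IsPGroup.iff_orderOf.mp L.2) w
        have h2 : orderOf w ∣ ℓ ^ j := by rw [hj]
        have hcop : Nat.Coprime (p ^ i) (ℓ ^ j) :=
          Nat.Coprime.pow _ _ ((Nat.coprime_primes B.hp hℓ).mpr (Ne.symm hℓp))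
        have h3 : orderOf w = 1 := Nat.eq_one_of_dvd_coprimes hcop h1 h2
        exact orderOf_eq_one_iff.mp h3
      rw [Subgroup.mem_map]
      refine ⟨⟨h, hker⟩, ?_, rfl⟩
      apply hP'all
      refine ⟨i, ?_⟩
      rw [← hi, ← Subgroup.orderOf_coe]

end CaseB

end Cfsg.Agent.Lib.Helper69.BSW
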