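import Mathlib
import Cfsg.Agent.Lib.Helper69.BSWB3

/-!
# BSW Case B: the Sylow `p`-subgroups are TI and self-centralizing
-/

set_option autoImplicit false

namespace Cfsg.Agent.Lib.Helper69.BSW

universe u

variable {G : Type u} [Group G] [Finite G]

/-- normalizers grow in `p`-groups -/
theorem exists_normalizing {p : ℕ} [Fact p.Prime] (Q : Sylow p G) (D₀ : Subgroup G)
    (hle : D₀ ≤ Q) (hne : ¬ (Q : Subgroup G) ≤ D₀) :
    ∃ g ∈ Q, g ∉ D₀ ∧ g ∈ Subgroup.normalizer (D₀ : Set G) := by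
  haveI : Group.IsNilpotent (Q : Subgroup G) := Q.2.isNilpotent
  have hnc := normalizerCondition_of_isNilpotent (G := (Q : Subgroup G))
  have hlt : D₀.subgroupOf (Q : Subgroup G) < ⊤ := by
    rw [lt_top_iff_ne_top]
    intro h
    exact hne (Subgroup.subgroupOf_eq_top.mp h)
  obtain ⟨g, hgN, hgD⟩ := SetLike.exists_of_lt (hnc _ hlt)
  refine ⟨g.1, g.2, fun h => hgD (Subgroup.mem_subgroupOf.mpr h), ?_⟩
  apply mem_normalizer_of_finite
  intro y hy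
  have h1 := (mem_normalizer_iff'.mp hgN).1 ⟨y, hle hy⟩ (Subgroup.mem_subgroupOf.mpr hy)
  exact Subgroup.mem_subgroupOf.mp h1

namespace CaseB

variable {c : Cfg G} {p e : ℕ}

theorem psing_of_mem_pgroup (B : CaseB c p e) {P : Subgroup G} (hP : IsPGroup p P) {y : G}
    (hy : y ∈ P) (hy1 : y ≠ 1) : p ∣ orderOf y := by
  haveI : Fact p.Prime := ⟨B.hp⟩
  obtain ⟨i, hi⟩ := (IsPGroup.iff_orderOf.mp hP) ⟨y, hy⟩
  rw [← Subgroup.orderOf_coe] at hi
  rw [show ((⟨y, hy⟩ : P) : G) = y from rfl] at hi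
  rw [hi]
  apply dvd_pow_self
  intro h0
  rw [h0, pow_zero] at hi
  exact hy1 (orderOf_eq_one_iff.mp hi)

theorem pelement_of_mem_pgroup (B : CaseB c p e) {P : Subgroup G} (hP : IsPGroup p P) {y : G}
    (hy : y ∈ P) : ∃ i : ℕ, orderOf y = p ^ i := by
  haveI : Fact p.Prime := ⟨B.hp⟩
  obtain ⟨i, hi⟩ := (IsPGroup.iff_orderOf.mp hP) ⟨y, hy⟩
  rw [← Subgroup.orderOf_coe] at hi
  exact ⟨i, hi⟩

/-- no involution normalizes a nontrivial `p`-subgroup -/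
theorem invol_not_normalize (B : CaseB c p e) {D₀ : Subgroup G} (hD : IsPGroup p D₀)
    (hD1 : D₀ ≠ ⊥) {v : G} (hv : IsInv v) : v ∉ Subgroup.normalizer (D₀ : Set G) := by
  intro hvN
  obtain ⟨y, hyD, hy1⟩ : ∃ y ∈ D₀, y ≠ 1 := by
    obtain ⟨a, ha⟩ := Subgroup.ne_bot_iff_exists_ne_one.mp hD1
    exact ⟨a.1, a.2, fun h => ha (Subtype.ext h)⟩
  have hA : ∀ y ∈ D₀, y ≠ 1 → InR y := fun y hy hy1 =>
    B.psing_inR (B.psing_of_mem_pgroup hD hy hy1)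
  obtain ⟨hinv, -⟩ := inverts_of_normalizes D₀ hA hv (mem_normalizer_iff'.mp hvN).1
  exact B.psing_not_SR (B.psing_of_mem_pgroup hD hyD hy1) ⟨hA y hyD hy1, v, hv, hinv y hyD⟩

/-- the main claim for subgroups of `G` -/
theorem pclaim_sub (B : CaseB c p e) (M : Subgroup G) (hM : ∀ v ∈ M, ¬ IsInv v) :
    ∃ P : Subgroup G, IsPGroup p P ∧ ∀ h ∈ M, (∃ i : ℕ, orderOf h = p ^ i) → h ∈ P := by
  obtain ⟨P', hP', hall⟩ := B.pclaim (Nat.card M) M M.subtype Subtype.val_injective rfl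
    (fun h => hM h.1 h.2)
  refine ⟨P'.map M.subtype, hP'.map _, ?_⟩
  intro h hh ⟨i, hi⟩
  rw [Subgroup.mem_map]
  refine ⟨⟨h, hh⟩, hall _ ⟨i, ?_⟩, rfl⟩
  rw [← hi, ← Subgroup.orderOf_coe]

/-- the Sylow `p`-subgroups are TI -/
theorem sylow_TI (B : CaseB c p e) [Fact p.Prime] (Q Q₁ : Sylow p G) (hne : Q ≠ Q₁) :
    (Q : Subgroup G) ⊓ (Q₁ : Subgroup G) = ⊥ := by
  by_contra hcon
  let Bad := {pr : Sylow p G × Sylow p G //
    pr.1 ≠ pr.2 ∧ ((pr.1 : Subgroup G) ⊓ (pr.2 : Subgroup G)) ≠ ⊥}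
  haveI : Nonempty Bad := ⟨⟨(Q, Q₁), hne, hcon⟩⟩
  obtain ⟨⟨⟨Q, Q₁⟩, hne, hcon⟩, hmax⟩ := Finite.exists_max
    (fun pr : Bad => Nat.card ((pr.1.1 : Subgroup G) ⊓ (pr.1.2 : Subgroup G) : Subgroup G))
  simp only at hne hcon hmax
  set D₀ : Subgroup G := (Q : Subgroup G) ⊓ (Q₁ : Subgroup G) with hD₀
  have hDp : IsPGroup p D₀ := Q.2.to_le inf_le_left
  have hMinv : ∀ v ∈ Subgroup.normalizer (D₀ : Set G), ¬ IsInv v :=
    fun v hv hi => B.invol_not_normalize hDp hcon hi hv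
  obtain ⟨P, hP, hPall⟩ := B.pclaim_sub (Subgroup.normalizer (D₀ : Set G)) hMinv
  obtain ⟨Q₂, hQ₂⟩ := hP.exists_le_sylow
  have hDQ₂ : D₀ ≤ Q₂ := by
    intro y hy
    exact hQ₂ (hPall y (Subgroup.le_normalizer hy) (B.pelement_of_mem_pgroup hDp hy))
  -- a general step
  have step : ∀ Q' : Sylow p G, D₀ ≤ Q' → ¬ (Q' : Subgroup G) ≤ D₀ →
      (Q' ≠ Q₂ → Nat.card ((Q' : Subgroup G) ⊓ (Q₂ : Subgroup G) : Subgroup G) ≤ Nat.card D₀) →
      Q' = Q₂ := by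
    intro Q' hle hnle hm
    by_contra hne'
    obtain ⟨g, hgQ, hgD, hgN⟩ := exists_normalizing Q' D₀ hle hnle
    have hgQ₂ : g ∈ Q₂ := hQ₂ (hPall g hgN (B.pelement_of_mem_pgroup Q'.2 hgQ))
    have hle2 : D₀ ≤ (Q' : Subgroup G) ⊓ (Q₂ : Subgroup G) := le_inf hle hDQ₂
    have := Subgroup.eq_of_le_of_card_ge hle2 (hm hne')
    apply hgD
    rw [this]
    exact ⟨hgQ, hgQ₂⟩
  have hcardQ : Nat.card (Q : Subgroup G) = Nat.card (Q₁ : Subgroup G) := by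
    rw [Sylow.card_eq_multiplicity, Sylow.card_eq_multiplicity]
  have h1 : Q = Q₂ := by
    apply step Q inf_le_left
    · intro h
      apply hne
      have hQQ₁ : (Q : Subgroup G) ≤ Q₁ := h.trans inf_le_right
      exact Sylow.ext (Subgroup.eq_of_le_of_card_ge hQQ₁ (le_of_eq hcardQ.symm))
    · intro hne'
      have hbot : (Q : Subgroup G) ⊓ (Q₂ : Subgroup G) ≠ ⊥ := by
        intro h
        apply hcon
        rw [eq_bot_iff, ← h]
        exact le_inf inf_le_left hDQ₂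
      exact hmax ⟨(Q, Q₂), hne', hbot⟩
  have h2 : Q₁ = Q₂ := by
    apply step Q₁ inf_le_right
    · intro h
      apply hne
      have hQQ₁ : (Q₁ : Subgroup G) ≤ Q := h.trans inf_le_left
      exact (Sylow.ext (Subgroup.eq_of_le_of_card_ge hQQ₁ (le_of_eq hcardQ))).symm
    · intro hne'
      have hbot : (Q₁ : Subgroup G) ⊓ (Q₂ : Subgroup G) ≠ ⊥ := by
        intro h
        apply hcon
        rw [eq_bot_iff, ← h]
        exact le_inf inf_le_right hDQ₂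
      exact hmax ⟨(Q₁, Q₂), hne', hbot⟩
  exact hne (h1.trans h2.symm)

theorem sylow_card (B : CaseB c p e) [Fact p.Prime] (Q : Sylow p G) :
    Nat.card (Q : Subgroup G) = p ^ e := by
  rw [Sylow.card_eq_multiplicity, B.card_G]
  congr 1
  rw [Nat.factorization_mul (pow_pos B.hp.pos e).ne' B.m_pos.ne', Finsupp.add_apply,
    Nat.Prime.factorization_pow B.hp, Finsupp.single_eq_same,
    Nat.factorization_eq_zero_of_not_dvd B.not_dvd_m, add_zero]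

/-- `C(y) = Q` for `y ∈ Q \ 1` -/
theorem cent_eq_sylow (B : CaseB c p e) [Fact p.Prime] (Q : Sylow p G) {y : G} (hy : y ∈ Q)
    (hy1 : y ≠ 1) : Subgroup.centralizer ({y} : Set G) = Q := by
  have hps := B.psing_of_mem_pgroup Q.2 hy hy1
  obtain ⟨Q', hQ'⟩ := (B.cent_isPGroup hps).exists_le_sylow
  have hyQ' : y ∈ Q' := hQ' (mem_centralizer_singleton.mpr rfl)
  have hQQ' : Q' = Q := by
    by_contra hne
    have := B.sylow_TI Q' Q hne
    have hmem : y ∈ (Q' : Subgroup G) ⊓ (Q : Subgroup G) := ⟨hyQ', hy⟩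
    rw [this, Subgroup.mem_bot] at hmem
    exact hy1 hmem
  rw [hQQ'] at hQ'
  apply Subgroup.eq_of_le_of_card_ge hQ'
  rw [B.sylow_card Q, B.card_cent_psing hps]

end CaseB

end Cfsg.Agent.Lib.Helper69.BSW
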