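import Mathlib
import Cfsg.Agent.Lib.Helper69.BSWB4

/-!
# BSW Case B: the normalizer of a Sylow `p`-subgroup
-/

set_option autoImplicit false

namespace Cfsg.Agent.Lib.Helper69.BSW

open scoped Pointwise

universe u

variable {G : Type u} [Group G] [Finite G]

theorem mem_smul_sylow {p : ℕ} [Fact p.Prime] (g : G) (S : Sylow p G) (x : G) :
    x ∈ ((g • S : Sylow p G) : Subgroup G) ↔ g⁻¹ * x * g ∈ S := by
  rw [Sylow.coe_subgroup_smul, Subgroup.mem_pointwise_smul_iff_inv_smul_mem, MulAut.smul_def,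
    ← map_inv, MulAut.conj_apply, inv_inv]
  rfl

/-- two subgroups of `C` meeting trivially -/
theorem card_mul_le (A B C : Subgroup G) (hA : A ≤ C) (hB : B ≤ C)
    (h : ∀ x, x ∈ A → x ∈ B → x = 1) : Nat.card A * Nat.card B ≤ Nat.card C := by
  rw [← Nat.card_prod]
  let f : A × B → C := fun q => ⟨q.1.1 * q.2.1, C.mul_mem (hA q.1.2) (hB q.2.2)⟩
  apply Nat.card_le_card_of_injective f
  intro q q' hqq
  have h1 : q.1.1 * q.2.1 = q'.1.1 * q'.2.1 := congrArg Subtype.val hqq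
  have h2 : q'.1.1⁻¹ * q.1.1 = q'.2.1 * q.2.1⁻¹ := by
    calc q'.1.1⁻¹ * q.1.1 = q'.1.1⁻¹ * (q.1.1 * q.2.1) * q.2.1⁻¹ := by group
      _ = q'.1.1⁻¹ * (q'.1.1 * q'.2.1) * q.2.1⁻¹ := by rw [h1]
      _ = q'.2.1 * q.2.1⁻¹ := by group
  have h3 : q'.1.1⁻¹ * q.1.1 = 1 := by
    apply h
    · exact A.mul_mem (A.inv_mem q'.1.2) q.1.2
    · rw [h2]; exact B.mul_mem q'.2.2 (B.inv_mem q.2.2)
  have h4 : q.1.1 = q'.1.1 := by
    calc q.1.1 = q'.1.1 * (q'.1.1⁻¹ * q.1.1) := by group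
      _ = q'.1.1 := by rw [h3, mul_one]
  have h5 : q.2.1 = q'.2.1 := by
    rw [h3] at h2
    calc q.2.1 = (q'.2.1 * q.2.1⁻¹)⁻¹ * q'.2.1 := by group
      _ = q'.2.1 := by rw [← h2]; group
  exact Prod.ext (Subtype.ext h4) (Subtype.ext h5)

/-- arithmetic for the normalizer -/
theorem arith_D (a N d s2 P2 : ℕ) (ha : 1 ≤ a)
    (h1 : (2 * a + 1) * (2 * (a + 1) * a) * (2 * a) = P2 * N) (h2 : N * (2 * a) = s2 * d)
    (h3 : s2 + 2 * a ≤ P2) (h3' : P2 ≤ 2 * (2 * (a + 1) * a)) (h4 : (2 * a + 1) * d ≤ N)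
    (hd : 0 < d) : d = a ∧ N = (2 * a + 1) * a := by
  have hs2 : s2 ≤ (2 * a + 1) * (2 * a) := by
    have : 2 * (2 * (a + 1) * a) = (2 * a + 1) * (2 * a) + 2 * a := by ring
    omega
  have hN : N = (2 * a + 1) * d := by
    apply le_antisymm _ h4
    have h5 : N * (2 * a) ≤ (2 * a + 1) * d * (2 * a) := by
      rw [h2]
      calc s2 * d ≤ (2 * a + 1) * (2 * a) * d := Nat.mul_le_mul_right d hs2
        _ = (2 * a + 1) * d * (2 * a) := by ring
    exact Nat.le_of_mul_le_mul_right h5 (by omega)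
  have hs2' : s2 = (2 * a + 1) * (2 * a) := by
    have h5 : s2 * d = (2 * a + 1) * (2 * a) * d := by
      rw [← h2, hN]; ring
    exact Nat.eq_of_mul_eq_mul_right hd h5
  have hP2 : P2 = 2 * (2 * (a + 1) * a) := by
    apply le_antisymm h3'
    have : 2 * (2 * (a + 1) * a) = (2 * a + 1) * (2 * a) + 2 * a := by ring
    omega
  have hda : d = a := by
    rw [hP2, hN] at h1
    have hpos : 0 < (2 * a + 1) * (2 * (a + 1) * (2 * a)) := by positivity
    have h6 : (2 * a + 1) * (2 * (a + 1) * (2 * a)) * a =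
        (2 * a + 1) * (2 * (a + 1) * (2 * a)) * d := by
      calc (2 * a + 1) * (2 * (a + 1) * (2 * a)) * a
          = (2 * a + 1) * (2 * (a + 1) * a) * (2 * a) := by ring
        _ = 2 * (2 * (a + 1) * a) * ((2 * a + 1) * d) := h1
        _ = (2 * a + 1) * (2 * (a + 1) * (2 * a)) * d := by ring
    exact (Nat.eq_of_mul_eq_mul_left hpos h6).symm
  exact ⟨hda, by rw [hN, hda]⟩

namespace CaseB

variable {c : Cfg G} {p e : ℕ}

theorem two_dvd_k (c : Cfg G) : 2 ∣ Nat.card c.K := by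
  have h := orderOf_dvd_natCard (⟨c.t, c.tK⟩ : c.K)
  rw [← Subgroup.orderOf_coe] at h
  rw [show ((⟨c.t, c.tK⟩ : c.K) : G) = c.t from rfl, orderOf_of_isInv c.t_inv] at h
  exact h

/-- TI property in the form needed for counting -/
theorem sylow_TI' (B : CaseB c p e) [Fact p.Prime] (Q : Sylow p G) :
    ∀ g : G, ∀ y ∈ (Q : Subgroup G), y ≠ 1 → g * y * g⁻¹ ∈ (Q : Subgroup G) →
      g ∈ Subgroup.normalizer ((Q : Subgroup G) : Set G) := by
  intro g y hy hy1 hgy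
  have hgy1 : g * y * g⁻¹ ≠ 1 := by
    intro h
    apply hy1
    calc y = g⁻¹ * (g * y * g⁻¹) * g := by group
      _ = 1 := by rw [h]; group
  have h1 := B.cent_eq_sylow Q hy hy1
  have h2 := B.cent_eq_sylow Q hgy hgy1
  rw [cent_conj_eq, h1] at h2
  apply mem_normalizer_of_finite
  intro z hz
  rw [← h2, mem_conjSub]
  have e1 : g⁻¹ * (g * z * g⁻¹) * g = z := by group
  rw [e1]; exact hz

/-- `p`-elements normalizing a Sylow `p`-subgroup lie in it -/
theorem mem_of_normalizes (B : CaseB c p e) [Fact p.Prime] (Q : Sylow p G) {y : G}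
    (hy : ∃ i : ℕ, orderOf y = p ^ i) (hyN : y ∈ Subgroup.normalizer ((Q : Subgroup G) : Set G)) :
    y ∈ Q := by
  have hQ1 : (Q : Subgroup G) ≠ ⊥ := by
    intro h
    have := B.sylow_card Q
    rw [h, Subgroup.card_bot] at this
    have h2 : 1 < p ^ e := Nat.one_lt_pow B.e_ne B.hp.one_lt
    omega
  obtain ⟨P, hP, hall⟩ := B.pclaim_sub (Subgroup.normalizer ((Q : Subgroup G) : Set G))
    (fun v hv hi => B.invol_not_normalize Q.2 hQ1 hi hv)
  obtain ⟨Q₂, hQ₂⟩ := hP.exists_le_sylow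
  have hle : (Q : Subgroup G) ≤ Q₂ := fun z hz =>
    hQ₂ (hall z (Subgroup.le_normalizer hz) (B.pelement_of_mem_pgroup Q.2 hz))
  have heq : (Q : Subgroup G) = Q₂ := by
    apply Subgroup.eq_of_le_of_card_ge hle
    rw [B.sylow_card Q, B.sylow_card Q₂]
  show y ∈ (Q : Subgroup G)
  rw [heq]
  exact hQ₂ (hall y hyN hy)

theorem card_Wsub_eq_two (B : CaseB c p e) (c' : Cfg G) (hk' : Nat.card c'.K = Nat.card c.K)
    {y : G} (hx : InRt c' y) : Nat.card (Wsub c' y) = 2 := by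
  have h1 := two_dvd_card_Wsub c' hx
  have h2 := card_Wsub_dvd_K c' hx
  have h3 := card_Wsub_dvd_pred c' hx
  rw [hk'] at h2
  rw [B.SR_card hx.inSR] at h3
  have hne := card_cent_ne_one hx.1
  rw [B.SR_card hx.inSR] at hne
  have hk := B.hk
  have h4 : Nat.card (Wsub c' y) ∣ 2 := by
    have h5 := Nat.dvd_sub h2 h3
    have e1 : Nat.card c.K - (Nat.card c.K - 1 - 1) = 2 := by omega
    rwa [e1] at h5
  have h6 := Nat.le_of_dvd (by norm_num) h4
  have h7 := Nat.le_of_dvd Nat.card_pos h1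
  omega

end CaseB

end Cfsg.Agent.Lib.Helper69.BSW
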