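import Mathlib
import Cfsg.Agent.Lib.Helper69.BSWB5

/-!
# BSW Case B: orders of `N(Q)` and of `D = N(Q) ∩ N(Q^t)`
-/

set_option autoImplicit false

namespace Cfsg.Agent.Lib.Helper69.BSW

open scoped Pointwise

universe u

variable {G : Type u} [Group G] [Finite G]

namespace CaseB

variable {c : Cfg G} {p e : ℕ}

theorem smul_ne (B : CaseB c p e) [Fact p.Prime] (Q : Sylow p G) : (c.t • Q : Sylow p G) ≠ Q := by
  intro h
  have hQ1 : (Q : Subgroup G) ≠ ⊥ := by
    intro h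
    have := B.sylow_card Q
    rw [h, Subgroup.card_bot] at this
    have h2 : 1 < p ^ e := Nat.one_lt_pow B.e_ne B.hp.one_lt
    omega
  apply B.invol_not_normalize Q.2 hQ1 c.t_inv
  apply mem_normalizer_of_finite
  intro z hz
  have h1 : c.t * z * c.t⁻¹ ∈ ((c.t • Q : Sylow p G) : Subgroup G) := by
    rw [mem_smul_sylow]
    have e1 : c.t⁻¹ * (c.t * z * c.t⁻¹) * c.t = z := by group
    rw [e1]; exact hz
  rw [h] at h1
  exact h1

theorem inter_trivial (B : CaseB c p e) [Fact p.Prime] (Q : Sylow p G) {y : G} (hy : y ∈ Q)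
    (hyN : y ∈ Subgroup.normalizer (((c.t • Q : Sylow p G) : Subgroup G) : Set G)) : y = 1 := by
  have h1 := B.mem_of_normalizes (c.t • Q : Sylow p G) (B.pelement_of_mem_pgroup Q.2 hy) hyN
  have h2 := B.sylow_TI Q (c.t • Q : Sylow p G) (B.smul_ne Q).symm
  have h3 : y ∈ (Q : Subgroup G) ⊓ ((c.t • Q : Sylow p G) : Subgroup G) := ⟨hy, h1⟩
  rw [h2, Subgroup.mem_bot] at h3
  exact h3

theorem normalizer_data (B : CaseB c p e) [Fact p.Prime] (Q : Sylow p G) :
    Nat.card (Subgroup.normalizer ((Q : Subgroup G) : Set G) ⊓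
      Subgroup.normalizer (((c.t • Q : Sylow p G) : Subgroup G) : Set G) : Subgroup G) =
        Nat.card c.K - 1 ∧
    Nat.card (Subgroup.normalizer ((Q : Subgroup G) : Set G)) = p ^ e * (Nat.card c.K - 1) := by
  classical
  set Q' : Sylow p G := c.t • Q with hQ'
  set NQ := Subgroup.normalizer ((Q : Subgroup G) : Set G) with hNQ
  set D := NQ ⊓ Subgroup.normalizer ((Q' : Subgroup G) : Set G) with hD
  have h1 := conj_fiber_count (⊤ : Subgroup G) (Q : Subgroup G)
    (fun g _ y hy hy1 hgy => B.sylow_TI' Q g y hy hy1 hgy)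
  have h2 := conj_fiber_count NQ (Q' : Subgroup G)
    (fun g _ y hy hy1 hgy => B.sylow_TI' Q' g y hy hy1 hgy)
  rw [Subgroup.card_top, top_inf_eq, B.sylow_card Q, B.card_G] at h1
  rw [B.sylow_card Q'] at h2
  set P2set := {x : G | ∃ g ∈ (⊤ : Subgroup G), ∃ y ∈ (Q : Subgroup G), y ≠ 1 ∧ x = g * y * g⁻¹}
    with hP2set
  set S2set := {x : G | ∃ g ∈ NQ, ∃ y ∈ (Q' : Subgroup G), y ≠ 1 ∧ x = g * y * g⁻¹} with hS2set
  set Qs : Set G := ((Q : Subgroup G) : Set G) \ {1} with hQs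
  -- inclusions
  have hQsP2 : Qs ⊆ P2set := by
    intro x hx
    refine ⟨1, Subgroup.mem_top 1, x, hx.1, fun h => hx.2 h, by group⟩
  have hS2P2 : S2set ⊆ P2set := by
    rintro x ⟨g, -, y, hy, hy1, rfl⟩
    rw [hQ', mem_smul_sylow] at hy
    refine ⟨g * c.t, Subgroup.mem_top _, c.t⁻¹ * y * c.t, hy, ?_, by group⟩
    intro h
    apply hy1
    calc y = c.t * (c.t⁻¹ * y * c.t) * c.t⁻¹ := by group
      _ = 1 := by rw [h]; group
  have hdisj : Disjoint S2set Qs := by
    rw [Set.disjoint_left]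
    rintro x ⟨g, hg, y, hy, hy1, rfl⟩ hxQ
    apply hy1
    have hyQ : y ∈ (Q : Subgroup G) := by
      have := (mem_normalizer_iff'.mp hg).2 _ hxQ.1
      have e1 : g⁻¹ * (g * y * g⁻¹) * g = y := by group
      rwa [e1] at this
    have h3 := B.sylow_TI Q Q' (B.smul_ne Q).symm
    have h4 : y ∈ (Q : Subgroup G) ⊓ (Q' : Subgroup G) := ⟨hyQ, hy⟩
    rw [h3, Subgroup.mem_bot] at h4
    exact h4
  have hP2sing : P2set ⊆ {g : G | p ∣ orderOf g} := by
    rintro x ⟨g, -, y, hy, hy1, rfl⟩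
    rw [Set.mem_setOf_eq]
    have : orderOf (g * y * g⁻¹) = orderOf y := by
      have h := (MulAut.conj g).orderOf_eq y
      rw [MulAut.conj_apply] at h
      exact h
    rw [this]
    exact B.psing_of_mem_pgroup Q.2 hy hy1
  have hQscard : Qs.ncard = p ^ e - 1 := by
    rw [hQs, Set.ncard_diff_singleton_of_mem (Subgroup.one_mem _), ← card_subgroup_eq_ncard,
      B.sylow_card Q]
  have hcount1 : S2set.ncard + (p ^ e - 1) ≤ P2set.ncard := by
    rw [← hQscard, ← Set.ncard_union_eq hdisj (Set.toFinite _) (Set.toFinite _)]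
    exact Set.ncard_le_ncard (Set.union_subset hS2P2 hQsP2) (Set.toFinite _)
  have hcount2 : P2set.ncard ≤ 2 * (2 * Nat.card c.K * (Nat.card c.K - 1)) := by
    rw [← B.q_sq]
    refine le_trans (Set.ncard_le_ncard hP2sing (Set.toFinite _)) ?_
    have : {g : G | p ∣ orderOf g}.ncard = Nat.card {g : G // p ∣ orderOf g} := by
      rw [← Nat.card_coe_set_eq]; rfl
    rw [this]; exact B.hNp
  have hcard4 : p ^ e * Nat.card D ≤ Nat.card NQ := by
    rw [← B.sylow_card Q]
    apply card_mul_le (Q : Subgroup G) D NQ Subgroup.le_normalizer inf_le_left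
    intro y hy hyD
    exact B.inter_trivial Q hy hyD.2
  -- arithmetic
  have hk := B.hk
  obtain ⟨a, ha⟩ : ∃ a, Nat.card c.K = a + 1 := ⟨Nat.card c.K - 1, by omega⟩
  have hq : p ^ e = 2 * a + 1 := by
    rw [← B.hq, ha]; omega
  rw [ha] at h1 hcount2 ⊢
  rw [hq] at h1 h2 hcount1 hcard4 ⊢
  have e1 : a + 1 - 1 = a := by omega
  have e2 : 2 * a + 1 - 1 = 2 * a := by omega
  rw [e1] at h1 hcount2 ⊢
  rw [e2] at h1 h2 hcount1
  have hres := arith_D a (Nat.card NQ) (Nat.card D) S2set.ncard P2set.ncard (by omega) h1 h2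
    hcount1 hcount2 hcard4 Nat.card_pos
  exact hres

end CaseB

end Cfsg.Agent.Lib.Helper69.BSW
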