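import Mathlib
import Cfsg.Agent.Lib.Helper69.BSWB6

/-!
# BSW Case B: conclusion
-/

set_option autoImplicit false

namespace Cfsg.Agent.Lib.Helper69.BSW

open scoped Pointwise

universe u

variable {G : Type u} [Group G] [Finite G]

namespace CaseB

variable {c : Cfg G} {p e : ℕ}

theorem conclude (B : CaseB c p e) : Goal G := by
  haveI : Fact p.Prime := ⟨B.hp⟩
  obtain ⟨Q⟩ : Nonempty (Sylow p G) := inferInstance
  set Q' : Sylow p G := c.t • Q with hQ'
  set NQ := Subgroup.normalizer ((Q : Subgroup G) : Set G) with hNQ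
  set D := NQ ⊓ Subgroup.normalizer ((Q' : Subgroup G) : Set G) with hD
  obtain ⟨hDcard, hNcard⟩ := B.normalizer_data Q
  rw [← hQ', ← hNQ, ← hD] at hDcard
  rw [← hNQ] at hNcard
  have hk := B.hk
  have hkeven := two_dvd_k c
  -- t normalizes D
  have htD : ∀ y ∈ D, c.t * y * c.t⁻¹ ∈ D := by
    intro y hy
    constructor
    · apply mem_normalizer_of_finite
      intro z hz
      have hz' : c.t * z * c.t⁻¹ ∈ (Q' : Subgroup G) := by
        rw [hQ', mem_smul_sylow]
        have e1 : c.t⁻¹ * (c.t * z * c.t⁻¹) * c.t = z := by group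
        rw [e1]; exact hz
      have h1 := (mem_normalizer_iff'.mp hy.2).1 _ hz'
      rw [hQ', mem_smul_sylow] at h1
      have key : c.t * y * c.t⁻¹ * z * (c.t * y * c.t⁻¹)⁻¹ =
          c.t⁻¹ * (y * (c.t * z * c.t⁻¹) * y⁻¹) * c.t := by
        calc c.t * y * c.t⁻¹ * z * (c.t * y * c.t⁻¹)⁻¹
            = c.t * y * c.t⁻¹ * z * c.t * y⁻¹ * c.t⁻¹ := by group
          _ = c.t⁻¹ * y * c.t * z * c.t⁻¹ * y⁻¹ * c.t := by rw [c.tinv]
          _ = c.t⁻¹ * (y * (c.t * z * c.t⁻¹) * y⁻¹) * c.t := by group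
      rw [key]; exact h1
    · apply mem_normalizer_of_finite
      intro z hz
      rw [hQ', mem_smul_sylow] at hz ⊢
      have h1 := (mem_normalizer_iff'.mp hy.1).1 _ hz
      have key : c.t⁻¹ * (c.t * y * c.t⁻¹ * z * (c.t * y * c.t⁻¹)⁻¹) * c.t =
          y * (c.t⁻¹ * z * c.t) * y⁻¹ := by group
      rw [key]; exact h1
  -- elements of D \ 1 lie in R
  have hDR : ∀ y ∈ D, y ≠ 1 → InR y := by
    intro y hy hy1
    refine ⟨hy1, ?_⟩
    intro v hv hvy
    apply hy1
    have hmem : y ∈ Subgroup.centralizer ({v} : Set G) := mem_centralizer_singleton.mpr hvy.symm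
    have h1 := orderOf_dvd_natCard (⟨y, hmem⟩ : Subgroup.centralizer ({v} : Set G))
    rw [← Subgroup.orderOf_coe, card_cent_inv c hv] at h1
    have h2 := orderOf_dvd_natCard (⟨y, hy⟩ : D)
    rw [← Subgroup.orderOf_coe, hDcard] at h2
    rw [show ((⟨y, hmem⟩ : Subgroup.centralizer ({v} : Set G)) : G) = y from rfl] at h1
    rw [show ((⟨y, hy⟩ : D) : G) = y from rfl] at h2
    have h3 : orderOf y ∣ 2 := by
      have h4 := Nat.dvd_sub h1 (Dvd.dvd.mul_left h2 2)
      have e1 : 2 * Nat.card c.K - 2 * (Nat.card c.K - 1) = 2 := by omega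
      rwa [e1] at h4
    have h5 := Nat.le_of_dvd (by norm_num) h3
    have hpos := orderOf_pos y
    have h6 : orderOf y = 1 := by
      by_contra hne
      have h7 : orderOf y = 2 := by omega
      rw [h7] at h2
      omega
    exact orderOf_eq_one_iff.mp h6
  obtain ⟨hinv, hcomm⟩ := inverts_of_normalizes D hDR c.t_inv htD
  -- C(y) = D
  have hcent : ∀ y ∈ D, y ≠ 1 → Subgroup.centralizer ({y} : Set G) = D := by
    intro y hy hy1
    have hSR : InSR y := ⟨hDR y hy hy1, c.t, c.t_inv, hinv y hy⟩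
    symm
    apply Subgroup.eq_of_le_of_card_ge
    · intro d hd
      rw [mem_centralizer_singleton]
      exact hcomm d hd y hy
    · rw [B.SR_card hSR, hDcard]
  have htriv : ∀ y, y ∈ (Q : Subgroup G) → y ∈ D → y = 1 :=
    fun y hy hyD => B.inter_trivial Q hy hyD.2
  have hQcard := B.sylow_card Q
  refine ⟨Q, D, ?_, ?_, ?_, ?_, ?_, ?_, ?_⟩
  · rw [hQcard, B.card_G, ← B.hq]
    obtain ⟨a, ha⟩ : ∃ a, Nat.card c.K = a + 1 := ⟨Nat.card c.K - 1, by omega⟩
    rw [ha]
    have e1 : 2 * (a + 1) - 1 = 2 * a + 1 := by omega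
    have e2 : a + 1 - 1 = a := by omega
    have e3 : 2 * a + 1 - 1 = 2 * a := by omega
    rw [e1, e2, e3]
    ring
  · intro x hx hx1
    exact B.cent_eq_sylow Q hx hx1
  · exact ⟨⟨fun a b => Subtype.ext (hcomm a.1 a.2 b.1 b.2)⟩⟩
  · rw [hDcard, hQcard, ← B.hq]
    omega
  · rw [eq_bot_iff]
    intro y hy
    rw [Subgroup.mem_bot]
    exact htriv y hy.1 hy.2
  · symm
    apply Subgroup.eq_of_le_of_card_ge
    · exact sup_le Subgroup.le_normalizer inf_le_left
    · rw [hNcard, ← hQcard, ← hDcard]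
      exact card_mul_le (Q : Subgroup G) D _ le_sup_left le_sup_right htriv
  · intro X hX hX1
    obtain ⟨y, hyX, hy1⟩ : ∃ y ∈ X, y ≠ 1 := by
      obtain ⟨a, ha⟩ := Subgroup.ne_bot_iff_exists_ne_one.mp hX1
      exact ⟨a.1, a.2, fun h => ha (Subtype.ext h)⟩
    have hyD := hX hyX
    have hC := hcent y hyD hy1
    have hx : InRt c y := ⟨hDR y hyD hy1, hinv y hyD⟩
    have hN := normalizer_cent_eq_sup c hx
    have hW : Wsub c y = Subgroup.zpowers c.t := by
      symm
      apply Subgroup.eq_of_le_of_card_ge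
      · rw [Subgroup.zpowers_le]; exact t_mem_Wsub c hx
      · rw [B.card_Wsub_eq_two c rfl hx, Nat.card_zpowers, orderOf_of_isInv c.t_inv]
    rw [hC, hW] at hN
    have hNX : Subgroup.normalizer (X : Set G) = Subgroup.normalizer (D : Set G) := by
      apply le_antisymm
      · intro g hg
        have h1 := (mem_normalizer_iff'.mp hg).1 y hyX
        have h2 := cent_TI c hx.inSR (mem_centralizer_singleton.mpr rfl) hy1
          (by rw [hC]; exact hX h1 : g * y * g⁻¹ ∈ Subgroup.centralizer ({y} : Set G))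
        rw [hC] at h2
        exact h2
      · rw [hN]
        apply sup_le
        · intro d hd
          apply mem_normalizer_of_finite
          intro x hx'
          have h1 := hcomm d hd x (hX hx')
          have : d * x * d⁻¹ = x := by rw [h1]; group
          rw [this]; exact hx'
        · rw [Subgroup.zpowers_le]
          apply mem_normalizer_of_finite
          intro x hx'
          rw [hinv x (hX hx')]
          exact X.inv_mem hx'
    refine ⟨hNX, c.t, orderOf_of_isInv c.t_inv, ?_, hinv, hN⟩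
    intro ht
    exact (hDR c.t ht c.t1).2 c.t c.t_inv rfl

end CaseB

end Cfsg.Agent.Lib.Helper69.BSW
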