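import Mathlib
import Cfsg.Agent.Lib.Helper3.Ortho
import Cfsg.Agent.Lib.Helper3.CharOps
import Cfsg.Agent.Lib.Helper25.CharUtil
import Cfsg.Agent.Lib.Helper25.IndNormal
import Cfsg.Agent.Lib.Helper25.Ind
import Cfsg.Agent.Lib.Helper79.Abelian
import Cfsg.Agent.Lib.Helper81.OneIrr
import Cfsg.Agent.Lib.Helper81.Irr
import Cfsg.Agent.Lib.Helper15.LinearChar
import Cfsg.Agent.Lib.Helper69.BSWCfg

/-!
# BSW configuration: functions induced from `K`
-/

set_option autoImplicit false
set_option linter.unusedSectionVars false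

namespace Cfsg.Agent.Lib.Helper69.BSW

open Cfsg
open scoped ComplexConjugate
open Cfsg.Agent.Lib.Helper25

universe u

variable {G : Type u} [Group G] [Fintype G]

theorem sum_ite_mem_K (c : Cfg G) [DecidablePred (· ∈ c.K)] (z : ℂ) :
    ∑ y : G, (if y ∈ c.K then z else 0) = (Nat.card c.K : ℂ) * z := by
  rw [← Finset.sum_filter, Finset.sum_const, nsmul_eq_mul, Nat.card_eq_fintype_card,
    Fintype.card_subtype]

theorem sum_ite_mem_sK (c : Cfg G) [DecidablePred (· ∈ c.K)] (z : ℂ) :
    ∑ y : G, (if c.s * y ∈ c.K then z else 0) = (Nat.card c.K : ℂ) * z := by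
  rw [← sum_ite_mem_K c z]
  exact Fintype.sum_bijective (fun y => c.s * y) (Group.mulLeft_bijective c.s) _ _ (fun _ => rfl)

/-- restriction to `K` of a function induced from `K` vanishing at `1` -/
theorem indFun_restrict_K (c : Cfg G) (β : c.K → ℂ) (hβ : β 1 = 0) (x : c.K) :
    indFun c.K β (x : G) = β x + β x⁻¹ := by
  classical
  have hk : (Nat.card c.K : ℂ) ≠ 0 := by exact_mod_cast Nat.card_pos.ne'
  rw [indFun_apply]
  by_cases hx1 : x = 1
  · have : ∀ y : G, extendByZero c.K β (y⁻¹ * ((x : c.K) : G) * y) = 0 := by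
      intro y
      have h1 : y⁻¹ * ((x : c.K) : G) * y = 1 := by rw [hx1]; simp
      rw [h1, extendByZero_of_mem c.K β c.K.one_mem]
      exact hβ
    simp_rw [this]
    rw [hx1]
    simp [hβ]
  · have hx1' : (x : G) ≠ 1 := fun h => hx1 (Subtype.ext h)
    have hF : ∀ y : G, extendByZero c.K β (y⁻¹ * (x : G) * y) =
        (if y ∈ c.K then β x else 0) + (if c.s * y ∈ c.K then β x⁻¹ else 0) := by
      intro y
      by_cases hy : y ∈ c.K
      · have hsy : ¬ c.s * y ∈ c.K := fun h => c.sK_not_mem h hy
        rw [if_pos hy, if_neg hsy, add_zero]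
        have h1 : y⁻¹ * (x : G) * y = x := by
          rw [mul_assoc, c.Kcomm x x.2 y hy]; group
        have hm : y⁻¹ * (x : G) * y ∈ c.K := by rw [h1]; exact x.2
        rw [extendByZero_of_mem c.K β hm]
        congr 1
        exact Subtype.ext h1
      · by_cases hsy : c.s * y ∈ c.K
        · rw [if_neg hy, if_pos hsy, zero_add]
          have hyinv : y⁻¹ = y := (c.sK_isInv hsy).inv_eq
          have h1 : y⁻¹ * (x : G) * y = (x : G)⁻¹ := by
            have := c.sK_inverts hsy x.2
            rw [hyinv] at this ⊢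
            exact this
          have hm : y⁻¹ * (x : G) * y ∈ c.K := by rw [h1]; exact c.K.inv_mem x.2
          rw [extendByZero_of_mem c.K β hm]
          congr 1
          exact Subtype.ext h1
        · rw [if_neg hy, if_neg hsy, add_zero]
          apply extendByZero_of_not_mem
          intro hm
          have h2 := c.TI y⁻¹ x x.2 hx1' (by rw [inv_inv]; exact hm)
          have h3 : y * c.t = c.t * y := by
            calc y * c.t = y * (c.t * y⁻¹) * y := by group
              _ = y * (y⁻¹ * c.t) * y := by rw [h2]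
              _ = c.t * y := by group
          rcases c.Hsplit y h3 with h | h
          · exact hy h
          · exact hsy h
    simp_rw [hF]
    rw [Finset.sum_add_distrib, sum_ite_mem_K, sum_ite_mem_sK, ← mul_add, ← mul_assoc,
      inv_mul_cancel₀ hk, one_mul]

/-- a function induced from `K` vanishing at `1` vanishes off the conjugates of `K \ 1` -/
theorem indFun_vanish (c : Cfg G) (β : c.K → ℂ) (hβ : β 1 = 0) (g : G)
    (hg : ∀ y : G, y⁻¹ * g * y ∈ c.K → y⁻¹ * g * y = 1) : indFun c.K β g = 0 := by
  rw [indFun_apply]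
  have : ∀ y : G, extendByZero c.K β (y⁻¹ * g * y) = 0 := by
    intro y
    by_cases hm : y⁻¹ * g * y ∈ c.K
    · rw [extendByZero_of_mem c.K β hm]
      have h1 := hg y hm
      have : (⟨y⁻¹ * g * y, hm⟩ : c.K) = 1 := Subtype.ext h1
      rw [this]; exact hβ
    · exact extendByZero_of_not_mem c.K β hm
  simp_rw [this]
  simp

/-- Gram relation for induced functions -/
theorem classInner_indFun_indFun_K (c : Cfg G) [Fintype c.K] (α β : c.K → ℂ) (hβ : β 1 = 0) :
    classInner (indFun c.K α) (indFun c.K β) =
      classInner α β + classInner α (fun x => β x⁻¹) := by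
  rw [frobenius_reciprocity c.K α (indFun c.K β) (indFun_isClassFunction c.K β)]
  have h1 : (fun h : c.K => indFun c.K β (h : G)) = β + (fun x => β x⁻¹) := by
    funext x
    rw [indFun_restrict_K c β hβ x]
    rfl
  rw [h1, classInner_add_right]

end Cfsg.Agent.Lib.Helper69.BSW
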