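import Mathlib
import Cfsg.Agent.Lib.Helper69.BSWChar1

/-!
# BSW configuration: multiplicities of the characters of `K` in restrictions, Gram relations
-/

set_option autoImplicit false
set_option linter.unusedSectionVars false

namespace Cfsg.Agent.Lib.Helper69.BSW

open Cfsg
open scoped ComplexConjugate
open Cfsg.Agent.Lib.Helper25

universe u

variable {G : Type u} [Group G] [Fintype G]

theorem irr_isChar {H : Type u} [Group H] (χ : IrrCharacter H) : IsCharacter H (χ : H → ℂ) :=
  Cfsg.Agent.Lib.Helper3.IsIrrCharacter.isCharacter χ.2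

theorem irr_isClass {H : Type u} [Group H] (χ : IrrCharacter H) : IsClassFunction H (χ : H → ℂ) :=
  Cfsg.Agent.Lib.Helper3.IsCharacter.isClassFunction (irr_isChar χ)

theorem restrict_isChar (c : Cfg G) (χ : IrrCharacter G) :
    IsCharacter c.K (fun h : c.K => (χ : G → ℂ) h) :=
  Cfsg.Agent.Lib.Helper3.IsCharacter.restrict (irr_isChar χ) c.K

section Mult

variable (c : Cfg G) [Fintype c.K]

theorem exists_mult (χ : IrrCharacter G) (μ : IrrCharacter c.K) :
    ∃ m : ℕ, classInner (μ : c.K → ℂ) (fun h : c.K => (χ : G → ℂ) h) = (m : ℂ) :=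
  classInner_char_nat (irr_isChar μ) (restrict_isChar c χ)

/-- multiplicity of `μ` in `χ|_K` -/
noncomputable def mult (χ : IrrCharacter G) (μ : IrrCharacter c.K) : ℤ :=
  ((exists_mult c χ μ).choose : ℤ)

theorem mult_spec (χ : IrrCharacter G) (μ : IrrCharacter c.K) :
    classInner (μ : c.K → ℂ) (fun h : c.K => (χ : G → ℂ) h) = (mult c χ μ : ℂ) := by
  unfold mult
  have h := (exists_mult c χ μ).choose_spec
  rw [Int.cast_natCast]
  exact h

theorem mult_spec' (χ : IrrCharacter G) (μ : IrrCharacter c.K) :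
    classInner (fun h : c.K => (χ : G → ℂ) h) (μ : c.K → ℂ) = (mult c χ μ : ℂ) := by
  rw [← classInner_conj_symm, mult_spec]
  simp

theorem mult_nonneg (χ : IrrCharacter G) (μ : IrrCharacter c.K) : 0 ≤ mult c χ μ := by
  unfold mult; positivity

variable [Fintype (IrrCharacter c.K)]

/-- expansion of `χ|_K` -/
theorem restrict_expand (χ : IrrCharacter G) (x : c.K) :
    (χ : G → ℂ) x = ∑ μ : IrrCharacter c.K, (mult c χ μ : ℂ) * (μ : c.K → ℂ) x := by
  have h := Cfsg.Agent.Lib.Helper3.classFunction_eq_sum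
    (Cfsg.Agent.Lib.Helper3.IsCharacter.isClassFunction (restrict_isChar c χ))
  have h2 := congrFun h x
  rw [Finset.sum_apply] at h2
  rw [h2]
  apply Finset.sum_congr rfl
  intro μ _
  rw [Pi.smul_apply, smul_eq_mul, mult_spec']

/-- the conjugate character -/
noncomputable def cbar (μ : IrrCharacter c.K) : IrrCharacter c.K :=
  ⟨fun x => (μ : c.K → ℂ) x⁻¹, by
    let f : c.K →* c.K :=
      { toFun := fun x => x⁻¹
        map_one' := inv_one
        map_mul' := fun a b => by
          rw [mul_inv_rev]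
          exact Subtype.ext (c.Kcomm _ (c.K.inv_mem b.2) _ (c.K.inv_mem a.2)) }
    have hf : Function.Surjective f := fun y => ⟨y⁻¹, inv_inv y⟩
    exact IsIrrCharacter.comp_surj f hf μ.2⟩

theorem cbar_apply (μ : IrrCharacter c.K) (x : c.K) :
    (cbar c μ : c.K → ℂ) x = (μ : c.K → ℂ) x⁻¹ := rfl

theorem cbar_apply' (μ : IrrCharacter c.K) (x : c.K) :
    (cbar c μ : c.K → ℂ) x = conj ((μ : c.K → ℂ) x) := by
  rw [cbar_apply]
  exact Cfsg.Agent.Lib.Helper3.IsCharacter.inv (irr_isChar μ) x

theorem cbar_cbar (μ : IrrCharacter c.K) : cbar c (cbar c μ) = μ := by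
  apply Subtype.ext
  funext x
  rw [cbar_apply, cbar_apply, inv_inv]

/-- the difference vector -/
noncomputable def V (a b : IrrCharacter c.K) : IrrCharacter G → ℤ :=
  fun χ => mult c χ a - mult c χ b

theorem V_spec (a b : IrrCharacter c.K) (χ : IrrCharacter G) :
    classInner (indFun c.K ((a : c.K → ℂ) - (b : c.K → ℂ))) (χ : G → ℂ) = (V c a b χ : ℂ) := by
  rw [frobenius_reciprocity c.K _ _ (irr_isClass χ), classInner_sub_left, mult_spec, mult_spec]
  unfold V
  push_cast
  ring

theorem irr_apply_one_K (a : IrrCharacter c.K) : (a : c.K → ℂ) 1 = 1 := by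
  haveI : IsMulCommutative c.K := ⟨⟨fun x y => Subtype.ext (c.Kcomm x.1 x.2 y.1 y.2)⟩⟩
  exact Cfsg.Agent.Lib.Helper79.irr_one_eq_one_of_comm a

theorem sub_apply_one (a b : IrrCharacter c.K) :
    ((a : c.K → ℂ) - (b : c.K → ℂ)) 1 = 0 := by
  rw [Pi.sub_apply, irr_apply_one_K, irr_apply_one_K, sub_self]

variable [Fintype (IrrCharacter G)]

/-- expansion of the induced function -/
theorem indFun_expand (a b : IrrCharacter c.K) (g : G) :
    indFun c.K ((a : c.K → ℂ) - (b : c.K → ℂ)) g =
      ∑ χ : IrrCharacter G, (V c a b χ : ℂ) * (χ : G → ℂ) g := by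
  have h := Cfsg.Agent.Lib.Helper3.classFunction_eq_sum
    (indFun_isClassFunction c.K ((a : c.K → ℂ) - (b : c.K → ℂ)))
  have h2 := congrFun h g
  rw [Finset.sum_apply] at h2
  rw [h2]
  apply Finset.sum_congr rfl
  intro χ _
  rw [Pi.smul_apply, smul_eq_mul, V_spec]

/-- the function `E` -/
noncomputable def Efun (a b : IrrCharacter c.K) : ℤ := by
  classical
  exact (if a = b then 1 else 0) + (if a = cbar c b then 1 else 0)

theorem classInner_irr_K (a b : IrrCharacter c.K) [Decidable (a = b)] :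
    classInner (a : c.K → ℂ) (b : c.K → ℂ) = if a = b then 1 else 0 := by
  classical
  rw [Cfsg.Agent.Lib.Helper3.classInner_irr a.2 b.2]
  by_cases h : a = b
  · rw [if_pos h, if_pos (congrArg Subtype.val h)]
  · rw [if_neg h, if_neg (fun h' => h (Subtype.ext h'))]

/-- the Gram relations -/
theorem gram (a b a' b' : IrrCharacter c.K) :
    ∑ χ : IrrCharacter G, V c a b χ * V c a' b' χ =
      Efun c a a' - Efun c a b' - Efun c b a' + Efun c b b' := by
  classical
  have hC : ((∑ χ : IrrCharacter G, V c a b χ * V c a' b' χ : ℤ) : ℂ) =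
      ((Efun c a a' - Efun c a b' - Efun c b a' + Efun c b b' : ℤ) : ℂ) := by
    have h1 := Cfsg.Agent.Lib.Helper3.classFunction_eq_sum
      (indFun_isClassFunction c.K ((a : c.K → ℂ) - (b : c.K → ℂ)))
    have h2 : classInner (indFun c.K ((a : c.K → ℂ) - (b : c.K → ℂ)))
        (indFun c.K ((a' : c.K → ℂ) - (b' : c.K → ℂ))) =
        ∑ χ : IrrCharacter G, (V c a b χ : ℂ) * (V c a' b' χ : ℂ) := by
      conv_lhs => rw [h1]
      rw [classInner_sum_left]
      apply Finset.sum_congr rfl
      intro χ _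
      rw [classInner_smul_left, V_spec, ← classInner_conj_symm, V_spec]
      simp
    push_cast
    rw [← h2, classInner_indFun_indFun_K c _ _ (sub_apply_one c a' b')]
    have h3 : (fun x : c.K => ((a' : c.K → ℂ) - (b' : c.K → ℂ)) x⁻¹) =
        (cbar c a' : c.K → ℂ) - (cbar c b' : c.K → ℂ) := by
      funext x; rfl
    rw [h3]
    simp only [classInner_sub_left, classInner_sub_right, classInner_irr_K]
    unfold Efun
    push_cast
    ring
  exact_mod_cast hC

theorem Efun_self_of_ne (a : IrrCharacter c.K) (h : a ≠ cbar c a) : Efun c a a = 1 := by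
  classical
  unfold Efun
  rw [if_pos rfl, if_neg h]; rfl

theorem Efun_self_of_eq (a : IrrCharacter c.K) (h : a = cbar c a) : Efun c a a = 2 := by
  classical
  unfold Efun
  rw [if_pos rfl, if_pos h]; rfl

theorem Efun_of_ne (a b : IrrCharacter c.K) (h1 : a ≠ b) (h2 : a ≠ cbar c b) : Efun c a b = 0 := by
  classical
  unfold Efun
  rw [if_neg h1, if_neg h2]; rfl

theorem Efun_cbar_of_ne (a : IrrCharacter c.K) (h : a ≠ cbar c a) : Efun c a (cbar c a) = 1 := by
  classical
  unfold Efun
  rw [if_neg h, cbar_cbar, if_pos rfl]; rfl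

end Mult

end Cfsg.Agent.Lib.Helper69.BSW
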