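import Mathlib
import Cfsg.Agent.Lib.Helper69.BSWOrbit

/-!
# BSW configuration: the class multiplication constant `a_{t,t,x} = |K|` for `x ∈ K \ 1`
-/

set_option autoImplicit false

namespace Cfsg.Agent.Lib.Helper69.BSW

universe u

variable {G : Type u} [Group G]

theorem isConj_t_iff (c : Cfg G) {v : G} : IsConj c.t v ↔ IsInv v := by
  constructor
  · intro h
    obtain ⟨g, hg⟩ := isConj_iff.mp h
    rw [← hg]
    exact c.t_inv.conj g
  · intro h
    obtain ⟨g, hg⟩ := c.allconj v h.1 h.2
    rw [isConj_iff]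
    exact ⟨g, hg⟩

theorem card_isConj_t (c : Cfg G) : Nat.card {x : G // IsConj c.t x} = nInv G := by
  unfold nInv
  rw [← Nat.card_coe_set_eq]
  apply Nat.card_congr
  apply Equiv.subtypeEquivRight
  intro v
  exact isConj_t_iff c

/-- the class multiplication constant -/
theorem card_pairs (c : Cfg G) {x : G} (hx : x ∈ c.K) (hx1 : x ≠ 1) :
    Nat.card {q : G × G // IsConj c.t q.1 ∧ IsConj c.t q.2 ∧ q.1 * q.2 = x} = Nat.card c.K := by
  symm
  let f : c.K → {q : G × G // IsConj c.t q.1 ∧ IsConj c.t q.2 ∧ q.1 * q.2 = x} := fun y =>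
    ⟨(c.s * y, c.s * y * x), by
      have hu : c.s * (c.s * (y : G)) ∈ c.K := by rw [← mul_assoc, c.ss, one_mul]; exact y.2
      have hui : IsInv (c.s * (y : G)) := c.sK_isInv hu
      refine ⟨(isConj_t_iff c).mpr hui, (isConj_t_iff c).mpr ⟨?_, ?_⟩, ?_⟩
      · have h1 := c.sK_inverts hu hx
        rw [hui.inv_eq] at h1
        calc c.s * y * x * (c.s * y * x) = (c.s * y * x * (c.s * y)) * x := by group
          _ = x⁻¹ * x := by rw [h1]
          _ = 1 := by group
      · intro h
        apply c.sK_not_mem hu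
        have : c.s * (y : G) = x⁻¹ := eq_inv_of_mul_eq_one_left h
        rw [this]; exact c.K.inv_mem hx
      · show c.s * y * (c.s * y * x) = x
        calc c.s * y * (c.s * y * x) = (c.s * y * (c.s * y)) * x := by group
          _ = x := by rw [hui.1, one_mul]⟩
  apply Nat.card_congr (Equiv.ofBijective f ⟨?_, ?_⟩)
  · intro y y' h
    have h1 : c.s * (y : G) = c.s * (y' : G) := congrArg (fun q => q.1.1) h
    exact Subtype.ext (mul_left_cancel h1)
  · rintro ⟨⟨u, v⟩, hu, hv, huv⟩
    simp only at hu hv huv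
    rw [isConj_t_iff] at hu hv
    have h1 : u * x * u⁻¹ = x⁻¹ := by
      rw [← huv, hu.inv_eq]
      calc u * (u * v) * u = (u * u) * v * u := by group
        _ = v * u := by rw [hu.1, one_mul]
        _ = v⁻¹ * u⁻¹ := by rw [hu.inv_eq, hv.inv_eq]
        _ = (u * v)⁻¹ := by group
    have h2 : u * c.t = c.t * u := c.TI u x hx hx1 (by rw [h1]; exact c.K.inv_mem hx)
    have h3 : c.s * u ∈ c.K := by
      rcases c.invol_comm_t hu h2 with h | h
      · exfalso
        rw [h] at h1 huv
        have h4 := c.Kt x hx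
        have h5 : c.t * x * c.t⁻¹ = x := by rw [← h4]; group
        have h6 : x * x = 1 := by
          have : x = x⁻¹ := h5.symm.trans h1
          calc x * x = x * x⁻¹ := by rw [← this]
            _ = 1 := mul_inv_cancel x
        rcases c.Ksq x hx h6 with h7 | h7
        · exact hx1 h7
        · rw [h7] at huv
          have : v = 1 := by
            have := mul_left_cancel (huv.trans (mul_one c.t).symm)
            exact this
          exact hv.2 this
      · exact h
    refine ⟨⟨c.s * u, h3⟩, ?_⟩
    apply Subtype.ext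
    show (c.s * (c.s * u), c.s * (c.s * u) * x) = (u, v)
    have e1 : c.s * (c.s * u) = u := by rw [← mul_assoc, c.ss, one_mul]
    rw [e1]
    congr 1
    rw [← huv, ← mul_assoc, hu.1, one_mul]

end Cfsg.Agent.Lib.Helper69.BSW
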