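import Mathlib
import Cfsg.Agent.Lib.Helper69.BSWChar2
import Cfsg.Agent.Lib.Helper69.BSWPairs
import Cfsg.Agent.S0840

/-!
# BSW configuration: degree equation, trivial character, class equation
-/

set_option autoImplicit false
set_option linter.unusedSectionVars false

namespace Cfsg.Agent.Lib.Helper69.BSW

open Cfsg
open scoped ComplexConjugate
open Cfsg.Agent.Lib.Helper25

universe u

variable {G : Type u} [Group G] [Fintype G]

/-- degree of an irreducible character as an integer -/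
noncomputable def deg (χ : IrrCharacter G) : ℤ := (charDegree (χ : G → ℂ) : ℤ)

theorem deg_spec (χ : IrrCharacter G) : (χ : G → ℂ) 1 = (deg χ : ℂ) := by
  unfold deg
  rw [Cfsg.Agent.Lib.Helper81.irr_apply_one_eq_charDegree χ]
  simp

theorem deg_pos (χ : IrrCharacter G) : 0 < deg χ := by
  unfold deg
  have := Cfsg.Agent.Lib.Helper81.irr_charDegree_ne_zero χ
  omega

theorem deg_oneIrr : deg (Cfsg.Agent.Lib.Helper81.oneIrr G) = 1 := by
  have h := deg_spec (Cfsg.Agent.Lib.Helper81.oneIrr G)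
  rw [Cfsg.Agent.Lib.Helper81.oneIrr_apply] at h
  exact_mod_cast h.symm

variable (c : Cfg G) [Fintype c.K] [Fintype (IrrCharacter c.K)] [Fintype (IrrCharacter G)]

/-- the degree equation -/
theorem degree_eq (a b : IrrCharacter c.K) : ∑ χ : IrrCharacter G, V c a b χ * deg χ = 0 := by
  have h := indFun_expand c a b 1
  rw [indFun_vanish c _ (sub_apply_one c a b) 1 (fun y _ => by group)] at h
  have hC : ((∑ χ : IrrCharacter G, V c a b χ * deg χ : ℤ) : ℂ) = 0 := by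
    push_cast
    rw [h]
    apply Finset.sum_congr rfl
    intro χ _
    rw [deg_spec]
  exact_mod_cast hC

theorem mult_oneIrr (μ : IrrCharacter c.K) [Decidable (μ = Cfsg.Agent.Lib.Helper81.oneIrr c.K)] :
    mult c (Cfsg.Agent.Lib.Helper81.oneIrr G) μ =
      if μ = Cfsg.Agent.Lib.Helper81.oneIrr c.K then 1 else 0 := by
  have h := mult_spec c (Cfsg.Agent.Lib.Helper81.oneIrr G) μ
  have h2 : (fun h : c.K => ((Cfsg.Agent.Lib.Helper81.oneIrr G : IrrCharacter G) : G → ℂ) h) =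
      ((Cfsg.Agent.Lib.Helper81.oneIrr c.K : IrrCharacter c.K) : c.K → ℂ) := by
    funext x; rfl
  rw [h2, classInner_irr_K] at h
  have : ((if μ = Cfsg.Agent.Lib.Helper81.oneIrr c.K then 1 else 0 : ℤ) : ℂ) =
      (mult c (Cfsg.Agent.Lib.Helper81.oneIrr G) μ : ℂ) := by
    rw [← h]; push_cast; rfl
  exact_mod_cast this.symm

theorem V_oneIrr (a b : IrrCharacter c.K) [Decidable (a = Cfsg.Agent.Lib.Helper81.oneIrr c.K)]
    [Decidable (b = Cfsg.Agent.Lib.Helper81.oneIrr c.K)] :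
    V c a b (Cfsg.Agent.Lib.Helper81.oneIrr G) =
      (if a = Cfsg.Agent.Lib.Helper81.oneIrr c.K then 1 else 0) -
      (if b = Cfsg.Agent.Lib.Helper81.oneIrr c.K then 1 else 0) := by
  unfold V
  rw [mult_oneIrr, mult_oneIrr]

/-- sum of the values of an irreducible character of `K` -/
theorem sum_irr_K (a : IrrCharacter c.K) [Decidable (a = Cfsg.Agent.Lib.Helper81.oneIrr c.K)] :
    ∑ x : c.K, (a : c.K → ℂ) x =
      (Nat.card c.K : ℂ) * (if a = Cfsg.Agent.Lib.Helper81.oneIrr c.K then 1 else 0) := by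
  by_cases h : a = Cfsg.Agent.Lib.Helper81.oneIrr c.K
  · rw [if_pos h, h, mul_one]
    simp [Cfsg.Agent.Lib.Helper81.oneIrr_apply, Nat.card_eq_fintype_card]
  · rw [if_neg h, mul_zero]
    apply Cfsg.Agent.Lib.Helper81.irr_sum_eq_zero_of_ne_one
    intro h'
    exact h (Subtype.ext h')

/-- the class equation at `x ∈ K \ 1` -/
theorem class_eq_at (x : c.K) (hx : x ≠ 1) :
    ∑ χ : IrrCharacter G, (χ : G → ℂ) c.t * (χ : G → ℂ) c.t * conj ((χ : G → ℂ) x) / (χ : G → ℂ) 1 =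
      (Nat.card c.K : ℂ) * (Nat.card G : ℂ) / ((nInv G : ℂ) * (nInv G : ℂ)) := by
  have h := Cfsg.Agent.S0840.result c.t c.t (x : G)
  rw [card_pairs c x.2 (fun h => hx (Subtype.ext h)), card_isConj_t, finsum_eq_sum_of_fintype] at h
  have hn : (nInv G : ℂ) ≠ 0 := by
    have : 0 < nInv G := by
      unfold nInv
      rw [Set.ncard_pos]
      exact ⟨c.t, c.t_inv⟩
    exact_mod_cast this.ne'
  have hG : (Nat.card G : ℂ) ≠ 0 := by exact_mod_cast Nat.card_pos.ne'
  rw [h]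
  field_simp

/-- the class equation (★) -/
theorem class_eq (a b : IrrCharacter c.K) [Decidable (a = Cfsg.Agent.Lib.Helper81.oneIrr c.K)]
    [Decidable (b = Cfsg.Agent.Lib.Helper81.oneIrr c.K)] :
    ∑ χ : IrrCharacter G, (V c a b χ : ℂ) *
        ((χ : G → ℂ) c.t * (χ : G → ℂ) c.t / (χ : G → ℂ) 1) =
      (Nat.card c.K : ℂ) * (Nat.card G : ℂ) / ((nInv G : ℂ) * (nInv G : ℂ)) *
        ((if a = Cfsg.Agent.Lib.Helper81.oneIrr c.K then 1 else 0) -
          (if b = Cfsg.Agent.Lib.Helper81.oneIrr c.K then 1 else 0)) := by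
  classical
  set c₀ : ℂ := (Nat.card c.K : ℂ) * (Nat.card G : ℂ) / ((nInv G : ℂ) * (nInv G : ℂ)) with hc₀
  have hk : (Nat.card c.K : ℂ) ≠ 0 := by exact_mod_cast Nat.card_pos.ne'
  -- V as a sum over K
  have hV : ∀ χ : IrrCharacter G, (V c a b χ : ℂ) = (Nat.card c.K : ℂ)⁻¹ *
      ∑ x : c.K, ((a : c.K → ℂ) x - (b : c.K → ℂ) x) * conj ((χ : G → ℂ) x) := by
    intro χ
    rw [← V_spec, frobenius_reciprocity c.K _ _ (irr_isClass χ), classInner_def]
    rfl
  simp_rw [hV]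
  have h1 : ∑ χ : IrrCharacter G, ((Nat.card c.K : ℂ)⁻¹ *
      ∑ x : c.K, ((a : c.K → ℂ) x - (b : c.K → ℂ) x) * conj ((χ : G → ℂ) x)) *
        ((χ : G → ℂ) c.t * (χ : G → ℂ) c.t / (χ : G → ℂ) 1) =
      (Nat.card c.K : ℂ)⁻¹ * ∑ x : c.K, ((a : c.K → ℂ) x - (b : c.K → ℂ) x) *
        ∑ χ : IrrCharacter G, (χ : G → ℂ) c.t * (χ : G → ℂ) c.t * conj ((χ : G → ℂ) x) /
          (χ : G → ℂ) 1 := by
    simp_rw [Finset.mul_sum, Finset.sum_mul]
    rw [Finset.sum_comm]
    apply Finset.sum_congr rfl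
    intro x _
    apply Finset.sum_congr rfl
    intro χ _
    ring
  rw [h1]
  have h2 : ∀ x : c.K, ((a : c.K → ℂ) x - (b : c.K → ℂ) x) *
      ∑ χ : IrrCharacter G, (χ : G → ℂ) c.t * (χ : G → ℂ) c.t * conj ((χ : G → ℂ) x) /
        (χ : G → ℂ) 1 = ((a : c.K → ℂ) x - (b : c.K → ℂ) x) * c₀ := by
    intro x
    by_cases hx : x = 1
    · rw [hx, irr_apply_one_K, irr_apply_one_K, sub_self, zero_mul, zero_mul]
    · rw [class_eq_at c x hx]
  simp_rw [h2]
  rw [← Finset.sum_mul, Finset.sum_sub_distrib, sum_irr_K, sum_irr_K]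
  field_simp

end Cfsg.Agent.Lib.Helper69.BSW
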