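import Mathlib
import Cfsg.Agent.Lib.Helper69.BSWChar3

/-!
# BSW configuration: the characters of `K` (real characters, values at `t`)
-/

set_option autoImplicit false
set_option linter.unusedSectionVars false

namespace Cfsg.Agent.Lib.Helper69.BSW

open Cfsg
open scoped ComplexConjugate
open Cfsg.Agent.Lib.Helper25

universe u

variable {G : Type u} [Group G] [Fintype G]

variable (c : Cfg G) [Fintype c.K] [Fintype (IrrCharacter c.K)]

/-- the identity of `K` as an irreducible character -/
noncomputable abbrev oneK : IrrCharacter c.K := Cfsg.Agent.Lib.Helper81.oneIrr c.K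

theorem cbar_oneK : cbar c (oneK c) = oneK c := by
  apply Subtype.ext
  funext x
  rfl

/-- `|Irr K| = |K|` -/
theorem card_irr_K : Fintype.card (IrrCharacter c.K) = Nat.card c.K := by
  haveI : Finite c.K := Finite.of_fintype _
  have h := Cfsg.Agent.Lib.Helper81.sum_irr_deg_mul_one (G := c.K)
  have h1 : ∀ μ : IrrCharacter c.K, (μ : c.K → ℂ) 1 * (μ : c.K → ℂ) 1 = 1 := by
    intro μ
    rw [irr_apply_one_K, mul_one]
  simp_rw [h1] at h
  rw [Finset.sum_const, Finset.card_univ, nsmul_eq_mul, mul_one] at h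
  exact_mod_cast h

/-- the regular character of `K` -/
theorem sum_irr_apply (x : c.K) [Decidable (x = 1)] :
    ∑ μ : IrrCharacter c.K, (μ : c.K → ℂ) x = if x = 1 then (Nat.card c.K : ℂ) else 0 := by
  haveI : Finite c.K := Finite.of_fintype _
  by_cases hx : x = 1
  · rw [if_pos hx, hx]
    simp_rw [irr_apply_one_K]
    rw [Finset.sum_const, Finset.card_univ, card_irr_K, nsmul_eq_mul, mul_one]
  · rw [if_neg hx]
    have h := Cfsg.Agent.Lib.Helper81.sum_irr_deg_mul_of_ne_one (G := c.K) hx
    simp_rw [irr_apply_one_K, one_mul] at h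
    exact h

/-- linear characters are multiplicative -/
theorem irr_K_mul (μ : IrrCharacter c.K) (x y : c.K) :
    (μ : c.K → ℂ) (x * y) = (μ : c.K → ℂ) x * (μ : c.K → ℂ) y :=
  Cfsg.Agent.Lib.Helper15.linChar_mul ⟨irr_isChar μ, irr_apply_one_K c μ⟩ x y

/-- the element `t` of `K` -/
def tK : c.K := ⟨c.t, c.tK⟩

theorem tK_ne_one : tK c ≠ 1 := fun h => c.t1 (congrArg Subtype.val h)

theorem irr_t_sq (μ : IrrCharacter c.K) : (μ : c.K → ℂ) (tK c) * (μ : c.K → ℂ) (tK c) = 1 := by
  rw [← irr_K_mul]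
  have : tK c * tK c = 1 := Subtype.ext c.tt
  rw [this, irr_apply_one_K]

theorem irr_t_cases (μ : IrrCharacter c.K) :
    (μ : c.K → ℂ) (tK c) = 1 ∨ (μ : c.K → ℂ) (tK c) = -1 := by
  have h := irr_t_sq c μ
  have h2 : ((μ : c.K → ℂ) (tK c) - 1) * ((μ : c.K → ℂ) (tK c) + 1) = 0 := by
    ring_nf; ring_nf at h; rw [h]; ring
  rcases mul_eq_zero.mp h2 with h3 | h3
  · left; exact sub_eq_zero.mp h3
  · right; exact eq_neg_of_add_eq_zero_left h3

theorem cbar_t (μ : IrrCharacter c.K) : (cbar c μ : c.K → ℂ) (tK c) = (μ : c.K → ℂ) (tK c) := by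
  rw [cbar_apply]
  have : (tK c)⁻¹ = tK c := Subtype.ext c.tinv
  rw [this]

theorem sum_irr_t : ∑ μ : IrrCharacter c.K, (μ : c.K → ℂ) (tK c) = 0 := by
  classical
  rw [sum_irr_apply, if_neg (tK_ne_one c)]

theorem classInner_irr_K' (a b : IrrCharacter c.K) [Decidable (a = b)] :
    classInner (a : c.K → ℂ) (b : c.K → ℂ) = if a = b then 1 else 0 := by
  classical
  rw [Cfsg.Agent.Lib.Helper3.classInner_irr a.2 b.2]
  by_cases h : a = b
  · rw [if_pos h, if_pos (congrArg Subtype.val h)]
  · rw [if_neg h, if_neg (fun h' => h (Subtype.ext h'))]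

/-- the number of real irreducible characters of `K` is `2` -/
theorem card_real [DecidableEq (IrrCharacter c.K)] :
    (Finset.univ.filter (fun μ : IrrCharacter c.K => cbar c μ = μ)).card = 2 := by
  classical
  haveI : Finite c.K := Finite.of_fintype _
  have hk : (Nat.card c.K : ℂ) ≠ 0 := by exact_mod_cast Nat.card_pos.ne'
  -- double count Σ_x Σ_μ μ(x) μ(x)
  have h1 : ∀ μ : IrrCharacter c.K, ∑ x : c.K, (μ : c.K → ℂ) x * (μ : c.K → ℂ) x =
      (Nat.card c.K : ℂ) * (if cbar c μ = μ then 1 else 0) := by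
    intro μ
    have h := classInner_irr_K' c μ (cbar c μ)
    rw [classInner_def] at h
    have h2 : ∑ x : c.K, (μ : c.K → ℂ) x * conj ((cbar c μ : c.K → ℂ) x) =
        ∑ x : c.K, (μ : c.K → ℂ) x * (μ : c.K → ℂ) x := by
      apply Finset.sum_congr rfl
      intro x _
      rw [cbar_apply', Complex.conj_conj]
    rw [h2] at h
    have h3 : (if μ = cbar c μ then (1 : ℂ) else 0) = (if cbar c μ = μ then 1 else 0) := by
      by_cases hh : cbar c μ = μ
      · rw [if_pos hh, if_pos hh.symm]
      · rw [if_neg hh, if_neg (fun h' => hh h'.symm)]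
    rw [← h3, ← h]
    field_simp
  have h2 : ∀ x : c.K, ∑ μ : IrrCharacter c.K, (μ : c.K → ℂ) x * (μ : c.K → ℂ) x =
      (Nat.card c.K : ℂ) * (if x * x = 1 then 1 else 0) := by
    intro x
    have h := sum_irr_apply c (x * x)
    simp_rw [irr_K_mul] at h
    rw [h]
    by_cases hx : x * x = 1
    · rw [if_pos hx, if_pos hx, mul_one]
    · rw [if_neg hx, if_neg hx, mul_zero]
  have h3 : ∑ μ : IrrCharacter c.K, ∑ x : c.K, (μ : c.K → ℂ) x * (μ : c.K → ℂ) x =
      ∑ x : c.K, ∑ μ : IrrCharacter c.K, (μ : c.K → ℂ) x * (μ : c.K → ℂ) x := Finset.sum_comm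
  simp_rw [h1, h2] at h3
  rw [← Finset.mul_sum, ← Finset.mul_sum] at h3
  have h4 := mul_left_cancel₀ hk h3
  rw [Finset.sum_boole, Finset.sum_boole] at h4
  have h5 : (Finset.univ.filter (fun x : c.K => x * x = 1)).card = 2 := by
    have : Finset.univ.filter (fun x : c.K => x * x = 1) = {1, tK c} := by
      ext x
      simp only [Finset.mem_filter, Finset.mem_univ, true_and, Finset.mem_insert,
        Finset.mem_singleton]
      constructor
      · intro h
        have h' : (x : G) * (x : G) = 1 := congrArg Subtype.val h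
        rcases c.Ksq x x.2 h' with h6 | h6
        · exact Or.inl (Subtype.ext h6)
        · exact Or.inr (Subtype.ext h6)
      · rintro (h | h)
        · rw [h, mul_one]
        · rw [h]; exact Subtype.ext c.tt
    rw [this, Finset.card_insert_of_notMem, Finset.card_singleton]
    rw [Finset.mem_singleton]
    exact (tK_ne_one c).symm
  rw [h5] at h4
  exact_mod_cast h4

/-- the second real character `λ₀` -/
theorem exists_lam0 :
    ∃ lam0 : IrrCharacter c.K, lam0 ≠ oneK c ∧ cbar c lam0 = lam0 ∧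
      ∀ μ : IrrCharacter c.K, cbar c μ = μ → μ = oneK c ∨ μ = lam0 := by
  classical
  have h := card_real c
  rw [Finset.card_eq_two] at h
  obtain ⟨a, b, hab, hset⟩ := h
  have hmem : ∀ μ : IrrCharacter c.K, cbar c μ = μ ↔ μ = a ∨ μ = b := by
    intro μ
    have : μ ∈ Finset.univ.filter (fun μ : IrrCharacter c.K => cbar c μ = μ) ↔ μ ∈ ({a, b} : Finset _) := by
      rw [hset]
    simpa using this
  have h1 := (hmem (oneK c)).mp (cbar_oneK c)
  rcases h1 with h1 | h1
  · refine ⟨b, ?_, (hmem b).mpr (Or.inr rfl), ?_⟩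
    · rw [h1]; exact hab.symm
    · intro μ hμ
      rcases (hmem μ).mp hμ with h2 | h2
      · left; rw [h2, h1]
      · right; exact h2
  · refine ⟨a, ?_, (hmem a).mpr (Or.inl rfl), ?_⟩
    · rw [h1]; exact hab
    · intro μ hμ
      rcases (hmem μ).mp hμ with h2 | h2
      · right; exact h2
      · left; rw [h2, h1]

/-- existence of a nonreal character when `|K| ≥ 3` -/
theorem exists_nonreal (hk : 3 ≤ Nat.card c.K) : ∃ lam1 : IrrCharacter c.K, cbar c lam1 ≠ lam1 := by
  classical
  by_contra hcon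
  push Not at hcon
  have h := card_real c
  have h2 : Finset.univ.filter (fun μ : IrrCharacter c.K => cbar c μ = μ) = Finset.univ := by
    ext μ; simp [hcon μ]
  rw [h2, Finset.card_univ, card_irr_K] at h
  omega

end Cfsg.Agent.Lib.Helper69.BSW
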