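import Mathlib
import Cfsg.Agent.Lib.Helper17.NormCent
import Cfsg.Agent.Lib.Helper17.FixedPoints
import Cfsg.Agent.Lib.Helper17.InvolTools
import Cfsg.Agent.Lib.Helper17.ElementCount
import Cfsg.Agent.Lib.Helper17.SylowConj
import Cfsg.Agent.Lib.Helper17.Counting
import Cfsg.Agent.Lib.Helper73.CyclicMax
import Cfsg.Agent.Lib.Helper73.MaxClass
import Cfsg.Agent.Lib.Helper37.IndexTwo
import Cfsg.Agent.Lib.Helper21.TransferPow
import Cfsg.Agent.Lib.Helper55.Transfer2

/-!
# Involutions inverting a subgroup of prime order: tools for Sylow counting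

* `exists_inverting_involution`: if `|P| = p` odd, `|N(P)| = 2p` and `N(P) ≰ C(P)` there is an
  involution `t ∈ N(P)` inverting `P`.
* `card_fixedBy_inverting_le`: fixed points of such a `t` on a finite `G`-set: at most one in
  every regular `P`-orbit.
* `mem_commutator_sylow_of_unique`: transfer: an involution lying in a unique Sylow 2-subgroup
  `S` of a nonabelian simple group lies in `[S, S]`.
* `eight_lt_card_centralizer_of_mem_commutator`: in a 2-group of order at least 16 an involution of
  the derived subgroup has centralizer of order more than 8 (Taussky).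
-/

set_option autoImplicit false
set_option linter.style.haveILetI false
set_option linter.unusedSectionVars false

namespace Cfsg.Agent.Lib.Helper69

open Subgroup MulAction

/-- a subgroup of a group of prime order is trivial or everything -/
theorem eq_bot_or_eq_of_le_card_prime {G : Type*} [Group G] {p : ℕ} [hp : Fact p.Prime]
    (P D : Subgroup G) (hP : Nat.card P = p) (hD : D ≤ P) : D = ⊥ ∨ D = P := by
  haveI : Finite P := Nat.finite_of_card_ne_zero (by rw [hP]; exact hp.out.ne_zero)
  have hdvd : Nat.card D ∣ p := by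
    rw [← hP]; exact Subgroup.card_dvd_of_le hD
  rcases (Nat.dvd_prime hp.out).mp hdvd with h | h
  · left; exact Subgroup.eq_bot_of_card_eq _ h
  · right
    haveI : Finite D := Finite.of_injective (Subgroup.inclusion hD) (Subgroup.inclusion_injective hD)
    exact Subgroup.eq_of_le_of_card_ge hD (by rw [h, hP])

/-- a subgroup of prime order is commutative -/
theorem comm_of_card_prime {G : Type*} [Group G] {p : ℕ} [hp : Fact p.Prime]
    (P : Subgroup G) (hP : Nat.card P = p) : ∀ a ∈ P, ∀ b ∈ P, a * b = b * a := by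
  intro a ha b hb
  haveI : IsCyclic P := isCyclic_of_prime_card hP
  obtain ⟨g, hg⟩ := IsCyclic.exists_generator (α := P)
  obtain ⟨m, hm⟩ := Subgroup.mem_zpowers_iff.mp (hg ⟨a, ha⟩)
  obtain ⟨n, hn⟩ := Subgroup.mem_zpowers_iff.mp (hg ⟨b, hb⟩)
  have h : (⟨a, ha⟩ : P) * ⟨b, hb⟩ = ⟨b, hb⟩ * ⟨a, ha⟩ := by
    rw [← hm, ← hn, ← zpow_add, ← zpow_add, add_comm]
  exact congrArg Subtype.val h

/-- If `|P| = p` is an odd prime, `|N(P)| = 2p` and `N(P)` does not centralize `P`, there is an
involution of `N(P)` inverting `P`. -/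
theorem exists_inverting_involution {G : Type*} [Group G] [Finite G] {p : ℕ} [hp : Fact p.Prime]
    (hp2 : p ≠ 2) (P : Subgroup G) (hP : Nat.card P = p)
    (hN : Nat.card (normalizer (P : Set G)) = 2 * p)
    (hNC : ¬ normalizer (P : Set G) ≤ centralizer (P : Set G)) :
    ∃ t : G, t ∈ normalizer (P : Set G) ∧ t * t = 1 ∧ t ≠ 1 ∧ ∀ x ∈ P, t * x * t⁻¹ = x⁻¹ := by
  haveI : Fact (Nat.Prime 2) := ⟨Nat.prime_two⟩
  obtain ⟨t', ht'⟩ := exists_prime_orderOf_dvd_card' (G := normalizer (P : Set G)) 2
    (by rw [hN]; exact dvd_mul_right 2 p)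
  set t : G := (t' : G) with ht
  have htN : t ∈ normalizer (P : Set G) := t'.2
  have hot : orderOf t = 2 := by rw [ht, Subgroup.orderOf_coe]; exact ht'
  have htt : t * t = 1 := by rw [← pow_two, ← hot]; exact pow_orderOf_eq_one t
  have ht1 : t ≠ 1 := by
    intro h; rw [h, orderOf_one] at hot; omega
  refine ⟨t, htN, htt, ht1, ?_⟩
  have hcomm : ∀ a ∈ P, ∀ b ∈ P, a * b = b * a :=
    Cfsg.Agent.Lib.Helper17.comm_of_card_prime_pow_le_two (p := p) (e := 1) (by norm_num) P
      (by rw [hP, pow_one])
  have hconj : ∀ x ∈ P, t * x * t⁻¹ ∈ P := fun x hx => (mem_normalizer_iff.mp htN x).mp hx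
  rcases eq_bot_or_eq_of_le_card_prime P (P ⊓ centralizer ({t} : Set G)) hP inf_le_left with hD | hD
  · intro x hx
    have hy : x * (t * x * t⁻¹) ∈ P ⊓ centralizer ({t} : Set G) := by
      refine Subgroup.mem_inf.mpr ⟨P.mul_mem hx (hconj x hx), ?_⟩
      rw [Subgroup.mem_centralizer_iff]
      intro s hs
      rw [Set.mem_singleton_iff] at hs
      subst hs
      have h1 : t * x * t⁻¹ * x = x * (t * x * t⁻¹) := hcomm _ (hconj x hx) _ hx
      have h2 : t⁻¹ = t := by
        rw [inv_eq_iff_mul_eq_one]; exact htt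
      calc t * (x * (t * x * t⁻¹)) = (t * x * t⁻¹) * (t * t) * x * t⁻¹ := by group
        _ = (t * x * t⁻¹ * x) * t⁻¹ := by rw [htt]; group
        _ = x * (t * x * t⁻¹) * t⁻¹ := by rw [h1]
        _ = x * (t * x * t⁻¹) * t := by rw [h2]
    rw [hD, Subgroup.mem_bot] at hy
    exact (eq_inv_of_mul_eq_one_right hy)
  · exfalso
    apply hNC
    -- `t` centralizes `P`
    have htC : t ∈ centralizer (P : Set G) := by
      rw [Subgroup.mem_centralizer_iff]
      intro x hx
      have : x ∈ P ⊓ centralizer ({t} : Set G) := by rw [hD]; exact hx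
      have h3 := (Subgroup.mem_centralizer_iff.mp (Subgroup.mem_inf.mp this).2) t rfl
      exact h3.symm
    have hPC : P ≤ centralizer (P : Set G) := by
      intro x hx
      rw [Subgroup.mem_centralizer_iff]
      intro y hy
      exact hcomm y hy x hx
    -- the subgroup `N(P) ⊓ C(P)` has order divisible by `2` and `p`
    set M := normalizer (P : Set G) ⊓ centralizer (P : Set G) with hM
    have hPM : P ≤ M := le_inf le_normalizer hPC
    have htM : t ∈ M := Subgroup.mem_inf.mpr ⟨htN, htC⟩
    have h2M : 2 ∣ Nat.card M := by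
      have : orderOf (⟨t, htM⟩ : M) = 2 := by
        rw [← Subgroup.orderOf_coe]; exact hot
      rw [← this]; exact orderOf_dvd_natCard _
    have hpM : p ∣ Nat.card M := by rw [← hP]; exact Subgroup.card_dvd_of_le hPM
    have hcop : Nat.Coprime 2 p := by
      rw [Nat.coprime_primes Nat.prime_two hp.out]; exact fun h => hp2 h.symm
    have h2p : 2 * p ∣ Nat.card M := hcop.mul_dvd_of_dvd_of_dvd h2M hpM
    have hMle : M ≤ normalizer (P : Set G) := inf_le_left
    have hMeq : M = normalizer (P : Set G) :=
      Subgroup.eq_of_le_of_card_ge hMle (by rw [hN]; exact Nat.le_of_dvd Nat.card_pos h2p)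
    intro x hx
    have : x ∈ M := by rw [hMeq]; exact hx
    exact (Subgroup.mem_inf.mp this).2

/-- Fixed points of an involution `t` inverting a subgroup `P` of odd prime order `p`, on a finite
`G`-set: every regular `P`-orbit contains at most one fixed point of `t`. -/
theorem card_fixedBy_inverting_le {G X : Type*} [Group G] [MulAction G X] [Finite X] {p : ℕ}
    [hp : Fact p.Prime] (hp2 : p ≠ 2) (P : Subgroup G) (hP : Nat.card P = p) (t : G)
    (hinv : ∀ x ∈ P, t * x * t⁻¹ = x⁻¹) :
    p * Nat.card {a : X // a ∈ fixedBy X t ∧ a ∉ fixedPoints P X} +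
      Nat.card (fixedPoints P X) ≤ Nat.card X := by
  classical
  haveI : Finite P := Nat.finite_of_card_ne_zero (by rw [hP]; exact hp.out.ne_zero)
  -- the stabilizer in `P` of a point not fixed by `P` is trivial
  have hstab : ∀ a : X, a ∉ fixedPoints P X → ∀ z ∈ P, z • a = a → z = 1 := by
    intro a ha z hz hza
    rcases eq_bot_or_eq_of_le_card_prime P (P ⊓ stabilizer G a) hP inf_le_left with h | h
    · have : z ∈ P ⊓ stabilizer G a := Subgroup.mem_inf.mpr ⟨hz, hza⟩
      rw [h] at this
      exact Subgroup.mem_bot.mp this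
    · exfalso
      apply ha
      intro y
      have : (y : G) ∈ P ⊓ stabilizer G a := by rw [h]; exact y.2
      exact (Subgroup.mem_inf.mp this).2
  -- elements of `P` of order dividing two are trivial
  have hsq : ∀ z ∈ P, z * z = 1 → z = 1 := by
    intro z hz hzz
    have h1 : orderOf z ∣ 2 := orderOf_dvd_of_pow_eq_one (by rw [pow_two]; exact hzz)
    have h2 : orderOf z ∣ p := by
      have : orderOf (⟨z, hz⟩ : P) ∣ Nat.card P := orderOf_dvd_natCard _
      rw [hP, ← Subgroup.orderOf_coe] at this
      exact this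
    have hcop : Nat.Coprime 2 p := by
      rw [Nat.coprime_primes Nat.prime_two hp.out]; exact fun h => hp2 h.symm
    have : orderOf z ∣ 1 := by
      have := Nat.dvd_gcd h1 h2
      rwa [hcop] at this
    exact orderOf_eq_one_iff.mp (Nat.dvd_one.mp this)
  set A := {a : X // a ∈ fixedBy X t ∧ a ∉ fixedPoints P X} with hA
  set B := {b : X // b ∉ fixedPoints P X} with hB
  let f : A × P → B := fun ay => ⟨(ay.2 : G) • (ay.1 : X), by
    intro hfix
    apply ay.1.2.2
    intro y
    have h1 : ((ay.2 : G)⁻¹ * (y : G) * (ay.2 : G)) • (ay.1 : X) = (ay.1 : X) := by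
      have h2 := hfix ⟨(y : G), y.2⟩
      have h3 : (y : G) • ((ay.2 : G) • (ay.1 : X)) = (ay.2 : G) • (ay.1 : X) := h2
      rw [mul_smul, mul_smul, h3, inv_smul_smul]
    have h4 : (ay.2 : G)⁻¹ * (y : G) * (ay.2 : G) = (y : G) := by
      have hc : ∀ a ∈ P, ∀ b ∈ P, a * b = b * a := comm_of_card_prime P hP
      rw [mul_assoc, hc _ y.2 _ ay.2.2, inv_mul_cancel_left]
    rw [h4] at h1
    exact h1⟩
  have hf : Function.Injective f := by
    rintro ⟨a, y⟩ ⟨a', y'⟩ h
    have h0 : (y : G) • (a : X) = (y' : G) • (a' : X) := congrArg Subtype.val h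
    set z : G := (y' : G)⁻¹ * (y : G) with hz
    have hzP : z ∈ P := P.mul_mem (P.inv_mem y'.2) y.2
    have ha' : (a' : X) = z • (a : X) := by
      rw [hz, mul_smul, h0, inv_smul_smul]
    have hta : t • (a : X) = a := a.2.1
    have hta' : t • (a' : X) = a' := a'.2.1
    -- `t * z = z⁻¹ * t`
    have htz : t * z = z⁻¹ * t := by
      have := hinv z hzP
      calc t * z = (t * z * t⁻¹) * t := by group
        _ = z⁻¹ * t := by rw [this]
    have h5 : z⁻¹ • (a : X) = z • (a : X) := by
      have : t • (z • (a : X)) = z • (a : X) := by rw [← ha']; exact hta'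
      rw [← mul_smul, htz, mul_smul, hta] at this
      exact this
    have h6 : (z * z) • (a : X) = a := by
      rw [mul_smul, ← h5, smul_inv_smul]
    have hz1 : z = 1 := by
      apply hsq z hzP
      exact hstab a a.2.2 (z * z) (P.mul_mem hzP hzP) h6
    have hyy : (y : G) = (y' : G) := by
      have : (y' : G)⁻¹ * (y : G) = 1 := hz1
      have h7 := eq_of_inv_mul_eq_one this
      exact h7.symm
    have haa : (a : X) = (a' : X) := by rw [ha', hz1, one_smul]
    have e1 : a = a' := Subtype.ext haa
    have e2 : y = y' := Subtype.ext hyy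
    rw [e1, e2]
  have hcard : Nat.card (A × P) ≤ Nat.card B := Nat.card_le_card_of_injective f hf
  rw [Nat.card_prod, hP] at hcard
  have hB2 : Nat.card B + Nat.card (fixedPoints P X) = Nat.card X := by
    have h1 : Nat.card B = Nat.card ((fixedPoints P X)ᶜ : Set X) := rfl
    rw [h1, add_comm, ← Nat.card_sum]
    exact Nat.card_congr (Equiv.Set.sumCompl (fixedPoints P X))
  rw [mul_comm] at hcard
  omega

/-- Transfer: an involution lying in a unique Sylow 2-subgroup `S` of a nonabelian simple group
lies in the derived subgroup of `S`. -/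
theorem mem_commutator_sylow_of_unique {G : Type*} [Group G] [Finite G] [IsSimpleGroup G]
    (hnc : ¬ IsMulCommutative G) (S : Sylow 2 G) (t : G) (htS : t ∈ (S : Subgroup G))
    (ht : t * t = 1)
    (huniq : ∀ g : G, g⁻¹ * t * g ∈ (S : Subgroup G) → g ∈ (S : Subgroup G)) :
    (⟨t, htS⟩ : ↥(S : Subgroup G)) ∈ commutator ↥(S : Subgroup G) := by
  haveI : Fact (Nat.Prime 2) := ⟨Nat.prime_two⟩
  set ϕ : ↥(S : Subgroup G) →* Abelianization ↥(S : Subgroup G) := Abelianization.of with hϕ
  have hsq : ϕ ⟨t, htS⟩ ^ 2 = 1 := by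
    rw [← map_pow]
    have : (⟨t, htS⟩ : ↥(S : Subgroup G)) ^ 2 = 1 := by
      apply Subtype.ext; simp [pow_two, ht]
    rw [this, map_one]
  have key : ∀ (k : ℕ) (g₀ : G) (hk : g₀⁻¹ * t ^ k * g₀ ∈ (S : Subgroup G)),
      ϕ ⟨g₀⁻¹ * t ^ k * g₀, hk⟩ = ϕ ⟨t, htS⟩ ^ k := by
    intro k g₀ hk
    rcases Nat.even_or_odd' k with ⟨m, rfl | rfl⟩
    · have h1 : t ^ (2 * m) = 1 := by rw [pow_mul, pow_two, ht, one_pow]
      have : (⟨g₀⁻¹ * t ^ (2 * m) * g₀, hk⟩ : ↥(S : Subgroup G)) = 1 := by
        apply Subtype.ext; simp [h1]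
      rw [this, map_one, pow_mul, hsq, one_pow]
    · have h1 : t ^ (2 * m + 1) = t := by rw [pow_succ, pow_mul, pow_two, ht, one_pow, one_mul]
      have hk' : g₀⁻¹ * t * g₀ ∈ (S : Subgroup G) := by
        have := hk
        rw [h1] at this
        exact this
      have hg₀ := huniq g₀ hk'
      have : (⟨g₀⁻¹ * t ^ (2 * m + 1) * g₀, hk⟩ : ↥(S : Subgroup G)) =
          (⟨g₀, hg₀⟩ : ↥(S : Subgroup G))⁻¹ * ⟨t, htS⟩ * ⟨g₀, hg₀⟩ := by
        apply Subtype.ext; simp [h1]
      rw [this, map_mul, map_mul, map_inv, mul_comm, mul_inv_cancel_left, pow_succ, pow_mul, hsq,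
        one_pow, one_mul]
  have htr := Cfsg.Agent.Lib.Helper21.transfer_eq_pow_of_key ϕ t htS key
  have h1 : MonoidHom.transfer ϕ t = 1 := Cfsg.Agent.Lib.Helper55.hom_eq_one_of_simple hnc _ t
  have hodd : ¬ 2 ∣ (S : Subgroup G).index := S.not_dvd_index
  have ho1 : orderOf (ϕ ⟨t, htS⟩) ∣ 2 := orderOf_dvd_of_pow_eq_one hsq
  have ho2 : orderOf (ϕ ⟨t, htS⟩) ∣ (S : Subgroup G).index :=
    orderOf_dvd_of_pow_eq_one (by rw [← htr, h1])
  have hcop : Nat.Coprime 2 (S : Subgroup G).index :=
    (Nat.Prime.coprime_iff_not_dvd Nat.prime_two).mpr hodd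
  have ho3 : orderOf (ϕ ⟨t, htS⟩) ∣ 1 := by
    have := Nat.dvd_gcd ho1 ho2
    rwa [hcop] at this
  have h2 : ϕ ⟨t, htS⟩ = 1 := orderOf_eq_one_iff.mp (Nat.dvd_one.mp ho3)
  have h3 : (⟨t, htS⟩ : ↥(S : Subgroup G)) ∈ ϕ.ker := MonoidHom.mem_ker.mpr h2
  rw [hϕ, Abelianization.ker_of] at h3
  exact h3

/-- In a finite 2-group of order at least 16, an involution of the derived subgroup has a
centralizer of order more than 8 (uses Taussky's theorem). -/
theorem eight_lt_card_centralizer_of_mem_commutator {S : Type*} [Group S] [Finite S]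
    (hS : IsPGroup 2 S) (h16 : 16 ≤ Nat.card S) (t : S) (htc : t ∈ commutator S)
    (ht : t * t = 1) : 8 < Nat.card (centralizer ({t} : Set S)) := by
  haveI : Fact (Nat.Prime 2) := ⟨Nat.prime_two⟩
  have htop : centralizer ({t} : Set S) = ⊤ → 8 < Nat.card (centralizer ({t} : Set S)) := by
    intro h
    rw [h, Subgroup.card_top]; omega
  by_cases ht1 : t = 1
  · apply htop
    rw [ht1]
    ext x
    simp [Subgroup.mem_centralizer_iff]
  have hc : commutator S ≠ ⊥ := by
    intro h
    rw [h, Subgroup.mem_bot] at htc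
    exact ht1 htc
  have h4 : 2 ^ 2 ∣ (commutator S).index :=
    Cfsg.Agent.Lib.Helper73.sq_dvd_index_commutator hS hc
  have hconjmem : ∀ s : S, s * t * s⁻¹ ∈ commutator S := fun s =>
    (inferInstance : (commutator S).Normal).conj_mem t htc s
  by_cases hidx : (commutator S).index = 4
  · obtain ⟨a, ha⟩ := Cfsg.Agent.Lib.Helper73.exists_zpowers_index_two hS hidx
    have hle : commutator S ≤ zpowers a :=
      Cfsg.Agent.Lib.Helper37.commutator_le_of_index_two _ ha
    apply htop
    rw [eq_top_iff]
    intro s _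
    rw [Subgroup.mem_centralizer_iff]
    intro x hx
    rw [Set.mem_singleton_iff] at hx
    subst hx
    have h1 : s * x * s⁻¹ ∈ zpowers a := hle (hconjmem s)
    have h2 : x ∈ zpowers a := hle htc
    have h3 : (⟨x, h2⟩ : zpowers a) = ⟨s * x * s⁻¹, h1⟩ := by
      apply Cfsg.Agent.Lib.Helper17.eq_of_sq_eq_one_of_cyclic
      · apply Subtype.ext; simpa using ht
      · apply Subtype.ext
        simp only [Subgroup.coe_mul, Subgroup.coe_one]
        calc s * x * s⁻¹ * (s * x * s⁻¹) = s * (x * x) * s⁻¹ := by group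
          _ = 1 := by rw [ht]; group
      · intro h; apply ht1; exact congrArg Subtype.val h
      · intro h
        apply ht1
        have h5 : s * x * s⁻¹ = 1 := congrArg Subtype.val h
        have : x = s⁻¹ * (s * x * s⁻¹) * s := by group
        rw [this, h5]; group
    have h4' : x = s * x * s⁻¹ := congrArg Subtype.val h3
    calc x * s = (s * x * s⁻¹) * s := by rw [← h4']
      _ = s * x := by group
  · have h8 : 8 ≤ (commutator S).index := by
      obtain ⟨k, hk⟩ := h4
      have hpos : 0 < (commutator S).index := Nat.pos_of_ne_zero (Subgroup.index_ne_zero_of_finite)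
      norm_num at hk
      omega
    -- class of `t` injects in the nonidentity elements of the commutator subgroup
    have hcls : (centralizer ({t} : Set S)).index + 1 ≤ Nat.card (commutator S) := by
      rw [Cfsg.Agent.Lib.Helper17.index_centralizer_eq_card_isConj]
      have hinj : Nat.card {h : S // IsConj t h} ≤ Nat.card {x : commutator S // x ≠ 1} := by
        apply Nat.card_le_card_of_injective
          (fun h : {h : S // IsConj t h} => (⟨⟨h.1, by
            obtain ⟨c, hc⟩ := isConj_iff.mp h.2
            rw [← hc]; exact hconjmem c⟩, by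
            intro h1
            obtain ⟨c, hc⟩ := isConj_iff.mp h.2
            have h2 : (h.1 : S) = 1 := congrArg Subtype.val h1
            apply ht1
            have : t = c⁻¹ * (c * t * c⁻¹) * c := by group
            rw [this, hc, h2]; group⟩ : {x : commutator S // x ≠ 1}))
        intro h h' hh
        apply Subtype.ext
        have := congrArg (fun z : {x : commutator S // x ≠ 1} => ((z : commutator S) : S)) hh
        exact this
      have h2 : Nat.card {x : commutator S // x ≠ 1} = Nat.card (commutator S) - 1 :=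
        Cfsg.Agent.Lib.Helper17.card_subtype_ne 1
      have hpos : 0 < Nat.card (commutator S) := Nat.card_pos
      omega
    have e1 := Subgroup.card_mul_index (commutator S)
    have e2 := Subgroup.card_mul_index (centralizer ({t} : Set S))
    by_contra hle
    push Not at hle
    have h5 : Nat.card (centralizer ({t} : Set S)) * (centralizer ({t} : Set S)).index ≤
        8 * (centralizer ({t} : Set S)).index := Nat.mul_le_mul_right _ hle
    have h6 : 8 * Nat.card (commutator S) ≤ Nat.card (commutator S) * (commutator S).index := by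
      rw [mul_comm]; exact Nat.mul_le_mul_left _ h8
    omega

/-- Variant of `card_fixedBy_inverting_le` bounding the total number of fixed points of `t`. -/
theorem card_fixedBy_inverting_le' {G X : Type*} [Group G] [MulAction G X] [Finite X] {p : ℕ}
    [hp : Fact p.Prime] (hp2 : p ≠ 2) (P : Subgroup G) (hP : Nat.card P = p) (t : G)
    (hinv : ∀ x ∈ P, t * x * t⁻¹ = x⁻¹) :
    p * Nat.card (fixedBy X t) + Nat.card (fixedPoints P X) ≤
      Nat.card X + p * Nat.card (fixedPoints P X) := by
  classical
  have h1 := card_fixedBy_inverting_le hp2 P hP t hinv (X := X)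
  have h2 : Nat.card (fixedBy X t) ≤
      Nat.card {a : X // a ∈ fixedBy X t ∧ a ∉ fixedPoints P X} + Nat.card (fixedPoints P X) := by
    rw [← Nat.card_sum]
    apply Nat.card_le_card_of_injective
      (fun a : fixedBy X t => if h : (a : X) ∈ fixedPoints P X then Sum.inr ⟨(a : X), h⟩
        else Sum.inl ⟨(a : X), a.2, h⟩)
    intro a b hab
    by_cases ha : (a : X) ∈ fixedPoints P X <;> by_cases hb : (b : X) ∈ fixedPoints P X
    · simp only [ha, hb, dif_pos] at hab
      apply Subtype.ext
      have := Sum.inr.inj hab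
      exact Subtype.mk.inj this
    · simp only [ha, hb, dif_pos, dif_neg, not_false_eq_true] at hab
      exact absurd hab (by simp)
    · simp only [ha, hb, dif_pos, dif_neg, not_false_eq_true] at hab
      exact absurd hab (by simp)
    · simp only [ha, hb, dif_neg, not_false_eq_true] at hab
      apply Subtype.ext
      have := Sum.inl.inj hab
      exact Subtype.mk.inj this
  have h3 : p * Nat.card (fixedBy X t) ≤
      p * Nat.card {a : X // a ∈ fixedBy X t ∧ a ∉ fixedPoints P X} +
        p * Nat.card (fixedPoints P X) := by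
    rw [← mul_add]; exact Nat.mul_le_mul_left _ h2
  omega

/-- Variant of `card_fixedBy_inverting_le'` with the fixed points of `P` as an explicit subtype
(no subgroup action instance involved). -/
theorem card_fixedBy_inverting_le'' {G X : Type*} [Group G] [MulAction G X] [Finite X] {p : ℕ}
    [hp : Fact p.Prime] (hp2 : p ≠ 2) (P : Subgroup G) (hP : Nat.card P = p) (t : G)
    (hinv : ∀ x ∈ P, t * x * t⁻¹ = x⁻¹) :
    p * Nat.card (fixedBy X t) + Nat.card {a : X // ∀ x ∈ P, x • a = a} ≤
      Nat.card X + p * Nat.card {a : X // ∀ x ∈ P, x • a = a} := by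
  have h1 := card_fixedBy_inverting_le' hp2 P hP t hinv (X := X)
  have h2 : Nat.card (fixedPoints P X) = Nat.card {a : X // ∀ x ∈ P, x • a = a} := by
    apply Nat.card_congr
    apply Equiv.subtypeEquivRight
    intro a
    rw [mem_fixedPoints]
    constructor
    · intro h x hx
      exact h ⟨x, hx⟩
    · intro h x
      exact h x x.2
  rw [h2] at h1
  exact h1

/-- If `t ∈ N(P)` inverts the Sylow subgroup `P` of order `p` and `|N(P)| = 2p`, then
`|C(t)|` is at most twice the number of Sylow `p`-subgroups normalized by `t`. -/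
theorem card_centralizer_le_of_inverting {G : Type*} [Group G] [Finite G] {p : ℕ}
    [hp : Fact p.Prime] (hp2 : p ≠ 2) (P : Sylow p G) (hP : Nat.card (P : Subgroup G) = p)
    (hN : Nat.card (normalizer ((P : Subgroup G) : Set G)) = 2 * p) (t : G)
    (htN : t ∈ normalizer ((P : Subgroup G) : Set G))
    (hinv : ∀ x ∈ (P : Subgroup G), t * x * t⁻¹ = x⁻¹) :
    Nat.card (centralizer ({t} : Set G)) ≤ 2 * Nat.card (fixedBy (Sylow p G) t) := by
  classical
  set C := centralizer ({t} : Set G) with hC
  have hos : Nat.card (orbit (↥C) P) * Nat.card (stabilizer (↥C) P) = Nat.card C := by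
    have h0 := Subgroup.card_mul_index (stabilizer (↥C) P)
    rw [MulAction.index_stabilizer, ← Nat.card_coe_set_eq] at h0
    rw [mul_comm]; exact h0
  -- the orbit lies in the fixed points of `t`
  have h1 : Nat.card (orbit (↥C) P) ≤ Nat.card (fixedBy (Sylow p G) t) := by
    apply Nat.card_mono (Set.toFinite _)
    rintro R ⟨c, rfl⟩
    rw [mem_fixedBy]
    have hc : (c : G) * t = t * (c : G) := by
      have := (Subgroup.mem_centralizer_iff.mp c.2) t rfl
      exact this.symm
    have htP : t • P = P := Sylow.smul_eq_iff_mem_normalizer.mpr htN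
    change t • ((c : G) • P) = (c : G) • P
    rw [← mul_smul, ← hc, mul_smul, htP]
  -- the stabilizer has at most two elements
  set Z := C ⊓ normalizer ((P : Subgroup G) : Set G) with hZ
  have hdisj : Disjoint Z (P : Subgroup G) := by
    rw [Subgroup.disjoint_def]
    intro x hxZ hxP
    have hxt : t * x = x * t := (Subgroup.mem_centralizer_iff.mp (Subgroup.mem_inf.mp hxZ).1) t rfl
    have h2 : t * x * t⁻¹ = x := by rw [hxt]; group
    have h3 : x⁻¹ = x := by rw [← hinv x hxP]; exact h2
    have h4 : x * x = 1 := by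
      nth_rewrite 1 [← h3]; group
    have ho1 : orderOf x ∣ 2 := orderOf_dvd_of_pow_eq_one (by rw [pow_two]; exact h4)
    have ho2 : orderOf x ∣ p := by
      have : orderOf (⟨x, hxP⟩ : (P : Subgroup G)) ∣ Nat.card (P : Subgroup G) :=
        orderOf_dvd_natCard _
      rw [hP, ← Subgroup.orderOf_coe] at this
      exact this
    have hcop : Nat.Coprime 2 p := by
      rw [Nat.coprime_primes Nat.prime_two hp.out]; exact fun h => hp2 h.symm
    have : orderOf x ∣ 1 := by
      have := Nat.dvd_gcd ho1 ho2
      rwa [hcop] at this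
    exact orderOf_eq_one_iff.mp (Nat.dvd_one.mp this)
  have hZ2 : Nat.card Z ≤ 2 := by
    have hinj := Subgroup.mul_injective_of_disjoint hdisj
    have hle : Nat.card (Z × (P : Subgroup G)) ≤ Nat.card (normalizer ((P : Subgroup G) : Set G)) := by
      apply Nat.card_le_card_of_injective
        (fun g : Z × (P : Subgroup G) => (⟨(g.1 : G) * (g.2 : G),
          Subgroup.mul_mem _ (Subgroup.mem_inf.mp g.1.2).2 (le_normalizer g.2.2)⟩ :
            normalizer ((P : Subgroup G) : Set G)))
      intro a b hab
      apply hinj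
      exact congrArg Subtype.val hab
    rw [Nat.card_prod, hP, hN] at hle
    have hp0 : 0 < p := hp.out.pos
    by_contra hcon
    push Not at hcon
    have : 3 * p ≤ Nat.card Z * p := Nat.mul_le_mul_right _ hcon
    omega
  have h2 : Nat.card (stabilizer (↥C) P) ≤ Nat.card Z := by
    apply Nat.card_le_card_of_injective
      (fun c : stabilizer (↥C) P => (⟨((c : ↥C) : G), Subgroup.mem_inf.mpr ⟨(c : ↥C).2, by
        have h3 : ((c : ↥C) : G) • P = P := c.2
        exact Sylow.smul_eq_iff_mem_normalizer.mp h3⟩⟩ : Z))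
    intro a b hab
    apply Subtype.ext
    apply Subtype.ext
    exact Subtype.mk.inj hab
  calc Nat.card C = Nat.card (orbit (↥C) P) * Nat.card (stabilizer (↥C) P) := hos.symm
    _ ≤ Nat.card (fixedBy (Sylow p G) t) * 2 := Nat.mul_le_mul h1 (h2.trans hZ2)
    _ = 2 * Nat.card (fixedBy (Sylow p G) t) := mul_comm _ _

end Cfsg.Agent.Lib.Helper69
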