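import Cfsg.Agent.Lib.Helper69.BrauerE2
import Cfsg.Agent.Lib.Helper79.Basic
import Cfsg.Agent.Lib.Helper55.Transfer2
import Cfsg.Agent.Lib.Helper69.DihedralNorm

/-!
# Applications of the exceptional character theorems to simple groups: arithmetic form
-/

set_option autoImplicit false
set_option linter.style.haveILetI false
set_option linter.unusedSectionVars false

namespace Cfsg.Agent.Lib.Helper69.TI

open Cfsg Subgroup

universe u

variable {G : Type u} [Group G]

/-- degree of an irreducible character divides the group order -/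
theorem irr_degree_dvd [Finite G] (χ : IrrCharacter G) : charDegree (χ : G → ℂ) ∣ Nat.card G := by
  obtain ⟨_, n, ρ, hρ, rfl⟩ := χ
  have := hρ
  have : Fintype G := Fintype.ofFinite G
  have h := Cfsg.Agent.Lib.Helper80.finrank_dvd_card ρ
  have h1 : ρ.character 1 = ((Module.finrank ℂ (Fin n → ℂ) : ℕ) : ℂ) := Representation.char_one ρ
  rw [Cfsg.Agent.Lib.Helper81.charDegree_eq_of_apply_one h1]
  exact h

/-- a nontrivial irreducible character of a nonabelian simple group has degree `> 1` -/
theorem one_lt_degree_of_simple [Finite G] [IsSimpleGroup G] (hnc : ¬ IsMulCommutative G)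
    (χ : IrrCharacter G) (hχ : (χ : G → ℂ) ≠ fun _ => 1) : 1 < charDegree (χ : G → ℂ) := by
  have h0 := Cfsg.Agent.Lib.Helper81.irr_charDegree_ne_zero χ
  by_contra hle
  have h1 : charDegree (χ : G → ℂ) = 1 := by omega
  have h2 : (χ : G → ℂ) 1 = 1 := by
    rw [Cfsg.Agent.Lib.Helper81.irr_apply_one_eq_charDegree χ, h1]; simp
  obtain ⟨φ, hφ⟩ := Cfsg.Agent.Lib.Helper79.exists_monoidHom_of_isCharacter_of_one
    (Cfsg.Agent.Lib.Helper3.IsIrrCharacter.isCharacter χ.2) h2
  apply hχ
  funext g
  rw [hφ g, Cfsg.Agent.Lib.Helper55.hom_eq_one_of_simple hnc φ g]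
  simp

/-- If the normalizer of the subgroup `P` of prime order `p` has order `e * p` with `e` prime and
does not centralize `P`, then `C(P) ≤ P`. -/
theorem centralizer_le_of_card_normalizer [Finite G] {p e : ℕ} [hp : Fact p.Prime] (he : e.Prime)
    (P : Subgroup G) (hP : Nat.card P = p) (hN : Nat.card (normalizer (P : Set G)) = e * p)
    (hNC : ¬ normalizer (P : Set G) ≤ centralizer (P : Set G)) :
    centralizer (P : Set G) ≤ P := by
  have hPC : P ≤ centralizer (P : Set G) := by
    intro x hx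
    rw [Subgroup.mem_centralizer_iff]
    intro y hy
    exact Cfsg.Agent.Lib.Helper69.comm_of_card_prime P hP y hy x hx
  have hCN : centralizer (P : Set G) ≤ normalizer (P : Set G) := Subgroup.centralizer_le_normalizer _
  have h1 : p ∣ Nat.card (centralizer (P : Set G)) := by
    rw [← hP]; exact Subgroup.card_dvd_of_le hPC
  have h2 : Nat.card (centralizer (P : Set G)) ∣ e * p := by
    rw [← hN]; exact Subgroup.card_dvd_of_le hCN
  obtain ⟨k, hk⟩ := h1
  rw [hk, mul_comm e p] at h2
  have h3 : k ∣ e := Nat.dvd_of_mul_dvd_mul_left hp.out.pos h2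
  rcases (Nat.dvd_prime he).mp h3 with h | h
  · have h4 : Nat.card (centralizer (P : Set G)) = Nat.card P := by rw [hk, h, mul_one, hP]
    have h5 : P = centralizer (P : Set G) :=
      Subgroup.eq_of_le_of_card_ge hPC (le_of_eq h4)
    rw [← h5]
  · exfalso
    apply hNC
    have h4 : centralizer (P : Set G) = normalizer (P : Set G) :=
      Subgroup.eq_of_le_of_card_ge hCN (by rw [hN, hk, h, mul_comm])
    rw [h4]

/-- **Arithmetic form of the Brauer–Suzuki theorem (`e = 2`) for simple groups.** -/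
theorem simple_degrees_e2 [Finite G] [IsSimpleGroup G] (hnc : ¬ IsMulCommutative G) {p : ℕ}
    [hp : Fact p.Prime] (hp11 : 11 ≤ p) (P : Subgroup G) (hP : Nat.card P = p)
    (hN : Nat.card (normalizer (P : Set G)) = 2 * p)
    (hNC : ¬ normalizer (P : Set G) ≤ centralizer (P : Set G)) :
    ∃ n m : ℕ, n ∣ Nat.card G ∧ m ∣ Nat.card G ∧ 1 < n ∧
      ((n % p = 1 ∧ m = n + 1) ∨ (n % p = p - 1 ∧ m + 1 = n)) := by
  have hC := centralizer_le_of_card_normalizer Nat.prime_two P hP hN hNC
  obtain ⟨χ, θ, hχ, -, a, h⟩ := exists_degrees_e2 hp11 P hP hN hC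
  refine ⟨charDegree (χ : G → ℂ), charDegree (θ : G → ℂ), irr_degree_dvd χ, irr_degree_dvd θ,
    one_lt_degree_of_simple hnc χ hχ, ?_⟩
  have hp1 : 1 < p := hp.out.one_lt
  rcases h with ⟨h1, h2⟩ | ⟨h1, h2⟩
  · left
    refine ⟨?_, h2⟩
    have : (charDegree (χ : G → ℂ) + p) % p = (p * a + 1) % p := by rw [h1]
    rw [Nat.add_mod_right, Nat.mul_add_mod, Nat.mod_eq_of_lt hp1] at this
    exact this
  · right
    refine ⟨?_, h2⟩
    have ha : 1 ≤ a := by
      rcases Nat.eq_zero_or_pos a with h0 | h0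
      · rw [h0, mul_zero] at h1; omega
      · exact h0
    obtain ⟨b, rfl⟩ : ∃ b, a = b + 1 := ⟨a - 1, by omega⟩
    have h3 : charDegree (χ : G → ℂ) = p * b + (p - 1) := by
      have : p * (b + 1) = p * b + p := by ring
      omega
    rw [h3, Nat.mul_add_mod, Nat.mod_eq_of_lt (by omega)]

end Cfsg.Agent.Lib.Helper69.TI
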