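import Cfsg.Agent.Lib.Helper69.BrauerFull
import Cfsg.Agent.Lib.Helper69.BrauerApply
import Cfsg.Agent.S0840

/-!
# A subgroup `P` of prime order with dihedral normalizer: character values at the inverting
involution and the class multiplication constant `a_{t,t,x}`

`P ≤ G` of odd prime order `p`, `|N(P)| = 2p`, `t ∈ N(P) \ P` an involution inverting `P`.
-/

set_option autoImplicit false
set_option linter.style.haveILetI false
set_option linter.unusedSectionVars false
set_option maxHeartbeats 800000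

namespace Cfsg.Agent.Lib.Helper69.TI

open Cfsg Subgroup
open scoped ComplexConjugate

universe u

section Dihedral

variable {G : Type u} [Group G] [Fintype G] {p : ℕ} [hp : Fact p.Prime] (P : Subgroup G)
  [Fintype P]

theorem relIndex_normalizer_eq_two (hP : Nat.card P = p)
    (hN : Nat.card (normalizer (P : Set G)) = 2 * p) :
    (P.subgroupOf (normalizer (P : Set G))).index = 2 := by
  have h1 := Subgroup.card_mul_index (P.subgroupOf (normalizer (P : Set G)))
  rw [Cfsg.Agent.Lib.Helper17.card_subgroupOf_of_le le_normalizer, hP, hN] at h1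
  have hp0 : 0 < p := hp.out.pos
  have : p * (P.subgroupOf (normalizer (P : Set G))).index = p * 2 := by rw [h1]; ring
  exact Nat.eq_of_mul_eq_mul_left hp0 this

/-- the product of two elements of `N(P) \ P` lies in `P` -/
theorem mul_mem_of_not_mem (hP : Nat.card P = p)
    (hN : Nat.card (normalizer (P : Set G)) = 2 * p) {a b : G}
    (haN : a ∈ normalizer (P : Set G)) (hbN : b ∈ normalizer (P : Set G)) (ha : a ∉ P)
    (hb : b ∉ P) : a * b ∈ P := by
  have hidx := relIndex_normalizer_eq_two P hP hN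
  have h := Subgroup.mul_mem_iff_of_index_two hidx
    (a := (⟨a, haN⟩ : normalizer (P : Set G))) (b := ⟨b, hbN⟩)
  rw [Subgroup.mem_subgroupOf, Subgroup.mem_subgroupOf, Subgroup.mem_subgroupOf] at h
  exact h.mpr (iff_of_false ha hb)

/-- elements of `N(P) \ P` are conjugate to `t` -/
theorem isConj_of_mem_normalizer_not_mem (hp2 : p ≠ 2) (hP : Nat.card P = p)
    (hN : Nat.card (normalizer (P : Set G)) = 2 * p) (t : G) (htN : t ∈ normalizer (P : Set G))
    (htt : t * t = 1) (htP : t ∉ P) (hinv : ∀ x ∈ P, t * x * t⁻¹ = x⁻¹) (g : G)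
    (hgN : g ∈ normalizer (P : Set G)) (hgP : g ∉ P) : IsConj t g := by
  have hy : t * g ∈ P := mul_mem_of_not_mem P hP hN htN hgN htP hgP
  set y := t * g with hydef
  have hodd : Odd p := (hp.out.eq_two_or_odd').resolve_left hp2
  obtain ⟨r, hr⟩ := hodd
  set y₀ := y ^ r with hy₀def
  have hy₀ : y₀ ∈ P := pow_mem hy r
  have hyp : y ^ p = 1 := by
    have h1 : (⟨y, hy⟩ : P) ^ Nat.card P = 1 := pow_card_eq_one'
    rw [hP] at h1
    have := congrArg Subtype.val h1
    simpa using this
  have hy₀sq : y₀ * y₀ = y⁻¹ := by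
    rw [hy₀def, ← pow_add]
    have h2 : y ^ (r + r) * y = 1 := by
      rw [← pow_succ]
      have : r + r + 1 = p := by omega
      rw [this, hyp]
    exact eq_inv_of_mul_eq_one_left h2
  have hg : g = t * y := by rw [hydef, ← mul_assoc, htt, one_mul]
  have h1 : t * y = y⁻¹ * t := by
    have := hinv y hy
    calc t * y = (t * y * t⁻¹) * t := by group
      _ = y⁻¹ * t := by rw [this]
  have h2 : t * y₀⁻¹ * t⁻¹ = y₀ := by
    have := hinv y₀⁻¹ (inv_mem hy₀)
    rwa [inv_inv] at this
  rw [isConj_iff]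
  refine ⟨y₀, ?_⟩
  calc y₀ * t * y₀⁻¹ = y₀ * (t * y₀⁻¹ * t⁻¹) * t := by group
    _ = y₀ * y₀ * t := by rw [h2]
    _ = y⁻¹ * t := by rw [hy₀sq]
    _ = t * y := h1.symm
    _ = g := hg.symm

open Classical in
/-- sums over `N(P)` restricted to `P` -/
theorem sum_normalizer_ite [Fintype (normalizer (P : Set G))] (h : G → ℂ) :
    ∑ n : normalizer (P : Set G), (if (n : G) ∈ P then h n else 0) = ∑ x : P, h x := by
  classical
  have e1 : ∑ n : normalizer (P : Set G), (if (n : G) ∈ P then h n else 0) =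
      ∑ g ∈ Finset.univ.filter (fun g : G => g ∈ normalizer (P : Set G)),
        (if g ∈ P then h g else 0) :=
    (Finset.sum_subtype (Finset.univ.filter (fun g : G => g ∈ normalizer (P : Set G)))
      (by intro x; simp) (fun g => if g ∈ P then h g else 0)).symm
  have e2 : ∑ x : P, h x = ∑ g ∈ Finset.univ.filter (fun g : G => g ∈ P), h g :=
    (Finset.sum_subtype (Finset.univ.filter (fun g : G => g ∈ P))
      (by intro x; simp) (fun g => h g)).symm
  rw [e1, e2, ← Finset.sum_filter, Finset.filter_filter]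
  apply Finset.sum_congr _ (fun _ _ => rfl)
  ext g
  simp only [Finset.mem_filter, Finset.mem_univ, true_and]
  exact ⟨fun h => h.2, fun h => ⟨le_normalizer h, h⟩⟩

/-- **Character values at the inverting involution**: `ψ(t) = k₁ - k₂` with
`k₁ + k₂ = ⟨1_P, ψ|_P⟩`. -/
theorem char_value_inverting (hp2 : p ≠ 2) (hP : Nat.card P = p)
    (hN : Nat.card (normalizer (P : Set G)) = 2 * p) (t : G) (htN : t ∈ normalizer (P : Set G))
    (htt : t * t = 1) (htP : t ∉ P) (hinv : ∀ x ∈ P, t * x * t⁻¹ = x⁻¹) {ψ : G → ℂ}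
    (hψ : IsCharacter G ψ) :
    ∃ k₁ k₂ : ℕ, ψ t = (k₁ : ℂ) - k₂ ∧
      classInner (fun _ : P => (1 : ℂ)) (fun h : P => ψ h) = (k₁ : ℂ) + k₂ := by
  classical
  haveI : Fintype (normalizer (P : Set G)) := Fintype.ofFinite _
  have hcl : IsClassFunction G ψ := Cfsg.Agent.Lib.Helper3.IsCharacter.isClassFunction hψ
  -- the sign character
  let sgnFun : normalizer (P : Set G) → ℂˣ := fun n => if (n : G) ∈ P then 1 else -1
  have hmul : ∀ a b : normalizer (P : Set G), sgnFun (a * b) = sgnFun a * sgnFun b := by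
    intro a b
    have hidx := relIndex_normalizer_eq_two P hP hN
    have key := Subgroup.mul_mem_iff_of_index_two hidx (a := a) (b := b)
    rw [Subgroup.mem_subgroupOf, Subgroup.mem_subgroupOf, Subgroup.mem_subgroupOf,
      Subgroup.coe_mul] at key
    simp only [sgnFun, Subgroup.coe_mul]
    by_cases ha : (a : G) ∈ P <;> by_cases hb : (b : G) ∈ P <;> simp [key, ha, hb]
  let φ : normalizer (P : Set G) →* ℂˣ := MonoidHom.mk' sgnFun hmul
  have hφ : ∀ n : normalizer (P : Set G), ((φ n : ℂˣ) : ℂ) = if (n : G) ∈ P then 1 else -1 := by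
    intro n
    show ((sgnFun n : ℂˣ) : ℂ) = _
    simp only [sgnFun]
    split_ifs <;> simp
  have hψN : IsCharacter (normalizer (P : Set G)) (fun h : normalizer (P : Set G) => ψ h) :=
    Cfsg.Agent.Lib.Helper3.IsCharacter.restrict hψ _
  have h1N : IsCharacter (normalizer (P : Set G)) (fun _ => (1 : ℂ)) :=
    Cfsg.Agent.Lib.Helper3.IsIrrCharacter.isCharacter Cfsg.Agent.Lib.Helper81.isIrrCharacter_one
  have hsN : IsCharacter (normalizer (P : Set G)) (fun n => ((φ n : ℂˣ) : ℂ)) :=
    Cfsg.Agent.Lib.Helper3.IsIrrCharacter.isCharacter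
      (Cfsg.Agent.Lib.Helper79.isIrrCharacter_of_monoidHom φ)
  obtain ⟨k₁, hk₁⟩ := Cfsg.Agent.Lib.Helper25.classInner_char_nat h1N hψN
  obtain ⟨k₂, hk₂⟩ := Cfsg.Agent.Lib.Helper25.classInner_char_nat hsN hψN
  set F : G → ℂ := fun g => conj (ψ g) with hF
  have hpC : (p : ℂ) ≠ 0 := by exact_mod_cast hp.out.ne_zero
  have hA := sum_normalizer_ite P F
  have hone := sum_normalizer_ite P (fun _ => (1 : ℂ))
  rw [Finset.sum_const, Finset.card_univ, ← Nat.card_eq_fintype_card, hP, nsmul_eq_mul,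
    mul_one] at hone
  have hall : ∑ _n : normalizer (P : Set G), (1 : ℂ) = 2 * p := by
    rw [Finset.sum_const, Finset.card_univ, ← Nat.card_eq_fintype_card, hN, nsmul_eq_mul, mul_one]
    push_cast; ring
  have hcount : ∑ n : normalizer (P : Set G), (if (n : G) ∈ P then (0 : ℂ) else 1) = p := by
    have h1 : ∀ n : normalizer (P : Set G), (if (n : G) ∈ P then (0 : ℂ) else 1) =
        1 - (if (n : G) ∈ P then (1 : ℂ) else 0) := by
      intro n; split_ifs <;> simp
    simp_rw [h1]
    rw [Finset.sum_sub_distrib, hall, hone]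
    ring
  have hB : ∑ n : normalizer (P : Set G), (if (n : G) ∈ P then 0 else F n) = p * F t := by
    have h1 : ∀ n : normalizer (P : Set G), (if (n : G) ∈ P then 0 else F n) =
        F t * (if (n : G) ∈ P then (0 : ℂ) else 1) := by
      intro n
      split_ifs with hn
      · simp
      · have hc := isConj_of_mem_normalizer_not_mem P hp2 hP hN t htN htt htP hinv n n.2 hn
        obtain ⟨c, hc⟩ := isConj_iff.mp hc
        simp only [hF, mul_one]
        rw [← hc, hcl t c]
    simp_rw [h1]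
    rw [← Finset.mul_sum, hcount, mul_comm]
  have hsum1 : ∑ n : normalizer (P : Set G), (1 : ℂ) * conj (ψ n) =
      ∑ x : P, F x + p * F t := by
    rw [← hA, ← hB, ← Finset.sum_add_distrib]
    apply Finset.sum_congr rfl
    intro n _
    split_ifs <;> simp [hF]
  have hsum2 : ∑ n : normalizer (P : Set G), ((φ n : ℂˣ) : ℂ) * conj (ψ n) =
      ∑ x : P, F x - p * F t := by
    rw [← hA, ← hB, ← Finset.sum_sub_distrib]
    apply Finset.sum_congr rfl
    intro n _
    rw [hφ n]
    split_ifs <;> simp [hF]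
  unfold classInner at hk₁ hk₂
  rw [hsum1, hN] at hk₁
  rw [hsum2, hN] at hk₂
  have h2p : ((2 * p : ℕ) : ℂ) ≠ 0 := by
    push_cast
    exact mul_ne_zero two_ne_zero hpC
  have e1 : ∑ x : P, F x + p * F t = ((2 * p : ℕ) : ℂ) * k₁ := by
    rw [← hk₁, ← mul_assoc, mul_inv_cancel₀ h2p, one_mul]
  have e2 : ∑ x : P, F x - p * F t = ((2 * p : ℕ) : ℂ) * k₂ := by
    rw [← hk₂, ← mul_assoc, mul_inv_cancel₀ h2p, one_mul]
  push_cast at e1 e2
  have hFt : F t = (k₁ : ℂ) - k₂ := by
    have : (p : ℂ) * F t = p * ((k₁ : ℂ) - k₂) := by linear_combination (e1 - e2) / 2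
    exact mul_left_cancel₀ hpC this
  have hAval : ∑ x : P, F x = p * ((k₁ : ℂ) + k₂) := by linear_combination (e1 + e2) / 2
  refine ⟨k₁, k₂, ?_, ?_⟩
  · have := congrArg conj hFt
    simp only [hF, Complex.conj_conj, map_sub, Complex.conj_natCast] at this
    exact this
  · unfold classInner
    rw [hP]
    have : ∑ x : P, (1 : ℂ) * conj (ψ x) = ∑ x : P, F x := by
      apply Finset.sum_congr rfl
      intro x _
      simp [hF]
    rw [this, hAval, ← mul_assoc, inv_mul_cancel₀ hpC, one_mul]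

/-- the class multiplication constant `a_{t,t,x} = p` for `x ∈ P \ 1` -/
theorem card_pairs_eq (hp2 : p ≠ 2) (hP : Nat.card P = p)
    (hN : Nat.card (normalizer (P : Set G)) = 2 * p) (t : G) (htN : t ∈ normalizer (P : Set G))
    (htt : t * t = 1) (htP : t ∉ P) (hinv : ∀ x ∈ P, t * x * t⁻¹ = x⁻¹) (x : G) (hx : x ∈ P)
    (hx1 : x ≠ 1) :
    Nat.card {q : G × G // IsConj t q.1 ∧ IsConj t q.2 ∧ q.1 * q.2 = x} = p := by
  have ht1 : t ≠ 1 := fun h => htP (h ▸ P.one_mem)
  have htinv : t⁻¹ = t := inv_eq_of_mul_eq_one_right htt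
  have hconjP : ∀ y ∈ P, IsConj t (t * y) := by
    intro y hy
    apply isConj_of_mem_normalizer_not_mem P hp2 hP hN t htN htt htP hinv
    · exact mul_mem htN (le_normalizer hy)
    · intro h
      apply htP
      have : t = (t * y) * y⁻¹ := by group
      rw [this]
      exact mul_mem h (inv_mem hy)
  have hinvol : ∀ s : G, IsConj t s → s * s = 1 := by
    intro s hs
    obtain ⟨c, hc⟩ := isConj_iff.mp hs
    rw [← hc]
    calc c * t * c⁻¹ * (c * t * c⁻¹) = c * (t * t) * c⁻¹ := by group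
      _ = 1 := by rw [htt]; group
  let f : P → {q : G × G // IsConj t q.1 ∧ IsConj t q.2 ∧ q.1 * q.2 = x} := fun y =>
    ⟨(t * y, t * (y * x)), hconjP y y.2, hconjP (y * x) (mul_mem y.2 hx), by
      have h1 := hinv y y.2
      rw [htinv] at h1
      show t * y * (t * (y * x)) = x
      calc t * y * (t * (y * x)) = (t * y * t) * y * x := by group
        _ = x := by rw [h1]; group⟩
  have hbij : Function.Bijective f := by
    constructor
    · intro y y' h
      have h1 : t * (y : G) = t * (y' : G) := congrArg (fun q => q.1.1) h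
      exact Subtype.ext (mul_left_cancel h1)
    · rintro ⟨⟨s, s'⟩, hs, hs', hprod⟩
      simp only at hs hs' hprod
      have hss := hinvol s hs
      have hss' := hinvol s' hs'
      have hsinv : s⁻¹ = s := inv_eq_of_mul_eq_one_right hss
      have hs's : s' * s = x⁻¹ := by
        rw [← hprod]
        apply eq_inv_of_mul_eq_one_left
        calc s' * s * (s * s') = s' * (s * s) * s' := by group
          _ = 1 := by rw [hss, mul_one, hss']
      have hsN : s ∈ normalizer (P : Set G) := by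
        apply mem_normalizer_of_conj_mem P hP x hx hx1 s
        rw [hsinv]
        have : s * x * s = s' * s := by
          rw [← hprod]
          calc s * (s * s') * s = (s * s) * s' * s := by group
            _ = s' * s := by rw [hss, one_mul]
        rw [this, hs's]
        exact inv_mem hx
      have hsP : s ∉ P := by
        intro hsP
        have hodd : Odd p := (hp.out.eq_two_or_odd').resolve_left hp2
        obtain ⟨r, hr⟩ := hodd
        have hsp : s ^ p = 1 := by
          have h1 : (⟨s, hsP⟩ : P) ^ Nat.card P = 1 := pow_card_eq_one'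
          rw [hP] at h1
          have := congrArg Subtype.val h1
          simpa using this
        have hs1 : s = 1 := by
          have h2 : s ^ p = s := by
            rw [hr, pow_succ, pow_mul, pow_two, hss, one_pow, one_mul]
          rw [← h2, hsp]
        obtain ⟨c, hc⟩ := isConj_iff.mp hs
        apply ht1
        have : t = c⁻¹ * s * c := by rw [← hc]; group
        rw [this, hs1]; group
      have hy : t * s ∈ P := mul_mem_of_not_mem P hP hN htN hsN htP hsP
      refine ⟨⟨t * s, hy⟩, ?_⟩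
      apply Subtype.ext
      show (t * (t * s), t * (t * s * x)) = (s, s')
      have e1 : t * (t * s) = s := by rw [← mul_assoc, htt, one_mul]
      have e2 : t * (t * s * x) = s' := by
        have : s' = s * x := by
          rw [← hprod, ← mul_assoc, hss, one_mul]
        rw [this, ← mul_assoc, ← mul_assoc, htt, one_mul]
      rw [e1, e2]
  rw [← Nat.card_eq_of_bijective f hbij, hP]

/-- sharper form of `degree_formula` -/
theorem degree_formula' (hP : Nat.card P = p) [Fintype (IrrCharacter P)] {ψ : G → ℂ}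
    (hψ : IsCharacter G ψ) :
    ψ 1 + ∑ μ : IrrCharacter P, cc P (μ : P → ℂ) ψ =
      (p : ℂ) * classInner (fun _ : P => (1 : ℂ)) (fun h : P => ψ h) := by
  haveI := isMulCommutative_of_card_prime P hP
  have h1 : IsCharacter P (fun _ => (1 : ℂ)) :=
    Cfsg.Agent.Lib.Helper3.IsIrrCharacter.isCharacter Cfsg.Agent.Lib.Helper81.isIrrCharacter_one
  have h3 : IsCharacter P (fun h : P => ψ h) := Cfsg.Agent.Lib.Helper3.IsCharacter.restrict hψ P
  obtain ⟨a, ha⟩ := Cfsg.Agent.Lib.Helper25.classInner_char_nat h1 h3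
  rw [ha]
  have hexp := Cfsg.Agent.Lib.Helper3.classFunction_eq_sum
    (Cfsg.Agent.Lib.Helper3.IsCharacter.isClassFunction h3)
  have h4 := congrFun hexp 1
  rw [Finset.sum_apply] at h4
  have h5 : ∀ μ : IrrCharacter P, (classInner (fun h : P => ψ h) (μ : P → ℂ) • (μ : P → ℂ)) 1 =
      (a : ℂ) - cc P (μ : P → ℂ) ψ := by
    intro μ
    have h2 : IsCharacter P (μ : P → ℂ) := Cfsg.Agent.Lib.Helper3.IsIrrCharacter.isCharacter μ.2
    obtain ⟨b, hb⟩ := Cfsg.Agent.Lib.Helper25.classInner_char_nat h2 h3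
    rw [Pi.smul_apply, smul_eq_mul, Cfsg.Agent.Lib.Helper79.irr_one_eq_one_of_comm μ, mul_one]
    have h6 : classInner (fun h : P => ψ h) (μ : P → ℂ) = (b : ℂ) := by
      rw [← Cfsg.Agent.Lib.Helper25.classInner_conj_symm, hb]; simp
    unfold cc al
    rw [h6, Cfsg.Agent.Lib.Helper25.classInner_sub_left, ha, hb]
    ring
  simp_rw [h5] at h4
  have h7 : ψ 1 = ∑ μ : IrrCharacter P, ((a : ℂ) - cc P (μ : P → ℂ) ψ) := h4
  rw [h7, Finset.sum_sub_distrib, Finset.sum_const, Finset.card_univ, card_irr_eq P hP,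
    nsmul_eq_mul]
  ring

/-- the sum of the conjugate values of a character over `P` -/
theorem sum_conj_eq (hP : Nat.card P = p) [Fintype (IrrCharacter P)] {ψ : G → ℂ}
    (hψ : IsCharacter G ψ) :
    ∑ x : P, conj (ψ x) = ψ 1 + ∑ μ : IrrCharacter P, cc P (μ : P → ℂ) ψ := by
  rw [degree_formula' P hP hψ]
  unfold classInner
  rw [hP]
  have hpC : (p : ℂ) ≠ 0 := by exact_mod_cast hp.out.ne_zero
  rw [← mul_assoc, mul_inv_cancel₀ hpC, one_mul]
  apply Finset.sum_congr rfl
  intro x _
  rw [one_mul]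

/-- the class equation summed over `P \ 1` -/
theorem sum_class_eq (hp2 : p ≠ 2) (hP : Nat.card P = p)
    (hN : Nat.card (normalizer (P : Set G)) = 2 * p) (t : G) (htN : t ∈ normalizer (P : Set G))
    (htt : t * t = 1) (htP : t ∉ P) (hinv : ∀ x ∈ P, t * x * t⁻¹ = x⁻¹)
    [Fintype (IrrCharacter G)] [Fintype (IrrCharacter P)] :
    ((p : ℂ) - 1) * p = (Nat.card {s : G // IsConj t s} : ℂ) * (Nat.card {s : G // IsConj t s} : ℂ) /
      (Nat.card G : ℂ) * ∑ ψ : IrrCharacter G, ((ψ : G → ℂ) t * (ψ : G → ℂ) t / (ψ : G → ℂ) 1) *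
        ∑ μ : IrrCharacter P, cc P (μ : P → ℂ) (ψ : G → ℂ) := by
  classical
  set i : ℂ := (Nat.card {s : G // IsConj t s} : ℂ) with hi
  have hx : ∀ x : P, x ≠ 1 → (p : ℂ) = i * i / (Nat.card G : ℂ) *
      ∑ ψ : IrrCharacter G, (ψ : G → ℂ) t * (ψ : G → ℂ) t * conj ((ψ : G → ℂ) x) / (ψ : G → ℂ) 1 := by
    intro x hx1
    have h := Cfsg.Agent.S0840.result t t (x : G)
    rw [card_pairs_eq P hp2 hP hN t htN htt htP hinv (x : G) x.2
      (fun h => hx1 (Subtype.ext h)), finsum_eq_sum_of_fintype] at h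
    exact h
  have hsum : ∑ x ∈ (Finset.univ.erase (1 : P)), (p : ℂ) = ((p : ℂ) - 1) * p := by
    rw [Finset.sum_const, Finset.card_erase_of_mem (Finset.mem_univ _), Finset.card_univ,
      ← Nat.card_eq_fintype_card, hP, nsmul_eq_mul, Nat.cast_sub hp.out.one_lt.le]
    simp
  rw [← hsum]
  have h2 : ∑ x ∈ (Finset.univ.erase (1 : P)), (p : ℂ) =
      ∑ x ∈ (Finset.univ.erase (1 : P)), i * i / (Nat.card G : ℂ) *
      ∑ ψ : IrrCharacter G, (ψ : G → ℂ) t * (ψ : G → ℂ) t * conj ((ψ : G → ℂ) x) / (ψ : G → ℂ) 1 := by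
    apply Finset.sum_congr rfl
    intro x hx1
    exact hx x (Finset.ne_of_mem_erase hx1)
  rw [h2, ← Finset.mul_sum, Finset.sum_comm]
  congr 1
  apply Finset.sum_congr rfl
  intro ψ _
  have hψ : IsCharacter G (ψ : G → ℂ) := Cfsg.Agent.Lib.Helper3.IsIrrCharacter.isCharacter ψ.2
  have h3 := sum_conj_eq P hP hψ
  rw [← Finset.add_sum_erase Finset.univ _ (Finset.mem_univ (1 : P))] at h3
  have h4 : conj ((ψ : G → ℂ) ((1 : P) : G)) = (ψ : G → ℂ) 1 := by
    rw [Subgroup.coe_one, Cfsg.Agent.Lib.Helper81.irr_apply_one_eq_charDegree ψ]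
    simp
  rw [h4] at h3
  have h5 : ∑ x ∈ Finset.univ.erase (1 : P), conj ((ψ : G → ℂ) x) =
      ∑ μ : IrrCharacter P, cc P (μ : P → ℂ) (ψ : G → ℂ) := add_left_cancel h3
  rw [← h5, Finset.mul_sum]
  apply Finset.sum_congr rfl
  intro x _
  ring

end Dihedral

/-- structure of an integer vector of norm `2` with value `1` at `o` -/
theorem struct2 {Ψ : Type*} [Fintype Ψ] [DecidableEq Ψ] (o : Ψ) (f : Ψ → ℤ) (h0 : f o = 1)
    (h1 : ∑ ψ, f ψ * f ψ = 2) :
    ∃ a : Ψ, a ≠ o ∧ (f a = 1 ∨ f a = -1) ∧ ∀ ψ, ψ ≠ o → ψ ≠ a → f ψ = 0 := by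
  rw [← Finset.add_sum_erase Finset.univ _ (Finset.mem_univ o), h0] at h1
  have h2 : ∑ ψ ∈ Finset.univ.erase o, f ψ * f ψ = 1 := by linarith
  have hex : ∃ a ∈ Finset.univ.erase o, f a ≠ 0 := by
    by_contra hcon
    push Not at hcon
    rw [Finset.sum_eq_zero (fun ψ hψ => by rw [hcon ψ hψ, zero_mul])] at h2
    omega
  obtain ⟨a, ha, hfa⟩ := hex
  rw [← Finset.add_sum_erase _ _ ha] at h2
  have h3 : 0 ≤ ∑ ψ ∈ (Finset.univ.erase o).erase a, f ψ * f ψ :=
    Finset.sum_nonneg (fun i _ => mul_self_nonneg _)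
  have h4 : 1 ≤ f a * f a := by
    rcases lt_or_gt_of_ne hfa with h | h <;> nlinarith
  have h5 : f a * f a = 1 := by linarith
  have h6 : ∑ ψ ∈ (Finset.univ.erase o).erase a, f ψ * f ψ = 0 := by linarith
  refine ⟨a, Finset.ne_of_mem_erase ha, ?_, ?_⟩
  · have h7 : (f a - 1) * (f a + 1) = 0 := by ring_nf; linarith
    rcases mul_eq_zero.mp h7 with h | h
    · left; linarith
    · right; linarith
  · intro ψ hψo hψa
    have hmem : ψ ∈ (Finset.univ.erase o).erase a :=
      Finset.mem_erase.mpr ⟨hψa, Finset.mem_erase.mpr ⟨hψo, Finset.mem_univ _⟩⟩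
    have := (Finset.sum_eq_zero_iff_of_nonneg (fun i _ => mul_self_nonneg (f i))).mp h6 ψ hmem
    exact mul_self_eq_zero.mp this

end Cfsg.Agent.Lib.Helper69.TI
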