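import Mathlib

/-!
# Integer vectors with Gram matrix `e + J` (coherence for exceptional characters, general `e`)

`star_general`: a finite set `W` of at least `e + 3` integer vectors of norm `e + 1`, pairwise
inner product `e`, all orthogonal to a positive vector `d` and with coordinate `1` at `o`,
has the shape `w = u - ε • ev c_w` for a fixed vector `u` of norm `e` and a fixed sign `ε`.
-/

set_option autoImplicit false

namespace Cfsg.Agent.Lib.Helper69.StarG

variable {Ψ : Type*} [Fintype Ψ] [DecidableEq Ψ]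

/-- standard basis vector -/
def ev (a : Ψ) : Ψ → ℤ := fun ψ => if ψ = a then 1 else 0

/-- inner product -/
def ip (f g : Ψ → ℤ) : ℤ := ∑ ψ, f ψ * g ψ

theorem ev_apply (a b : Ψ) : ev a b = if b = a then 1 else 0 := rfl

theorem ip_comm (f g : Ψ → ℤ) : ip f g = ip g f := by
  unfold ip; exact Finset.sum_congr rfl (fun ψ _ => mul_comm _ _)

theorem ip_add_left (f g h : Ψ → ℤ) : ip (f + g) h = ip f h + ip g h := by
  unfold ip; rw [← Finset.sum_add_distrib]
  exact Finset.sum_congr rfl (fun ψ _ => by simp [add_mul])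

theorem ip_sub_left (f g h : Ψ → ℤ) : ip (f - g) h = ip f h - ip g h := by
  unfold ip; rw [← Finset.sum_sub_distrib]
  exact Finset.sum_congr rfl (fun ψ _ => by simp [sub_mul])

theorem ip_sub_right (f g h : Ψ → ℤ) : ip f (g - h) = ip f g - ip f h := by
  rw [ip_comm, ip_sub_left, ip_comm g, ip_comm h]

theorem ip_smul_left (c : ℤ) (f g : Ψ → ℤ) : ip (c • f) g = c * ip f g := by
  unfold ip; rw [Finset.mul_sum]
  exact Finset.sum_congr rfl (fun ψ _ => by simp [mul_assoc])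

theorem ip_smul_right (c : ℤ) (f g : Ψ → ℤ) : ip f (c • g) = c * ip f g := by
  rw [ip_comm, ip_smul_left, ip_comm]

theorem ip_ev_right (f : Ψ → ℤ) (a : Ψ) : ip f (ev a) = f a := by
  unfold ip ev
  simp

theorem ip_ev_left (a : Ψ) (f : Ψ → ℤ) : ip (ev a) f = f a := by
  rw [ip_comm, ip_ev_right]

theorem ip_shift (u : Ψ → ℤ) (ε : ℤ) (c c' : Ψ) :
    ip (u - ε • ev c) (u - ε • ev c') =
      ip u u - ε * u c' - ε * u c + ε * ε * (if c = c' then 1 else 0) := by
  rw [ip_sub_left, ip_sub_right, ip_sub_right, ip_smul_left, ip_smul_left, ip_smul_right,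
    ip_smul_right, ip_ev_right u c', ip_ev_left c u, ip_ev_left c (ev c'), ev_apply]
  ring

/-- an integer vector of norm `2` orthogonal to a positive vector is `ev a - ev b` -/
theorem norm2_struct (x d : Ψ → ℤ) (hd : ∀ ψ, 0 < d ψ) (h2 : ip x x = 2) (h0 : ip x d = 0) :
    ∃ a b : Ψ, a ≠ b ∧ x = ev a - ev b := by
  have hc : ∀ ψ, x ψ = -1 ∨ x ψ = 0 ∨ x ψ = 1 := by
    intro ψ
    have h : x ψ * x ψ ≤ 2 := by
      rw [← h2]; unfold ip
      exact Finset.single_le_sum (f := fun ψ => x ψ * x ψ) (fun i _ => mul_self_nonneg (x i))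
        (Finset.mem_univ ψ)
    have h3 : -1 ≤ x ψ := by nlinarith
    have h4 : x ψ ≤ 1 := by nlinarith
    omega
  set T := Finset.univ.filter (fun ψ => x ψ ≠ 0) with hT
  have hsum : ip x x = (T.card : ℤ) := by
    unfold ip
    have : ∀ ψ, x ψ * x ψ = if x ψ ≠ 0 then 1 else 0 := by
      intro ψ; rcases hc ψ with h | h | h <;> simp [h]
    simp_rw [this]
    rw [Finset.sum_boole]
  have hcard : T.card = 2 := by
    have : (T.card : ℤ) = 2 := by rw [← hsum, h2]
    exact_mod_cast this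
  obtain ⟨a, b, hab, hTab⟩ := Finset.card_eq_two.mp hcard
  have ha : x a ≠ 0 := by
    have : a ∈ T := by rw [hTab]; simp
    rw [hT, Finset.mem_filter] at this; exact this.2
  have hb : x b ≠ 0 := by
    have : b ∈ T := by rw [hTab]; simp
    rw [hT, Finset.mem_filter] at this; exact this.2
  have hz : ∀ ψ, ψ ≠ a → ψ ≠ b → x ψ = 0 := by
    intro ψ h1 h2
    by_contra h4
    have : ψ ∈ T := by rw [hT, Finset.mem_filter]; exact ⟨Finset.mem_univ _, h4⟩
    rw [hTab] at this; simp at this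
    rcases this with h | h
    · exact h1 h
    · exact h2 h
  have hdsum : ip x d = x a * d a + x b * d b := by
    unfold ip
    rw [← Finset.sum_subset (Finset.subset_univ ({a, b} : Finset Ψ))]
    · rw [Finset.sum_pair hab]
    · intro ψ _ hψ
      simp only [Finset.mem_insert, Finset.mem_singleton, not_or] at hψ
      rw [hz ψ hψ.1 hψ.2, zero_mul]
  rw [hdsum] at h0
  have hda := hd a
  have hdb := hd b
  have key : ∀ a b : Ψ, a ≠ b → x a = 1 → x b = -1 → (∀ ψ, ψ ≠ a → ψ ≠ b → x ψ = 0) →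
      x = ev a - ev b := by
    intro a b hab h1 h3 hz
    funext ψ
    simp only [Pi.sub_apply, ev_apply]
    by_cases e1 : ψ = a
    · subst e1; simp [h1, hab]
    · by_cases e2 : ψ = b
      · subst e2; simp [h3, e1]
      · simp [e1, e2, hz ψ e1 e2]
  rcases hc a with h1 | h1 | h1
  · rcases hc b with h3 | h3 | h3
    · exfalso; rw [h1, h3] at h0; linarith
    · exact absurd h3 hb
    · exact ⟨b, a, hab.symm, key b a hab.symm h3 h1 (fun ψ e1 e2 => hz ψ e2 e1)⟩
  · exact absurd h1 ha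
  · rcases hc b with h3 | h3 | h3
    · exact ⟨a, b, hab, key a b hab h1 h3 hz⟩
    · exact absurd h3 hb
    · exfalso; rw [h1, h3] at h0; linarith

theorem pair_cases (a b a' b' : Ψ) (hab : a ≠ b) (hab' : a' ≠ b')
    (h : ip (ev a - ev b) (ev a' - ev b') = 1) : (a = a' ∧ b ≠ b') ∨ (a ≠ a' ∧ b = b') := by
  rw [ip_sub_left, ip_ev_left, ip_ev_left] at h
  simp only [Pi.sub_apply, ev_apply] at h
  by_cases h1 : a = a'
  · subst h1
    left
    refine ⟨rfl, ?_⟩
    intro h2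
    subst h2
    simp [hab, hab.symm] at h
  · by_cases h2 : b = b'
    · right; exact ⟨h1, h2⟩
    · exfalso
      simp only [if_neg h1, if_neg h2] at h
      split_ifs at h <;> omega

theorem common_vector (e : ℤ) (d : Ψ → ℤ) (hd : ∀ ψ, 0 < d ψ) (W : Finset (Ψ → ℤ))
    (hnorm : ∀ w ∈ W, ip w w = e + 1) (hpair : ∀ w ∈ W, ∀ w' ∈ W, w ≠ w' → ip w w' = e)
    (hdeg : ∀ w ∈ W, ip w d = 0) (hcard : 2 ≤ W.card) :
    ∃ (u : Ψ → ℤ) (ε : ℤ), (ε = 1 ∨ ε = -1) ∧ ∀ w ∈ W, ∃ c, w = u - ε • ev c := by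
  obtain ⟨w₁, hw₁, w₂, hw₂, h12⟩ := Finset.one_lt_card.mp hcard
  have hdiff : ∀ w ∈ W, w ≠ w₁ → ∃ a b : Ψ, a ≠ b ∧ w - w₁ = ev a - ev b := by
    intro w hw hne
    apply norm2_struct (w - w₁) d hd
    · rw [ip_sub_left, ip_sub_right, ip_sub_right, hnorm w hw, hnorm w₁ hw₁,
        hpair w hw w₁ hw₁ hne, ip_comm w₁ w, hpair w hw w₁ hw₁ hne]; ring
    · rw [ip_sub_left, hdeg w hw, hdeg w₁ hw₁]; ring
  have hip : ∀ w ∈ W, ∀ w' ∈ W, w ≠ w₁ → w' ≠ w₁ → w ≠ w' →
      ip (w - w₁) (w' - w₁) = 1 := by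
    intro w hw w' hw' h1 h2 h3
    rw [ip_sub_left, ip_sub_right, ip_sub_right, hpair w hw w' hw' h3, hpair w hw w₁ hw₁ h1,
      hpair w₁ hw₁ w' hw' (Ne.symm h2), hnorm w₁ hw₁]; ring
  have hrec : ∀ (w : Ψ → ℤ) (x : Ψ → ℤ), w - w₁ = x → w = w₁ + x := by
    intro w x h; rw [← h]; abel
  obtain ⟨a, b, hab, h2⟩ := hdiff w₂ hw₂ (Ne.symm h12)
  by_cases hex : ∃ w₃ ∈ W, w₃ ≠ w₁ ∧ w₃ ≠ w₂ ∧ ∃ b₃, b₃ ≠ b ∧ b₃ ≠ a ∧ w₃ - w₁ = ev a - ev b₃
  · obtain ⟨w₃, hw₃, h31, h32, b₃, hb₃, hb₃a, h3⟩ := hex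
    refine ⟨w₁ + ev a, 1, Or.inl rfl, ?_⟩
    intro w hw
    by_cases e1 : w = w₁
    · refine ⟨a, ?_⟩
      rw [e1]; funext ψ
      simp only [Pi.add_apply, Pi.sub_apply, Pi.smul_apply, smul_eq_mul]; ring
    by_cases e2 : w = w₂
    · refine ⟨b, ?_⟩
      rw [e2, hrec w₂ _ h2]; funext ψ
      simp only [Pi.add_apply, Pi.sub_apply, Pi.smul_apply, smul_eq_mul]; ring
    by_cases e3 : w = w₃
    · refine ⟨b₃, ?_⟩
      rw [e3, hrec w₃ _ h3]; funext ψ
      simp only [Pi.add_apply, Pi.sub_apply, Pi.smul_apply, smul_eq_mul]; ring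
    obtain ⟨a', b', hab', h'⟩ := hdiff w hw e1
    have p2 := hip w hw w₂ hw₂ e1 (Ne.symm h12) e2
    have p3 := hip w hw w₃ hw₃ e1 h31 e3
    rw [h', h2] at p2
    rw [h', h3] at p3
    rcases pair_cases a' b' a b hab' hab p2 with ⟨q1, q2⟩ | ⟨q1, q2⟩
    · refine ⟨b', ?_⟩
      rw [hrec w _ h', q1]; funext ψ
      simp only [Pi.add_apply, Pi.sub_apply, Pi.smul_apply, smul_eq_mul]; ring
    · exfalso
      rcases pair_cases a' b' a b₃ hab' (Ne.symm hb₃a) p3 with ⟨r1, r2⟩ | ⟨r1, r2⟩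
      · exact q1 r1
      · exact hb₃ (r2.symm.trans q2)
  · push Not at hex
    refine ⟨w₁ - ev b, -1, Or.inr rfl, ?_⟩
    intro w hw
    by_cases e1 : w = w₁
    · refine ⟨b, ?_⟩
      rw [e1]; funext ψ
      simp only [Pi.add_apply, Pi.sub_apply, Pi.smul_apply, smul_eq_mul]; ring
    by_cases e2 : w = w₂
    · refine ⟨a, ?_⟩
      rw [e2, hrec w₂ _ h2]; funext ψ
      simp only [Pi.add_apply, Pi.sub_apply, Pi.smul_apply, smul_eq_mul]; ring
    obtain ⟨a', b', hab', h'⟩ := hdiff w hw e1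
    have p2 := hip w hw w₂ hw₂ e1 (Ne.symm h12) e2
    rw [h', h2] at p2
    rcases pair_cases a' b' a b hab' hab p2 with ⟨q1, q2⟩ | ⟨q1, q2⟩
    · exfalso
      exact hex w hw e1 e2 b' q2 (by rw [← q1]; exact hab'.symm) (by rw [h', q1])
    · refine ⟨a', ?_⟩
      rw [hrec w _ h', q2]; funext ψ
      simp only [Pi.add_apply, Pi.sub_apply, Pi.smul_apply, smul_eq_mul]; ring

theorem star_general (e : ℕ) (d : Ψ → ℤ) (hd : ∀ ψ, 0 < d ψ) (o : Ψ) (W : Finset (Ψ → ℤ))
    (ho : ∀ w ∈ W, w o = 1)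
    (hnorm : ∀ w ∈ W, ip w w = e + 1) (hpair : ∀ w ∈ W, ∀ w' ∈ W, w ≠ w' → ip w w' = e)
    (hdeg : ∀ w ∈ W, ip w d = 0) (hcard : e + 3 ≤ W.card) :
    ∃ (u : Ψ → ℤ) (ε : ℤ), (ε = 1 ∨ ε = -1) ∧ u o = 1 ∧ ip u u = e ∧
      ∀ w ∈ W, ∃ c, u c = 0 ∧ w = u - ε • ev c := by
  obtain ⟨u, ε, hε, H⟩ := common_vector (e : ℤ) d hd W hnorm hpair hdeg (by omega)
  haveI : Nonempty Ψ := ⟨o⟩
  choose! c hc using H
  have hε2 : ε * ε = 1 := by rcases hε with rfl | rfl <;> norm_num
  have hcinj : ∀ w ∈ W, ∀ w' ∈ W, c w = c w' → w = w' := by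
    intro w hw w' hw' h
    rw [hc w hw, hc w' hw', h]
  have hn : ∀ w ∈ W, ip u u - 2 * (ε * u (c w)) = e := by
    intro w hw
    have h1 : ip (u - ε • ev (c w)) (u - ε • ev (c w)) = e + 1 := by
      rw [← hc w hw]; exact hnorm w hw
    rw [ip_shift, if_pos rfl] at h1
    linarith
  obtain ⟨w₀, hw₀, w₀', hw₀', h00⟩ := Finset.one_lt_card.mp (show 1 < W.card by omega)
  set κ := u (c w₀) with hκdef
  have hκ : ∀ w ∈ W, u (c w) = κ := by
    intro w hw
    have h1 := hn w hw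
    have h2 := hn w₀ hw₀
    have h3 : ε * u (c w) = ε * κ := by linarith
    calc u (c w) = ε * ε * u (c w) := by rw [hε2, one_mul]
      _ = ε * (ε * u (c w)) := by ring
      _ = ε * (ε * κ) := by rw [h3]
      _ = ε * ε * κ := by ring
      _ = κ := by rw [hε2, one_mul]
  have hle : ∑ w ∈ W, u (c w) * u (c w) ≤ ip u u := by
    rw [← Finset.sum_image (f := fun ψ => u ψ * u ψ) (s := W) (g := c)
      (by intro w hw w' hw' h; exact hcinj w (Finset.mem_coe.mp hw) w' (Finset.mem_coe.mp hw') h)]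
    unfold ip
    exact Finset.sum_le_sum_of_subset_of_nonneg (Finset.subset_univ _)
      (fun i _ _ => mul_self_nonneg _)
  have hsumκ : ∑ w ∈ W, u (c w) * u (c w) = (W.card : ℤ) * (κ * κ) := by
    rw [Finset.sum_congr rfl (fun w hw => by rw [hκ w hw])]
    simp [Finset.sum_const, nsmul_eq_mul]
  have hN := hn w₀ hw₀
  rw [← hκdef] at hN
  have hκ0 : κ = 0 := by
    by_contra hne
    have hq : 1 ≤ κ * κ := by
      rcases lt_or_gt_of_ne hne with h | h
      · nlinarith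
      · nlinarith
    have hW : ((e : ℤ) + 3) * (κ * κ) ≤ (W.card : ℤ) * (κ * κ) :=
      mul_le_mul_of_nonneg_right (by exact_mod_cast hcard) (mul_self_nonneg κ)
    have h6 : (e : ℤ) ≤ e * (κ * κ) := le_mul_of_one_le_right (Int.natCast_nonneg e) hq
    have h5 : 2 * (ε * κ) ≤ κ * κ + 1 := by
      rcases hε with rfl | rfl
      · nlinarith [sq_nonneg (κ - 1)]
      · nlinarith [sq_nonneg (κ + 1)]
    rw [hsumκ] at hle
    nlinarith
  have huc : ∀ w ∈ W, u (c w) = 0 := fun w hw => by rw [hκ w hw, hκ0]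
  have hnu : ip u u = e := by rw [hκ0] at hN; linarith
  have hval : ∀ w ∈ W, c w ≠ o → u o = 1 := by
    intro w hw hne
    have h1 := congrFun (hc w hw) o
    simp only [Pi.sub_apply, Pi.smul_apply, smul_eq_mul, ev_apply] at h1
    rw [if_neg (Ne.symm hne), ho w hw] at h1
    linarith
  have huo : u o = 1 := by
    by_cases h1 : c w₀ = o
    · have h2 : c w₀' ≠ o := by
        intro h; exact h00 (hcinj w₀ hw₀ w₀' hw₀' (h1.trans h.symm))
      exact hval w₀' hw₀' h2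
    · exact hval w₀ hw₀ h1
  exact ⟨u, ε, hε, huo, hnu, fun w hw => ⟨c w, huc w hw, hc w hw⟩⟩


/-- Sharper version of `star_general`: at least `e + 1` and at least `3` vectors suffice, when
the positive vector `d` has coordinate `1` at `o`. -/
theorem star_general' (e : ℕ) (d : Ψ → ℤ) (hd : ∀ ψ, 0 < d ψ) (o : Ψ) (hdo : d o = 1)
    (W : Finset (Ψ → ℤ)) (ho : ∀ w ∈ W, w o = 1)
    (hnorm : ∀ w ∈ W, ip w w = e + 1) (hpair : ∀ w ∈ W, ∀ w' ∈ W, w ≠ w' → ip w w' = e)
    (hdeg : ∀ w ∈ W, ip w d = 0) (hcard : e + 1 ≤ W.card) (hcard3 : 3 ≤ W.card) :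
    ∃ (u : Ψ → ℤ) (ε : ℤ), (ε = 1 ∨ ε = -1) ∧ u o = 1 ∧ ip u u = e ∧
      ∀ w ∈ W, ∃ c, u c = 0 ∧ w = u - ε • ev c := by
  obtain ⟨u, ε, hε, H⟩ := common_vector (e : ℤ) d hd W hnorm hpair hdeg (by omega)
  haveI : Nonempty Ψ := ⟨o⟩
  choose! c hc using H
  have hε2 : ε * ε = 1 := by rcases hε with rfl | rfl <;> norm_num
  have hε0 : ε ≠ 0 := by rcases hε with rfl | rfl <;> norm_num
  have hcinj : ∀ w ∈ W, ∀ w' ∈ W, c w = c w' → w = w' := by
    intro w hw w' hw' h
    rw [hc w hw, hc w' hw', h]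
  have hn : ∀ w ∈ W, ip u u - 2 * (ε * u (c w)) = e := by
    intro w hw
    have h1 : ip (u - ε • ev (c w)) (u - ε • ev (c w)) = e + 1 := by
      rw [← hc w hw]; exact hnorm w hw
    rw [ip_shift, if_pos rfl] at h1
    linarith
  obtain ⟨w₀, hw₀, w₀', hw₀', h00⟩ := Finset.one_lt_card.mp (show 1 < W.card by omega)
  -- the coordinate `o`
  have hval : ∀ w ∈ W, u o = 1 + ε * (if o = c w then 1 else 0) := by
    intro w hw
    have h1 := congrFun (hc w hw) o
    simp only [Pi.sub_apply, Pi.smul_apply, smul_eq_mul, ev_apply] at h1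
    rw [ho w hw] at h1
    linarith
  have huo : u o = 1 := by
    by_cases h1 : c w₀ = o
    · have h2 : c w₀' ≠ o := by
        intro h; exact h00 (hcinj w₀ hw₀ w₀' hw₀' (h1.trans h.symm))
      have := hval w₀' hw₀'
      rw [if_neg (Ne.symm h2)] at this
      linarith
    · have := hval w₀ hw₀
      rw [if_neg (Ne.symm h1)] at this
      linarith
  have hco : ∀ w ∈ W, c w ≠ o := by
    intro w hw h
    have := hval w hw
    rw [if_pos h.symm, huo] at this
    apply hε0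
    linarith
  set κ := u (c w₀) with hκdef
  have hκ : ∀ w ∈ W, u (c w) = κ := by
    intro w hw
    have h1 := hn w hw
    have h2 := hn w₀ hw₀
    have h3 : ε * u (c w) = ε * κ := by linarith
    calc u (c w) = ε * ε * u (c w) := by rw [hε2, one_mul]
      _ = ε * (ε * u (c w)) := by ring
      _ = ε * (ε * κ) := by rw [h3]
      _ = ε * ε * κ := by ring
      _ = κ := by rw [hε2, one_mul]
  -- the support set
  set T := insert o (W.image c) with hT
  have hoT : o ∉ W.image c := by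
    intro h
    obtain ⟨w, hw, h2⟩ := Finset.mem_image.mp h
    exact hco w hw h2
  have hsumT : ∀ f : Ψ → ℤ, ∑ ψ ∈ T, f ψ = f o + ∑ w ∈ W, f (c w) := by
    intro f
    rw [hT, Finset.sum_insert hoT, Finset.sum_image
      (by intro w hw w' hw' h; exact hcinj w (Finset.mem_coe.mp hw) w' (Finset.mem_coe.mp hw') h)]
  have hsplit : ∀ f : Ψ → ℤ, ∑ ψ, f ψ = (f o + ∑ w ∈ W, f (c w)) +
      ∑ ψ ∈ Finset.univ \ T, f ψ := by
    intro f
    rw [← hsumT f, add_comm, Finset.sum_sdiff (Finset.subset_univ T)]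
  have hsumκ : ∑ w ∈ W, u (c w) * u (c w) = (W.card : ℤ) * (κ * κ) := by
    rw [Finset.sum_congr rfl (fun w hw => by rw [hκ w hw])]
    simp [Finset.sum_const, nsmul_eq_mul]
  have hrest_nonneg : 0 ≤ ∑ ψ ∈ Finset.univ \ T, u ψ * u ψ :=
    Finset.sum_nonneg (fun i _ => mul_self_nonneg _)
  have hnormu : ip u u = 1 + (W.card : ℤ) * (κ * κ) + ∑ ψ ∈ Finset.univ \ T, u ψ * u ψ := by
    unfold ip
    rw [hsplit (fun ψ => u ψ * u ψ), huo, hsumκ]
    ring
  have hN := hn w₀ hw₀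
  rw [← hκdef] at hN
  have hκ0 : κ = 0 := by
    by_contra hne
    have hq : 1 ≤ κ * κ := by
      rcases lt_or_gt_of_ne hne with h | h
      · nlinarith
      · nlinarith
    have hW : ((e : ℤ) + 1) * (κ * κ) ≤ (W.card : ℤ) * (κ * κ) :=
      mul_le_mul_of_nonneg_right (by exact_mod_cast hcard) (mul_self_nonneg κ)
    have h6 : (e : ℤ) ≤ e * (κ * κ) := le_mul_of_one_le_right (Int.natCast_nonneg e) hq
    have h5 : 2 * (ε * κ) ≤ κ * κ + 1 := by
      rcases hε with rfl | rfl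
      · nlinarith [sq_nonneg (κ - 1)]
      · nlinarith [sq_nonneg (κ + 1)]
    -- equality must hold everywhere
    have hWeq : (W.card : ℤ) * (κ * κ) = ((e : ℤ) + 1) * (κ * κ) := by nlinarith
    have hκκ : κ * κ = 1 := by nlinarith
    have hεκ : ε * κ = 1 := by nlinarith
    have hrest0 : ∑ ψ ∈ Finset.univ \ T, u ψ * u ψ = 0 := by nlinarith
    have hWcard : (W.card : ℤ) = e + 1 := by
      rw [hκκ, mul_one, mul_one] at hWeq; exact hWeq
    have hκε : κ = ε := by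
      calc κ = ε * ε * κ := by rw [hε2, one_mul]
        _ = ε * (ε * κ) := by ring
        _ = ε := by rw [hεκ, mul_one]
    have hz : ∀ ψ ∈ Finset.univ \ T, u ψ = 0 := by
      intro ψ hψ
      have := (Finset.sum_eq_zero_iff_of_nonneg (fun i _ => mul_self_nonneg (u i))).mp hrest0 ψ hψ
      exact mul_self_eq_zero.mp this
    -- the degree of `u`
    have hud : ip u d = 1 + ε * ∑ w ∈ W, d (c w) := by
      unfold ip
      have hr0 : ∑ ψ ∈ Finset.univ \ T, u ψ * d ψ = 0 :=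
        Finset.sum_eq_zero (fun ψ hψ => by rw [hz ψ hψ, zero_mul])
      have hr1 : ∑ w ∈ W, u (c w) * d (c w) = ε * ∑ w ∈ W, d (c w) := by
        rw [Finset.mul_sum]
        apply Finset.sum_congr rfl
        intro w hw
        rw [hκ w hw, hκε]
      rw [hsplit (fun ψ => u ψ * d ψ), huo, hdo, hr0, hr1]
      ring
    have hwd : ∀ w ∈ W, 1 + ε * ∑ w' ∈ W, d (c w') - ε * d (c w) = 0 := by
      intro w hw
      have h1 := hdeg w hw
      have h2 : ip (u - ε • ev (c w)) d = 0 := by rw [← hc w hw]; exact h1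
      rw [ip_sub_left, ip_smul_left, ip_ev_left, hud] at h2
      exact h2
    -- pick three vectors
    obtain ⟨w₁, hw₁, w₂, hw₂, w₃, hw₃, h12, h13, h23⟩ := Finset.two_lt_card.mp
      (show 2 < W.card by omega)
    have hsum3 : d (c w₁) + d (c w₂) + d (c w₃) ≤ ∑ w' ∈ W, d (c w') := by
      have hsub : ({w₁, w₂, w₃} : Finset (Ψ → ℤ)) ⊆ W := by
        intro x hx
        simp only [Finset.mem_insert, Finset.mem_singleton] at hx
        rcases hx with rfl | rfl | rfl <;> assumption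
      have := Finset.sum_le_sum_of_subset_of_nonneg (f := fun w' => d (c w')) hsub
        (fun i _ _ => (hd _).le)
      rw [Finset.sum_insert (by simp [h12, h13]), Finset.sum_insert (by simp [h23]),
        Finset.sum_singleton] at this
      linarith
    have e1 := hwd w₁ hw₁
    have p1 := hd (c w₁)
    have p2 := hd (c w₂)
    have p3 := hd (c w₃)
    rcases hε with rfl | rfl
    · linarith
    · linarith
  have huc : ∀ w ∈ W, u (c w) = 0 := fun w hw => by rw [hκ w hw, hκ0]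
  have hnu : ip u u = e := by rw [hκ0] at hN; linarith
  exact ⟨u, ε, hε, huo, hnu, fun w hw => ⟨c w, huc w hw, hc w hw⟩⟩

end Cfsg.Agent.Lib.Helper69.StarG
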