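import Mathlib

/-!
# Combinatorics of integer vectors with prescribed Gram matrix (coherence for exceptional characters)

`star2`: a family of integer vectors `v i : Ψ → ℤ` with `v i o = 1`, `‖v i‖² = 3`, pairwise equal or
with inner product `2`, containing four distinct vectors, has a common coordinate `A ≠ o` on which
all the vectors take the same value `±1`.
-/

set_option autoImplicit false

namespace Cfsg.Agent.Lib.Helper69.Star

variable {Ψ : Type*} [Fintype Ψ] [DecidableEq Ψ]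

theorem entry_bound (f : Ψ → ℤ) (n : ℤ) (h1 : ∑ ψ, f ψ * f ψ = n) (ψ : Ψ) : f ψ * f ψ ≤ n := by
  rw [← h1]
  exact Finset.single_le_sum (f := fun ψ => f ψ * f ψ) (fun i _ => mul_self_nonneg (f i))
    (Finset.mem_univ ψ)

theorem entry_cases (f : Ψ → ℤ) (h1 : ∑ ψ, f ψ * f ψ ≤ 3) (ψ : Ψ) :
    f ψ = -1 ∨ f ψ = 0 ∨ f ψ = 1 := by
  have h := entry_bound f _ rfl ψ
  have h2 : f ψ * f ψ ≤ 3 := h.trans h1
  have h3 : -1 ≤ f ψ := by nlinarith
  have h4 : f ψ ≤ 1 := by nlinarith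
  omega

/-- splitting a sum over three distinguished points and the rest -/
theorem sum_split3 (o a b : Ψ) (hao : a ≠ o) (hbo : b ≠ o) (hab : a ≠ b) (g : Ψ → ℤ) :
    ∑ ψ, g ψ = g o + g a + g b +
      ∑ ψ ∈ Finset.univ.filter (fun ψ => ψ ≠ o ∧ ψ ≠ a ∧ ψ ≠ b), g ψ := by
  have h1 : (Finset.univ : Finset Ψ) =
      insert o (insert a (insert b (Finset.univ.filter (fun ψ => ψ ≠ o ∧ ψ ≠ a ∧ ψ ≠ b)))) := by
    ext ψ
    simp only [Finset.mem_univ, Finset.mem_insert, Finset.mem_filter, true_and, true_iff]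
    by_cases h1 : ψ = o
    · exact Or.inl h1
    by_cases h2 : ψ = a
    · exact Or.inr (Or.inl h2)
    by_cases h3 : ψ = b
    · exact Or.inr (Or.inr (Or.inl h3))
    exact Or.inr (Or.inr (Or.inr ⟨h1, h2, h3⟩))
  conv_lhs => rw [h1]
  rw [Finset.sum_insert, Finset.sum_insert, Finset.sum_insert]
  · ring
  · simp
  · simp [hab]
  · simp [hao.symm, hbo.symm]

/-- structure of a vector of norm `3` with value `1` at `o` -/
theorem struct3 (o : Ψ) (f : Ψ → ℤ) (h0 : f o = 1) (h1 : ∑ ψ, f ψ * f ψ = 3) :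
    ∃ a b : Ψ, a ≠ o ∧ b ≠ o ∧ a ≠ b ∧ (f a = 1 ∨ f a = -1) ∧ (f b = 1 ∨ f b = -1) ∧
      ∀ ψ, ψ ≠ o → ψ ≠ a → ψ ≠ b → f ψ = 0 := by
  have hc := entry_cases f (le_of_eq h1)
  set T := Finset.univ.filter (fun ψ => ψ ≠ o ∧ f ψ ≠ 0) with hT
  have hsum : ∑ ψ, f ψ * f ψ = 1 + (T.card : ℤ) := by
    have h2 : ∀ ψ, f ψ * f ψ = (if ψ = o then 1 else 0) + (if ψ ≠ o ∧ f ψ ≠ 0 then 1 else 0) := by
      intro ψ
      by_cases h : ψ = o
      · subst h; simp [h0]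
      · rcases hc ψ with h3 | h3 | h3 <;> simp [h, h3]
    simp_rw [h2]
    rw [Finset.sum_add_distrib, Finset.sum_ite_eq' Finset.univ o]
    simp only [Finset.mem_univ, if_true]
    rw [Finset.sum_boole]
  have hcard : T.card = 2 := by
    have : (T.card : ℤ) = 2 := by linarith
    exact_mod_cast this
  obtain ⟨a, b, hab, hTab⟩ := Finset.card_eq_two.mp hcard
  have ha : a ∈ T := by rw [hTab]; simp
  have hb : b ∈ T := by rw [hTab]; simp
  rw [hT, Finset.mem_filter] at ha hb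
  refine ⟨a, b, ha.2.1, hb.2.1, hab, ?_, ?_, ?_⟩
  · rcases hc a with h | h | h
    · exact Or.inr h
    · exact absurd h ha.2.2
    · exact Or.inl h
  · rcases hc b with h | h | h
    · exact Or.inr h
    · exact absurd h hb.2.2
    · exact Or.inl h
  · intro ψ h1 h2 h3
    by_contra h4
    have : ψ ∈ T := by rw [hT, Finset.mem_filter]; exact ⟨Finset.mem_univ _, h1, h4⟩
    rw [hTab] at this
    simp at this
    rcases this with h | h
    · exact h2 h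
    · exact h3 h

theorem int_type (s t x y : ℤ) (hs : s = 1 ∨ s = -1) (ht : t = 1 ∨ t = -1)
    (hx : x = -1 ∨ x = 0 ∨ x = 1) (hy : y = -1 ∨ y = 0 ∨ y = 1) (h : s * x + t * y = 1) :
    (x = s ∧ y = 0) ∨ (x = 0 ∧ y = t) := by
  rcases hs with rfl | rfl <;> rcases ht with rfl | rfl <;> rcases hx with rfl | rfl | rfl <;>
    rcases hy with rfl | rfl | rfl <;> omega

theorem int_rest (s t x y r : ℤ) (hs : s = 1 ∨ s = -1) (ht : t = 1 ∨ t = -1)
    (hxy : (x = s ∧ y = 0) ∨ (x = 0 ∧ y = t)) (h : 1 + x * x + y * y + r = 3) : r = 1 := by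
  rcases hs with rfl | rfl <;> rcases ht with rfl | rfl <;> rcases hxy with ⟨rfl, rfl⟩ | ⟨rfl, rfl⟩ <;>
    omega

section Two

variable (o : Ψ) {I : Type*} (v : I → Ψ → ℤ)

/-- the inner product of two vectors, split along `o, a, b` -/
theorem gram_split (h0 : ∀ i, v i o = 1) (a b : Ψ) (hao : a ≠ o) (hbo : b ≠ o) (hab : a ≠ b)
    (j k : I) :
    ∑ ψ, v j ψ * v k ψ = 1 + v j a * v k a + v j b * v k b +
      ∑ ψ ∈ Finset.univ.filter (fun ψ => ψ ≠ o ∧ ψ ≠ a ∧ ψ ≠ b), v j ψ * v k ψ := by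
  rw [sum_split3 o a b hao hbo hab (fun ψ => v j ψ * v k ψ)]
  simp only [h0, mul_one]

theorem type_cases (h0 : ∀ i, v i o = 1) (h1 : ∀ i, ∑ ψ, v i ψ * v i ψ = 3)
    (h2 : ∀ i j, v i = v j ∨ ∑ ψ, v i ψ * v j ψ = 2) (i1 : I) (a b : Ψ) (hao : a ≠ o)
    (hbo : b ≠ o) (hab : a ≠ b) (ha : v i1 a = 1 ∨ v i1 a = -1) (hb : v i1 b = 1 ∨ v i1 b = -1)
    (hz : ∀ ψ, ψ ≠ o → ψ ≠ a → ψ ≠ b → v i1 ψ = 0) (j : I) (hj : v i1 ≠ v j) :
    (v j a = v i1 a ∧ v j b = 0) ∨ (v j a = 0 ∧ v j b = v i1 b) := by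
  have hc : ∀ j ψ, v j ψ = -1 ∨ v j ψ = 0 ∨ v j ψ = 1 := fun j ψ =>
    entry_cases (v j) (le_of_eq (h1 j)) ψ
  rcases h2 i1 j with h | h
  · exact absurd h hj
  · rw [gram_split o v h0 a b hao hbo hab i1 j] at h
    have hr : ∑ ψ ∈ Finset.univ.filter (fun ψ => ψ ≠ o ∧ ψ ≠ a ∧ ψ ≠ b), v i1 ψ * v j ψ = 0 := by
      apply Finset.sum_eq_zero
      intro ψ hψ
      rw [Finset.mem_filter] at hψ
      rw [hz ψ hψ.2.1 hψ.2.2.1 hψ.2.2.2, zero_mul]
    rw [hr] at h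
    exact int_type (v i1 a) (v i1 b) (v j a) (v j b) ha hb (hc j a) (hc j b) (by linarith)

theorem star_aux (h0 : ∀ i, v i o = 1) (h1 : ∀ i, ∑ ψ, v i ψ * v i ψ = 3)
    (h2 : ∀ i j, v i = v j ∨ ∑ ψ, v i ψ * v j ψ = 2) (i1 i2 i3 i4 : I) (a b : Ψ) (hao : a ≠ o)
    (hbo : b ≠ o) (hab : a ≠ b) (ha : v i1 a = 1 ∨ v i1 a = -1) (hb : v i1 b = 1 ∨ v i1 b = -1)
    (hz : ∀ ψ, ψ ≠ o → ψ ≠ a → ψ ≠ b → v i1 ψ = 0)
    (h13 : v i1 ≠ v i3) (h14 : v i1 ≠ v i4) (h23 : v i2 ≠ v i3)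
    (h24 : v i2 ≠ v i4) (h34 : v i3 ≠ v i4) (hT2 : v i2 a = v i1 a ∧ v i2 b = 0) :
    ∀ i, v i a = v i1 a := by
  set W := Finset.univ.filter (fun ψ => ψ ≠ o ∧ ψ ≠ a ∧ ψ ≠ b) with hW
  have hc : ∀ j ψ, v j ψ = -1 ∨ v j ψ = 0 ∨ v j ψ = 1 := fun j ψ =>
    entry_cases (v j) (le_of_eq (h1 j)) ψ
  have hsplit := gram_split o v h0 a b hao hbo hab
  have L1 := type_cases o v h0 h1 h2 i1 a b hao hbo hab ha hb hz
  -- the rest has norm one
  have L2 : ∀ j, ((v j a = v i1 a ∧ v j b = 0) ∨ (v j a = 0 ∧ v j b = v i1 b)) →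
      ∑ ψ ∈ W, v j ψ * v j ψ = 1 := by
    intro j hj
    have := h1 j
    rw [hsplit j j] at this
    exact int_rest (v i1 a) (v i1 b) (v j a) (v j b) _ ha hb hj this
  -- vectors of different types agree on `W`
  have L3 : ∀ j k, (v j a = v i1 a ∧ v j b = 0) → (v k a = 0 ∧ v k b = v i1 b) →
      ∀ ψ ∈ W, v j ψ = v k ψ := by
    intro j k hj hk
    have hne : v j ≠ v k := by
      intro h
      have := congrFun h a
      rw [hj.1, hk.1] at this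
      rcases ha with h' | h' <;> omega
    have hjk : ∑ ψ ∈ W, v j ψ * v k ψ = 1 := by
      rcases h2 j k with h | h
      · exact absurd h hne
      · rw [hsplit j k, hj.1, hj.2, hk.1, hk.2] at h
        linarith
    have hjj := L2 j (Or.inl hj)
    have hkk := L2 k (Or.inr hk)
    have hsq : ∑ ψ ∈ W, (v j ψ - v k ψ) * (v j ψ - v k ψ) = 0 := by
      have : ∑ ψ ∈ W, (v j ψ - v k ψ) * (v j ψ - v k ψ) =
          ∑ ψ ∈ W, v j ψ * v j ψ - 2 * ∑ ψ ∈ W, v j ψ * v k ψ + ∑ ψ ∈ W, v k ψ * v k ψ := by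
        rw [Finset.mul_sum, ← Finset.sum_sub_distrib, ← Finset.sum_add_distrib]
        apply Finset.sum_congr rfl
        intro ψ _
        ring
      rw [this, hjj, hjk, hkk]; norm_num
    intro ψ hψ
    have := (Finset.sum_eq_zero_iff_of_nonneg (fun i _ => mul_self_nonneg _)).mp hsq ψ hψ
    have h3 : v j ψ - v k ψ = 0 := mul_self_eq_zero.mp this
    linarith
  -- vectors of the same type agreeing on `W` are equal
  have L4a : ∀ j k, (v j a = v i1 a ∧ v j b = 0) → (v k a = v i1 a ∧ v k b = 0) →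
      (∀ ψ ∈ W, v j ψ = v k ψ) → v j = v k := by
    intro j k hj hk h
    funext ψ
    by_cases h1' : ψ = o
    · rw [h1', h0, h0]
    by_cases h2' : ψ = a
    · rw [h2', hj.1, hk.1]
    by_cases h3' : ψ = b
    · rw [h3', hj.2, hk.2]
    exact h ψ (by rw [hW, Finset.mem_filter]; exact ⟨Finset.mem_univ _, h1', h2', h3'⟩)
  have L4b : ∀ j k, (v j a = 0 ∧ v j b = v i1 b) → (v k a = 0 ∧ v k b = v i1 b) →
      (∀ ψ ∈ W, v j ψ = v k ψ) → v j = v k := by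
    intro j k hj hk h
    funext ψ
    by_cases h1' : ψ = o
    · rw [h1', h0, h0]
    by_cases h2' : ψ = a
    · rw [h2', hj.1, hk.1]
    by_cases h3' : ψ = b
    · rw [h3', hj.2, hk.2]
    exact h ψ (by rw [hW, Finset.mem_filter]; exact ⟨Finset.mem_univ _, h1', h2', h3'⟩)
  -- `i3` has type `a`
  have hT3 : v i3 a = v i1 a ∧ v i3 b = 0 := by
    rcases L1 i3 h13 with h | h
    · exact h
    · exfalso
      have e23 := L3 i2 i3 hT2 h
      rcases L1 i4 h14 with h4 | h4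
      · have e43 := L3 i4 i3 h4 h
        apply h24
        apply L4a i2 i4 hT2 h4
        intro ψ hψ
        rw [e23 ψ hψ, e43 ψ hψ]
      · have e24 := L3 i2 i4 hT2 h4
        apply h34
        apply L4b i3 i4 h h4
        intro ψ hψ
        rw [← e23 ψ hψ, e24 ψ hψ]
  intro i
  by_cases hi : v i1 = v i
  · rw [← hi]
  · rcases L1 i hi with h | h
    · exact h.1
    · exfalso
      have e2 := L3 i2 i hT2 h
      have e3 := L3 i3 i hT3 h
      apply h23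
      apply L4a i2 i3 hT2 hT3
      intro ψ hψ
      rw [e2 ψ hψ, e3 ψ hψ]

/-- **Coherence for `e = 2`.** -/
theorem star2 (h0 : ∀ i, v i o = 1) (h1 : ∀ i, ∑ ψ, v i ψ * v i ψ = 3)
    (h2 : ∀ i j, v i = v j ∨ ∑ ψ, v i ψ * v j ψ = 2) (i1 i2 i3 i4 : I)
    (h12 : v i1 ≠ v i2) (h13 : v i1 ≠ v i3) (h14 : v i1 ≠ v i4) (h23 : v i2 ≠ v i3)
    (h24 : v i2 ≠ v i4) (h34 : v i3 ≠ v i4) :
    ∃ A X : Ψ, A ≠ o ∧ X ≠ o ∧ A ≠ X ∧ (v i1 A = 1 ∨ v i1 A = -1) ∧ (v i1 X = 1 ∨ v i1 X = -1) ∧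
      (∀ ψ, ψ ≠ o → ψ ≠ A → ψ ≠ X → v i1 ψ = 0) ∧ ∀ i, v i A = v i1 A := by
  obtain ⟨a, b, hao, hbo, hab, ha, hb, hz⟩ := struct3 o (v i1) (h0 i1) (h1 i1)
  rcases type_cases o v h0 h1 h2 i1 a b hao hbo hab ha hb hz i2 h12 with hT | hT
  · exact ⟨a, b, hao, hbo, hab, ha, hb, hz,
      star_aux o v h0 h1 h2 i1 i2 i3 i4 a b hao hbo hab ha hb hz h13 h14 h23 h24 h34 hT⟩
  · refine ⟨b, a, hbo, hao, hab.symm, hb, ha, fun ψ h1' h2' h3' => hz ψ h1' h3' h2', ?_⟩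
    exact star_aux o v h0 h1 h2 i1 i2 i3 i4 b a hbo hao hab.symm hb ha
      (fun ψ h1' h2' h3' => hz ψ h1' h3' h2') h13 h14 h23 h24 h34 ⟨hT.2, hT.1⟩

end Two

end Cfsg.Agent.Lib.Helper69.Star
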