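import Mathlib
import Cfsg.Agent.Lib.Helper69.BSWChar4
import Cfsg.Agent.Lib.Helper69.StarGeneral
import Cfsg.Agent.Lib.Helper69.StarLemma
import Cfsg.Agent.Lib.Helper69.DihedralClass

/-!
# BSW configuration: Gram values for the difference vectors
-/

set_option autoImplicit false
set_option linter.unusedSectionVars false

namespace Cfsg.Agent.Lib.Helper69.BSW

open Cfsg
open scoped ComplexConjugate
open Cfsg.Agent.Lib.Helper25
open Cfsg.Agent.Lib.Helper69.StarG

universe u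

variable {G : Type u} [Group G] [Fintype G]

variable (c : Cfg G) [Fintype c.K] [Fintype (IrrCharacter c.K)] [Fintype (IrrCharacter G)]

theorem cbar_inj {a b : IrrCharacter c.K} (h : cbar c a = cbar c b) : a = b := by
  rw [← cbar_cbar c a, h, cbar_cbar]

theorem cbar_ne_of_nonreal {a : IrrCharacter c.K} (h : cbar c a ≠ a) : cbar c (cbar c a) ≠ cbar c a := by
  rw [cbar_cbar]; exact fun h' => h h'.symm

theorem Efun_real_nonreal {a b : IrrCharacter c.K} (ha : cbar c a = a) (hb : cbar c b ≠ b) :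
    Efun c a b = 0 := by
  apply Efun_of_ne
  · intro h; rw [h] at ha; exact hb ha
  · intro h
    apply hb
    have : cbar c (cbar c b) = cbar c b := by rw [← h]; exact ha
    rw [cbar_cbar] at this
    exact this.symm

theorem Efun_nonreal_real {a b : IrrCharacter c.K} (ha : cbar c a ≠ a) (hb : cbar c b = b) :
    Efun c a b = 0 := by
  apply Efun_of_ne
  · intro h; rw [← h] at hb; exact ha hb
  · intro h; rw [hb] at h; rw [← h] at hb; exact ha hb

theorem Efun_real_real {a b : IrrCharacter c.K} (hb : cbar c b = b) (hab : a ≠ b) :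
    Efun c a b = 0 := by
  apply Efun_of_ne c a b hab
  rw [hb]; exact hab

theorem Efun_real_self {a : IrrCharacter c.K} (ha : cbar c a = a) : Efun c a a = 2 :=
  Efun_self_of_eq c a ha.symm

theorem Efun_nonreal_self {a : IrrCharacter c.K} (ha : cbar c a ≠ a) : Efun c a a = 1 :=
  Efun_self_of_ne c a (fun h => ha h.symm)

theorem Efun_nonreal_ne {a b : IrrCharacter c.K} (h1 : a ≠ b) (h2 : a ≠ cbar c b) :
    Efun c a b = 0 := Efun_of_ne c a b h1 h2

/-- the hypotheses on the characters `λ₀`, `λ₁` of `K` -/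
structure Lam (lam0 lam1 : IrrCharacter c.K) : Prop where
  r0 : cbar c lam0 = lam0
  ne0 : lam0 ≠ oneK c
  nr1 : cbar c lam1 ≠ lam1
  real : ∀ μ : IrrCharacter c.K, cbar c μ = μ → μ = oneK c ∨ μ = lam0

/-- `μ` is a nonreal character not conjugate to `λ₁` -/
def Other (lam1 μ : IrrCharacter c.K) : Prop := cbar c μ ≠ μ ∧ μ ≠ lam1 ∧ μ ≠ cbar c lam1

variable {c}
variable {lam0 lam1 : IrrCharacter c.K}

theorem Lam.lam1_ne_one (L : Lam c lam0 lam1) : lam1 ≠ oneK c :=
  fun h => L.nr1 (by rw [h]; exact cbar_oneK c)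

theorem Lam.lam1_ne_lam0 (L : Lam c lam0 lam1) : lam1 ≠ lam0 :=
  fun h => L.nr1 (by rw [h]; exact L.r0)

theorem Other.ne_one {μ : IrrCharacter c.K} (h : Other c lam1 μ) : μ ≠ oneK c :=
  fun h' => h.1 (by rw [h']; exact cbar_oneK c)

theorem Lam.other_ne_lam0 (L : Lam c lam0 lam1) {μ : IrrCharacter c.K} (h : Other c lam1 μ) :
    μ ≠ lam0 := fun h' => h.1 (by rw [h']; exact L.r0)

theorem Other.lam1_ne_cbar {μ : IrrCharacter c.K} (h : Other c lam1 μ) : lam1 ≠ cbar c μ := by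
  intro h'
  apply h.2.2
  rw [h', cbar_cbar]

/-- classification of the characters of `K` -/
theorem Lam.cases (L : Lam c lam0 lam1) (μ : IrrCharacter c.K) :
    μ = oneK c ∨ μ = lam0 ∨ μ = lam1 ∨ μ = cbar c lam1 ∨ Other c lam1 μ := by
  by_cases h : cbar c μ = μ
  · rcases L.real μ h with h1 | h1
    · exact Or.inl h1
    · exact Or.inr (Or.inl h1)
  · by_cases h1 : μ = lam1
    · exact Or.inr (Or.inr (Or.inl h1))
    · by_cases h2 : μ = cbar c lam1
      · exact Or.inr (Or.inr (Or.inr (Or.inl h2)))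
      · exact Or.inr (Or.inr (Or.inr (Or.inr ⟨h, h1, h2⟩)))

theorem gram_u1_u1 (L : Lam c lam0 lam1) :
    ip (V c (oneK c) lam1) (V c (oneK c) lam1) = 3 := by
  unfold ip
  rw [gram, Efun_real_self c (cbar_oneK c), Efun_real_nonreal c (cbar_oneK c) L.nr1,
    Efun_nonreal_real c L.nr1 (cbar_oneK c), Efun_nonreal_self c L.nr1]
  norm_num

theorem gram_u0_u0 (L : Lam c lam0 lam1) :
    ip (V c lam0 lam1) (V c lam0 lam1) = 3 := by
  unfold ip
  rw [gram, Efun_real_self c L.r0, Efun_real_nonreal c L.r0 L.nr1,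
    Efun_nonreal_real c L.nr1 L.r0, Efun_nonreal_self c L.nr1]
  norm_num

theorem gram_u0_u1 (L : Lam c lam0 lam1) :
    ip (V c lam0 lam1) (V c (oneK c) lam1) = 1 := by
  unfold ip
  rw [gram, Efun_real_real c (cbar_oneK c) L.ne0, Efun_real_nonreal c L.r0 L.nr1,
    Efun_nonreal_real c L.nr1 (cbar_oneK c), Efun_nonreal_self c L.nr1]
  norm_num

theorem gram_v_v (L : Lam c lam0 lam1) {μ : IrrCharacter c.K} (h : Other c lam1 μ) :
    ip (V c μ lam1) (V c μ lam1) = 2 := by
  unfold ip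
  rw [gram, Efun_nonreal_self c h.1, Efun_nonreal_ne c h.2.1 h.2.2,
    Efun_nonreal_ne c (Ne.symm h.2.1) h.lam1_ne_cbar, Efun_nonreal_self c L.nr1]
  norm_num

theorem gram_v_u1 (L : Lam c lam0 lam1) {μ : IrrCharacter c.K} (h : Other c lam1 μ) :
    ip (V c μ lam1) (V c (oneK c) lam1) = 1 := by
  unfold ip
  rw [gram, Efun_nonreal_real c h.1 (cbar_oneK c), Efun_nonreal_ne c h.2.1 h.2.2,
    Efun_nonreal_real c L.nr1 (cbar_oneK c), Efun_nonreal_self c L.nr1]
  norm_num

theorem gram_v_u0 (L : Lam c lam0 lam1) {μ : IrrCharacter c.K} (h : Other c lam1 μ) :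
    ip (V c μ lam1) (V c lam0 lam1) = 1 := by
  unfold ip
  rw [gram, Efun_nonreal_real c h.1 L.r0, Efun_nonreal_ne c h.2.1 h.2.2,
    Efun_nonreal_real c L.nr1 L.r0, Efun_nonreal_self c L.nr1]
  norm_num

theorem gram_v_v' (L : Lam c lam0 lam1) {μ μ' : IrrCharacter c.K} (h : Other c lam1 μ)
    (h' : Other c lam1 μ') (hne : μ ≠ μ') (hne' : μ ≠ cbar c μ') :
    ip (V c μ lam1) (V c μ' lam1) = 1 := by
  unfold ip
  rw [gram, Efun_nonreal_ne c hne hne', Efun_nonreal_ne c h.2.1 h.2.2,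
    Efun_nonreal_ne c (Ne.symm h'.2.1) h'.lam1_ne_cbar, Efun_nonreal_self c L.nr1]
  norm_num

/-- `M_{μ̄} = M_μ` -/
theorem mult_cbar {μ : IrrCharacter c.K} (h : cbar c μ ≠ μ) (χ : IrrCharacter G) :
    mult c χ (cbar c μ) = mult c χ μ := by
  have h1 : ip (V c (cbar c μ) μ) (V c (cbar c μ) μ) = 0 := by
    unfold ip
    rw [gram, Efun_nonreal_self c (cbar_ne_of_nonreal c h), Efun_nonreal_self c h,
      Efun_cbar_of_ne c μ (fun h' => h h'.symm)]
    have : Efun c (cbar c μ) μ = 1 := by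
      have := Efun_cbar_of_ne c (cbar c μ) (fun h' => cbar_ne_of_nonreal c h h'.symm)
      rwa [cbar_cbar] at this
    rw [this]
    norm_num
  unfold ip at h1
  have h2 := (Finset.sum_eq_zero_iff_of_nonneg
    (fun i _ => mul_self_nonneg (V c (cbar c μ) μ i))).mp h1 χ (Finset.mem_univ χ)
  have h3 : V c (cbar c μ) μ χ = 0 := mul_self_eq_zero.mp h2
  unfold V at h3
  linarith

theorem V_cbar_lam1 (L : Lam c lam0 lam1) (χ : IrrCharacter G) : V c (cbar c lam1) lam1 χ = 0 := by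
  unfold V
  rw [mult_cbar L.nr1]
  ring

theorem V_self (a : IrrCharacter c.K) (χ : IrrCharacter G) : V c a a χ = 0 := by
  unfold V; ring

theorem V_cbar_other {μ : IrrCharacter c.K} (h : cbar c μ ≠ μ) (χ : IrrCharacter G) :
    V c (cbar c μ) lam1 χ = V c μ lam1 χ := by
  unfold V
  rw [mult_cbar h]

end Cfsg.Agent.Lib.Helper69.BSW
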