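import Mathlib
import Cfsg.Agent.Lib.Helper69.BSWChar5a

/-!
# BSW configuration: the shape of the vectors `u₁ = M_1 - M_{λ₁}` and `u₀ = M_{λ₀} - M_{λ₁}`
-/

set_option autoImplicit false
set_option linter.unusedSectionVars false

namespace Cfsg.Agent.Lib.Helper69.BSW

open Cfsg
open scoped ComplexConjugate
open Cfsg.Agent.Lib.Helper25
open Cfsg.Agent.Lib.Helper69.StarG

universe u

section Vec

variable {Ψ : Type*} [Fintype Ψ] [DecidableEq Ψ]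

theorem eq_of_support3 (f : Ψ → ℤ) (o a b : Ψ)
    (hz : ∀ ψ, ψ ≠ o → ψ ≠ a → ψ ≠ b → f ψ = 0) (hao : a ≠ o) (hbo : b ≠ o) (hab : a ≠ b) :
    f = f o • ev o + f a • ev a + f b • ev b := by
  funext ψ
  simp only [Pi.add_apply, Pi.smul_apply, ev_apply, smul_eq_mul, mul_ite, mul_one, mul_zero]
  by_cases h1 : ψ = o
  · subst h1
    rw [if_pos rfl, if_neg hao.symm, if_neg hbo.symm]; ring
  by_cases h2 : ψ = a
  · subst h2
    rw [if_neg h1, if_pos rfl, if_neg hab]; ring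
  by_cases h3 : ψ = b
  · subst h3
    rw [if_neg h1, if_neg h2, if_pos rfl]; ring
  rw [if_neg h1, if_neg h2, if_neg h3, hz ψ h1 h2 h3]; ring

theorem eq_of_support2 (f : Ψ → ℤ) (o a : Ψ)
    (hz : ∀ ψ, ψ ≠ o → ψ ≠ a → f ψ = 0) (hao : a ≠ o) :
    f = f o • ev o + f a • ev a := by
  funext ψ
  simp only [Pi.add_apply, Pi.smul_apply, ev_apply, smul_eq_mul, mul_ite, mul_one, mul_zero]
  by_cases h1 : ψ = o
  · subst h1
    rw [if_pos rfl, if_neg hao.symm]; ring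
  by_cases h2 : ψ = a
  · subst h2
    rw [if_neg h1, if_pos rfl]; ring
  rw [if_neg h1, if_neg h2, hz ψ h1 h2]; ring

theorem ip_support3 (f g : Ψ → ℤ) (o a b : Ψ)
    (hz : ∀ ψ, ψ ≠ o → ψ ≠ a → ψ ≠ b → f ψ = 0) (hao : a ≠ o) (hbo : b ≠ o) (hab : a ≠ b) :
    ip f g = f o * g o + f a * g a + f b * g b := by
  conv_lhs => rw [eq_of_support3 f o a b hz hao hbo hab]
  rw [ip_add_left, ip_add_left, ip_smul_left, ip_smul_left, ip_smul_left, ip_ev_left, ip_ev_left,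
    ip_ev_left]

theorem ip_support2 (f g : Ψ → ℤ) (o a : Ψ)
    (hz : ∀ ψ, ψ ≠ o → ψ ≠ a → f ψ = 0) (hao : a ≠ o) :
    ip f g = f o * g o + f a * g a := by
  conv_lhs => rw [eq_of_support2 f o a hz hao]
  rw [ip_add_left, ip_smul_left, ip_smul_left, ip_ev_left, ip_ev_left]

theorem entry_cases' (f : Ψ → ℤ) (h : ip f f ≤ 3) (ψ : Ψ) : f ψ = -1 ∨ f ψ = 0 ∨ f ψ = 1 :=
  Cfsg.Agent.Lib.Helper69.Star.entry_cases f h ψ

end Vec

variable {G : Type u} [Group G] [Fintype G]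

variable {c : Cfg G} [Fintype c.K] [Fintype (IrrCharacter c.K)] [Fintype (IrrCharacter G)]
  [DecidableEq (IrrCharacter G)]

variable {lam0 lam1 : IrrCharacter c.K}

/-- the trivial character of `G` -/
noncomputable abbrev oneG (G : Type u) [Group G] : IrrCharacter G := Cfsg.Agent.Lib.Helper81.oneIrr G

theorem u1_one (L : Lam c lam0 lam1) : V c (oneK c) lam1 (oneG G) = 1 := by
  classical
  rw [V_oneIrr, if_pos rfl, if_neg L.lam1_ne_one]; norm_num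

theorem u0_one (L : Lam c lam0 lam1) : V c lam0 lam1 (oneG G) = 0 := by
  classical
  rw [V_oneIrr, if_neg L.ne0, if_neg L.lam1_ne_one]; norm_num

theorem v_one (L : Lam c lam0 lam1) {μ : IrrCharacter c.K} (h : Other c lam1 μ) :
    V c μ lam1 (oneG G) = 0 := by
  classical
  rw [V_oneIrr, if_neg h.ne_one, if_neg L.lam1_ne_one]; norm_num

theorem ip_deg (a b : IrrCharacter c.K) : ip (V c a b) (deg : IrrCharacter G → ℤ) = 0 :=
  degree_eq c a b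

/-- the shape of `u₁` -/
theorem u1_shape (L : Lam c lam0 lam1) :
    ∃ P Q : IrrCharacter G, P ≠ oneG G ∧ Q ≠ oneG G ∧ P ≠ Q ∧
      V c (oneK c) lam1 P = 1 ∧ V c (oneK c) lam1 Q = -1 ∧
      (∀ ψ, ψ ≠ oneG G → ψ ≠ P → ψ ≠ Q → V c (oneK c) lam1 ψ = 0) ∧ deg Q = deg P + 1 := by
  obtain ⟨a, b, hao, hbo, hab, ha, hb, hz⟩ :=
    Cfsg.Agent.Lib.Helper69.Star.struct3 (oneG G) (V c (oneK c) lam1) (u1_one L) (gram_u1_u1 L)
  have hdeg := ip_deg (G := G) (oneK c) lam1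
  rw [ip_support3 _ _ _ a b hz hao hbo hab, u1_one L, deg_oneIrr] at hdeg
  have hda := deg_pos a
  have hdb := deg_pos b
  rcases ha with ha | ha <;> rcases hb with hb | hb
  · exfalso; rw [ha, hb] at hdeg; linarith
  · refine ⟨a, b, hao, hbo, hab, ha, hb, hz, ?_⟩
    rw [ha, hb] at hdeg; linarith
  · refine ⟨b, a, hbo, hao, hab.symm, hb, ha, fun ψ h1 h2 h3 => hz ψ h1 h3 h2, ?_⟩
    rw [ha, hb] at hdeg; linarith
  · exfalso; rw [ha, hb] at hdeg; linarith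

/-- the combined shape of `u₁` and `u₀` -/
structure Shape (c : Cfg G) [Fintype c.K] [Fintype (IrrCharacter c.K)] [Fintype (IrrCharacter G)]
    [DecidableEq (IrrCharacter G)] (lam0 lam1 : IrrCharacter c.K)
    (δ : ℤ) (X S Y' Y'' : IrrCharacter G) (ε' ε'' : ℤ) : Prop where
  hδ : δ = 1 ∨ δ = -1
  hε' : ε' = 1 ∨ ε' = -1
  hε'' : ε'' = 1 ∨ ε'' = -1
  Xo : X ≠ oneG G
  So : S ≠ oneG G
  XS : X ≠ S
  Y'o : Y' ≠ oneG G
  Y''o : Y'' ≠ oneG G
  Y'X : Y' ≠ X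
  Y''X : Y'' ≠ X
  Y'S : Y' ≠ S
  Y''S : Y'' ≠ S
  Y'Y'' : Y' ≠ Y''
  u1 : V c (oneK c) lam1 = ev (oneG G) + δ • ev X - δ • ev S
  u0 : V c lam0 lam1 = (-δ) • ev S + ε' • ev Y' + ε'' • ev Y''
  degS : deg S = deg X + δ
  degu0 : -δ * deg S + ε' * deg Y' + ε'' * deg Y'' = 0

theorem exists_shape (L : Lam c lam0 lam1) :
    ∃ (δ : ℤ) (X S Y' Y'' : IrrCharacter G) (ε' ε'' : ℤ), Shape c lam0 lam1 δ X S Y' Y'' ε' ε'' := by
  obtain ⟨P, Q, hPo, hQo, hPQ, hP, hQ, hz, hdeg⟩ := u1_shape (G := G) L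
  have h01 := gram_u0_u1 (G := G) L
  rw [ip_comm, ip_support3 _ _ _ P Q hz hPo hQo hPQ, u1_one L, u0_one L, hP, hQ] at h01
  have hcP := entry_cases' (V c lam0 lam1) (le_of_eq (gram_u0_u0 L)) P
  have hcQ := entry_cases' (V c lam0 lam1) (le_of_eq (gram_u0_u0 L)) Q
  -- choose δ, X, S
  have key : ∃ (δ : ℤ) (X S : IrrCharacter G), (δ = 1 ∨ δ = -1) ∧ X ≠ oneG G ∧ S ≠ oneG G ∧ X ≠ S ∧
      V c (oneK c) lam1 X = δ ∧ V c (oneK c) lam1 S = -δ ∧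
      (∀ ψ, ψ ≠ oneG G → ψ ≠ X → ψ ≠ S → V c (oneK c) lam1 ψ = 0) ∧ deg S = deg X + δ ∧
      V c lam0 lam1 S = -δ ∧ V c lam0 lam1 X = 0 := by
    have hcase : (V c lam0 lam1 P = 0 ∧ V c lam0 lam1 Q = -1) ∨
        (V c lam0 lam1 P = 1 ∧ V c lam0 lam1 Q = 0) := by
      rcases hcP with h | h | h <;> rcases hcQ with h' | h' | h' <;> rw [h, h'] at h01 <;>
        first | omega | exact Or.inl ⟨h, h'⟩ | exact Or.inr ⟨h, h'⟩
    rcases hcase with ⟨h1, h2⟩ | ⟨h1, h2⟩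
    · exact ⟨1, P, Q, Or.inl rfl, hPo, hQo, hPQ, hP, hQ, hz, hdeg, h2, h1⟩
    · refine ⟨-1, Q, P, Or.inr rfl, hQo, hPo, hPQ.symm, hQ, by rw [hP]; norm_num,
        fun ψ h1 h2 h3 => hz ψ h1 h3 h2, by rw [hdeg]; ring, by rw [h1]; norm_num, h2⟩
  obtain ⟨δ, X, S, hδ, hXo, hSo, hXS, hu1X, hu1S, hz1, hdegS, hu0S, hu0X⟩ := key
  have hδ2 : δ * δ = 1 := by rcases hδ with h | h <;> rw [h] <;> norm_num
  -- the other two entries of u₀
  set f : IrrCharacter G → ℤ := (-δ) • V c lam0 lam1 with hf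
  have hfS : f S = 1 := by
    rw [hf, Pi.smul_apply, hu0S, smul_eq_mul]; linarith
  have hfn : ∑ ψ, f ψ * f ψ = 3 := by
    have := gram_u0_u0 (G := G) L
    unfold ip at this
    rw [← this]
    apply Finset.sum_congr rfl
    intro ψ _
    rw [hf, Pi.smul_apply, smul_eq_mul]
    have : -δ * V c lam0 lam1 ψ * (-δ * V c lam0 lam1 ψ) =
        (δ * δ) * (V c lam0 lam1 ψ * V c lam0 lam1 ψ) := by ring
    rw [this, hδ2, one_mul]
  obtain ⟨a, b, haS, hbS, hab, ha, hb, hz0⟩ :=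
    Cfsg.Agent.Lib.Helper69.Star.struct3 S f hfS hfn
  have hu0f : ∀ ψ, V c lam0 lam1 ψ = -δ * f ψ := by
    intro ψ
    rw [hf, Pi.smul_apply, smul_eq_mul, ← mul_assoc]
    have : -δ * -δ = 1 := by linarith
    rw [this, one_mul]
  have hfo : f (oneG G) = 0 := by rw [hf, Pi.smul_apply, u0_one L, smul_zero]
  have hfX : f X = 0 := by rw [hf, Pi.smul_apply, hu0X, smul_zero]
  have hane : ∀ ψ, f ψ = 0 → a ≠ ψ := by
    intro ψ h0 h; rw [h, h0] at ha; omega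
  have hbne : ∀ ψ, f ψ = 0 → b ≠ ψ := by
    intro ψ h0 h; rw [h, h0] at hb; omega
  have hu0z : ∀ ψ, ψ ≠ S → ψ ≠ a → ψ ≠ b → V c lam0 lam1 ψ = 0 := by
    intro ψ h1 h2 h3
    rw [hu0f, hz0 ψ h1 h2 h3, mul_zero]
  refine ⟨δ, X, S, a, b, -δ * f a, -δ * f b, ?_⟩
  have hεa : -δ * f a = 1 ∨ -δ * f a = -1 := by
    rcases hδ with h | h <;> rcases ha with h' | h' <;> rw [h, h'] <;> norm_num
  have hεb : -δ * f b = 1 ∨ -δ * f b = -1 := by
    rcases hδ with h | h <;> rcases hb with h' | h' <;> rw [h, h'] <;> norm_num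
  refine ⟨hδ, hεa, hεb, hXo, hSo, hXS, hane _ hfo, hbne _ hfo, hane _ hfX, hbne _ hfX, haS, hbS,
    hab, ?_, ?_, hdegS, ?_⟩
  · have h := eq_of_support3 (V c (oneK c) lam1) (oneG G) X S hz1 hXo hSo hXS
    rw [h, u1_one L, hu1X, hu1S]
    funext ψ
    simp only [Pi.add_apply, Pi.sub_apply, Pi.smul_apply, smul_eq_mul]
    ring
  · have h := eq_of_support3 (V c lam0 lam1) S a b hu0z haS hbS hab
    rw [h, hu0S, hu0f a, hu0f b]
  · have hdeg0 := ip_deg (G := G) lam0 lam1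
    rw [ip_support3 _ _ S a b hu0z haS hbS hab, hu0S, hu0f a, hu0f b] at hdeg0
    exact hdeg0

end Cfsg.Agent.Lib.Helper69.BSW
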