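import Mathlib
import Cfsg.Agent.Lib.Helper69.BSWChar5b

/-!
# BSW configuration: the vectors `v_μ = M_μ - M_{λ₁}` for the other nonreal characters
-/

set_option autoImplicit false
set_option linter.unusedSectionVars false

namespace Cfsg.Agent.Lib.Helper69.BSW

open Cfsg
open scoped ComplexConjugate
open Cfsg.Agent.Lib.Helper25
open Cfsg.Agent.Lib.Helper69.StarG

universe u

variable {G : Type u} [Group G] [Fintype G]

variable {c : Cfg G} [Fintype c.K] [Fintype (IrrCharacter c.K)] [Fintype (IrrCharacter G)]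
  [DecidableEq (IrrCharacter G)]

variable {lam0 lam1 : IrrCharacter c.K} {δ : ℤ} {X S Y' Y'' : IrrCharacter G} {ε' ε'' : ℤ}

theorem Shape.sq (Sh : Shape c lam0 lam1 δ X S Y' Y'' ε' ε'') : δ * δ = 1 := by
  rcases Sh.hδ with h | h <;> rw [h] <;> norm_num

theorem Shape.swap (Sh : Shape c lam0 lam1 δ X S Y' Y'' ε' ε'') :
    Shape c lam0 lam1 δ X S Y'' Y' ε'' ε' where
  hδ := Sh.hδ
  hε' := Sh.hε''
  hε'' := Sh.hε'
  Xo := Sh.Xo
  So := Sh.So
  XS := Sh.XS
  Y'o := Sh.Y''o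
  Y''o := Sh.Y'o
  Y'X := Sh.Y''X
  Y''X := Sh.Y'X
  Y'S := Sh.Y''S
  Y''S := Sh.Y'S
  Y'Y'' := Sh.Y'Y''.symm
  u1 := Sh.u1
  u0 := by rw [Sh.u0]; abel
  degS := Sh.degS
  degu0 := by have := Sh.degu0; linarith

/-- inner product with `u₁` -/
theorem Shape.ip_u1 (Sh : Shape c lam0 lam1 δ X S Y' Y'' ε' ε'') (f : IrrCharacter G → ℤ) :
    ip f (V c (oneK c) lam1) = f (oneG G) + δ * f X - δ * f S := by
  rw [Sh.u1, ip_sub_right, ip_comm f, ip_add_left, ip_smul_left, ip_ev_left, ip_ev_left,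
    ip_smul_right, ip_ev_right]

/-- inner product with `u₀` -/
theorem Shape.ip_u0 (Sh : Shape c lam0 lam1 δ X S Y' Y'' ε' ε'') (f : IrrCharacter G → ℤ) :
    ip f (V c lam0 lam1) = -δ * f S + ε' * f Y' + ε'' * f Y'' := by
  rw [Sh.u0, ip_comm f, ip_add_left, ip_add_left, ip_smul_left, ip_smul_left, ip_smul_left,
    ip_ev_left, ip_ev_left, ip_ev_left]

theorem Shape.u0_apply (Sh : Shape c lam0 lam1 δ X S Y' Y'' ε' ε'') (ψ : IrrCharacter G) :
    V c lam0 lam1 ψ = -δ * (if ψ = S then 1 else 0) + ε' * (if ψ = Y' then 1 else 0) +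
      ε'' * (if ψ = Y'' then 1 else 0) := by
  rw [Sh.u0]
  simp only [Pi.add_apply, Pi.smul_apply, ev_apply, smul_eq_mul]

theorem Shape.u1_apply (Sh : Shape c lam0 lam1 δ X S Y' Y'' ε' ε'') (ψ : IrrCharacter G) :
    V c (oneK c) lam1 ψ = (if ψ = oneG G then 1 else 0) + δ * (if ψ = X then 1 else 0) -
      δ * (if ψ = S then 1 else 0) := by
  rw [Sh.u1]
  simp only [Pi.add_apply, Pi.sub_apply, Pi.smul_apply, ev_apply, smul_eq_mul]

/-- good / bad type -/
theorem other_dichotomy (L : Lam c lam0 lam1) (Sh : Shape c lam0 lam1 δ X S Y' Y'' ε' ε'')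
    {μ : IrrCharacter c.K} (h : Other c lam1 μ) :
    (V c μ lam1 S = -δ ∧ V c μ lam1 X = 0) ∨ (V c μ lam1 X = δ ∧ V c μ lam1 S = 0) := by
  have h1 := gram_v_u1 (G := G) L h
  rw [Sh.ip_u1, v_one L h] at h1
  have hn : ip (V c μ lam1) (V c μ lam1) ≤ 3 := by rw [gram_v_v L h]; norm_num
  have hX := entry_cases' _ hn X
  have hS := entry_cases' _ hn S
  rcases Sh.hδ with hd | hd <;> rw [hd] at h1 ⊢ <;>
    rcases hX with hX | hX | hX <;> rcases hS with hS | hS | hS <;> rw [hX, hS] at h1 ⊢ <;>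
    first | omega | (left; constructor <;> norm_num) | (right; constructor <;> norm_num)

/-- support of a vector of norm 2 with a known entry `±1` -/
theorem support_norm2 (f : IrrCharacter G → ℤ) (A : IrrCharacter G) (ε : ℤ) (hε : ε * ε = 1)
    (hA : f A = ε) (hn : ip f f = 2) :
    ∃ B : IrrCharacter G, B ≠ A ∧ (f B = 1 ∨ f B = -1) ∧ ∀ ψ, ψ ≠ A → ψ ≠ B → f ψ = 0 := by
  have h1 : (ε • f) A = 1 := by rw [Pi.smul_apply, hA, smul_eq_mul, hε]
  have h2 : ∑ ψ, (ε • f) ψ * (ε • f) ψ = 2 := by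
    unfold ip at hn
    rw [← hn]
    apply Finset.sum_congr rfl
    intro ψ _
    rw [Pi.smul_apply, smul_eq_mul]
    have : ε * f ψ * (ε * f ψ) = (ε * ε) * (f ψ * f ψ) := by ring
    rw [this, hε, one_mul]
  obtain ⟨B, hBA, hB, hz⟩ := Cfsg.Agent.Lib.Helper69.TI.struct2 A (ε • f) h1 h2
  have hback : ∀ ψ, f ψ = ε * (ε • f) ψ := by
    intro ψ
    rw [Pi.smul_apply, smul_eq_mul, ← mul_assoc, hε, one_mul]
  have hε' : ε = 1 ∨ ε = -1 := by
    have : (ε - 1) * (ε + 1) = 0 := by ring_nf; linarith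
    rcases mul_eq_zero.mp this with h | h
    · left; linarith
    · right; linarith
  refine ⟨B, hBA, ?_, ?_⟩
  · rw [hback B]
    rcases hB with h' | h' <;> rw [h'] <;> rcases hε' with h | h <;> rw [h] <;> norm_num
  · intro ψ h1 h2
    rw [hback ψ, hz ψ h1 h2, mul_zero]

/-- good type: the entries at `Y'`, `Y''` vanish -/
theorem good_props (L : Lam c lam0 lam1) (Sh : Shape c lam0 lam1 δ X S Y' Y'' ε' ε'')
    {μ : IrrCharacter c.K} (h : Other c lam1 μ) (hS : V c μ lam1 S = -δ) :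
    V c μ lam1 Y' = 0 ∧ V c μ lam1 Y'' = 0 := by
  have hδ2 := Sh.sq
  obtain ⟨B, hBS, hB, hz⟩ := support_norm2 (V c μ lam1) S (-δ) (by linarith) hS (gram_v_v L h)
  have h0 := gram_v_u0 (G := G) L h
  rw [Sh.ip_u0, hS] at h0
  have h1 : ε' * V c μ lam1 Y' + ε'' * V c μ lam1 Y'' = 0 := by linarith
  by_cases hY' : Y' = B
  · exfalso
    have hY'' : V c μ lam1 Y'' = 0 := hz Y'' Sh.Y''S (fun h' => Sh.Y'Y'' (hY'.trans h'.symm))
    rw [hY'', mul_zero, add_zero, hY'] at h1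
    rcases Sh.hε' with he | he <;> rcases hB with hb | hb <;> rw [he, hb] at h1 <;> omega
  · by_cases hY'' : Y'' = B
    · exfalso
      have hY'0 : V c μ lam1 Y' = 0 := hz Y' Sh.Y'S hY'
      rw [hY'0, mul_zero, zero_add, hY''] at h1
      rcases Sh.hε'' with he | he <;> rcases hB with hb | hb <;> rw [he, hb] at h1 <;> omega
    · exact ⟨hz Y' Sh.Y'S hY', hz Y'' Sh.Y''S hY''⟩

/-- structure of a bad vector -/
theorem bad_struct (L : Lam c lam0 lam1) (Sh : Shape c lam0 lam1 δ X S Y' Y'' ε' ε'')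
    {μ : IrrCharacter c.K} (h : Other c lam1 μ) (hX : V c μ lam1 X = δ) (hS : V c μ lam1 S = 0) :
    ∃ B : IrrCharacter G, B ≠ X ∧ B ≠ S ∧ B ≠ oneG G ∧ V c μ lam1 B = -δ ∧
      (∀ ψ, ψ ≠ X → ψ ≠ B → V c μ lam1 ψ = 0) ∧ deg B = deg X ∧ V c lam0 lam1 B = -δ := by
  have hδ2 := Sh.sq
  obtain ⟨B, hBX, hB, hz⟩ := support_norm2 (V c μ lam1) X δ hδ2 hX (gram_v_v L h)
  have hBne : ∀ ψ, V c μ lam1 ψ = 0 → B ≠ ψ := by
    intro ψ h0 h'; rw [h', h0] at hB; omega
  have hdeg := ip_deg (G := G) μ lam1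
  rw [ip_support2 _ _ X B hz hBX, hX] at hdeg
  have hdX := deg_pos X
  have hdB := deg_pos B
  have hBval : V c μ lam1 B = -δ ∧ deg B = deg X := by
    rcases Sh.hδ with hd | hd <;> rcases hB with hb | hb <;> rw [hd, hb] at hdeg <;>
      rw [hd, hb] <;> constructor <;> linarith
  have h0 := gram_v_u0 (G := G) L h
  rw [ip_support2 _ _ X B hz hBX, hX, hBval.1] at h0
  have hu0X : V c lam0 lam1 X = 0 := by
    rw [Sh.u0_apply, if_neg Sh.XS, if_neg Sh.Y'X.symm, if_neg Sh.Y''X.symm]; ring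
  rw [hu0X] at h0
  refine ⟨B, hBX, hBne S hS, hBne _ (v_one L h), hBval.1, hz, hBval.2, ?_⟩
  have h5 : δ * V c lam0 lam1 B = -1 := by linarith
  calc V c lam0 lam1 B = δ * (δ * V c lam0 lam1 B) := by rw [← mul_assoc, hδ2, one_mul]
    _ = -δ := by rw [h5]; ring

/-- a bad character excludes all further characters -/
theorem bad_unique (L : Lam c lam0 lam1) (Sh : Shape c lam0 lam1 δ X S Y' Y'' ε' ε'')
    {μ : IrrCharacter c.K} (h : Other c lam1 μ) (hX : V c μ lam1 X = δ) (hS : V c μ lam1 S = 0)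
    {μ' : IrrCharacter c.K} (h' : Other c lam1 μ') : μ' = μ ∨ μ' = cbar c μ := by
  by_contra hcon
  push Not at hcon
  have hδ2 := Sh.sq
  obtain ⟨B, hBX, hBS, hBo, hvB, hz, hdB, hu0B⟩ := bad_struct L Sh h hX hS
  have hne1 : μ ≠ μ' := fun e => hcon.1 e.symm
  have hne2 : μ ≠ cbar c μ' := by
    intro e; apply hcon.2; rw [e, cbar_cbar]
  have hg := gram_v_v' (G := G) L h h' hne1 hne2
  rw [ip_support2 _ _ X B hz hBX, hX, hvB] at hg
  -- B ∈ {Y', Y''}
  have hBY : B = Y' ∨ B = Y'' := by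
    by_contra hB
    push Not at hB
    rw [Sh.u0_apply, if_neg hBS, if_neg hB.1, if_neg hB.2] at hu0B
    rcases Sh.hδ with hd | hd <;> rw [hd] at hu0B <;> omega
  rcases other_dichotomy L Sh h' with ⟨hS', hX'⟩ | ⟨hX', hS'⟩
  · -- μ' good: v' vanishes at Y', Y'' hence at B
    obtain ⟨hY', hY''⟩ := good_props L Sh h' hS'
    have hvB' : V c μ' lam1 B = 0 := by
      rcases hBY with e | e <;> rw [e] <;> assumption
    rw [hX', hvB'] at hg
    omega
  · -- μ' bad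
    obtain ⟨B', hB'X, hB'S, hB'o, hvB', hz', hdB', hu0B'⟩ := bad_struct L Sh h' hX' hS'
    rw [hX'] at hg
    have hvB0 : V c μ' lam1 B = 0 := by
      have h6 : δ * V c μ' lam1 B = 0 := by linarith
      calc V c μ' lam1 B = δ * (δ * V c μ' lam1 B) := by rw [← mul_assoc, hδ2, one_mul]
        _ = 0 := by rw [h6, mul_zero]
    have hBB' : B' ≠ B := by
      intro e
      rw [e, hvB0] at hvB'
      rcases Sh.hδ with hd | hd <;> rw [hd] at hvB' <;> omega
    have hB'Y : B' = Y' ∨ B' = Y'' := by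
      by_contra hB
      push Not at hB
      rw [Sh.u0_apply, if_neg hB'S, if_neg hB.1, if_neg hB.2] at hu0B'
      rcases Sh.hδ with hd | hd <;> rw [hd] at hu0B' <;> omega
    -- both ε', ε'' equal -δ, contradicting the degree equation
    have hε : ε' = -δ ∧ ε'' = -δ := by
      rcases hBY with e | e <;> rcases hB'Y with e' | e'
      · exact absurd (e'.trans e.symm) hBB'
      · rw [e] at hu0B; rw [e'] at hu0B'
        rw [Sh.u0_apply, if_neg Sh.Y'S, if_pos rfl, if_neg Sh.Y'Y''] at hu0B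
        rw [Sh.u0_apply, if_neg Sh.Y''S, if_neg Sh.Y'Y''.symm, if_pos rfl] at hu0B'
        constructor <;> linarith
      · rw [e] at hu0B; rw [e'] at hu0B'
        rw [Sh.u0_apply, if_neg Sh.Y''S, if_neg Sh.Y'Y''.symm, if_pos rfl] at hu0B
        rw [Sh.u0_apply, if_neg Sh.Y'S, if_pos rfl, if_neg Sh.Y'Y''] at hu0B'
        constructor <;> linarith
      · exact absurd (e'.trans e.symm) hBB'
    have hd := Sh.degu0
    rw [hε.1, hε.2] at hd
    have h1 := deg_pos S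
    have h2 := deg_pos Y'
    have h3 := deg_pos Y''
    rcases Sh.hδ with hδ | hδ <;> rw [hδ] at hd <;> linarith

end Cfsg.Agent.Lib.Helper69.BSW
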