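import Mathlib
import Cfsg.Agent.Lib.Helper69.BSWChar5c

/-!
# BSW configuration: character values on `K` from the profiles; exclusion of the bad type
-/

set_option autoImplicit false
set_option linter.unusedSectionVars false

namespace Cfsg.Agent.Lib.Helper69.BSW

open Cfsg
open scoped ComplexConjugate
open Cfsg.Agent.Lib.Helper25
open Cfsg.Agent.Lib.Helper69.StarG

universe u

variable {G : Type u} [Group G] [Fintype G]

variable {c : Cfg G} [Fintype c.K] [Fintype (IrrCharacter c.K)] [Fintype (IrrCharacter G)]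
  [DecidableEq (IrrCharacter G)] [DecidableEq (IrrCharacter c.K)]

variable {lam0 lam1 : IrrCharacter c.K} {δ : ℤ} {X S Y' Y'' : IrrCharacter G} {ε' ε'' : ℤ}

/-- value of `χ` on `K` from the difference vectors -/
theorem value_K (lam1 : IrrCharacter c.K) (χ : IrrCharacter G) (x : c.K) :
    (χ : G → ℂ) x = ∑ ν : IrrCharacter c.K, (V c ν lam1 χ : ℂ) * (ν : c.K → ℂ) x +
      (mult c χ lam1 : ℂ) * ∑ ν : IrrCharacter c.K, (ν : c.K → ℂ) x := by
  rw [restrict_expand c χ x, Finset.mul_sum, ← Finset.sum_add_distrib]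
  apply Finset.sum_congr rfl
  intro ν _
  unfold V
  push_cast
  ring

theorem value_ne_one (lam1 : IrrCharacter c.K) (χ : IrrCharacter G) (x : c.K) (hx : x ≠ 1) :
    (χ : G → ℂ) x = ∑ ν : IrrCharacter c.K, (V c ν lam1 χ : ℂ) * (ν : c.K → ℂ) x := by
  classical
  rw [value_K lam1 χ x, sum_irr_apply, if_neg hx, mul_zero, add_zero]

theorem value_one (lam1 : IrrCharacter c.K) (χ : IrrCharacter G) :
    (deg χ : ℂ) = ∑ ν : IrrCharacter c.K, (V c ν lam1 χ : ℂ) +
      (mult c χ lam1 : ℂ) * (Nat.card c.K : ℂ) := by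
  classical
  have h := value_K lam1 χ (1 : c.K)
  rw [sum_irr_apply, if_pos rfl] at h
  simp_rw [irr_apply_one_K, mul_one] at h
  rw [← h, ← deg_spec]
  rfl

theorem sum_ind (ν₀ : IrrCharacter c.K) (F : IrrCharacter c.K → ℂ) :
    ∑ ν : IrrCharacter c.K, ((if ν = ν₀ then (1 : ℤ) else 0 : ℤ) : ℂ) * F ν = F ν₀ := by
  simp

theorem sum_indG (χ₀ : IrrCharacter G) (F : IrrCharacter G → ℂ) :
    ∑ χ : IrrCharacter G, ((if χ = χ₀ then (1 : ℤ) else 0 : ℤ) : ℂ) * F χ = F χ₀ := by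
  simp

theorem Shape.sum_u0 (Sh : Shape c lam0 lam1 δ X S Y' Y'' ε' ε'') (F : IrrCharacter G → ℂ) :
    ∑ χ : IrrCharacter G, (V c lam0 lam1 χ : ℂ) * F χ =
      -(δ : ℂ) * F S + (ε' : ℂ) * F Y' + (ε'' : ℂ) * F Y'' := by
  simp_rw [Sh.u0_apply]
  simp only [Int.cast_add, Int.cast_mul, Int.cast_neg, add_mul, Finset.sum_add_distrib, mul_assoc,
    ← Finset.mul_sum, sum_indG, neg_mul, Finset.sum_neg_distrib]

theorem Shape.sum_u1 (Sh : Shape c lam0 lam1 δ X S Y' Y'' ε' ε'') (F : IrrCharacter G → ℂ) :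
    ∑ χ : IrrCharacter G, (V c (oneK c) lam1 χ : ℂ) * F χ =
      F (oneG G) + (δ : ℂ) * F X - (δ : ℂ) * F S := by
  simp_rw [Sh.u1_apply]
  simp only [Int.cast_add, Int.cast_sub, Int.cast_mul, add_mul, sub_mul, Finset.sum_add_distrib,
    Finset.sum_sub_distrib, mul_assoc, ← Finset.mul_sum, sum_indG]

/-- a vector with support `{A, B}` -/
theorem sum_support2 (f : IrrCharacter G → ℤ) (A B : IrrCharacter G) (hBA : B ≠ A)
    (hz : ∀ ψ, ψ ≠ A → ψ ≠ B → f ψ = 0) (F : IrrCharacter G → ℂ) :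
    ∑ χ : IrrCharacter G, (f χ : ℂ) * F χ = (f A : ℂ) * F A + (f B : ℂ) * F B := by
  have h := eq_of_support2 f A B hz hBA
  have h2 : ∀ χ, f χ = f A * (if χ = A then 1 else 0) + f B * (if χ = B then 1 else 0) := by
    intro χ
    conv_lhs => rw [h]
    simp only [Pi.add_apply, Pi.smul_apply, ev_apply, smul_eq_mul]
  have h3 : ∑ χ : IrrCharacter G, (f χ : ℂ) * F χ =
      ∑ χ : IrrCharacter G, ((f A : ℂ) * (((if χ = A then (1 : ℤ) else 0 : ℤ) : ℂ) * F χ) +
        (f B : ℂ) * (((if χ = B then (1 : ℤ) else 0 : ℤ) : ℂ) * F χ)) := by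
    apply Finset.sum_congr rfl
    intro χ _
    conv_lhs => rw [h2 χ]
    push_cast
    ring
  rw [h3, Finset.sum_add_distrib, ← Finset.mul_sum, ← Finset.mul_sum, sum_indG, sum_indG]

end Cfsg.Agent.Lib.Helper69.BSW
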