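import Mathlib
import Cfsg.Agent.Lib.Helper69.BSWChar5d

/-!
# BSW configuration: exclusion of the bad type
-/

set_option autoImplicit false
set_option linter.unusedSectionVars false

namespace Cfsg.Agent.Lib.Helper69.BSW

open Cfsg
open scoped ComplexConjugate
open Cfsg.Agent.Lib.Helper25
open Cfsg.Agent.Lib.Helper69.StarG

universe u

variable {G : Type u} [Group G] [Fintype G]

variable {c : Cfg G} [Fintype c.K] [Fintype (IrrCharacter c.K)] [Fintype (IrrCharacter G)]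
  [DecidableEq (IrrCharacter G)] [DecidableEq (IrrCharacter c.K)]

variable {lam0 lam1 : IrrCharacter c.K} {δ : ℤ} {X S Y' Y'' : IrrCharacter G} {ε' ε'' : ℤ}

theorem Lam.cbar_lam1_ne_one (L : Lam c lam0 lam1) : cbar c lam1 ≠ oneK c := by
  intro h
  apply L.nr1
  have : cbar c (cbar c lam1) = cbar c (oneK c) := by rw [h]
  rw [cbar_cbar, cbar_oneK] at this
  rw [this]; exact cbar_oneK c

theorem Lam.cbar_lam1_ne_lam0 (L : Lam c lam0 lam1) : cbar c lam1 ≠ lam0 := by
  intro h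
  apply L.nr1
  have : cbar c (cbar c lam1) = cbar c lam0 := by rw [h]
  rw [cbar_cbar, L.r0] at this
  rw [this]; exact L.r0

theorem Lam.one_ne_lam0 (L : Lam c lam0 lam1) : oneK c ≠ lam0 := fun h => L.ne0 h.symm

theorem Other.cbar_ne_one {μ : IrrCharacter c.K} (h : Other c lam1 μ) : cbar c μ ≠ oneK c := by
  intro h'
  apply h.1
  have : cbar c (cbar c μ) = cbar c (oneK c) := by rw [h']
  rw [cbar_cbar, cbar_oneK] at this
  rw [this]; exact cbar_oneK c

theorem Lam.other_cbar_ne_lam0 (L : Lam c lam0 lam1) {μ : IrrCharacter c.K} (h : Other c lam1 μ) :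
    cbar c μ ≠ lam0 := by
  intro h'
  apply h.1
  have : cbar c (cbar c μ) = cbar c lam0 := by rw [h']
  rw [cbar_cbar, L.r0] at this
  rw [this]; exact L.r0

/-- the core of the exclusion of the bad type (with `B = Y'`) -/
theorem no_bad_aux (L : Lam c lam0 lam1) (Sh : Shape c lam0 lam1 δ X S Y' Y'' ε' ε'')
    {μ : IrrCharacter c.K} (h : Other c lam1 μ) (hX : V c μ lam1 X = δ) (hS : V c μ lam1 S = 0)
    (hvB : V c μ lam1 Y' = -δ) (hz : ∀ ψ, ψ ≠ X → ψ ≠ Y' → V c μ lam1 ψ = 0)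
    (hdB : deg Y' = deg X) : False := by
  classical
  have hδ2 := Sh.sq
  have hall : ∀ μ' : IrrCharacter c.K, Other c lam1 μ' → μ' = μ ∨ μ' = cbar c μ :=
    fun μ' h' => bad_unique L Sh h hX hS h'
  -- the other Other-vector
  have hvc : ∀ χ : IrrCharacter G, V c (cbar c μ) lam1 χ = V c μ lam1 χ := V_cbar_other h.1
  -- ε' = -δ (not needed), ε'' = δ and deg Y'' = deg S + deg Y'
  have hu0Y' : V c lam0 lam1 Y' = ε' := by
    rw [Sh.u0_apply, if_neg Sh.Y'S, if_pos rfl, if_neg Sh.Y'Y'']; ring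
  have hg0 := gram_v_u0 (G := G) L h
  rw [ip_support2 _ _ X Y' hz Sh.Y'X, hX, hvB] at hg0
  have hu0X : V c lam0 lam1 X = 0 := by
    rw [Sh.u0_apply, if_neg Sh.XS, if_neg Sh.Y'X.symm, if_neg Sh.Y''X.symm]; ring
  rw [hu0X, hu0Y'] at hg0
  have hε' : ε' = -δ := by
    have h5 : δ * ε' = -1 := by linarith
    calc ε' = δ * (δ * ε') := by rw [← mul_assoc, hδ2, one_mul]
      _ = -δ := by rw [h5]; ring
  have hd := Sh.degu0
  rw [hε'] at hd
  have hdS := deg_pos S
  have hdY' := deg_pos Y'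
  have hdY'' := deg_pos Y''
  have hε'' : ε'' = δ ∧ deg Y'' = deg S + deg Y' := by
    rcases Sh.hδ with hδ | hδ <;> rcases Sh.hε'' with he | he <;> rw [hδ, he] at hd <;>
      rw [hδ, he] <;> constructor <;> linarith
  -- profiles
  have PS : ∀ ν : IrrCharacter c.K, V c ν lam1 S =
      -δ * (if ν = oneK c then 1 else 0) + -δ * (if ν = lam0 then 1 else 0) := by
    intro ν
    rcases L.cases ν with e | e | e | e | e
    · rw [e, if_pos rfl, if_neg L.one_ne_lam0, Sh.u1_apply, if_neg Sh.So, if_neg Sh.XS.symm,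
        if_pos rfl]; ring
    · rw [e, if_neg L.ne0, if_pos rfl, Sh.u0_apply, if_pos rfl, if_neg Sh.Y'S.symm,
        if_neg Sh.Y''S.symm]; ring
    · rw [e, if_neg L.lam1_ne_one, if_neg L.lam1_ne_lam0, V_self]; ring
    · rw [e, if_neg L.cbar_lam1_ne_one, if_neg L.cbar_lam1_ne_lam0, V_cbar_lam1 L]; ring
    · rw [if_neg e.ne_one, if_neg (L.other_ne_lam0 e)]
      rcases hall ν e with e' | e'
      · rw [e', hS]; ring
      · rw [e', hvc, hS]; ring
  have PY' : ∀ ν : IrrCharacter c.K, V c ν lam1 Y' =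
      -δ * (if ν = lam0 then 1 else 0) + -δ * (if ν = μ then 1 else 0) +
        -δ * (if ν = cbar c μ then 1 else 0) := by
    intro ν
    rcases L.cases ν with e | e | e | e | e
    · rw [e, if_neg L.one_ne_lam0, if_neg (Ne.symm h.ne_one), if_neg (Ne.symm h.cbar_ne_one),
        Sh.u1_apply, if_neg Sh.Y'o, if_neg Sh.Y'X, if_neg Sh.Y'S]; ring
    · rw [e, if_pos rfl, if_neg (Ne.symm (L.other_ne_lam0 h)),
        if_neg (Ne.symm (L.other_cbar_ne_lam0 h)), hu0Y', hε']; ring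
    · rw [e, if_neg L.lam1_ne_lam0, if_neg (Ne.symm h.2.1), if_neg h.lam1_ne_cbar, V_self]; ring
    · have h1 : cbar c lam1 ≠ μ := Ne.symm h.2.2
      have h2 : cbar c lam1 ≠ cbar c μ := fun h' => h.2.1 (cbar_inj c h').symm
      rw [e, if_neg L.cbar_lam1_ne_lam0, if_neg h1, if_neg h2, V_cbar_lam1 L]; ring
    · rw [if_neg (L.other_ne_lam0 e)]
      rcases hall ν e with e' | e'
      · rw [e', if_pos rfl, if_neg (fun h' => h.1 h'.symm), hvB]; ring
      · rw [e', if_neg h.1, if_pos rfl, hvc, hvB]; ring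
  have hvY'' : V c μ lam1 Y'' = 0 := hz Y'' Sh.Y''X Sh.Y'Y''.symm
  have PY'' : ∀ ν : IrrCharacter c.K, V c ν lam1 Y'' = δ * (if ν = lam0 then 1 else 0) := by
    intro ν
    rcases L.cases ν with e | e | e | e | e
    · rw [e, if_neg L.one_ne_lam0, Sh.u1_apply, if_neg Sh.Y''o, if_neg Sh.Y''X, if_neg Sh.Y''S]; ring
    · rw [e, if_pos rfl, Sh.u0_apply, if_neg Sh.Y''S, if_neg Sh.Y'Y''.symm, if_pos rfl, hε''.1]; ring
    · rw [e, if_neg L.lam1_ne_lam0, V_self]; ring
    · rw [e, if_neg L.cbar_lam1_ne_lam0, V_cbar_lam1 L]; ring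
    · rw [if_neg (L.other_ne_lam0 e)]
      rcases hall ν e with e' | e'
      · rw [e', hvY'']; ring
      · rw [e', hvc, hvY'']; ring
  -- values at t
  set a : ℂ := (lam0 : c.K → ℂ) (tK c) with ha
  set η : ℂ := (μ : c.K → ℂ) (tK c) with hη
  have hSt : (S : G → ℂ) c.t = -(δ : ℂ) * (1 + a) := by
    have := value_ne_one lam1 S (tK c) (tK_ne_one c)
    simp_rw [PS] at this
    simp only [Int.cast_add, Int.cast_mul, Int.cast_neg, add_mul, Finset.sum_add_distrib, mul_assoc,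
      ← Finset.mul_sum, sum_ind, neg_mul, Finset.sum_neg_distrib] at this
    rw [show ((tK c : c.K) : G) = c.t from rfl] at this
    rw [this, Cfsg.Agent.Lib.Helper81.oneIrr_apply]
    ring
  have hY't : (Y' : G → ℂ) c.t = -(δ : ℂ) * (a + 2 * η) := by
    have := value_ne_one lam1 Y' (tK c) (tK_ne_one c)
    simp_rw [PY'] at this
    simp only [Int.cast_add, Int.cast_mul, Int.cast_neg, add_mul, Finset.sum_add_distrib, mul_assoc,
      ← Finset.mul_sum, sum_ind, neg_mul, Finset.sum_neg_distrib] at this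
    rw [show ((tK c : c.K) : G) = c.t from rfl] at this
    rw [this, cbar_t]
    ring
  have hY''t : (Y'' : G → ℂ) c.t = (δ : ℂ) * a := by
    have := value_ne_one lam1 Y'' (tK c) (tK_ne_one c)
    simp_rw [PY''] at this
    simp only [Int.cast_mul, mul_assoc, ← Finset.mul_sum, sum_ind] at this
    rw [show ((tK c : c.K) : G) = c.t from rfl] at this
    exact this
  -- the class equation
  have hce := class_eq c lam0 lam1
  rw [if_neg L.ne0, if_neg L.lam1_ne_one, sub_self, mul_zero, Sh.sum_u0, hSt, hY't, hY''t,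
    deg_spec, deg_spec, deg_spec, hε', hε''.1, hε''.2, hdB] at hce
  have hδC : (δ : ℂ) * (δ : ℂ) = 1 := by exact_mod_cast hδ2
  have hfS : (deg S : ℂ) ≠ 0 := by exact_mod_cast (deg_pos S).ne'
  have hfX : (deg X : ℂ) ≠ 0 := by exact_mod_cast (deg_pos X).ne'
  have hfSX : ((deg S + deg X : ℤ) : ℂ) ≠ 0 := by
    have := deg_pos S; have := deg_pos X
    exact_mod_cast (by omega : deg S + deg X ≠ 0)
  -- integrality of the squares
  obtain ⟨A, B, hA0, hB1, hA, hB, ha2⟩ : ∃ A B : ℤ, 0 ≤ A ∧ 1 ≤ B ∧ (1 + a) * (1 + a) = (A : ℂ) ∧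
      (a + 2 * η) * (a + 2 * η) = (B : ℂ) ∧ a * a = 1 := by
    rcases irr_t_cases c lam0 with e1 | e1 <;> rcases irr_t_cases c μ with e2 | e2
    · refine ⟨4, 9, by norm_num, by norm_num, ?_, ?_, ?_⟩ <;> rw [ha, e1] <;>
        (try rw [hη, e2]) <;> norm_num
    · refine ⟨4, 1, by norm_num, by norm_num, ?_, ?_, ?_⟩ <;> rw [ha, e1] <;>
        (try rw [hη, e2]) <;> norm_num
    · refine ⟨0, 1, by norm_num, by norm_num, ?_, ?_, ?_⟩ <;> rw [ha, e1] <;>
        (try rw [hη, e2]) <;> norm_num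
    · refine ⟨0, 9, by norm_num, by norm_num, ?_, ?_, ?_⟩ <;> rw [ha, e1] <;>
        (try rw [hη, e2]) <;> norm_num
  have hmain : (A : ℂ) / (deg S : ℂ) + (B : ℂ) / (deg X : ℂ) =
      1 / ((deg S + deg X : ℤ) : ℂ) := by
    have e1 : -(δ : ℂ) * (1 + a) * (-(δ : ℂ) * (1 + a)) = (A : ℂ) := by
      rw [← hA]; linear_combination ((1 + a) * (1 + a)) * hδC
    have e2 : -(δ : ℂ) * (a + 2 * η) * (-(δ : ℂ) * (a + 2 * η)) = (B : ℂ) := by
      rw [← hB]; linear_combination ((a + 2 * η) * (a + 2 * η)) * hδC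
    have e3 : (δ : ℂ) * a * ((δ : ℂ) * a) = 1 := by
      linear_combination (a * a) * hδC + ha2
    rw [e1, e2, e3] at hce
    have h6 : (δ : ℂ) * (-(δ : ℂ) * ((A : ℂ) / (deg S : ℂ)) +
        ((-δ : ℤ) : ℂ) * ((B : ℂ) / (deg X : ℂ)) +
        (δ : ℂ) * (1 / ((deg S + deg X : ℤ) : ℂ))) = 0 := by rw [hce, mul_zero]
    push_cast at h6 ⊢
    linear_combination (-1 : ℂ) * h6 - ((A : ℂ) / (deg S : ℂ) + (B : ℂ) / (deg X : ℂ) -
      1 / ((deg S : ℂ) + (deg X : ℂ))) * hδC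
  rw [div_add_div _ _ hfS hfX, div_eq_div_iff (mul_ne_zero hfS hfX) hfSX] at hmain
  have hZ : (A * deg X + deg S * B) * (deg S + deg X) = 1 * (deg S * deg X) := by
    exact_mod_cast hmain
  have h1 := deg_pos S
  have h2 := deg_pos X
  nlinarith [mul_pos h1 h2, mul_pos h1 h1, mul_nonneg hA0 h2.le]

/-- the bad type does not occur -/
theorem no_bad (L : Lam c lam0 lam1) (Sh : Shape c lam0 lam1 δ X S Y' Y'' ε' ε'')
    {μ : IrrCharacter c.K} (h : Other c lam1 μ) :
    V c μ lam1 S = -δ ∧ V c μ lam1 X = 0 := by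
  rcases other_dichotomy L Sh h with hg | ⟨hX, hS⟩
  · exact hg
  · exfalso
    obtain ⟨B, hBX, hBS, hBo, hvB, hz, hdB, hu0B⟩ := bad_struct L Sh h hX hS
    have hBY : B = Y' ∨ B = Y'' := by
      by_contra hB
      push Not at hB
      rw [Sh.u0_apply, if_neg hBS, if_neg hB.1, if_neg hB.2] at hu0B
      rcases Sh.hδ with hd | hd <;> rw [hd] at hu0B <;> omega
    rcases hBY with e | e
    · subst e
      exact no_bad_aux L Sh h hX hS hvB hz hdB
    · subst e
      exact no_bad_aux L Sh.swap h hX hS hvB hz hdB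

end Cfsg.Agent.Lib.Helper69.BSW
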