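import Mathlib
import Cfsg.Agent.Lib.Helper69.BSWChar5e

/-!
# BSW configuration: the numerical consequences of the class equations
-/

set_option autoImplicit false
set_option linter.unusedSectionVars false

namespace Cfsg.Agent.Lib.Helper69.BSW

open Cfsg
open scoped ComplexConjugate
open Cfsg.Agent.Lib.Helper25
open Cfsg.Agent.Lib.Helper69.StarG

universe u

variable {G : Type u} [Group G] [Fintype G]

variable {c : Cfg G} [Fintype c.K] [Fintype (IrrCharacter c.K)] [Fintype (IrrCharacter G)]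
  [DecidableEq (IrrCharacter G)] [DecidableEq (IrrCharacter c.K)]

variable {lam0 lam1 : IrrCharacter c.K} {δ : ℤ} {X S Y' Y'' : IrrCharacter G} {ε' ε'' : ℤ}

theorem Lam.lam1_ne_cbar (L : Lam c lam0 lam1) : lam1 ≠ cbar c lam1 := fun h => L.nr1 h.symm

/-- profile of `X` -/
theorem profile_X (L : Lam c lam0 lam1) (Sh : Shape c lam0 lam1 δ X S Y' Y'' ε' ε'')
    (ν : IrrCharacter c.K) : V c ν lam1 X = δ * (if ν = oneK c then 1 else 0) := by
  rcases L.cases ν with e | e | e | e | e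
  · rw [e, if_pos rfl, Sh.u1_apply, if_neg Sh.Xo, if_pos rfl, if_neg Sh.XS]; ring
  · rw [e, if_neg L.ne0, Sh.u0_apply, if_neg Sh.XS, if_neg Sh.Y'X.symm, if_neg Sh.Y''X.symm]; ring
  · rw [e, if_neg L.lam1_ne_one, V_self]; ring
  · rw [e, if_neg L.cbar_lam1_ne_one, V_cbar_lam1 L]; ring
  · rw [if_neg e.ne_one, (no_bad L Sh e).2]; ring

/-- profile of `S` -/
theorem profile_S (L : Lam c lam0 lam1) (Sh : Shape c lam0 lam1 δ X S Y' Y'' ε' ε'')
    (ν : IrrCharacter c.K) : V c ν lam1 S =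
      -δ + δ * (if ν = lam1 then 1 else 0) + δ * (if ν = cbar c lam1 then 1 else 0) := by
  rcases L.cases ν with e | e | e | e | e
  · rw [e, if_neg (Ne.symm L.lam1_ne_one), if_neg (Ne.symm L.cbar_lam1_ne_one), Sh.u1_apply,
      if_neg Sh.So, if_neg Sh.XS.symm, if_pos rfl]; ring
  · rw [e, if_neg (Ne.symm L.lam1_ne_lam0), if_neg (Ne.symm L.cbar_lam1_ne_lam0), Sh.u0_apply,
      if_pos rfl, if_neg Sh.Y'S.symm, if_neg Sh.Y''S.symm]; ring
  · rw [e, if_pos rfl, if_neg L.lam1_ne_cbar, V_self]; ring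
  · rw [e, if_neg L.nr1, if_pos rfl, V_cbar_lam1 L]; ring
  · rw [if_neg e.2.1, if_neg e.2.2, (no_bad L Sh e).1]; ring

/-- profile of `Y'` -/
theorem profile_Y' (L : Lam c lam0 lam1) (Sh : Shape c lam0 lam1 δ X S Y' Y'' ε' ε'')
    (ν : IrrCharacter c.K) : V c ν lam1 Y' = ε' * (if ν = lam0 then 1 else 0) := by
  rcases L.cases ν with e | e | e | e | e
  · rw [e, if_neg L.one_ne_lam0, Sh.u1_apply, if_neg Sh.Y'o, if_neg Sh.Y'X, if_neg Sh.Y'S]; ring
  · rw [e, if_pos rfl, Sh.u0_apply, if_neg Sh.Y'S, if_pos rfl, if_neg Sh.Y'Y'']; ring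
  · rw [e, if_neg L.lam1_ne_lam0, V_self]; ring
  · rw [e, if_neg L.cbar_lam1_ne_lam0, V_cbar_lam1 L]; ring
  · rw [if_neg (L.other_ne_lam0 e), (good_props L Sh e (no_bad L Sh e).1).1]; ring

theorem X_at_t (L : Lam c lam0 lam1) (Sh : Shape c lam0 lam1 δ X S Y' Y'' ε' ε'') :
    (X : G → ℂ) c.t = (δ : ℂ) := by
  have := value_ne_one lam1 X (tK c) (tK_ne_one c)
  simp_rw [profile_X L Sh] at this
  simp only [Int.cast_mul, mul_assoc, ← Finset.mul_sum, sum_ind] at this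
  rw [show ((tK c : c.K) : G) = c.t from rfl] at this
  rw [this, Cfsg.Agent.Lib.Helper81.oneIrr_apply, mul_one]

/-- values of `S` on `K \ 1` -/
theorem S_on_K (L : Lam c lam0 lam1) (Sh : Shape c lam0 lam1 δ X S Y' Y'' ε' ε'') (x : c.K)
    (hx : x ≠ 1) :
    (S : G → ℂ) x = (δ : ℂ) * ((lam1 : c.K → ℂ) x + conj ((lam1 : c.K → ℂ) x)) := by
  classical
  have := value_ne_one lam1 S x hx
  simp_rw [profile_S L Sh] at this
  simp only [Int.cast_add, Int.cast_mul, Int.cast_neg, add_mul, Finset.sum_add_distrib, mul_assoc,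
    ← Finset.mul_sum, sum_ind, neg_mul, Finset.sum_neg_distrib] at this
  rw [this, sum_irr_apply, if_neg hx, cbar_apply']
  ring

theorem S_at_t (L : Lam c lam0 lam1) (Sh : Shape c lam0 lam1 δ X S Y' Y'' ε' ε'') :
    (S : G → ℂ) c.t = 2 * (δ : ℂ) * (lam1 : c.K → ℂ) (tK c) := by
  have := S_on_K L Sh (tK c) (tK_ne_one c)
  rw [show ((tK c : c.K) : G) = c.t from rfl] at this
  rw [this, ← cbar_apply', cbar_t]
  ring

theorem Y'_at_t (L : Lam c lam0 lam1) (Sh : Shape c lam0 lam1 δ X S Y' Y'' ε' ε'') :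
    (Y' : G → ℂ) c.t = (ε' : ℂ) * (lam0 : c.K → ℂ) (tK c) := by
  have := value_ne_one lam1 Y' (tK c) (tK_ne_one c)
  simp_rw [profile_Y' L Sh] at this
  simp only [Int.cast_mul, mul_assoc, ← Finset.mul_sum, sum_ind] at this
  rw [show ((tK c : c.K) : G) = c.t from rfl] at this
  exact this

/-- degree of `Y'` -/
theorem deg_Y' (L : Lam c lam0 lam1) (Sh : Shape c lam0 lam1 δ X S Y' Y'' ε' ε'') :
    deg Y' = ε' + mult c Y' lam1 * (Nat.card c.K : ℤ) := by
  have := value_one lam1 Y'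
  simp_rw [profile_Y' L Sh] at this
  have h2 : ∑ ν : IrrCharacter c.K, ((ε' * (if ν = lam0 then 1 else 0) : ℤ) : ℂ) = (ε' : ℂ) := by
    have := sum_ind lam0 (fun _ => (1 : ℂ)) (c := c)
    simp only [mul_one] at this
    simp only [Int.cast_mul, ← Finset.mul_sum, this, mul_one]
  rw [h2] at this
  exact_mod_cast this

theorem sq_of_pm {z : ℤ} (h : z = 1 ∨ z = -1) : z * z = 1 := by
  rcases h with h | h <;> rw [h] <;> norm_num

/-- the main numerical result -/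
theorem numeric (L : Lam c lam0 lam1) (Sh : Shape c lam0 lam1 δ X S Y' Y'' ε' ε'') :
    (nInv G : ℤ) = ((Nat.card c.K : ℤ) + δ) * (2 * (Nat.card c.K : ℤ) + δ) ∧
      deg X = 2 * (Nat.card c.K : ℤ) + δ ∧ deg S = 2 * (Nat.card c.K : ℤ) + 2 * δ := by
  classical
  have hδ2 := Sh.sq
  have hε'2 := sq_of_pm Sh.hε'
  have hε''2 := sq_of_pm Sh.hε''
  have hδC : (δ : ℂ) * (δ : ℂ) = 1 := by exact_mod_cast hδ2
  have hε'C : (ε' : ℂ) * (ε' : ℂ) = 1 := by exact_mod_cast hε'2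
  have hε''C : (ε'' : ℂ) * (ε'' : ℂ) = 1 := by exact_mod_cast hε''2
  have hl1 := irr_t_sq c lam1
  have hl0 := irr_t_sq c lam0
  set f := deg S with hf
  set x := deg X with hx
  set y' := deg Y' with hy'
  set y'' := deg Y'' with hy''
  have hfpos : 0 < f := deg_pos S
  have hxpos : 0 < x := deg_pos X
  have hy'pos : 0 < y' := deg_pos Y'
  have hy''pos : 0 < y'' := deg_pos Y''
  have hfC : (f : ℂ) ≠ 0 := by exact_mod_cast hfpos.ne'
  have hxC : (x : ℂ) ≠ 0 := by exact_mod_cast hxpos.ne'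
  have hy'C : (y' : ℂ) ≠ 0 := by exact_mod_cast hy'pos.ne'
  have hy''C : (y'' : ℂ) ≠ 0 := by exact_mod_cast hy''pos.ne'
  -- second class equation
  have hce0 := class_eq c lam0 lam1
  rw [if_neg L.ne0, if_neg L.lam1_ne_one, sub_self, mul_zero, Sh.sum_u0, S_at_t L Sh,
    Y'_at_t L Sh, Y'_at_t L Sh.swap, deg_spec, deg_spec, deg_spec] at hce0
  have hE : -4 * δ * y' * y'' + ε' * f * y'' + ε'' * f * y' = 0 := by
    have h1 : -(δ : ℂ) * (4 / (f : ℂ)) + (ε' : ℂ) * (1 / (y' : ℂ)) + (ε'' : ℂ) * (1 / (y'' : ℂ)) = 0 := by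
      rw [← hce0]
      have e1 : 2 * (δ : ℂ) * (lam1 : c.K → ℂ) (tK c) * (2 * (δ : ℂ) * (lam1 : c.K → ℂ) (tK c)) = 4 := by
        linear_combination (4 * (δ : ℂ) * (δ : ℂ)) * hl1 + 4 * hδC
      have e2 : (ε' : ℂ) * (lam0 : c.K → ℂ) (tK c) * ((ε' : ℂ) * (lam0 : c.K → ℂ) (tK c)) = 1 := by
        linear_combination ((ε' : ℂ) * (ε' : ℂ)) * hl0 + hε'C
      have e3 : (ε'' : ℂ) * (lam0 : c.K → ℂ) (tK c) * ((ε'' : ℂ) * (lam0 : c.K → ℂ) (tK c)) = 1 := by
        linear_combination ((ε'' : ℂ) * (ε'' : ℂ)) * hl0 + hε''C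
      rw [e1, e2, e3]
    have h2 : (-4 * (δ : ℂ) * y' * y'' + ε' * f * y'' + ε'' * f * y') = 0 := by
      have h3 := congrArg (fun z => z * ((f : ℂ) * y' * y'')) h1
      simp only [zero_mul] at h3
      rw [← h3]
      field_simp
    exact_mod_cast h2
  -- a = ε' y', b = ε'' y''
  have hdeg0 := Sh.degu0
  have h1 : -4 * δ * (ε' * y') * (ε'' * y'') + f * (ε' * y' + ε'' * y'') = 0 := by
    linear_combination (ε' * ε'') * hE - (ε'' * f * y'') * hε'2 - (ε' * f * y') * hε''2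
  have h2 : ε' * y' + ε'' * y'' - δ * f = 0 := by linarith
  have hab : (ε' * y' - ε'' * y'') * (ε' * y' - ε'' * y'') = 0 := by
    linear_combination (ε' * y' + ε'' * y'') * h2 + δ * h1 + 4 * (ε' * y') * (ε'' * y'') * hδ2
  have hab' : ε' * y' = ε'' * y'' := by
    have := mul_self_eq_zero.mp hab
    linarith
  have h2a : 2 * (ε' * y') = δ * f := by linarith
  have hε'δ : ε' = δ ∧ 2 * y' = f := by
    rcases Sh.hδ with hd | hd <;> rcases Sh.hε' with he | he <;> rw [hd, he] at h2a <;>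
      rw [hd, he] <;> constructor <;> linarith
  -- degrees
  have hdY' := deg_Y' L Sh
  rw [← hy', hε'δ.1] at hdY'
  set M := mult c Y' lam1 with hM
  have hM0 : 0 ≤ M := mult_nonneg c Y' lam1
  set k : ℤ := (Nat.card c.K : ℤ) with hk
  have hkpos : 0 < k := by rw [hk]; exact_mod_cast Nat.card_pos
  have hf' : f = 2 * M * k + 2 * δ := by linarith
  have hx' : x = 2 * M * k + δ := by have := Sh.degS; rw [← hf, ← hx] at this; linarith
  -- first class equation
  have hce1 := class_eq c (oneK c) lam1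
  rw [if_pos rfl, if_neg L.lam1_ne_one, sub_zero, mul_one, Sh.sum_u1, S_at_t L Sh, X_at_t L Sh,
    Cfsg.Agent.Lib.Helper81.oneIrr_apply, Cfsg.Agent.Lib.Helper81.oneIrr_apply,
    deg_spec X, deg_spec S, card_G c] at hce1
  have hn0 : 0 < nInv G := by
    unfold nInv
    rw [Set.ncard_pos]
    exact ⟨c.t, c.t_inv⟩
  set n : ℤ := (nInv G : ℤ) with hn
  have hnpos : 0 < n := by rw [hn]; exact_mod_cast hn0
  have hnC : ((nInv G : ℕ) : ℂ) ≠ 0 := by exact_mod_cast hn0.ne'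
  have hkC : ((Nat.card c.K : ℕ) : ℂ) ≠ 0 := by exact_mod_cast Nat.card_pos.ne'
  have hF : n * (x * f + δ * f - 4 * δ * x) = 2 * k * k * (x * f) := by
    have h3 : 1 + (δ : ℂ) * (1 / (x : ℂ)) - (δ : ℂ) * (4 / (f : ℂ)) =
        2 * (k : ℂ) * k / (n : ℂ) := by
      have e1 : 2 * (δ : ℂ) * (lam1 : c.K → ℂ) (tK c) * (2 * (δ : ℂ) * (lam1 : c.K → ℂ) (tK c)) = 4 := by
        linear_combination (4 * (δ : ℂ) * (δ : ℂ)) * hl1 + 4 * hδC
      rw [e1, hδC] at hce1
      rw [hk, hn]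
      push_cast
      rw [show (1 : ℂ) * 1 / 1 = 1 by norm_num] at hce1
      rw [hce1]
      push_cast
      field_simp
    have hnC' : (n : ℂ) ≠ 0 := by rw [hn]; exact_mod_cast hn0.ne'
    have h4 : (n : ℂ) * ((x : ℂ) * f + δ * f - 4 * δ * x) = 2 * k * k * ((x : ℂ) * f) := by
      have h5 := congrArg (fun z => z * ((n : ℂ) * x * f)) h3
      beta_reduce at h5
      have e5 : (1 + (δ : ℂ) * (1 / (x : ℂ)) - (δ : ℂ) * (4 / (f : ℂ))) * ((n : ℂ) * x * f) =
          (n : ℂ) * ((x : ℂ) * f + δ * f - 4 * δ * x) := by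
        field_simp
      have e6 : 2 * (k : ℂ) * k / (n : ℂ) * ((n : ℂ) * x * f) = 2 * k * k * ((x : ℂ) * f) := by
        field_simp
      rw [e5, e6] at h5
      exact h5
    exact_mod_cast h4
  -- simplify: n M² = (2Mk+δ)(Mk+δ)
  have hbr : x * f + δ * f - 4 * δ * x = 4 * M * M * k * k := by
    rw [hf', hx']
    ring
  rw [hbr] at hF
  have hG : n * (M * M) = (2 * M * k + δ) * (M * k + δ) := by
    have h5 : (4 * k * k) * (n * (M * M)) = (4 * k * k) * ((2 * M * k + δ) * (M * k + δ)) := by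
      rw [hf', hx'] at hF
      linear_combination hF
    exact mul_left_cancel₀ (by positivity) h5
  -- M = 1
  have hM1 : M = 1 := by
    have hdvd : M ∣ 1 := by
      have h6 : M ∣ (2 * M * k + δ) * (M * k + δ) := ⟨n * M, by rw [← hG]; ring⟩
      have h7 : (2 * M * k + δ) * (M * k + δ) = M * (2 * M * k * k + 3 * δ * k) + δ * δ := by ring
      rw [h7, hδ2] at h6
      exact (dvd_add_right (Dvd.intro _ rfl)).mp h6
    have := Int.eq_one_of_dvd_one hM0 hdvd
    exact this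
  rw [hM1] at hG hf' hx'
  refine ⟨?_, ?_, ?_⟩
  · have : n = (2 * k + δ) * (k + δ) := by linarith
    rw [this]; ring
  · rw [hx']; ring
  · rw [hf']; ring

end Cfsg.Agent.Lib.Helper69.BSW
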