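import Mathlib
import Cfsg.Agent.Lib.Helper69.BSWChar6
import Cfsg.Agent.Lib.Helper74.DZ4

/-!
# BSW configuration: the bound for the number of `p`-singular elements
-/

set_option autoImplicit false
set_option linter.unusedSectionVars false

namespace Cfsg.Agent.Lib.Helper69.BSW

open Cfsg
open scoped ComplexConjugate
open Cfsg.Agent.Lib.Helper25
open Cfsg.Agent.Lib.Helper69.StarG

universe u

variable {G : Type u} [Group G] [Fintype G]

variable {c : Cfg G} [Fintype c.K] [Fintype (IrrCharacter c.K)] [Fintype (IrrCharacter G)]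
  [DecidableEq (IrrCharacter G)] [DecidableEq (IrrCharacter c.K)]

variable {lam0 lam1 : IrrCharacter c.K} {δ : ℤ} {X S Y' Y'' : IrrCharacter G} {ε' ε'' : ℤ}

/-- `g` is conjugate to a nonidentity element of `K` -/
def InK (c : Cfg G) (g : G) : Prop := ∃ y : G, y⁻¹ * g * y ∈ c.K ∧ y⁻¹ * g * y ≠ 1

theorem orderOf_conj' (y g : G) : orderOf (y⁻¹ * g * y) = orderOf g := by
  have h := (MulAut.conj y⁻¹).orderOf_eq g
  rw [MulAut.conj_apply, inv_inv] at h
  exact h

theorem InK.orderOf_dvd {g : G} (h : InK c g) : orderOf g ∣ Nat.card c.K := by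
  obtain ⟨y, hy, _⟩ := h
  have h1 := orderOf_dvd_natCard (⟨y⁻¹ * g * y, hy⟩ : c.K)
  rw [← Subgroup.orderOf_coe] at h1
  rw [← orderOf_conj' y g]
  exact h1

theorem InK.ne_one {g : G} (h : InK c g) : g ≠ 1 := by
  obtain ⟨y, _, hy⟩ := h
  intro h1
  apply hy
  rw [h1]; group

theorem not_dvd_pm {p : ℕ} (hp : p.Prime) {δ : ℤ} (hδ : δ = 1 ∨ δ = -1) : ¬ (p : ℤ) ∣ δ := by
  intro h
  have h1 : (p : ℤ) ∣ 1 := by
    rcases hδ with e | e
    · rw [e] at h; exact h
    · rw [e] at h; exact (dvd_neg.mp h)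
  have h2 : p ∣ 1 := by exact_mod_cast h1
  have := Nat.le_of_dvd one_pos h2
  have := hp.one_lt
  omega

/-- off the conjugates of `K \ 1`: `S = δ + X` -/
theorem S_off (Sh : Shape c lam0 lam1 δ X S Y' Y'' ε' ε'') (g : G) (hg : ¬ InK c g) :
    (S : G → ℂ) g = (δ : ℂ) + (X : G → ℂ) g := by
  have hδC : (δ : ℂ) * (δ : ℂ) = 1 := by exact_mod_cast Sh.sq
  have h1 := indFun_expand c (oneK c) lam1 g
  rw [indFun_vanish c _ (sub_apply_one c _ _) g
    (fun y hy => by by_contra h; exact hg ⟨y, hy, h⟩),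
    Sh.sum_u1 (fun χ => (χ : G → ℂ) g)] at h1
  have h2 : ((oneG G : IrrCharacter G) : G → ℂ) g = 1 := Cfsg.Agent.Lib.Helper81.oneIrr_apply g
  rw [h2] at h1
  linear_combination (δ : ℂ) * h1 + ((X : G → ℂ) g - (S : G → ℂ) g) * hδC

/-- the norm of an irreducible character -/
theorem sum_normSq (S : IrrCharacter G) :
    ∑ g : G, Complex.normSq ((S : G → ℂ) g) = (Nat.card G : ℝ) := by
  have h := Cfsg.Agent.Lib.Helper3.classInner_irr S.2 S.2
  rw [if_pos rfl, classInner_def] at h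
  have hG : (Nat.card G : ℂ) ≠ 0 := by exact_mod_cast Nat.card_pos.ne'
  have h2 : ∑ g : G, (S : G → ℂ) g * conj ((S : G → ℂ) g) = (Nat.card G : ℂ) := by
    have h3 := congrArg (fun z => (Nat.card G : ℂ) * z) h
    beta_reduce at h3
    rw [← mul_assoc, mul_inv_cancel₀ hG, one_mul, mul_one] at h3
    exact h3
  have h3 : ((∑ g : G, Complex.normSq ((S : G → ℂ) g) : ℝ) : ℂ) = ((Nat.card G : ℝ) : ℂ) := by
    push_cast
    rw [← h2]
    apply Finset.sum_congr rfl
    intro g _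
    rw [Complex.mul_conj]
  exact_mod_cast h3

open Classical in
/-- `|S|²` on `K \ 1` -/
noncomputable def phi (c : Cfg G) (S : IrrCharacter G) : c.K → ℂ :=
  fun x => if x = 1 then 0 else (S : G → ℂ) x * conj ((S : G → ℂ) x)

theorem phi_one (S : IrrCharacter G) : phi c S 1 = 0 := by
  unfold phi
  rw [if_pos rfl]

theorem phi_ne (S : IrrCharacter G) {x : c.K} (hx : x ≠ 1) :
    phi c S x = (S : G → ℂ) x * conj ((S : G → ℂ) x) := by
  unfold phi
  rw [if_neg hx]

theorem F_off (S : IrrCharacter G) (g : G) (hg : ¬ InK c g) : indFun c.K (phi c S) g = 0 :=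
  indFun_vanish c _ (phi_one S) g (fun y hy => by by_contra h; exact hg ⟨y, hy, h⟩)

theorem F_on (S : IrrCharacter G) (g : G) (hg : InK c g) :
    indFun c.K (phi c S) g = 2 * ((S : G → ℂ) g * conj ((S : G → ℂ) g)) := by
  obtain ⟨y, hy, hy1⟩ := hg
  have h1 := indFun_isClassFunction c.K (phi c S) g y⁻¹
  rw [inv_inv] at h1
  have h2 := irr_isClass S g y⁻¹
  rw [inv_inv] at h2
  rw [← h1, ← h2]
  set x : c.K := ⟨y⁻¹ * g * y, hy⟩ with hx
  have hx1 : x ≠ 1 := fun h => hy1 (congrArg Subtype.val h)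
  have hx1' : x⁻¹ ≠ 1 := fun h => hx1 (inv_eq_one.mp h)
  have h3 := indFun_restrict_K c (phi c S) (phi_one S) x
  rw [show ((x : c.K) : G) = y⁻¹ * g * y from rfl] at h3
  rw [h3, phi_ne S hx1, phi_ne S hx1']
  have h4 : (S : G → ℂ) ((x⁻¹ : c.K) : G) = conj ((S : G → ℂ) (x : G)) := by
    rw [Subgroup.coe_inv]
    exact Cfsg.Agent.Lib.Helper3.IsCharacter.inv (irr_isChar S) (x : G)
  rw [h4, Complex.conj_conj, show ((x : c.K) : G) = y⁻¹ * g * y from rfl]
  ring

theorem sum_F (S : IrrCharacter G) :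
    ∑ g : G, indFun c.K (phi c S) g =
      (Nat.card G : ℂ) * (Nat.card c.K : ℂ)⁻¹ * ∑ x : c.K, phi c S x := by
  have hcl : IsClassFunction G (fun _ : G => (1 : ℂ)) := fun _ _ => rfl
  have h := frobenius_reciprocity c.K (phi c S) (fun _ : G => (1 : ℂ)) hcl
  rw [classInner_def, classInner_def] at h
  simp only [map_one, mul_one] at h
  have hG : (Nat.card G : ℂ) ≠ 0 := by exact_mod_cast Nat.card_pos.ne'
  have h3 := congrArg (fun z => (Nat.card G : ℂ) * z) h
  beta_reduce at h3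
  rw [← mul_assoc, mul_inv_cancel₀ hG, one_mul] at h3
  rw [h3]
  ring

theorem sum_mul_conj_K (a b : IrrCharacter c.K) :
    ∑ x : c.K, (a : c.K → ℂ) x * conj ((b : c.K → ℂ) x) =
      (Nat.card c.K : ℂ) * (if a = b then 1 else 0) := by
  have h := classInner_irr_K' c a b
  rw [classInner_def] at h
  have hK : (Nat.card c.K : ℂ) ≠ 0 := by exact_mod_cast Nat.card_pos.ne'
  rw [← h, ← mul_assoc, mul_inv_cancel₀ hK, one_mul]

theorem sum_phi (L : Lam c lam0 lam1) (Sh : Shape c lam0 lam1 δ X S Y' Y'' ε' ε'') :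
    ∑ x : c.K, phi c S x = 2 * (Nat.card c.K : ℂ) - 4 := by
  classical
  have hδC : (δ : ℂ) * (δ : ℂ) = 1 := by exact_mod_cast Sh.sq
  have h1 : ∀ x : c.K, phi c S x =
      ((lam1 : c.K → ℂ) x * conj ((lam1 : c.K → ℂ) x) +
        (lam1 : c.K → ℂ) x * conj ((cbar c lam1 : c.K → ℂ) x) +
        (cbar c lam1 : c.K → ℂ) x * conj ((lam1 : c.K → ℂ) x) +
        (cbar c lam1 : c.K → ℂ) x * conj ((cbar c lam1 : c.K → ℂ) x)) -
        (if x = 1 then 4 else 0) := by
    intro x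
    by_cases hx : x = 1
    · rw [hx, phi_one, if_pos rfl, irr_apply_one_K, irr_apply_one_K]
      simp only [map_one, mul_one]
      norm_num
    · rw [phi_ne S hx, if_neg hx, S_on_K L Sh x hx, cbar_apply']
      simp only [map_mul, map_add, Complex.conj_conj, map_intCast]
      linear_combination (((lam1 : c.K → ℂ) x + conj ((lam1 : c.K → ℂ) x)) *
        (conj ((lam1 : c.K → ℂ) x) + (lam1 : c.K → ℂ) x)) * hδC
  simp_rw [h1]
  rw [Finset.sum_sub_distrib, Finset.sum_add_distrib, Finset.sum_add_distrib,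
    Finset.sum_add_distrib, sum_mul_conj_K, sum_mul_conj_K, sum_mul_conj_K, sum_mul_conj_K,
    if_pos rfl, if_pos rfl, if_neg L.lam1_ne_cbar, if_neg (Ne.symm L.lam1_ne_cbar)]
  simp only [Finset.sum_ite_eq', Finset.mem_univ, if_true]
  ring

end Cfsg.Agent.Lib.Helper69.BSW
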