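import Mathlib
import Cfsg.Agent.Lib.Helper69.BSWChar7

/-!
# BSW configuration: the bound for the number of `p`-singular elements (main inequality)
-/

set_option autoImplicit false
set_option linter.unusedSectionVars false

namespace Cfsg.Agent.Lib.Helper69.BSW

open Cfsg
open scoped ComplexConjugate
open Cfsg.Agent.Lib.Helper25
open Cfsg.Agent.Lib.Helper69.StarG

universe u

variable {G : Type u} [Group G] [Fintype G]

variable {c : Cfg G} [Fintype c.K] [Fintype (IrrCharacter c.K)] [Fintype (IrrCharacter G)]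
  [DecidableEq (IrrCharacter G)] [DecidableEq (IrrCharacter c.K)]

variable {lam0 lam1 : IrrCharacter c.K} {δ : ℤ} {X S Y' Y'' : IrrCharacter G} {ε' ε'' : ℤ}

theorem not_dvd_K (Sh : Shape c lam0 lam1 δ X S Y' Y'' ε' ε'') (p : ℕ) (hp : p.Prime)
    (hpq : (p : ℤ) ∣ 2 * (Nat.card c.K : ℤ) + δ) : ¬ p ∣ Nat.card c.K := by
  intro h
  have h1 : (p : ℤ) ∣ (Nat.card c.K : ℤ) := by exact_mod_cast h
  have h2 : (p : ℤ) ∣ 2 * (Nat.card c.K : ℤ) := Dvd.dvd.mul_left h1 _
  exact not_dvd_pm hp Sh.hδ ((Int.dvd_add_right h2).mp hpq)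

theorem dvd_deg (L : Lam c lam0 lam1) (Sh : Shape c lam0 lam1 δ X S Y' Y'' ε' ε'') (p : ℕ)
    (hp : p.Prime) (hpq : (p : ℤ) ∣ 2 * (Nat.card c.K : ℤ) + δ) :
    p ^ (Nat.card G).factorization p ∣ charDegree (X : G → ℂ) := by
  obtain ⟨hn, hX, hS⟩ := numeric L Sh
  set k := Nat.card c.K with hk
  have hkpos : 0 < k := Nat.card_pos
  have hδ := Sh.hδ
  have hkd : 0 ≤ (k : ℤ) + δ := by rcases hδ with e | e <;> omega
  obtain ⟨kd, hkd'⟩ := Int.eq_ofNat_of_zero_le hkd
  set qn := charDegree (X : G → ℂ) with hqn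
  have hq : (qn : ℤ) = 2 * (k : ℤ) + δ := hX
  have hnn : nInv G = kd * qn := by
    have : (nInv G : ℤ) = (kd : ℤ) * (qn : ℤ) := by rw [hn, hkd', hq]
    exact_mod_cast this
  have hG' : Nat.card G = qn * (2 * k * kd) := by rw [card_G c, hnn]; ring
  have hpk := not_dvd_K Sh p hp hpq
  have hcop : ¬ p ∣ 2 * k * kd := by
    intro h
    rcases (hp.dvd_mul.mp h) with h | h
    · rcases (hp.dvd_mul.mp h) with h | h
      · have h1 : (p : ℤ) ∣ 2 := by exact_mod_cast h
        have h2 : (p : ℤ) ∣ 2 * (k : ℤ) := Dvd.dvd.mul_right h1 _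
        exact not_dvd_pm hp hδ ((Int.dvd_add_right h2).mp hpq)
      · exact hpk h
    · have h1 : (p : ℤ) ∣ (k : ℤ) + δ := by rw [hkd']; exact_mod_cast h
      have h2 : (p : ℤ) ∣ (k : ℤ) := by
        have := dvd_sub hpq h1
        have e : 2 * (k : ℤ) + δ - ((k : ℤ) + δ) = k := by ring
        rw [e] at this
        exact this
      exact hpk (by exact_mod_cast h2)
  have hc : Nat.Coprime (p ^ (Nat.card G).factorization p) (2 * k * kd) :=
    Nat.Coprime.pow_left _ ((Nat.Prime.coprime_iff_not_dvd hp).mpr hcop)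
  have hd : p ^ (Nat.card G).factorization p ∣ qn * (2 * k * kd) := by
    rw [← hG']; exact Nat.ordProj_dvd _ _
  exact (Nat.Coprime.dvd_mul_right hc).mp hd

theorem psing_bound (L : Lam c lam0 lam1) (Sh : Shape c lam0 lam1 δ X S Y' Y'' ε' ε'') (p : ℕ)
    (hp : p.Prime) (hpq : (p : ℤ) ∣ 2 * (Nat.card c.K : ℤ) + δ) :
    (Nat.card {g : G // p ∣ orderOf g} : ℤ) ≤ (2 * (Nat.card c.K : ℤ) + δ) ^ 2 - 1 := by
  classical
  obtain ⟨hn, hX, hS⟩ := numeric L Sh
  have hdz := dvd_deg L Sh p hp hpq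
  have hpk := not_dvd_K Sh p hp hpq
  have hδR : (δ : ℝ) * (δ : ℝ) = 1 := by exact_mod_cast Sh.sq
  -- values on p-singular elements
  have hsing : ∀ g : G, p ∣ orderOf g → ¬ InK c g ∧ Complex.normSq ((S : G → ℂ) g) = 1 := by
    intro g hg
    have h1 : ¬ InK c g := fun h => hpk (hg.trans h.orderOf_dvd)
    refine ⟨h1, ?_⟩
    rw [S_off Sh g h1, Cfsg.Agent.Lib.Helper74.dz_vanish X p hp hdz g hg, add_zero,
      ← Complex.ofReal_intCast, Complex.normSq_ofReal]
    exact hδR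
  -- the pointwise inequality
  have hpt : ∀ g : G, (if g = 1 then ((deg S : ℤ) : ℝ) ^ 2 else 0) +
      (indFun c.K (phi c S) g).re / 2 + (if p ∣ orderOf g then (1 : ℝ) else 0) ≤
      Complex.normSq ((S : G → ℂ) g) := by
    intro g
    by_cases hK : InK c g
    · have hg1 := hK.ne_one
      have hnp : ¬ p ∣ orderOf g := fun h => (hsing g h).1 hK
      rw [if_neg hg1, if_neg hnp, F_on S g hK, Complex.mul_conj]
      have : (2 * ((Complex.normSq ((S : G → ℂ) g) : ℝ) : ℂ)).re =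
          2 * Complex.normSq ((S : G → ℂ) g) := by
        rw [show (2 : ℂ) * ((Complex.normSq ((S : G → ℂ) g) : ℝ) : ℂ) =
          ((2 * Complex.normSq ((S : G → ℂ) g) : ℝ) : ℂ) by push_cast; ring, Complex.ofReal_re]
      rw [this]
      linarith
    · rw [F_off S g hK]
      by_cases hg1 : g = 1
      · have hnp : ¬ p ∣ orderOf g := by
          rw [hg1, orderOf_one]
          intro h
          have := Nat.le_of_dvd one_pos h
          have := hp.one_lt
          omega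
        rw [if_pos hg1, if_neg hnp, hg1, deg_spec, ← Complex.ofReal_intCast, Complex.normSq_ofReal]
        simp only [Complex.zero_re, zero_div, add_zero]
        rw [pow_two]
      · rw [if_neg hg1]
        by_cases hnp : p ∣ orderOf g
        · rw [if_pos hnp, (hsing g hnp).2]
          simp
        · rw [if_neg hnp]
          simp only [Complex.zero_re, zero_div, add_zero]
          exact Complex.normSq_nonneg _
  -- summation
  have hsum := Finset.sum_le_sum (fun g (_ : g ∈ (Finset.univ : Finset G)) => hpt g)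
  rw [Finset.sum_add_distrib, Finset.sum_add_distrib, sum_normSq, ← Finset.sum_div,
    ← Complex.re_sum, sum_F, sum_phi L Sh] at hsum
  have hcount : ∑ g : G, (if p ∣ orderOf g then (1 : ℝ) else 0) =
      (Nat.card {g : G // p ∣ orderOf g} : ℝ) := by
    rw [Finset.sum_boole, Nat.card_eq_fintype_card, Fintype.card_subtype]
  have hone : ∑ g : G, (if g = 1 then ((deg S : ℤ) : ℝ) ^ 2 else 0) = ((deg S : ℤ) : ℝ) ^ 2 := by
    rw [Finset.sum_ite_eq' Finset.univ (1 : G)]
    simp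
  have hkC : (Nat.card c.K : ℂ) ≠ 0 := by exact_mod_cast Nat.card_pos.ne'
  have hre : ((Nat.card G : ℂ) * (Nat.card c.K : ℂ)⁻¹ * (2 * (Nat.card c.K : ℂ) - 4)).re =
      2 * (nInv G : ℝ) * (2 * (Nat.card c.K : ℝ) - 4) := by
    have : (Nat.card G : ℂ) * (Nat.card c.K : ℂ)⁻¹ * (2 * (Nat.card c.K : ℂ) - 4) =
        ((2 * (nInv G : ℝ) * (2 * (Nat.card c.K : ℝ) - 4) : ℝ) : ℂ) := by
      rw [card_G c]
      push_cast
      field_simp
    rw [this, Complex.ofReal_re]
  rw [hcount, hone, hre, card_G c] at hsum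
  have hnR : (nInv G : ℝ) = ((Nat.card c.K : ℝ) + δ) * (2 * (Nat.card c.K : ℝ) + δ) := by
    exact_mod_cast hn
  have hSR : ((deg S : ℤ) : ℝ) = 2 * (Nat.card c.K : ℝ) + 2 * δ := by exact_mod_cast hS
  rw [hSR] at hsum
  push_cast at hsum
  rw [hnR] at hsum
  have hfin : (Nat.card {g : G // p ∣ orderOf g} : ℝ) ≤
      (2 * (Nat.card c.K : ℝ) + δ) ^ 2 - 1 := by
    nlinarith [hsum, hδR]
  exact_mod_cast hfin

end Cfsg.Agent.Lib.Helper69.BSW

namespace Cfsg.Agent.Lib.Helper69.BSW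

open Cfsg

universe u

/-- the outcome of the character theory -/
theorem char_main {G : Type u} [Group G] [Finite G] (c : Cfg G) (hk : 3 ≤ Nat.card c.K) :
    ∃ δ : ℤ, (δ = 1 ∨ δ = -1) ∧
      (nInv G : ℤ) = ((Nat.card c.K : ℤ) + δ) * (2 * (Nat.card c.K : ℤ) + δ) ∧
      ∀ p : ℕ, p.Prime → (p : ℤ) ∣ 2 * (Nat.card c.K : ℤ) + δ →
        (Nat.card {g : G // p ∣ orderOf g} : ℤ) ≤ (2 * (Nat.card c.K : ℤ) + δ) ^ 2 - 1 := by
  classical
  haveI := Fintype.ofFinite G
  haveI : Fintype c.K := Fintype.ofFinite _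
  haveI := Cfsg.Agent.Lib.Helper81.finite_irrCharacter (G := G)
  haveI : Fintype (IrrCharacter G) := Fintype.ofFinite _
  haveI := Cfsg.Agent.Lib.Helper81.finite_irrCharacter (G := c.K)
  haveI : Fintype (IrrCharacter c.K) := Fintype.ofFinite _
  obtain ⟨lam0, h0ne, h0r, h0u⟩ := exists_lam0 c
  obtain ⟨lam1, h1⟩ := exists_nonreal c hk
  have L : Lam c lam0 lam1 := ⟨h0r, h0ne, h1, h0u⟩
  obtain ⟨δ, X, S, Y', Y'', ε', ε'', Sh⟩ := exists_shape L
  exact ⟨δ, Sh.hδ, (numeric L Sh).1, fun p hp hpq => psing_bound L Sh p hp hpq⟩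

end Cfsg.Agent.Lib.Helper69.BSW
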