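import Mathlib
import Cfsg.Agent.Lib.Helper69.BSWB7
import Cfsg.Agent.Lib.Helper69.BSWChar8
import Cfsg.Agent.Lib.Helper66.Frobenius2

/-!
# BSW: final assembly
-/

set_option autoImplicit false

namespace Cfsg.Agent.Lib.Helper69.BSW

universe u

variable {G : Type u} [Group G] [Finite G]

/-- `q` is a prime power -/
theorem prime_power_of_bound (q m : ℕ) (hG : Nat.card G = q * m) (hcop : Nat.Coprime q m)
    (hq : Odd q) (hq1 : 1 < q) (hm : 0 < m)
    (hbound : ∀ p : ℕ, p.Prime → p ∣ q → Nat.card {g : G // p ∣ orderOf g} ≤ 2 * m) :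
    ∃ p e : ℕ, p.Prime ∧ q = p ^ e := by
  set p := q.minFac with hp
  have hpp : p.Prime := Nat.minFac_prime (by omega)
  have hpq : p ∣ q := Nat.minFac_dvd q
  haveI : Fact p.Prime := ⟨hpp⟩
  set d := Nat.gcd (Nat.card G) (p ^ Nat.card G) with hd
  have hfrob := Cfsg.Agent.Lib.Helper66.frobenius_order_dvd (G := G) p
  rw [← hd] at hfrob
  obtain ⟨j, -, hj⟩ := (Nat.dvd_prime_pow hpp).mp (Nat.gcd_dvd_right (Nat.card G) (p ^ Nat.card G))
  rw [← hd] at hj
  have hdG : d ∣ q * m := by rw [← hG]; exact Nat.gcd_dvd_left _ _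
  have hcopd : Nat.Coprime d m := by
    rw [hj]
    exact Nat.Coprime.pow_left j (Nat.Coprime.coprime_dvd_left hpq hcop)
  have hdq : d ∣ q := hcopd.dvd_of_dvd_mul_right hdG
  obtain ⟨q', hq'⟩ := hdq
  have hdpos : 0 < d := by rw [hj]; exact pow_pos hpp.pos j
  have hdiv : Nat.card G / d = q' * m := by
    apply Nat.div_eq_of_eq_mul_right hdpos
    rw [hG, hq']; ring
  rw [hdiv] at hfrob
  have hpG : p ∣ Nat.card G := by rw [hG]; exact Dvd.dvd.mul_right hpq m
  obtain ⟨g, hg⟩ := exists_prime_orderOf_dvd_card' p hpG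
  haveI : Nonempty {g : G // p ∣ orderOf g} := ⟨⟨g, by rw [hg]⟩⟩
  have hpos : 0 < Nat.card {g : G // p ∣ orderOf g} := Nat.card_pos
  have hle := Nat.le_of_dvd hpos hfrob
  have hb := hbound p hpp hpq
  have hq'2 : q' ≤ 2 := by
    have : q' * m ≤ 2 * m := le_trans hle hb
    exact Nat.le_of_mul_le_mul_right this hm
  have hq'pos : 0 < q' := by
    rcases Nat.eq_zero_or_pos q' with h | h
    · rw [h, mul_zero] at hq'; omega
    · exact h
  have hq'odd : Odd q' := by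
    rw [hq'] at hq
    exact (Nat.odd_mul.mp hq).2
  have hq'1 : q' = 1 := by
    rcases hq'odd with ⟨r, hr⟩
    omega
  refine ⟨p, j, hpp, ?_⟩
  rw [hq', hq'1, mul_one, hj]

/-- the orbit data as a structure -/
theorem exists_odata (c : Cfg G) :
    ∃ (O : Finset ℕ) (T w : ℕ → ℕ),
      OData (Nat.card c.K) (Nat.card G) {x : G | InRt c x}.ncard O T w ∧
      (∀ a ∈ O, ∃ x : G, InRt c x ∧ Nat.card (Subgroup.centralizer ({x} : Set G)) = a ∧
          Nat.card (Wsub c x) = w a) ∧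
      (∀ x : G, InRt c x → Nat.card (Subgroup.centralizer ({x} : Set G)) ∈ O) := by
  obtain ⟨O, T, w, hsum, hall, hcop, hmem⟩ := orbit_data c
  refine ⟨O, T, w, ⟨hsum, fun a ha => (hall a ha).1, fun a ha => (hall a ha).2.1,
    fun a ha => (hall a ha).2.2.1, fun a ha => (hall a ha).2.2.2.1,
    fun a ha => (hall a ha).2.2.2.2.1, fun a ha => (hall a ha).2.2.2.2.2.1,
    fun a ha => (hall a ha).2.2.2.2.2.2.1, fun a ha => (hall a ha).2.2.2.2.2.2.2.1,
    fun a ha => (hall a ha).2.2.2.2.2.2.2.2.1, hcop⟩,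
    fun a ha => (hall a ha).2.2.2.2.2.2.2.2.2, hmem⟩

theorem ncard_psing (p : ℕ) :
    {g : G | p ∣ orderOf g}.ncard = Nat.card {g : G // p ∣ orderOf g} := by
  rw [← Nat.card_coe_set_eq]; rfl

/-- Case A -/
theorem caseA_final (c : Cfg G) (hk : 1 ≤ Nat.card c.K) {p e : ℕ} (hp : p.Prime)
    (hq : 2 * Nat.card c.K + 1 = p ^ e)
    (hn : nInv G = (Nat.card c.K + 1) * (2 * Nat.card c.K + 1))
    (hNp : Nat.card {g : G // p ∣ orderOf g} ≤ 2 * (2 * Nat.card c.K * (Nat.card c.K + 1))) :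
    Goal G := by
  obtain ⟨O, T, w, D, hrep, -⟩ := exists_odata c
  set k := Nat.card c.K with hk'
  have hN : Nat.card G = 2 * k * ((k + 1) * (2 * k + 1)) := by
    rw [card_G c, hn]; ring
  have hr : {x : G | InRt c x}.ncard = k * (k + 4) := by
    have hJ := count_J c
    rw [hn, ← hk'] at hJ
    obtain ⟨a, ha⟩ : ∃ a, k = a + 1 := ⟨k - 1, by omega⟩
    rw [ha] at hJ ⊢
    have e1 : a + 1 - 1 = a := by omega
    rw [e1] at hJ
    nlinarith
  have hin := OData.arith_A D hk hN hr hp hq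
  obtain ⟨x, hx, hxa, hxw⟩ := hrep _ hin
  have hwk := D.wk _ hin
  -- counting
  have h1 := conj_fiber_count (⊤ : Subgroup G) (Subgroup.centralizer ({x} : Set G))
    (fun g _ y hy hy1 hgy => cent_TI c hx.inSR hy hy1 hgy)
  rw [Subgroup.card_top, top_inf_eq, card_normalizer_cent c hx, hxa, hxw, hN] at h1
  set Sset := {x' : G | ∃ g ∈ (⊤ : Subgroup G), ∃ y ∈ Subgroup.centralizer ({x} : Set G),
    y ≠ 1 ∧ x' = g * y * g⁻¹} with hSset
  have hsub : Sset ⊆ {g : G | p ∣ orderOf g} := by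
    rintro x' ⟨g, -, y, hy, hy1, rfl⟩
    rw [Set.mem_setOf_eq]
    have : orderOf (g * y * g⁻¹) = orderOf y := by
      have h := (MulAut.conj g).orderOf_eq y
      rw [MulAut.conj_apply] at h
      exact h
    rw [this]
    have h2 := orderOf_dvd_natCard (⟨y, hy⟩ : Subgroup.centralizer ({x} : Set G))
    rw [← Subgroup.orderOf_coe, hxa, hq] at h2
    rw [show ((⟨y, hy⟩ : Subgroup.centralizer ({x} : Set G)) : G) = y from rfl] at h2
    obtain ⟨i, -, hi⟩ := (Nat.dvd_prime_pow hp).mp h2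
    rw [hi]
    apply dvd_pow_self
    intro h0
    rw [h0, pow_zero] at hi
    exact hy1 (orderOf_eq_one_iff.mp hi)
  have hS : Sset.ncard ≤ 2 * (2 * k * (k + 1)) := by
    refine le_trans (Set.ncard_le_ncard hsub (Set.toFinite _)) ?_
    rw [ncard_psing]; exact hNp
  have e1 : 2 * k + 1 - 1 = 2 * k := by omega
  rw [e1] at h1
  have hkw : k ≤ w (2 * k + 1) := by
    have h2 : (2 * k + 1) * (2 * k * (k + 1)) * (2 * k) ≤
        (2 * k + 1) * (2 * k * (k + 1)) * (2 * w (2 * k + 1)) := by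
      calc (2 * k + 1) * (2 * k * (k + 1)) * (2 * k)
          = 2 * k * ((k + 1) * (2 * k + 1)) * (2 * k) := by ring
        _ = Sset.ncard * ((2 * k + 1) * w (2 * k + 1)) := h1
        _ ≤ 2 * (2 * k * (k + 1)) * ((2 * k + 1) * w (2 * k + 1)) := Nat.mul_le_mul_right _ hS
        _ = (2 * k + 1) * (2 * k * (k + 1)) * (2 * w (2 * k + 1)) := by ring
    have hpos : 0 < (2 * k + 1) * (2 * k * (k + 1)) := by positivity
    have := Nat.le_of_mul_le_mul_left h2 hpos
    omega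
  have hwle : w (2 * k + 1) ≤ k := Nat.le_of_dvd (by omega) hwk
  exact conclude_A c hx hxa (by rw [hxw]; omega) hn

/-- Case B -/
theorem caseB_final (c : Cfg G) (hk : 2 ≤ Nat.card c.K) {p e : ℕ} (hp : p.Prime)
    (hq : 2 * Nat.card c.K - 1 = p ^ e)
    (hn : nInv G = (Nat.card c.K - 1) * (2 * Nat.card c.K - 1))
    (hNp : Nat.card {g : G // p ∣ orderOf g} ≤ (2 * Nat.card c.K - 1) ^ 2 - 1) :
    Goal G := by
  obtain ⟨O, T, w, D, -, hmem⟩ := exists_odata c
  set k := Nat.card c.K with hk'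
  have hN : Nat.card G = 2 * k * ((k - 1) * (2 * k - 1)) := by
    rw [card_G c, hn]; ring
  have hr : {x : G | InRt c x}.ncard = k * (k - 2) := by
    have hJ := count_J c
    rw [hn, ← hk'] at hJ
    obtain ⟨a, ha⟩ : ∃ a, k = a + 2 := ⟨k - 2, by omega⟩
    rw [ha] at hJ ⊢
    have e1 : a + 2 - 1 = a + 1 := by omega
    have e2 : 2 * (a + 2) - 1 = 2 * a + 3 := by omega
    have e3 : a + 2 - 2 = a := by omega
    rw [e1, e2] at hJ
    rw [e3]
    nlinarith
  have hB := OData.arith_B D hk hN hr hp hq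
  have B : CaseB c p e :=
    ⟨hp, hk, hq, hn, fun x hx => (hB _ (hmem x hx)).1, hNp⟩
  exact B.conclude

end Cfsg.Agent.Lib.Helper69.BSW
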