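import Mathlib
import Cfsg.Agent.Lib.Helper69.BSWFinal

/-!
# BSW: the main theorem for a configuration
-/

set_option autoImplicit false

namespace Cfsg.Agent.Lib.Helper69.BSW

universe u

variable {G : Type u} [Group G] [Finite G]

theorem q_sq_nat (k : ℕ) (hk : 1 ≤ k) : (2 * k - 1) ^ 2 - 1 = 2 * (2 * k * (k - 1)) := by
  obtain ⟨a, rfl⟩ : ∃ a, k = a + 1 := ⟨k - 1, by omega⟩
  have e1 : 2 * (a + 1) - 1 = 2 * a + 1 := by omega
  have e2 : a + 1 - 1 = a := by omega
  rw [e1, e2]
  have : (2 * a + 1) ^ 2 = 2 * (2 * (a + 1) * a) + 1 := by ring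
  rw [this]
  omega

theorem dvd_one_false {ℓ : ℕ} (hℓ : ℓ.Prime) (h : ℓ ∣ 1) : False := by
  have := Nat.le_of_dvd one_pos h
  have := hℓ.one_lt
  omega

theorem coprime_plus (k : ℕ) : Nat.Coprime (2 * k + 1) (2 * k * (k + 1)) := by
  apply Nat.coprime_of_dvd
  intro ℓ hℓ h1 h2
  rcases hℓ.dvd_mul.mp h2 with h | h
  · have := Nat.dvd_sub h1 h
    have e : 2 * k + 1 - 2 * k = 1 := by omega
    rw [e] at this
    exact dvd_one_false hℓ this
  · have h3 : ℓ ∣ 2 * (k + 1) := Dvd.dvd.mul_left h 2
    have := Nat.dvd_sub h3 h1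
    have e : 2 * (k + 1) - (2 * k + 1) = 1 := by omega
    rw [e] at this
    exact dvd_one_false hℓ this

theorem coprime_minus (k : ℕ) (hk : 1 ≤ k) : Nat.Coprime (2 * k - 1) (2 * k * (k - 1)) := by
  apply Nat.coprime_of_dvd
  intro ℓ hℓ h1 h2
  rcases hℓ.dvd_mul.mp h2 with h | h
  · have := Nat.dvd_sub h h1
    have e : 2 * k - (2 * k - 1) = 1 := by omega
    rw [e] at this
    exact dvd_one_false hℓ this
  · have h3 : ℓ ∣ 2 * (k - 1) := Dvd.dvd.mul_left h 2
    have := Nat.dvd_sub h1 h3
    have e : 2 * k - 1 - 2 * (k - 1) = 1 := by omega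
    rw [e] at this
    exact dvd_one_false hℓ this

/-- the case `|K| = 2` -/
theorem small_case (c : Cfg G) (hk2 : Nat.card c.K = 2) : Goal G := by
  obtain ⟨O, T, w, D, hrep, hmem⟩ := exists_odata c
  have hN : Nat.card G = 2 * 2 * nInv G := by rw [card_G c, hk2]; ring
  have hr : nInv G = {x : G | InRt c x}.ncard + 3 := by
    have := count_J c
    rw [hk2] at this
    omega
  rw [hk2] at D
  rcases D.arith_small hN hr with ⟨hn3, hO⟩ | ⟨hn15, h5⟩
  · apply caseB_final c (by omega) Nat.prime_three (e := 1)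
    · rw [hk2]; norm_num
    · rw [hk2, hn3]
    · rw [hk2]
      show Nat.card {g : G // 3 ∣ orderOf g} ≤ 8
      rw [← ncard_psing]
      have hdisj : Disjoint {g : G | 3 ∣ orderOf g} ({v : G | IsInv v} ∪ {1}) := by
        rw [Set.disjoint_left]
        intro g hg hg2
        rw [Set.mem_setOf_eq] at hg
        rcases hg2 with h | h
        · rw [orderOf_of_isInv h] at hg
          omega
        · rw [Set.mem_singleton_iff] at h
          rw [h, orderOf_one] at hg
          omega
      have hdisj2 : Disjoint {v : G | IsInv v} ({1} : Set G) := by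
        rw [Set.disjoint_left]
        intro g hg hg2
        rw [Set.mem_singleton_iff] at hg2
        exact hg.2 hg2
      have h1 := Set.ncard_union_eq hdisj (Set.toFinite _) (Set.toFinite _)
      have h2 := Set.ncard_union_eq hdisj2 (Set.toFinite _) (Set.toFinite _)
      have h3 : ({g : G | 3 ∣ orderOf g} ∪ ({v : G | IsInv v} ∪ {1})).ncard ≤ Nat.card G := by
        rw [← Set.ncard_univ]
        exact Set.ncard_le_ncard (Set.subset_univ _) (Set.toFinite _)
      rw [h1, h2, Set.ncard_singleton] at h3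
      have h4 : {v : G | IsInv v}.ncard = nInv G := rfl
      rw [h4, hn3, hN, hn3] at h3
      omega
  · obtain ⟨x, hx, hxa, hxw⟩ := hrep 5 h5
    have hw2 : w 5 = 2 := Nat.dvd_antisymm (D.wk 5 h5) (D.w2 5 h5)
    apply conclude_A c hx
    · rw [hxa, hk2]
    · rw [hxw, hw2, hk2]
    · rw [hk2, hn15]

/-- the abstract Brauer–Suzuki–Wall theorem for a configuration -/
theorem main (c : Cfg G) : Goal G := by
  have hkeven := CaseB.two_dvd_k c
  have hkpos : 0 < Nat.card c.K := Nat.card_pos
  by_cases hk2 : Nat.card c.K = 2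
  · exact small_case c hk2
  · have hk3 : 3 ≤ Nat.card c.K := by
      obtain ⟨j, hj⟩ := hkeven
      omega
    obtain ⟨δ, hδ, hn, hbound⟩ := char_main c hk3
    set k := Nat.card c.K with hk
    rcases hδ with rfl | rfl
    · -- δ = 1
      have hn' : nInv G = (k + 1) * (2 * k + 1) := by
        have : ((nInv G : ℕ) : ℤ) = (((k + 1) * (2 * k + 1) : ℕ) : ℤ) := by
          push_cast; exact hn
        exact_mod_cast this
      have hG : Nat.card G = (2 * k + 1) * (2 * k * (k + 1)) := by
        rw [card_G c, hn']; ring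
      have hb : ∀ p : ℕ, p.Prime → p ∣ 2 * k + 1 →
          Nat.card {g : G // p ∣ orderOf g} ≤ 2 * (2 * k * (k + 1)) := by
        intro p hp hpq
        have h1 : (p : ℤ) ∣ 2 * (k : ℤ) + 1 := by
          have := Int.natCast_dvd_natCast.mpr hpq
          push_cast at this
          exact this
        have h2 := hbound p hp h1
        have e : (2 * (k : ℤ) + 1) ^ 2 - 1 = ((2 * (2 * k * (k + 1)) : ℕ) : ℤ) := by
          push_cast; ring
        rw [e] at h2
        exact_mod_cast h2
      obtain ⟨p, e, hp, hq⟩ := prime_power_of_bound (G := G) (2 * k + 1) (2 * k * (k + 1)) hG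
        (coprime_plus k) ⟨k, rfl⟩ (by omega) (by positivity) hb
      exact caseA_final c (by omega) hp hq hn' (hb p hp (by rw [hq]; exact dvd_pow_self p (by
        intro h0; rw [h0, pow_zero] at hq; omega)))
    · -- δ = -1
      have e1 : ((k - 1 : ℕ) : ℤ) = (k : ℤ) + -1 := by omega
      have e2 : ((2 * k - 1 : ℕ) : ℤ) = 2 * (k : ℤ) + -1 := by omega
      have hn' : nInv G = (k - 1) * (2 * k - 1) := by
        have : ((nInv G : ℕ) : ℤ) = (((k - 1) * (2 * k - 1) : ℕ) : ℤ) := by
          rw [Nat.cast_mul, e1, e2]; exact hn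
        exact_mod_cast this
      have hG : Nat.card G = (2 * k - 1) * (2 * k * (k - 1)) := by
        rw [card_G c, hn']; ring
      have hb : ∀ p : ℕ, p.Prime → p ∣ 2 * k - 1 →
          Nat.card {g : G // p ∣ orderOf g} ≤ 2 * (2 * k * (k - 1)) := by
        intro p hp hpq
        have h1 : (p : ℤ) ∣ 2 * (k : ℤ) + -1 := by
          have := Int.natCast_dvd_natCast.mpr hpq
          rw [e2] at this
          exact this
        have h2 := hbound p hp h1
        have e : (2 * (k : ℤ) + -1) ^ 2 - 1 = ((2 * (2 * k * (k - 1)) : ℕ) : ℤ) := by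
          rw [Nat.cast_mul, Nat.cast_mul, Nat.cast_mul, e1]
          push_cast; ring
        rw [e] at h2
        exact_mod_cast h2
      obtain ⟨p, e, hp, hq⟩ := prime_power_of_bound (G := G) (2 * k - 1) (2 * k * (k - 1)) hG
        (coprime_minus k (by omega)) ⟨k - 1, by omega⟩ (by omega)
        (Nat.mul_pos (by omega) (by omega)) hb
      apply caseB_final c (by omega) hp hq hn'
      rw [q_sq_nat k (by omega)]
      exact hb p hp (by rw [hq]; exact dvd_pow_self p (by
        intro h0; rw [h0, pow_zero] at hq; omega))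

end Cfsg.Agent.Lib.Helper69.BSW
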