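import Mathlib
import Cfsg.Agent.Lib.Helper69.BSWMain

/-!
# BSW: building the configuration from the hypotheses of the statement
-/

set_option autoImplicit false

namespace Cfsg.Agent.Lib.Helper69.BSW

universe u

variable {G : Type u} [Group G]

/-- `K ∪ sK` as a subgroup -/
def unionSub (K : Subgroup G) (s : G) (hss : s * s = 1)
    (hinv : ∀ x ∈ K, s * x * s⁻¹ = x⁻¹) : Subgroup G where
  carrier := {g | g ∈ K ∨ s * g ∈ K}
  mul_mem' := by
    have hsinv : s⁻¹ = s := inv_eq_of_mul_eq_one_right hss
    intro a b ha hb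
    rcases ha with ha | ha <;> rcases hb with hb | hb
    · exact Or.inl (K.mul_mem ha hb)
    · right
      have h1 := hinv a ha
      have : s * (a * b) = (s * a * s⁻¹) * (s * b) := by group
      rw [this, h1]
      exact K.mul_mem (K.inv_mem ha) hb
    · right
      have : s * (a * b) = (s * a) * b := by group
      rw [this]
      exact K.mul_mem ha hb
    · left
      have h1 := hinv (s * a) ha
      have e1 : a * b = (s * (s * a) * s⁻¹) * (s * b) := by
        calc a * b = (s * s) * a * ((s * s) * b) := by rw [hss, one_mul, one_mul]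
          _ = s * (s * a) * s * (s * b) := by group
          _ = (s * (s * a) * s⁻¹) * (s * b) := by rw [hsinv]
      rw [e1, h1]
      exact K.mul_mem (K.inv_mem ha) hb
  one_mem' := Or.inl K.one_mem
  inv_mem' := by
    have hsinv : s⁻¹ = s := inv_eq_of_mul_eq_one_right hss
    intro a ha
    rcases ha with ha | ha
    · exact Or.inl (K.inv_mem ha)
    · right
      have h1 := hinv (s * a)⁻¹ (K.inv_mem ha)
      have e1 : s * a⁻¹ = ((s * a)⁻¹)⁻¹ := by
        rw [← h1]
        calc s * a⁻¹ = s * a⁻¹ * (s * s)⁻¹ * (s * s) := by group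
          _ = s * a⁻¹ * (s * s)⁻¹ * 1 := by rw [hss]
          _ = s * (s * a)⁻¹ * s⁻¹ := by group
      rw [e1, inv_inv]
      exact ha

/-- the configuration given by the hypotheses of the statement -/
noncomputable def Cfg.ofHyp [Finite G] (t : G) (ht : orderOf t = 2)
    (K : Subgroup G) (hKab : IsMulCommutative ↥K)
    (hKH : K ≤ Subgroup.centralizer ({t} : Set G)) (htK : t ∈ K)
    (s : G) (hs : orderOf s = 2) (hsH : s ∈ Subgroup.centralizer ({t} : Set G)) (hsK : s ∉ K)
    (hH : K ⊔ Subgroup.zpowers s = Subgroup.centralizer ({t} : Set G))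
    (hCK : K ⊓ Subgroup.centralizer ({s} : Set G) = Subgroup.zpowers t)
    (hinv : ∀ x ∈ K, s * x * s⁻¹ = x⁻¹)
    (hTI : ∀ g : G, g ∉ Subgroup.centralizer ({t} : Set G) →
      K ⊓ K.map (MulAut.conj g).toMonoidHom = ⊥)
    (hconj : ∀ x y : G, orderOf x = 2 → orderOf y = 2 → IsConj x y) : Cfg G where
  t := t
  K := K
  s := s
  tt := (isInv_of_orderOf ht).1
  t1 := (isInv_of_orderOf ht).2
  ss := (isInv_of_orderOf hs).1
  st := mem_centralizer_singleton.mp hsH
  Kt := fun x hx => mem_centralizer_singleton.mp (hKH hx)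
  Kcomm := fun x hx y hy => congrArg Subtype.val (hKab.is_comm.comm ⟨x, hx⟩ ⟨y, hy⟩)
  tK := htK
  sK := hsK
  Hsplit := by
    intro g hg
    have hss := (isInv_of_orderOf hs).1
    have hmem : g ∈ K ⊔ Subgroup.zpowers s := by
      rw [hH]; exact mem_centralizer_singleton.mpr hg
    have hle : K ⊔ Subgroup.zpowers s ≤ unionSub K s hss hinv := by
      apply sup_le
      · intro x hx; exact Or.inl hx
      · rw [Subgroup.zpowers_le]
        right
        rw [hss]; exact K.one_mem
    exact hle hmem
  Ksq := by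
    intro x hx hxx
    have hxinv : x⁻¹ = x := inv_eq_of_mul_eq_one_right hxx
    have h1 := hinv x hx
    rw [hxinv] at h1
    have hxs : x ∈ Subgroup.centralizer ({s} : Set G) := by
      rw [mem_centralizer_singleton]
      calc x * s = (s * x * s⁻¹) * s := by rw [h1]
        _ = s * x := by group
    have hmem : x ∈ Subgroup.zpowers t := by
      rw [← hCK]; exact ⟨hx, hxs⟩
    obtain ⟨j, hj⟩ := Subgroup.mem_zpowers_iff.mp hmem
    have h2 := zpow_mod_orderOf t j
    rw [ht, hj] at h2
    push_cast at h2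
    have h3 : j % 2 = 0 ∨ j % 2 = 1 := Int.emod_two_eq_zero_or_one j
    rcases h3 with h3 | h3
    · left; rw [← h2, h3]; simp
    · right; rw [← h2, h3]; simp
  sinv := by
    intro x hx
    have hsinv : s⁻¹ = s := inv_eq_of_mul_eq_one_right (isInv_of_orderOf hs).1
    have := hinv x hx
    rwa [hsinv] at this
  TI := by
    intro g x hx hx1 hgx
    by_contra hcon
    have hg : g ∉ Subgroup.centralizer ({t} : Set G) := fun h =>
      hcon (mem_centralizer_singleton.mp h)
    have h1 := hTI g hg
    have h2 : g * x * g⁻¹ ∈ K ⊓ K.map (MulAut.conj g).toMonoidHom := by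
      apply Subgroup.mem_inf.mpr
      refine ⟨hgx, ?_⟩
      apply Subgroup.mem_map.mpr
      exact ⟨x, hx, by simp [MulAut.conj_apply]⟩
    rw [h1, Subgroup.mem_bot] at h2
    apply hx1
    calc x = g⁻¹ * (g * x * g⁻¹) * g := by group
      _ = 1 := by rw [h2]; group
  allconj := by
    intro u huu hu1
    have hu : orderOf u = 2 := orderOf_of_isInv ⟨huu, hu1⟩
    obtain ⟨g, hg⟩ := isConj_iff.mp (hconj t u ht hu)
    exact ⟨g, hg⟩

end Cfsg.Agent.Lib.Helper69.BSW
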