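import Mathlib

/-!
# Cyclic subgroups of index two in dihedral groups
-/

set_option autoImplicit false

namespace Cfsg.Agent.Lib.Helper69.BSWD

open DihedralGroup

theorem d2_comm : ∀ x y : DihedralGroup 2, x * y = y * x := by decide

theorem d2_sq : ∀ x : DihedralGroup 2, x * x = 1 := by decide

/-- an involution outside a cyclic subgroup of index two inverting it -/
theorem exists_inverting (n : ℕ) (hn : 2 ≤ n) (R : Subgroup (DihedralGroup n)) (hcyc : IsCyclic R)
    (hidx : R.index = 2) :
    ∃ s : DihedralGroup n, s ∉ R ∧ s * s = 1 ∧ ∀ x ∈ R, s * x * s⁻¹ = x⁻¹ := by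
  haveI : NeZero n := ⟨by omega⟩
  rcases Nat.lt_or_ge n 3 with h3 | h3
  · have hn2 : n = 2 := by omega
    subst hn2
    have hne : R ≠ ⊤ := by
      intro h
      rw [h, Subgroup.index_top] at hidx
      omega
    obtain ⟨s, hs⟩ : ∃ s : DihedralGroup 2, s ∉ R := by
      by_contra hcon
      push Not at hcon
      exact hne (eq_top_iff.mpr (fun x _ => hcon x))
    refine ⟨s, hs, d2_sq s, ?_⟩
    intro x _
    have h1 : s * x * s⁻¹ = x := by rw [d2_comm s x]; group
    rw [h1]
    exact eq_inv_of_mul_eq_one_left (d2_sq x)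
  · -- R is the rotation subgroup
    have hcard : Nat.card R = n := by
      have h := Subgroup.index_mul_card R
      rw [hidx, DihedralGroup.nat_card] at h
      omega
    obtain ⟨g, hg⟩ := hcyc.exists_generator
    have hgord : orderOf g = n :=
      (orderOf_eq_card_of_forall_mem_zpowers hg).trans hcard
    have hgrot : ∃ i : ZMod n, (g : DihedralGroup n) = r i := by
      rcases hgv : (g : DihedralGroup n) with i | i
      · exact ⟨i, rfl⟩
      · exfalso
        have h1 : orderOf (g : DihedralGroup n) = n := by rw [Subgroup.orderOf_coe]; exact hgord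
        rw [hgv, orderOf_sr] at h1
        omega
    obtain ⟨i, hi⟩ := hgrot
    have hrot : ∀ x ∈ R, ∃ j : ZMod n, x = r j := by
      intro x hx
      obtain ⟨k, hk⟩ := Subgroup.mem_zpowers_iff.mp (hg ⟨x, hx⟩)
      have h1 : ((g ^ k : R) : DihedralGroup n) = x := by rw [hk]
      rw [Subgroup.coe_zpow, hi, r_zpow] at h1
      exact ⟨_, h1.symm⟩
    refine ⟨sr 0, ?_, sr_mul_self 0, ?_⟩
    · intro h
      obtain ⟨j, hj⟩ := hrot _ h
      cases hj
    · intro x hx
      obtain ⟨j, rfl⟩ := hrot x hx
      rw [inv_sr, sr_mul_r, sr_mul_sr, inv_r]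
      congr 1
      ring

/-- a cyclic subgroup of index two containing a given central involution -/
theorem exists_cyclic (n : ℕ) (hn : 2 ≤ n) (t : DihedralGroup n) (ht : orderOf t = 2)
    (hc : ∀ x : DihedralGroup n, x * t = t * x) :
    ∃ R : Subgroup (DihedralGroup n), IsCyclic R ∧ R.index = 2 ∧ t ∈ R := by
  haveI : NeZero n := ⟨by omega⟩
  rcases Nat.lt_or_ge n 3 with h3 | h3
  · refine ⟨Subgroup.zpowers t, inferInstance, ?_, Subgroup.mem_zpowers t⟩
    have h := Subgroup.index_mul_card (Subgroup.zpowers t)
    rw [Nat.card_zpowers, ht, DihedralGroup.nat_card] at h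
    omega
  · refine ⟨Subgroup.zpowers (r 1), inferInstance, ?_, ?_⟩
    · have h := Subgroup.index_mul_card (Subgroup.zpowers (r 1 : DihedralGroup n))
      rw [Nat.card_zpowers, orderOf_r_one, DihedralGroup.nat_card] at h
      have hnpos : 0 < n := by omega
      have : (Subgroup.zpowers (r 1 : DihedralGroup n)).index * n = 2 * n := h
      exact Nat.eq_of_mul_eq_mul_right hnpos this
    · rcases t with i | i
      · rw [Subgroup.mem_zpowers_iff]
        refine ⟨(i.val : ℤ), ?_⟩
        rw [r_one_zpow]
        congr 1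
        simp
      · exfalso
        have h1 := hc (r 1)
        rw [r_mul_sr, sr_mul_r] at h1
        have h2 : i - 1 = i + 1 := by
          injection h1
        have h3' : (2 : ZMod n) = 0 := by
          have : (i + 1) - (i - 1) = (0 : ZMod n) := by rw [h2]; ring
          have e : (i + 1) - (i - 1) = (2 : ZMod n) := by ring
          rw [e] at this
          exact this
        have h4 : ((2 : ℕ) : ZMod n) = 0 := by exact_mod_cast h3'
        rw [ZMod.natCast_eq_zero_iff] at h4
        have := Nat.le_of_dvd (by norm_num) h4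
        omega

end Cfsg.Agent.Lib.Helper69.BSWD
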