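import Mathlib
import Cfsg.Agent.Lib.Helper69.BSWDih1

/-!
# Dihedral subgroups of a group: transport of the dihedral lemmas
-/

set_option autoImplicit false

namespace Cfsg.Agent.Lib.Helper69.BSWD

universe u

variable {G : Type u} [Group G]

theorem exists_s (S : Subgroup G) (n : ℕ) (hn : 2 ≤ n) (e : S ≃* DihedralGroup n)
    (R : Subgroup G) (hRS : R ≤ S) (hcyc : IsCyclic R) (hidx : R.relIndex S = 2) :
    ∃ s ∈ S, s ∉ R ∧ s * s = 1 ∧ ∀ x ∈ R, s * x * s⁻¹ = x⁻¹ := by
  set R₁ : Subgroup S := R.subgroupOf S with hR₁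
  set R' : Subgroup (DihedralGroup n) := R₁.map (e : S →* DihedralGroup n) with hR'
  have hcyc₁ : IsCyclic R₁ := by
    let f : R ≃* R₁ := (Subgroup.subgroupOfEquivOfLe hRS).symm
    exact isCyclic_of_surjective f f.surjective
  have hcyc' : IsCyclic R' := by
    let f : R₁ ≃* R' := R₁.equivMapOfInjective (e : S →* DihedralGroup n) e.injective
    exact isCyclic_of_surjective f f.surjective
  have hidx' : R'.index = 2 := by
    rw [hR', Subgroup.index_map_equiv]
    exact hidx
  obtain ⟨s', hs'R, hs's, hs'inv⟩ := exists_inverting n hn R' hcyc' hidx'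
  refine ⟨(e.symm s' : S), (e.symm s').2, ?_, ?_, ?_⟩
  · intro h
    apply hs'R
    rw [hR', Subgroup.mem_map]
    exact ⟨e.symm s', Subgroup.mem_subgroupOf.mpr h, by simp⟩
  · have h1 : e.symm s' * e.symm s' = 1 := by rw [← map_mul, hs's, map_one]
    exact congrArg Subtype.val h1
  · intro x hx
    have hx' : e ⟨x, hRS hx⟩ ∈ R' := by
      rw [hR', Subgroup.mem_map]
      exact ⟨⟨x, hRS hx⟩, Subgroup.mem_subgroupOf.mpr hx, rfl⟩
    have h1 := hs'inv _ hx'
    have h2 : e.symm s' * ⟨x, hRS hx⟩ * (e.symm s')⁻¹ = (⟨x, hRS hx⟩ : S)⁻¹ := by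
      apply e.injective
      rw [map_mul, map_mul, map_inv, map_inv, e.apply_symm_apply]
      exact h1
    exact congrArg Subtype.val h2

theorem exists_R (S : Subgroup G) (n : ℕ) (hn : 2 ≤ n) (e : S ≃* DihedralGroup n) (t : G)
    (ht : orderOf t = 2) (htS : t ∈ S) (htZ : ∀ s ∈ S, s * t = t * s) :
    ∃ R : Subgroup G, R ≤ S ∧ IsCyclic R ∧ R.relIndex S = 2 ∧ t ∈ R := by
  set t' := e ⟨t, htS⟩ with ht'
  have hord : orderOf t' = 2 := by
    rw [ht', MulEquiv.orderOf_eq, Subgroup.orderOf_mk, ht]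
  have hcen : ∀ x : DihedralGroup n, x * t' = t' * x := by
    intro x
    have h1 : e.symm x * ⟨t, htS⟩ = ⟨t, htS⟩ * e.symm x :=
      Subtype.ext (htZ _ (e.symm x).2)
    have h2 := congrArg e h1
    rw [map_mul, map_mul, e.apply_symm_apply] at h2
    exact h2
  obtain ⟨R', hcyc', hidx', htR'⟩ := exists_cyclic n hn t' hord hcen
  set R₁ : Subgroup S := R'.comap (e : S →* DihedralGroup n) with hR₁
  refine ⟨R₁.map S.subtype, ?_, ?_, ?_, ?_⟩
  · intro x hx
    obtain ⟨y, -, rfl⟩ := Subgroup.mem_map.mp hx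
    exact y.2
  · have hcyc₁ : IsCyclic R₁ := by
      have hmap : R₁.map (e : S →* DihedralGroup n) = R' :=
        Subgroup.map_comap_eq_self_of_surjective e.surjective R'
      let f : R₁ ≃* R₁.map (e : S →* DihedralGroup n) :=
        R₁.equivMapOfInjective (e : S →* DihedralGroup n) e.injective
      have h1 : IsCyclic (R₁.map (e : S →* DihedralGroup n)) := by rw [hmap]; exact hcyc'
      exact isCyclic_of_surjective f.symm f.symm.surjective
    let f : R₁ ≃* R₁.map S.subtype := R₁.equivMapOfInjective S.subtype Subtype.val_injective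
    exact isCyclic_of_surjective f f.surjective
  · have h1 : (R₁.map S.subtype).subgroupOf S = R₁ := by
      ext x
      rw [Subgroup.mem_subgroupOf, Subgroup.mem_map]
      constructor
      · rintro ⟨y, hy, hyx⟩
        have : y = x := Subtype.ext hyx
        rwa [← this]
      · intro hx
        exact ⟨x, hx, rfl⟩
    show ((R₁.map S.subtype).subgroupOf S).index = 2
    rw [h1, hR₁, Subgroup.index_comap_of_surjective R' (f := (e : S →* DihedralGroup n))
      e.surjective]
    exact hidx'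
  · rw [Subgroup.mem_map]
    exact ⟨⟨t, htS⟩, htR', rfl⟩

end Cfsg.Agent.Lib.Helper69.BSWD
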