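import Mathlib
import Cfsg.Agent.Lib.Helper69.BSWMain

/-!
# Building a BSW configuration from an "odd part times cyclic 2-part" description of `C(t)`
-/

set_option autoImplicit false

namespace Cfsg.Agent.Lib.Helper69.BSWD

open Cfsg.Agent.Lib.Helper69.BSW

universe u

variable {G : Type u} [Group G]

/-- the data -/
structure Pre (G : Type u) [Group G] where
  t : G
  s : G
  O : Subgroup G
  R : Subgroup G
  ht : orderOf t = 2
  ss : s * s = 1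
  st : s * t = t * s
  Ot : ∀ o ∈ O, o * t = t * o
  Rt : ∀ r ∈ R, r * t = t * r
  Rcomm : ∀ a ∈ R, ∀ b ∈ R, a * b = b * a
  OR : ∀ o ∈ O, ∀ r ∈ R, r * o = o * r
  tR : t ∈ R
  sR : s ∉ R
  sO : ∀ o ∈ O, s * o * s⁻¹ = o⁻¹
  sRinv : ∀ r ∈ R, s * r * s⁻¹ = r⁻¹
  Oodd : Odd (Nat.card O)
  R2 : ∃ j : ℕ, Nat.card R = 2 ^ j
  Rsq : ∀ r ∈ R, r * r = 1 → r = 1 ∨ r = t
  split : ∀ g, g * t = t * g →
    (∃ o ∈ O, ∃ r ∈ R, g = o * r) ∨ (∃ o ∈ O, ∃ r ∈ R, s * g = o * r)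
  hc : ∀ Y : Subgroup G, Y ≤ O → Y ≠ ⊥ →
    Subgroup.normalizer (Y : Set G) ≤ Subgroup.centralizer ({t} : Set G)
  allconj : ∀ u : G, u * u = 1 → u ≠ 1 → ∃ g, g * t * g⁻¹ = u

namespace Pre

variable (P : Pre G)

theorem sinv : P.s⁻¹ = P.s := inv_eq_of_mul_eq_one_right P.ss

theorem Ocomm : ∀ a ∈ P.O, ∀ b ∈ P.O, a * b = b * a := by
  intro a ha b hb
  have h1 := P.sO (a * b) (P.O.mul_mem ha hb)
  have h2 := P.sO a ha
  have h3 := P.sO b hb
  have h4 : P.s * (a * b) * P.s⁻¹ = (P.s * a * P.s⁻¹) * (P.s * b * P.s⁻¹) := by group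
  rw [h4, h2, h3] at h1
  have h5 : (a⁻¹ * b⁻¹)⁻¹ = ((a * b)⁻¹)⁻¹ := by rw [h1]
  rw [mul_inv_rev, inv_inv, inv_inv, inv_inv] at h5
  exact h5.symm

theorem O_sq [Finite G] {o : G} (ho : o ∈ P.O) (h : o * o = 1) : o = 1 := by
  have h1 := orderOf_dvd_natCard (⟨o, ho⟩ : P.O)
  rw [← Subgroup.orderOf_coe] at h1
  rw [show ((⟨o, ho⟩ : P.O) : G) = o from rfl] at h1
  have h2 : orderOf o ∣ 2 := orderOf_dvd_of_pow_eq_one (by rw [pow_two]; exact h)
  have hodd : Odd (orderOf o) := by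
    obtain ⟨m, hm⟩ := h1
    have := P.Oodd
    rw [hm] at this
    exact (Nat.odd_mul.mp this).1
  have h3 := Nat.le_of_dvd (by norm_num) h2
  have hpos := orderOf_pos o
  have h4 : orderOf o = 1 := by
    rcases hodd with ⟨m, hm⟩
    omega
  exact orderOf_eq_one_iff.mp h4

theorem inter [Finite G] {x : G} (hO : x ∈ P.O) (hR : x ∈ P.R) : x = 1 := by
  have h1 := orderOf_dvd_natCard (⟨x, hO⟩ : P.O)
  rw [← Subgroup.orderOf_coe] at h1
  rw [show ((⟨x, hO⟩ : P.O) : G) = x from rfl] at h1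
  have h2 := orderOf_dvd_natCard (⟨x, hR⟩ : P.R)
  rw [← Subgroup.orderOf_coe] at h2
  rw [show ((⟨x, hR⟩ : P.R) : G) = x from rfl] at h2
  obtain ⟨j, hj⟩ := P.R2
  rw [hj] at h2
  have hcop : Nat.Coprime (Nat.card P.O) (2 ^ j) :=
    Nat.Coprime.pow_right j (Nat.Coprime.symm (Nat.coprime_two_left.mpr P.Oodd))
  have h3 := Nat.eq_one_of_dvd_coprimes hcop h1 h2
  exact orderOf_eq_one_iff.mp h3

/-- the subgroup `K = O R` -/
def K : Subgroup G where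
  carrier := {g | ∃ o ∈ P.O, ∃ r ∈ P.R, g = o * r}
  mul_mem' := by
    rintro a b ⟨o, ho, r, hr, rfl⟩ ⟨o', ho', r', hr', rfl⟩
    refine ⟨o * o', P.O.mul_mem ho ho', r * r', P.R.mul_mem hr hr', ?_⟩
    have h := P.OR o' ho' r hr
    calc o * r * (o' * r') = o * (r * o') * r' := by group
      _ = o * (o' * r) * r' := by rw [h]
      _ = o * o' * (r * r') := by group
  one_mem' := ⟨1, P.O.one_mem, 1, P.R.one_mem, by group⟩
  inv_mem' := by
    rintro a ⟨o, ho, r, hr, rfl⟩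
    refine ⟨o⁻¹, P.O.inv_mem ho, r⁻¹, P.R.inv_mem hr, ?_⟩
    have h := P.OR o⁻¹ (P.O.inv_mem ho) r⁻¹ (P.R.inv_mem hr)
    rw [mul_inv_rev, h]

theorem mem_K {g : G} : g ∈ P.K ↔ ∃ o ∈ P.O, ∃ r ∈ P.R, g = o * r := Iff.rfl

theorem O_le_K : P.O ≤ P.K := fun o ho => ⟨o, ho, 1, P.R.one_mem, by group⟩

theorem R_le_K : P.R ≤ P.K := fun r hr => ⟨1, P.O.one_mem, r, hr, by group⟩

theorem Kcomm : ∀ x ∈ P.K, ∀ y ∈ P.K, x * y = y * x := by
  rintro x ⟨o, ho, r, hr, rfl⟩ y ⟨o', ho', r', hr', rfl⟩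
  have h1 := P.OR o' ho' r hr
  have h2 := P.OR o ho r' hr'
  have h3 := P.Ocomm o ho o' ho'
  have h4 := P.Rcomm r hr r' hr'
  calc o * r * (o' * r') = o * (r * o') * r' := by group
    _ = o * (o' * r) * r' := by rw [h1]
    _ = (o * o') * (r * r') := by group
    _ = (o' * o) * (r' * r) := by rw [h3, h4]
    _ = o' * (o * r') * r := by group
    _ = o' * (r' * o) * r := by rw [h2]
    _ = o' * r' * (o * r) := by group

theorem Ksq [Finite G] : ∀ x ∈ P.K, x * x = 1 → x = 1 ∨ x = P.t := by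
  rintro x ⟨o, ho, r, hr, rfl⟩ hxx
  have h1 := P.OR o ho r hr
  have h2 : (o * o) * (r * r) = 1 := by
    calc (o * o) * (r * r) = o * (o * r) * r := by group
      _ = o * (r * o) * r := by rw [h1]
      _ = o * r * (o * r) := by group
      _ = 1 := hxx
  have h3 : o * o = (r * r)⁻¹ := eq_inv_of_mul_eq_one_left h2
  have h4 : o * o = 1 := by
    apply P.inter (P.O.mul_mem ho ho)
    rw [h3]; exact P.R.inv_mem (P.R.mul_mem hr hr)
  have ho1 := P.O_sq ho h4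
  rw [h4, one_mul] at h2
  rcases P.Rsq r hr h2 with h | h
  · left; rw [ho1, h, one_mul]
  · right; rw [ho1, h, one_mul]

theorem s_inverts_K : ∀ x ∈ P.K, P.s * x * P.s⁻¹ = x⁻¹ := by
  rintro x ⟨o, ho, r, hr, rfl⟩
  have h1 := P.sO o ho
  have h2 := P.sRinv r hr
  have h3 := P.OR o⁻¹ (P.O.inv_mem ho) r⁻¹ (P.R.inv_mem hr)
  calc P.s * (o * r) * P.s⁻¹ = (P.s * o * P.s⁻¹) * (P.s * r * P.s⁻¹) := by group
    _ = o⁻¹ * r⁻¹ := by rw [h1, h2]
    _ = r⁻¹ * o⁻¹ := h3.symm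
    _ = (o * r)⁻¹ := by group

theorem s_not_mem_K [Finite G] : P.s ∉ P.K := by
  rintro ⟨o, ho, r, hr, hs⟩
  have hK : P.s ∈ P.K := ⟨o, ho, r, hr, hs⟩
  have h1 := P.OR o ho r hr
  have h2 : (o * o) * (r * r) = 1 := by
    calc (o * o) * (r * r) = o * (o * r) * r := by group
      _ = o * (r * o) * r := by rw [h1]
      _ = o * r * (o * r) := by group
      _ = 1 := by rw [← hs]; exact P.ss
  have h3 : o * o = (r * r)⁻¹ := eq_inv_of_mul_eq_one_left h2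
  have h4 : o * o = 1 := by
    apply P.inter (P.O.mul_mem ho ho)
    rw [h3]; exact P.R.inv_mem (P.R.mul_mem hr hr)
  have ho1 := P.O_sq ho h4
  rw [ho1, one_mul] at hs
  exact P.sR (hs ▸ hr)

end Pre

end Cfsg.Agent.Lib.Helper69.BSWD
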