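import Mathlib
import Cfsg.Agent.Lib.Helper69.BSWDih3

/-!
# `Pre.toCfg`: the TI property and the BSW configuration
-/

set_option autoImplicit false

namespace Cfsg.Agent.Lib.Helper69.BSWD

open Cfsg.Agent.Lib.Helper69.BSW

universe u

variable {G : Type u} [Group G]

namespace Pre

variable (P : Pre G)

theorem tt : P.t * P.t = 1 := by
  have h := pow_orderOf_eq_one P.t
  rw [P.ht, pow_two] at h
  exact h

theorem t1 : P.t ≠ 1 := by
  intro h
  have h2 := P.ht
  rw [h, orderOf_one] at h2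
  omega

theorem Kt : ∀ x ∈ P.K, x * P.t = P.t * x := by
  rintro x ⟨o, ho, r, hr, rfl⟩
  have h1 := P.Ot o ho
  have h2 := P.Rt r hr
  calc o * r * P.t = o * (r * P.t) := by group
    _ = o * (P.t * r) := by rw [h2]
    _ = (o * P.t) * r := by group
    _ = (P.t * o) * r := by rw [h1]
    _ = P.t * (o * r) := by group

theorem pow_half_eq_t [Finite G] {x : G} (hx : x ∈ P.K) (he : Even (orderOf x)) :
    x ^ (orderOf x / 2) = P.t := by
  obtain ⟨m, hm⟩ := he
  have hpos := orderOf_pos x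
  have hm2 : orderOf x / 2 = m := by omega
  rw [hm2]
  have h1 : x ^ m ≠ 1 := pow_ne_one_of_lt_orderOf (by omega) (by omega)
  have h2 : x ^ m * x ^ m = 1 := by
    rw [← pow_add, ← hm]; exact pow_orderOf_eq_one x
  rcases P.Ksq (x ^ m) (P.K.pow_mem hx m) h2 with h | h
  · exact absurd h h1
  · exact h

theorem mem_O_of_odd [Finite G] {x : G} (hx : x ∈ P.K) (ho : Odd (orderOf x)) : x ∈ P.O := by
  obtain ⟨o, hoO, r, hr, rfl⟩ := hx
  have hc : Commute o r := (P.OR o hoO r hr).symm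
  set k := orderOf (o * r) with hk
  have h1 : (o * r) ^ k = 1 := pow_orderOf_eq_one _
  rw [hc.mul_pow] at h1
  have h2 : r ^ k = (o ^ k)⁻¹ := eq_inv_of_mul_eq_one_right h1
  have h3 : r ^ k = 1 := by
    apply P.inter
    · rw [h2]; exact P.O.inv_mem (P.O.pow_mem hoO k)
    · exact P.R.pow_mem hr k
  have h4 : orderOf r ∣ k := orderOf_dvd_of_pow_eq_one h3
  have h5 := orderOf_dvd_natCard (⟨r, hr⟩ : P.R)
  rw [← Subgroup.orderOf_coe] at h5
  rw [show ((⟨r, hr⟩ : P.R) : G) = r from rfl] at h5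
  obtain ⟨j, hj⟩ := P.R2
  rw [hj] at h5
  have hcop : Nat.Coprime k (2 ^ j) :=
    Nat.Coprime.pow_right j (Nat.Coprime.symm (Nat.coprime_two_left.mpr ho))
  have h6 := Nat.eq_one_of_dvd_coprimes hcop h4 h5
  have h7 : r = 1 := orderOf_eq_one_iff.mp h6
  rw [h7, mul_one]; exact hoO

theorem TI [Finite G] (g x : G) (hx : x ∈ P.K) (hx1 : x ≠ 1) (hy : g * x * g⁻¹ ∈ P.K) :
    g * P.t = P.t * g := by
  have hord : orderOf (g * x * g⁻¹) = orderOf x := by
    have := (MulAut.conj g).orderOf_eq x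
    rw [MulAut.conj_apply] at this
    exact this
  rcases Nat.even_or_odd (orderOf x) with he | ho
  · have h1 := P.pow_half_eq_t hx he
    have h2 := P.pow_half_eq_t hy (hord ▸ he)
    rw [hord, conj_pow, h1] at h2
    calc g * P.t = (g * P.t * g⁻¹) * g := by group
      _ = P.t * g := by rw [h2]
  · have hxO := P.mem_O_of_odd hx ho
    have hyK := hy
    -- w = g⁻¹ t g centralizes x
    have hty := P.Kt _ hy
    have hw : (g⁻¹ * P.t * g) * x = x * (g⁻¹ * P.t * g) := by
      calc (g⁻¹ * P.t * g) * x = g⁻¹ * (P.t * (g * x * g⁻¹)) * g := by group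
        _ = g⁻¹ * ((g * x * g⁻¹) * P.t) * g := by rw [hty]
        _ = x * (g⁻¹ * P.t * g) := by group
    -- so w normalizes ⟨x⟩
    have hY : Subgroup.zpowers x ≤ P.O := by
      rw [Subgroup.zpowers_le]; exact hxO
    have hY1 : Subgroup.zpowers x ≠ ⊥ := by
      intro h
      rw [Subgroup.zpowers_eq_bot] at h
      exact hx1 h
    have hwN : (g⁻¹ * P.t * g) ∈ Subgroup.normalizer ((Subgroup.zpowers x : Subgroup G) : Set G) := by
      apply mem_normalizer_of_finite
      intro z hz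
      obtain ⟨k, rfl⟩ := Subgroup.mem_zpowers_iff.mp hz
      have hcomm : Commute (g⁻¹ * P.t * g) (x ^ k) := Commute.zpow_right hw k
      have : (g⁻¹ * P.t * g) * x ^ k * (g⁻¹ * P.t * g)⁻¹ = x ^ k := by
        rw [hcomm.eq]; group
      rw [this]; exact hz
    have hwC := P.hc _ hY hY1 hwN
    rw [mem_centralizer_singleton] at hwC
    have hww : (g⁻¹ * P.t * g) * (g⁻¹ * P.t * g) = 1 := by
      calc (g⁻¹ * P.t * g) * (g⁻¹ * P.t * g) = g⁻¹ * (P.t * P.t) * g := by group
        _ = 1 := by rw [P.tt]; group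
    have hw1 : (g⁻¹ * P.t * g) ≠ 1 := by
      intro h
      apply P.t1
      calc P.t = g * (g⁻¹ * P.t * g) * g⁻¹ := by group
        _ = 1 := by rw [h]; group
    rcases P.split _ hwC with ⟨o, ho', r, hr, hwe⟩ | ⟨o, ho', r, hr, hwe⟩
    · have hwK : (g⁻¹ * P.t * g) ∈ P.K := ⟨o, ho', r, hr, hwe⟩
      rcases P.Ksq _ hwK hww with h | h
      · exact absurd h hw1
      · calc g * P.t = g * (g⁻¹ * P.t * g) := by rw [h]
          _ = P.t * g := by group
    · exfalso
      have hk : P.s * (g⁻¹ * P.t * g) ∈ P.K := ⟨o, ho', r, hr, hwe⟩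
      -- w = s * k inverts x
      have hkx := P.Kcomm _ hk x hx
      have hsx := P.s_inverts_K x hx
      have hinv : (g⁻¹ * P.t * g) * x * (g⁻¹ * P.t * g)⁻¹ = x⁻¹ := by
        have e : (g⁻¹ * P.t * g) = P.s⁻¹ * (P.s * (g⁻¹ * P.t * g)) := by group
        set k := P.s * (g⁻¹ * P.t * g) with hkdef
        rw [e]
        calc P.s⁻¹ * k * x * (P.s⁻¹ * k)⁻¹ = P.s⁻¹ * (k * x) * k⁻¹ * P.s := by group
          _ = P.s⁻¹ * (x * k) * k⁻¹ * P.s := by rw [hkx]
          _ = P.s⁻¹ * x * P.s := by group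
          _ = P.s * x * P.s⁻¹ := by rw [P.sinv]
          _ = x⁻¹ := hsx
      have hcen : (g⁻¹ * P.t * g) * x * (g⁻¹ * P.t * g)⁻¹ = x := by
        rw [hw]; group
      rw [hcen] at hinv
      have hxx : x * x = 1 := by
        calc x * x = x * x⁻¹ := by rw [← hinv]
          _ = 1 := mul_inv_cancel x
      exact hx1 (P.O_sq hxO hxx)

/-- the BSW configuration -/
def toCfg [Finite G] : Cfg G where
  t := P.t
  K := P.K
  s := P.s
  tt := P.tt
  t1 := P.t1
  ss := P.ss
  st := P.st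
  Kt := P.Kt
  Kcomm := P.Kcomm
  tK := P.R_le_K P.tR
  sK := P.s_not_mem_K
  Hsplit := by
    intro g hg
    rcases P.split g hg with h | h
    · exact Or.inl h
    · exact Or.inr h
  Ksq := P.Ksq
  sinv := by
    intro x hx
    have h := P.s_inverts_K x hx
    rw [P.sinv] at h
    exact h
  TI := P.TI
  allconj := P.allconj

end Pre

end Cfsg.Agent.Lib.Helper69.BSWD
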