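import Mathlib
import Cfsg.Agent.Lib.Helper69.BSWDih2
import Cfsg.Agent.Lib.Helper69.BSWDih4
import Cfsg.Agent.S0514
import Cfsg.Agent.S0111
import Cfsg.Agent.Lib.Helper22.Fitting
import Cfsg.Agent.Lib.Helper55.Cores

/-!
# From the hypotheses of the dihedral Brauer–Suzuki–Wall theorem to a `Pre` structure
-/

set_option autoImplicit false

namespace Cfsg.Agent.Lib.Helper69.BSWD

open Cfsg.Agent.Lib.Helper69.BSW

universe u

variable {G : Type u} [Group G]

/-- a cyclic group has at most one involution -/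
theorem cyclic_sq {R : Type*} [Group R] [Finite R] [IsCyclic R] (t r : R) (ht1 : t ≠ 1)
    (htt : t * t = 1) (hrr : r * r = 1) : r = 1 ∨ r = t := by
  classical
  haveI := Fintype.ofFinite R
  by_contra hcon
  push_neg at hcon
  have h := IsCyclic.card_pow_eq_one_le (α := R) (n := 2) (by norm_num)
  have hsub : ({1, t, r} : Finset R) ⊆ Finset.univ.filter (fun a => a ^ 2 = 1) := by
    intro x hx
    simp only [Finset.mem_insert, Finset.mem_singleton] at hx
    rw [Finset.mem_filter]
    refine ⟨Finset.mem_univ _, ?_⟩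
    rcases hx with rfl | rfl | rfl
    · simp
    · rw [pow_two]; exact htt
    · rw [pow_two]; exact hrr
  have hcard : ({1, t, r} : Finset R).card = 3 := by
    rw [Finset.card_insert_of_notMem, Finset.card_insert_of_notMem, Finset.card_singleton]
    · simp only [Finset.mem_singleton]; exact fun h => hcon.2 h.symm
    · simp only [Finset.mem_insert, Finset.mem_singleton, not_or]
      exact ⟨fun h => ht1 h.symm, fun h => hcon.1 h.symm⟩
  have := Finset.card_le_card hsub
  omega

theorem exists_mul_of_coprime {C : Type*} [Group C] [Finite C] (M T : Subgroup C)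
    (h1 : Nat.card M * Nat.card T = Nat.card C) (h2 : (Nat.card M).Coprime (Nat.card T)) (c : C) :
    ∃ m ∈ M, ∃ x ∈ T, c = m * x := by
  have h := Subgroup.isComplement'_of_coprime h1 h2
  obtain ⟨⟨m, x⟩, hmx, -⟩ := (Subgroup.isComplement_iff_existsUnique.mp h) c
  exact ⟨m.1, m.2, x.1, x.2, hmx.symm⟩

/-- `C(t) = O(C(t)) S` -/
theorem split_centralizer [Finite G] (S : Sylow 2 G) (n : ℕ) (hn : 2 ≤ n)
    (hS : Nonempty ((S : Subgroup G) ≃* DihedralGroup n)) (t : G) (ht : orderOf t = 2)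
    (htZ : ∀ s ∈ (S : Subgroup G), s * t = t * s) (g : G) (hg : g * t = t * g) :
    ∃ o ∈ (Cfsg.oddCore (Subgroup.centralizer ({t} : Set G))).map
        (Subgroup.centralizer ({t} : Set G)).subtype, ∃ x ∈ (S : Subgroup G), g = o * x := by
  classical
  obtain ⟨N, hNn, hNodd, k, hNk⟩ := Cfsg.Agent.S0514.result S n hn hS t ht
  have hNM : N ≤ Cfsg.pPrimeCore 2 (Subgroup.centralizer ({t} : Set G)) :=
    Cfsg.Agent.Lib.Helper22.le_pPrimeCore' hNn (Nat.coprime_two_right.mpr hNodd)
  have hMcop : (Nat.card (Cfsg.pPrimeCore 2 (Subgroup.centralizer ({t} : Set G)))).Coprime 2 :=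
    Cfsg.Agent.Lib.Helper55.pPrimeCore_card_coprime 2
  have hMidx : (Cfsg.pPrimeCore 2 (Subgroup.centralizer ({t} : Set G))).index ∣ 2 ^ k := by
    rw [← hNk]; exact Subgroup.index_dvd_of_le hNM
  obtain ⟨i, -, hMi⟩ := (Nat.dvd_prime_pow Nat.prime_two).mp hMidx
  have hCcard : Nat.card (Cfsg.pPrimeCore 2 (Subgroup.centralizer ({t} : Set G))) * 2 ^ i =
      Nat.card (Subgroup.centralizer ({t} : Set G)) := by
    rw [← hMi]; exact Subgroup.card_mul_index _
  have hSC : (S : Subgroup G) ≤ Subgroup.centralizer ({t} : Set G) := by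
    intro x hx
    rw [mem_centralizer_singleton]
    exact htZ x hx
  have hS'card : Nat.card ((S : Subgroup G).subgroupOf (Subgroup.centralizer ({t} : Set G))) =
      Nat.card (S : Subgroup G) :=
    Nat.card_congr (Subgroup.subgroupOfEquivOfLe hSC).toEquiv
  have hScard := S.card_eq_multiplicity
  have hG0 : Nat.card G ≠ 0 := Nat.card_pos.ne'
  have hd1 : 2 ^ (Nat.card G).factorization 2 ∣ 2 ^ i := by
    have h1 : Nat.card ((S : Subgroup G).subgroupOf (Subgroup.centralizer ({t} : Set G))) ∣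
        Nat.card (Subgroup.centralizer ({t} : Set G)) := Subgroup.card_subgroup_dvd_card _
    rw [hS'card, hScard, ← hCcard] at h1
    have hcop : Nat.Coprime (2 ^ (Nat.card G).factorization 2)
        (Nat.card (Cfsg.pPrimeCore 2 (Subgroup.centralizer ({t} : Set G)))) :=
      Nat.Coprime.pow_left _ hMcop.symm
    exact hcop.dvd_of_dvd_mul_left h1
  have hd2 : 2 ^ i ∣ 2 ^ (Nat.card G).factorization 2 := by
    have h1 : 2 ^ i ∣ Nat.card (Subgroup.centralizer ({t} : Set G)) := by
      rw [← hCcard]; exact Dvd.intro_left _ rfl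
    have h2 : 2 ^ i ∣ Nat.card G := h1.trans (Subgroup.card_subgroup_dvd_card _)
    exact pow_dvd_pow 2 ((Nat.Prime.pow_dvd_iff_le_factorization Nat.prime_two hG0).mp h2)
  have heq : 2 ^ (Nat.card G).factorization 2 = 2 ^ i := Nat.dvd_antisymm hd1 hd2
  have hprod : Nat.card (Cfsg.pPrimeCore 2 (Subgroup.centralizer ({t} : Set G))) *
      Nat.card ((S : Subgroup G).subgroupOf (Subgroup.centralizer ({t} : Set G))) =
      Nat.card (Subgroup.centralizer ({t} : Set G)) := by
    rw [hS'card, hScard, heq]; exact hCcard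
  have hcop : (Nat.card (Cfsg.pPrimeCore 2 (Subgroup.centralizer ({t} : Set G)))).Coprime
      (Nat.card ((S : Subgroup G).subgroupOf (Subgroup.centralizer ({t} : Set G)))) := by
    rw [hS'card, hScard]
    exact Nat.Coprime.pow_right _ hMcop
  have hgC : g ∈ Subgroup.centralizer ({t} : Set G) := by
    rw [mem_centralizer_singleton]; exact hg
  obtain ⟨m, hm, x, hx, hmx⟩ := exists_mul_of_coprime _ _ hprod hcop ⟨g, hgC⟩
  refine ⟨m.1, ⟨m, hm, rfl⟩, x.1, Subgroup.mem_subgroupOf.mp hx, ?_⟩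
  have := congrArg Subtype.val hmx
  exact this

/-- every involution is conjugate into `S` -/
theorem conj_into_sylow [Finite G] (S : Sylow 2 G) (u : G) (huu : u * u = 1) :
    ∃ g : G, g * u * g⁻¹ ∈ (S : Subgroup G) := by
  haveI : Fact (Nat.Prime 2) := ⟨Nat.prime_two⟩
  have hp : IsPGroup 2 (Subgroup.zpowers u) := by
    intro x
    obtain ⟨k, hk⟩ := Subgroup.mem_zpowers_iff.mp x.2
    refine ⟨1, ?_⟩
    apply Subtype.ext
    rw [Subgroup.coe_pow, ← hk, pow_one, Subgroup.coe_one, pow_two, ← zpow_add, ← two_mul,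
      zpow_mul, zpow_ofNat, pow_two, huu, one_zpow]
  obtain ⟨Q, hQ⟩ := hp.exists_le_sylow
  obtain ⟨g, hg⟩ := MulAction.exists_smul_eq G Q S
  refine ⟨g, ?_⟩
  rw [← hg, mem_smul_sylow]
  have e : g⁻¹ * (g * u * g⁻¹) * g = u := by group
  rw [e]
  exact hQ (Subgroup.mem_zpowers u)

end Cfsg.Agent.Lib.Helper69.BSWD
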