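import Mathlib
import Cfsg.Agent.Lib.Helper69.BSWDih5

/-!
# The BSW goal from the hypotheses of the dihedral Brauer–Suzuki–Wall theorem
-/

set_option autoImplicit false

namespace Cfsg.Agent.Lib.Helper69.BSWD

open Cfsg.Agent.Lib.Helper69.BSW

universe u

variable {G : Type u} [Group G]

theorem goal_of_hyp [Finite G] [IsSimpleGroup G] (S : Sylow 2 G) (n : ℕ)
    (hn : 2 ≤ n) (hS : Nonempty ((S : Subgroup G) ≃* DihedralGroup n)) (t : G) (ht : orderOf t = 2)
    (htS : t ∈ (S : Subgroup G))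
    (htZ : ∀ s ∈ (S : Subgroup G), s * t = t * s) (O : Subgroup G)
    (hO : O = (Cfsg.oddCore (Subgroup.centralizer ({t} : Set G))).map
      (Subgroup.centralizer ({t} : Set G)).subtype)
    (ha : O ≠ ⊥ → IsCyclic ((S : Subgroup G) ⊓ Subgroup.centralizer (O : Set G) : Subgroup G) ∧
      ((S : Subgroup G) ⊓ Subgroup.centralizer (O : Set G)).relIndex (S : Subgroup G) = 2)
    (hb : ∀ s ∈ (S : Subgroup G), s ∉ Subgroup.centralizer (O : Set G) →
      ∀ y ∈ O, s * y * s⁻¹ = y⁻¹)
    (hc : ∀ Y : Subgroup G, Y ≤ O → Y ≠ ⊥ →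
      Subgroup.normalizer (Y : Set G) ≤ Subgroup.centralizer ({t} : Set G)) :
    Goal G := by
  classical
  obtain ⟨e⟩ := hS
  have ht1 : t ≠ 1 := by
    intro h
    rw [h, orderOf_one] at ht
    omega
  have htt : t * t = 1 := by
    have h := pow_orderOf_eq_one t
    rw [ht, pow_two] at h
    exact h
  -- `O ≤ C(t)`
  have hOt : ∀ o ∈ O, o * t = t * o := by
    intro o ho
    rw [hO] at ho
    obtain ⟨m, -, rfl⟩ := ho
    have := m.2
    rw [mem_centralizer_singleton] at this
    exact this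
  -- the cyclic subgroup
  have hR : ∃ R : Subgroup G, R ≤ (S : Subgroup G) ∧ IsCyclic R ∧
      R.relIndex (S : Subgroup G) = 2 ∧ t ∈ R ∧ (∀ o ∈ O, ∀ r ∈ R, r * o = o * r) ∧
      (∀ x ∈ (S : Subgroup G), x ∉ R → ∀ o ∈ O, x * o * x⁻¹ = o⁻¹) := by
    by_cases hO1 : O = ⊥
    · obtain ⟨R, hRS, hcyc, hidx, htR⟩ := exists_R (S : Subgroup G) n hn e t ht htS htZ
      refine ⟨R, hRS, hcyc, hidx, htR, ?_, ?_⟩
      · intro o ho r hr
        rw [hO1, Subgroup.mem_bot] at ho
        rw [ho, mul_one, one_mul]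
      · intro x hx hxR o ho
        rw [hO1, Subgroup.mem_bot] at ho
        rw [ho]; group
    · obtain ⟨hcyc, hidx⟩ := ha hO1
      refine ⟨(S : Subgroup G) ⊓ Subgroup.centralizer (O : Set G), inf_le_left, hcyc, hidx,
        Subgroup.mem_inf.mpr ⟨htS, ?_⟩, ?_, ?_⟩
      · rw [Subgroup.mem_centralizer_iff]
        intro o ho
        exact hOt o ho
      · intro o ho r hr
        exact ((Subgroup.mem_centralizer_iff.mp (Subgroup.mem_inf.mp hr).2) o ho).symm
      · intro x hx hxR o ho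
        apply hb x hx _ o ho
        intro hxc
        exact hxR (Subgroup.mem_inf.mpr ⟨hx, hxc⟩)
  obtain ⟨R, hRS, hcyc, hidx, htR, hOR, hSO⟩ := hR
  obtain ⟨s, hsS, hsR, hss, hsinv⟩ := exists_s (S : Subgroup G) n hn e R hRS hcyc hidx
  have hScard := S.card_eq_multiplicity
  -- `|S| = 2 n ≥ 4`
  have hScard2 : Nat.card (S : Subgroup G) = 2 * n := by
    rw [Nat.card_congr e.toEquiv, DihedralGroup.nat_card]
  -- involutions of `R`
  have hRsq : ∀ r ∈ R, r * r = 1 → r = 1 ∨ r = t := by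
    intro r hr hrr
    haveI := hcyc
    have h := cyclic_sq (R := R) ⟨t, htR⟩ ⟨r, hr⟩ (fun h => ht1 (congrArg Subtype.val h))
      (Subtype.ext htt) (Subtype.ext hrr)
    rcases h with h | h
    · left; exact congrArg Subtype.val h
    · right; exact congrArg Subtype.val h
  -- index two
  have hidx2 : ∀ a ∈ (S : Subgroup G), ∀ b ∈ (S : Subgroup G), a ∉ R → b ∉ R → a * b ∈ R := by
    intro a haS b hbS haR hbR
    have hidx' : (R.subgroupOf (S : Subgroup G)).index = 2 := hidx
    have h := Subgroup.mul_mem_iff_of_index_two hidx' (a := ⟨a, haS⟩) (b := ⟨b, hbS⟩)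
    rw [Subgroup.mem_subgroupOf, Subgroup.mem_subgroupOf, Subgroup.mem_subgroupOf] at h
    exact h.mpr ⟨fun h' => absurd h' haR, fun h' => absurd h' hbR⟩
  -- all involutions are conjugate to `t`
  have hallconj : ∀ u : G, u * u = 1 → u ≠ 1 → ∃ g, g * t * g⁻¹ = u := by
    intro u huu hu1
    obtain ⟨g, hg⟩ := conj_into_sylow S u huu
    have hv : IsInv (g * u * g⁻¹) := IsInv.conj ⟨huu, hu1⟩ g
    -- it suffices to conjugate `g u g⁻¹` to `t`
    suffices h : ∃ h : G, h * (g * u * g⁻¹) * h⁻¹ = t by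
      obtain ⟨h, hh⟩ := h
      refine ⟨(h * g)⁻¹, ?_⟩
      rw [← hh]; group
    by_cases hvR : g * u * g⁻¹ ∈ R
    · rcases hRsq _ hvR hv.1 with h | h
      · exact absurd h hv.2
      · exact ⟨1, by rw [h]; group⟩
    · have hord : orderOf (g * u * g⁻¹) = 2 := by
        haveI : Fact (Nat.Prime 2) := ⟨Nat.prime_two⟩
        apply orderOf_eq_prime
        · rw [pow_two]; exact hv.1
        · exact hv.2
      rcases Cfsg.Agent.S0111.result S R hRS hidx (g * u * g⁻¹) hord hg hvR with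
        ⟨M, hMn, hMi, -⟩ | ⟨h, hh⟩
      · exfalso
        rcases hMn.eq_bot_or_eq_top with hM | hM
        · rw [hM, Subgroup.index_bot] at hMi
          have h1 : Nat.card (S : Subgroup G) ∣ Nat.card G := Subgroup.card_subgroup_dvd_card _
          rw [hMi, hScard2] at h1
          have := Nat.le_of_dvd (by norm_num) h1
          omega
        · rw [hM, Subgroup.index_top] at hMi
          omega
      · have hw : IsInv (h * (g * u * g⁻¹) * h⁻¹) := hv.conj h
        rcases hRsq _ hh hw.1 with h' | h'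
        · exact absurd h' hw.2
        · exact ⟨h, h'⟩
  -- the structure
  have hOodd : Odd (Nat.card O) := by
    rw [hO, Subgroup.card_map_of_injective (Subgroup.subtype_injective _)]
    exact Nat.coprime_two_right.mp (Cfsg.Agent.Lib.Helper55.pPrimeCore_card_coprime 2)
  have hR2 : ∃ j : ℕ, Nat.card R = 2 ^ j := by
    have h1 : Nat.card R ∣ Nat.card (S : Subgroup G) := Subgroup.card_dvd_of_le hRS
    rw [hScard] at h1
    obtain ⟨j, -, hj⟩ := (Nat.dvd_prime_pow Nat.prime_two).mp h1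
    exact ⟨j, hj⟩
  have hRcomm : ∀ a ∈ R, ∀ b ∈ R, a * b = b * a := by
    intro a ha b hb
    haveI := hcyc
    have := (IsCyclic.isMulCommutative (α := R)).is_comm.comm ⟨a, ha⟩ ⟨b, hb⟩
    exact congrArg Subtype.val this
  have hsplit : ∀ g, g * t = t * g →
      (∃ o ∈ O, ∃ r ∈ R, g = o * r) ∨ (∃ o ∈ O, ∃ r ∈ R, s * g = o * r) := by
    intro g hg
    obtain ⟨o, ho, x, hx, hgox⟩ := split_centralizer S n hn ⟨e⟩ t ht htZ g hg
    rw [← hO] at ho
    by_cases hxR : x ∈ R
    · exact Or.inl ⟨o, ho, x, hxR, hgox⟩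
    · right
      refine ⟨o⁻¹, O.inv_mem ho, s * x, hidx2 s hsS x hx hsR hxR, ?_⟩
      have h1 := hSO s hsS hsR o ho
      rw [hgox, ← h1]; group
  let P : Pre G :=
    { t := t
      s := s
      O := O
      R := R
      ht := ht
      ss := hss
      st := htZ s hsS
      Ot := hOt
      Rt := fun r hr => htZ r (hRS hr)
      Rcomm := hRcomm
      OR := hOR
      tR := htR
      sR := hsR
      sO := hSO s hsS hsR
      sRinv := hsinv
      Oodd := hOodd
      R2 := hR2
      Rsq := hRsq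
      split := hsplit
      hc := hc
      allconj := hallconj }
  exact BSW.main P.toCfg

end Cfsg.Agent.Lib.Helper69.BSWD
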