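import Mathlib
import Cfsg.Agent.Lib.Helper69.BSWB5
import Cfsg.Agent.Lib.Helper69.BSWReal

/-!
# Local analysis around `N(Q) = Q D`
-/

set_option autoImplicit false

namespace Cfsg.Agent.Lib.Helper69.BSWD

open Cfsg.Agent.Lib.Helper69.BSW

universe u

variable {G : Type u} [Group G]

section

variable (Q D : Subgroup G)

theorem D_le_B (hN : Subgroup.normalizer (Q : Set G) = Q ⊔ D) :
    D ≤ Subgroup.normalizer (Q : Set G) := hN ▸ le_sup_right

theorem mem_B (hN : Subgroup.normalizer (Q : Set G) = Q ⊔ D) {b : G}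
    (hb : b ∈ Subgroup.normalizer (Q : Set G)) : ∃ a ∈ Q, ∃ d ∈ D, b = a * d := by
  rw [hN] at hb
  have h := Subgroup.coe_mul_of_right_le_normalizer_left Q D (D_le_B Q D hN)
  have hb' : b ∈ ((Q ⊔ D : Subgroup G) : Set G) := hb
  rw [h] at hb'
  obtain ⟨a, ha, d, hd, rfl⟩ := Set.mem_mul.mp hb'
  exact ⟨a, ha, d, hd, rfl⟩

theorem inter_QD (hQD : Q ⊓ D = ⊥) {x : G} (hQ : x ∈ Q) (hD : x ∈ D) : x = 1 := by
  have : x ∈ Q ⊓ D := Subgroup.mem_inf.mpr ⟨hQ, hD⟩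
  rw [hQD, Subgroup.mem_bot] at this
  exact this

theorem card_B [Finite G] (hQD : Q ⊓ D = ⊥) (hN : Subgroup.normalizer (Q : Set G) = Q ⊔ D) :
    Nat.card (Subgroup.normalizer (Q : Set G)) = Nat.card Q * Nat.card D := by
  apply le_antisymm
  · rw [← Nat.card_prod]
    let f : Q × D → Subgroup.normalizer (Q : Set G) := fun p =>
      ⟨p.1.1 * p.2.1, Subgroup.mul_mem _ (Subgroup.le_normalizer p.1.2) (D_le_B Q D hN p.2.2)⟩
    apply Nat.card_le_card_of_surjective f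
    intro b
    obtain ⟨a, ha, d, hd, hb⟩ := mem_B Q D hN b.2
    exact ⟨(⟨a, ha⟩, ⟨d, hd⟩), Subtype.ext hb.symm⟩
  · exact card_mul_le Q D _ Subgroup.le_normalizer (D_le_B Q D hN)
      (fun x hQ hD => inter_QD Q D hQD hQ hD)

theorem coprime_QD (hDq : 2 * Nat.card D + 1 = Nat.card Q) :
    Nat.Coprime (Nat.card Q) (Nat.card D) := by
  rw [← hDq]
  exact (Nat.coprime_mul_right_add_left 1 (Nat.card D) 2).mpr (Nat.coprime_one_left _)

/-- powers in `Q D` -/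
theorem pow_QD (hN : Subgroup.normalizer (Q : Set G) = Q ⊔ D) {a d : G} (ha : a ∈ Q) (hd : d ∈ D)
    (k : ℕ) : ∃ b ∈ Q, (a * d) ^ k = b * d ^ k := by
  induction k with
  | zero => exact ⟨1, Q.one_mem, by simp⟩
  | succ k ih =>
    obtain ⟨b, hb, hk⟩ := ih
    have hdk : d ^ k ∈ Subgroup.normalizer (Q : Set G) := D_le_B Q D hN (D.pow_mem hd k)
    have h1 := (mem_normalizer_iff'.mp hdk).1 a ha
    refine ⟨b * (d ^ k * a * (d ^ k)⁻¹), Q.mul_mem hb h1, ?_⟩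
    rw [pow_succ, hk, pow_succ]; group

/-- an element of `N(Q)` of order dividing `|Q|` lies in `Q` -/
theorem mem_Q_of_pow [Finite G] (hDq : 2 * Nat.card D + 1 = Nat.card Q) (hQD : Q ⊓ D = ⊥)
    (hN : Subgroup.normalizer (Q : Set G) = Q ⊔ D) {y : G}
    (hy : y ∈ Subgroup.normalizer (Q : Set G)) (hyq : y ^ Nat.card Q = 1) : y ∈ Q := by
  obtain ⟨a, ha, d, hd, rfl⟩ := mem_B Q D hN hy
  obtain ⟨b, hb, hk⟩ := pow_QD Q D hN ha hd (Nat.card Q)
  rw [hyq] at hk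
  have h1 : d ^ Nat.card Q = b⁻¹ := by
    calc d ^ Nat.card Q = b⁻¹ * (b * d ^ Nat.card Q) := by group
      _ = b⁻¹ := by rw [← hk, mul_one]
  have h2 : d ^ Nat.card Q = 1 := by
    apply inter_QD Q D hQD
    · rw [h1]; exact Q.inv_mem hb
    · exact D.pow_mem hd _
  have h3 : orderOf d ∣ Nat.card Q := orderOf_dvd_of_pow_eq_one h2
  have h4 := orderOf_dvd_natCard (⟨d, hd⟩ : D)
  rw [← Subgroup.orderOf_coe] at h4
  rw [show ((⟨d, hd⟩ : D) : G) = d from rfl] at h4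
  have h5 := Nat.eq_one_of_dvd_coprimes (coprime_QD Q D hDq) h3 h4
  have h6 : d = 1 := orderOf_eq_one_iff.mp h5
  rw [h6, mul_one]; exact ha

theorem Q_comm (hcent : ∀ x ∈ Q, x ≠ 1 → Subgroup.centralizer ({x} : Set G) = Q) :
    ∀ a ∈ Q, ∀ b ∈ Q, a * b = b * a := by
  intro a ha b hb
  by_cases hb1 : b = 1
  · rw [hb1, mul_one, one_mul]
  · have h := hcent b hb hb1
    have : a ∈ Subgroup.centralizer ({b} : Set G) := by rw [h]; exact ha
    rw [mem_centralizer_singleton] at this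
    exact this

/-- semiregularity: `x ∈ Q#` and `g⁻¹ x g ∈ N(Q)` force `g ∈ N(Q)` -/
theorem mem_B_of_conj [Finite G]
    (hcent : ∀ x ∈ Q, x ≠ 1 → Subgroup.centralizer ({x} : Set G) = Q)
    (hDq : 2 * Nat.card D + 1 = Nat.card Q) (hQD : Q ⊓ D = ⊥)
    (hN : Subgroup.normalizer (Q : Set G) = Q ⊔ D) {x g : G} (hx : x ∈ Q) (hx1 : x ≠ 1)
    (hg : g⁻¹ * x * g ∈ Subgroup.normalizer (Q : Set G)) :
    g ∈ Subgroup.normalizer (Q : Set G) := by
  have hxq : x ^ Nat.card Q = 1 := by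
    have h := pow_card_eq_one' (G := Q) (x := ⟨x, hx⟩)
    have h2 : ((⟨x, hx⟩ : Q) ^ Nat.card Q : Q).1 = 1 := by rw [h]; rfl
    rw [Subgroup.coe_pow] at h2
    exact h2
  have hyq : (g⁻¹ * x * g) ^ Nat.card Q = 1 := by
    have e : g⁻¹ * x * g = g⁻¹ * x * g⁻¹⁻¹ := by rw [inv_inv]
    rw [e, conj_pow, hxq]; group
  have hyQ := mem_Q_of_pow Q D hDq hQD hN hg hyq
  have hy1 : g⁻¹ * x * g ≠ 1 := by
    intro h
    apply hx1
    calc x = g * (g⁻¹ * x * g) * g⁻¹ := by group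
      _ = 1 := by rw [h]; group
  have hCy := hcent _ hyQ hy1
  have hCx := hcent x hx hx1
  -- `g⁻¹ Q g ⊆ Q`
  have hginv : g⁻¹ ∈ Subgroup.normalizer (Q : Set G) := by
    apply mem_normalizer_of_finite
    intro z hz
    have hzx : z * x = x * z := Q_comm Q hcent z hz x hx
    have : g⁻¹ * z * g⁻¹⁻¹ ∈ Subgroup.centralizer ({g⁻¹ * x * g} : Set G) := by
      rw [mem_centralizer_singleton, inv_inv]
      calc g⁻¹ * z * g * (g⁻¹ * x * g) = g⁻¹ * (z * x) * g := by group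
        _ = g⁻¹ * (x * z) * g := by rw [hzx]
        _ = g⁻¹ * x * g * (g⁻¹ * z * g) := by group
    rw [hCy] at this
    exact this
  have := Subgroup.inv_mem _ hginv
  rwa [inv_inv] at this

end

end Cfsg.Agent.Lib.Helper69.BSWD
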