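import Mathlib
import Cfsg.Prelude.Def_LieExceptional
import Cfsg.Agent.Lib.Helper69.BSWDih7

/-!
# The action on the cosets of `N(Q)` is a Zassenhaus action
-/

set_option autoImplicit false

namespace Cfsg.Agent.Lib.Helper69.BSWD

open Cfsg.Agent.Lib.Helper69.BSW

universe u v

variable {G : Type u} [Group G] {Ω : Type v} [MulAction G Ω]

section

variable (Q D : Subgroup G) (x₀ : Ω)

/-- `N(Q)` fixes the base point -/
theorem fix_of_mem (hstab : MulAction.stabilizer G x₀ = Subgroup.normalizer (Q : Set G))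
    {b : G} (hb : b ∈ Subgroup.normalizer (Q : Set G)) : b • x₀ = x₀ := by
  rw [← hstab] at hb
  exact MulAction.mem_stabilizer_iff.mp hb

theorem semireg [Finite G] (htrans : MulAction.IsPretransitive G Ω)
    (hstab : MulAction.stabilizer G x₀ = Subgroup.normalizer (Q : Set G))
    (hcent : ∀ x ∈ Q, x ≠ 1 → Subgroup.centralizer ({x} : Set G) = Q)
    (hDq : 2 * Nat.card D + 1 = Nat.card Q) (hQD : Q ⊓ D = ⊥)
    (hN : Subgroup.normalizer (Q : Set G) = Q ⊔ D) {x : G} (hx : x ∈ Q) {y : Ω} (hy : y ≠ x₀)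
    (hxy : x • y = y) : x = 1 := by
  by_contra hx1
  obtain ⟨g, hg⟩ := MulAction.exists_smul_eq G x₀ y
  have h1 : (g⁻¹ * x * g) • x₀ = x₀ := by
    rw [mul_smul, mul_smul, hg, hxy, ← hg, inv_smul_smul]
  have h2 : g⁻¹ * x * g ∈ Subgroup.normalizer (Q : Set G) := by
    rw [← hstab]; exact MulAction.mem_stabilizer_iff.mpr h1
  have h3 := mem_B_of_conj Q D hcent hDq hQD hN hx hx1 h2
  apply hy
  rw [← hg]
  exact fix_of_mem Q x₀ hstab h3

theorem reg_exists [Finite G] [Finite Ω] (htrans : MulAction.IsPretransitive G Ω)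
    (hstab : MulAction.stabilizer G x₀ = Subgroup.normalizer (Q : Set G))
    (hcardΩ : Nat.card Ω = Nat.card Q + 1)
    (hcent : ∀ x ∈ Q, x ≠ 1 → Subgroup.centralizer ({x} : Set G) = Q)
    (hDq : 2 * Nat.card D + 1 = Nat.card Q) (hQD : Q ⊓ D = ⊥)
    (hN : Subgroup.normalizer (Q : Set G) = Q ⊔ D) {y z : Ω} (hy : y ≠ x₀) (hz : z ≠ x₀) :
    ∃ u ∈ Q, u • y = z := by
  let ψ : Option Q → Ω := fun o => match o with
    | none => x₀
    | some u => (u : G) • y
  have hfixQ : ∀ u ∈ Q, u • x₀ = x₀ := fun u hu =>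
    fix_of_mem Q x₀ hstab (Subgroup.le_normalizer hu)
  have hne : ∀ u : Q, (u : G) • y ≠ x₀ := by
    intro u h
    apply hy
    have h2 := hfixQ u.1 u.2
    rw [← h2] at h
    exact smul_left_cancel _ h
  have hinj : Function.Injective ψ := by
    intro a b hab
    cases a with
    | none =>
      cases b with
      | none => rfl
      | some u => exact absurd hab.symm (hne u)
    | some u =>
      cases b with
      | none => exact absurd hab (hne u)
      | some u' =>
        have h1 : (u : G) • y = (u' : G) • y := hab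
        have h2 : ((u' : G)⁻¹ * (u : G)) • y = y := by
          rw [mul_smul, h1, inv_smul_smul]
        have h3 := semireg Q D x₀ htrans hstab hcent hDq hQD hN
          (Q.mul_mem (Q.inv_mem u'.2) u.2) hy h2
        have h4 : (u : G) = (u' : G) := by
          calc (u : G) = (u' : G) * ((u' : G)⁻¹ * (u : G)) := by group
            _ = (u' : G) := by rw [h3, mul_one]
        rw [Subtype.ext h4]
  have hbij := hinj.bijective_of_nat_card_le (by rw [Finite.card_option, hcardΩ])
  obtain ⟨o, ho⟩ := hbij.2 z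
  cases o with
  | none => exact absurd ho.symm hz
  | some u => exact ⟨u.1, u.2, ho⟩

theorem zass_main [Finite G] [Finite Ω] [IsSimpleGroup G]
    (htrans : MulAction.IsPretransitive G Ω)
    (hstab : MulAction.stabilizer G x₀ = Subgroup.normalizer (Q : Set G))
    (hcardΩ : Nat.card Ω = Nat.card Q + 1)
    (hcent : ∀ x ∈ Q, x ≠ 1 → Subgroup.centralizer ({x} : Set G) = Q)
    (hDq : 2 * Nat.card D + 1 = Nat.card Q) (hQD : Q ⊓ D = ⊥)
    (hN : Subgroup.normalizer (Q : Set G) = Q ⊔ D) (hD1 : D ≠ ⊥) :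
    Cfsg.IsZassenhausGroup G Ω ∧
      ∀ y z : Ω, y ≠ x₀ → z ≠ x₀ → ∃! u : Q, (u : G) • y = z := by
  have hsemi : ∀ {x : G}, x ∈ Q → ∀ {y : Ω}, y ≠ x₀ → x • y = y → x = 1 :=
    fun hx _ hy hxy => semireg Q D x₀ htrans hstab hcent hDq hQD hN hx hy hxy
  have hreg : ∀ {y z : Ω}, y ≠ x₀ → z ≠ x₀ → ∃ u ∈ Q, u • y = z :=
    fun hy hz => reg_exists Q D x₀ htrans hstab hcardΩ hcent hDq hQD hN hy hz
  have hfixB : ∀ {b : G}, b ∈ Subgroup.normalizer (Q : Set G) → b • x₀ = x₀ :=
    fun hb => fix_of_mem Q x₀ hstab hb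
  have hfixQ : ∀ {u : G}, u ∈ Q → u • x₀ = x₀ := fun hu => hfixB (Subgroup.le_normalizer hu)
  have hmemB : ∀ {b : G}, b • x₀ = x₀ → b ∈ Subgroup.normalizer (Q : Set G) := by
    intro b hb
    rw [← hstab]; exact MulAction.mem_stabilizer_iff.mpr hb
  -- a second point
  have hQpos : 0 < Nat.card Q := Nat.card_pos
  obtain ⟨y₀, hy₀⟩ : ∃ y : Ω, y ≠ x₀ := by
    have h2 : 1 < Nat.card Ω := by omega
    haveI : Nontrivial Ω := (Finite.one_lt_card_iff_nontrivial).mp h2
    exact exists_ne x₀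
  -- a nontrivial element of `Q`
  obtain ⟨q₀, hq₀, hq₀1⟩ : ∃ x ∈ Q, x ≠ 1 := by
    have h2 : 1 < Nat.card Q := by
      have : 0 < Nat.card D := Nat.card_pos
      omega
    haveI : Nontrivial Q := (Finite.one_lt_card_iff_nontrivial).mp h2
    obtain ⟨a, ha⟩ := exists_ne (1 : Q)
    exact ⟨a.1, a.2, fun h => ha (Subtype.ext h)⟩
  -- uniqueness
  have huniq : ∀ {y : Ω}, y ≠ x₀ → ∀ {u u' : G}, u ∈ Q → u' ∈ Q → u • y = u' • y → u = u' := by
    intro y hy u u' hu hu' h
    have h2 : (u'⁻¹ * u) • y = y := by rw [mul_smul, h, inv_smul_smul]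
    have h3 := hsemi (Q.mul_mem (Q.inv_mem hu') hu) hy h2
    calc u = u' * (u'⁻¹ * u) := by group
      _ = u' := by rw [h3, mul_one]
  refine ⟨⟨?_, ?_, ?_, ?_, ?_⟩, ?_⟩
  · -- faithful
    constructor
    intro m₁ m₂ h
    have hker : (MulAction.toPermHom G Ω).ker = ⊥ := by
      rcases (MonoidHom.normal_ker (MulAction.toPermHom G Ω)).eq_bot_or_eq_top with h' | h'
      · exact h'
      · exfalso
        obtain ⟨g, hg⟩ := MulAction.exists_smul_eq G x₀ y₀
        have hgk : g ∈ (MulAction.toPermHom G Ω).ker := by rw [h']; exact Subgroup.mem_top g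
        rw [MonoidHom.mem_ker] at hgk
        have : g • x₀ = x₀ := by
          have := congrArg (fun σ : Equiv.Perm Ω => σ x₀) hgk
          simpa using this
        exact hy₀ (hg ▸ this)
    have hinj := (MonoidHom.ker_eq_bot_iff _).mp hker
    apply hinj
    ext a
    exact h a
  · -- two-transitive
    rw [MulAction.is_two_pretransitive_iff]
    intro a b c d hab hcd
    obtain ⟨g₁, hg₁⟩ := MulAction.exists_smul_eq G a x₀
    obtain ⟨g₂, hg₂⟩ := MulAction.exists_smul_eq G c x₀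
    have hb' : g₁ • b ≠ x₀ := by
      intro h
      rw [← hg₁] at h
      exact hab (smul_left_cancel _ h).symm
    have hd' : g₂ • d ≠ x₀ := by
      intro h
      rw [← hg₂] at h
      exact hcd (smul_left_cancel _ h).symm
    obtain ⟨u, hu, huy⟩ := hreg hb' hd'
    refine ⟨g₂⁻¹ * u * g₁, ?_, ?_⟩
    · rw [mul_smul, mul_smul, hg₁, hfixQ hu, ← hg₂, inv_smul_smul]
    · rw [mul_smul, mul_smul, huy, inv_smul_smul]
  · -- no element fixes three points
    intro g a b c hab hbc hac hga hgb hgc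
    obtain ⟨h, hh⟩ := MulAction.exists_smul_eq G a x₀
    -- conjugate
    have hb' : h • b ≠ x₀ := by
      intro h'
      rw [← hh] at h'
      exact hab (smul_left_cancel _ h').symm
    have hc' : h • c ≠ x₀ := by
      intro h'
      rw [← hh] at h'
      exact hac (smul_left_cancel _ h').symm
    have hbc' : h • b ≠ h • c := fun h' => hbc (smul_left_cancel _ h')
    have hfix : ∀ {p : Ω}, g • p = p → (h * g * h⁻¹) • (h • p) = h • p := by
      intro p hp
      rw [mul_smul, mul_smul, inv_smul_smul, hp]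
    have h0 : (h * g * h⁻¹) • x₀ = x₀ := by
      have := hfix hga
      rwa [hh] at this
    have hgB := hmemB h0
    obtain ⟨u, hu, hub⟩ := hreg hb' hc'
    have hu1 : u ≠ 1 := by
      intro h'
      rw [h', one_smul] at hub
      exact hbc' hub
    -- `g' u g'⁻¹ = u`
    have hconjQ : (h * g * h⁻¹) * u * (h * g * h⁻¹)⁻¹ ∈ Q := (mem_normalizer_iff'.mp hgB).1 u hu
    have hact : ((h * g * h⁻¹) * u * (h * g * h⁻¹)⁻¹) • (h • b) = u • (h • b) := by
      have e1 : (h * g * h⁻¹)⁻¹ • (h • b) = h • b := by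
        have := hfix hgb
        calc (h * g * h⁻¹)⁻¹ • (h • b) = (h * g * h⁻¹)⁻¹ • ((h * g * h⁻¹) • (h • b)) := by
              rw [this]
          _ = h • b := inv_smul_smul _ _
      rw [mul_smul, mul_smul, e1, hub, hfix hgc]
    have hcomm := huniq hb' hconjQ hu hact
    have hgC : (h * g * h⁻¹) ∈ Subgroup.centralizer ({u} : Set G) := by
      rw [mem_centralizer_singleton]
      calc (h * g * h⁻¹) * u = ((h * g * h⁻¹) * u * (h * g * h⁻¹)⁻¹) * (h * g * h⁻¹) := by group
        _ = u * (h * g * h⁻¹) := by rw [hcomm]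
    rw [hcent u hu hu1] at hgC
    have h1 := hsemi hgC hb' (hfix hgb)
    calc g = h⁻¹ * (h * g * h⁻¹) * h := by group
      _ = 1 := by rw [h1]; group
  · -- some element fixes two points
    obtain ⟨d, hd, hd1⟩ : ∃ d ∈ D, d ≠ 1 := by
      obtain ⟨a, ha⟩ := Subgroup.ne_bot_iff_exists_ne_one.mp hD1
      exact ⟨a.1, a.2, fun h => ha (Subtype.ext h)⟩
    have hdB : d ∈ Subgroup.normalizer (Q : Set G) := D_le_B Q D hN hd
    have hdy : d • y₀ ≠ x₀ := by
      intro h
      rw [← hfixB hdB] at h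
      exact hy₀ (smul_left_cancel _ h)
    obtain ⟨u, hu, huy⟩ := hreg hdy hy₀
    refine ⟨u * d, ?_, x₀, y₀, hy₀.symm, ?_, ?_⟩
    · intro h
      apply hd1
      have h2 : d = u⁻¹ := by
        calc d = u⁻¹ * (u * d) := by group
          _ = u⁻¹ := by rw [h, mul_one]
      exact inter_QD Q D hQD (h2 ▸ Q.inv_mem hu) hd
    · rw [mul_smul, hfixB hdB, hfixQ hu]
    · rw [mul_smul, huy]
  · -- no regular normal subgroup
    intro N hNn hNt
    rcases hNn.eq_bot_or_eq_top with rfl | rfl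
    · exfalso
      obtain ⟨n, hn⟩ := MulAction.exists_smul_eq (⊥ : Subgroup G) x₀ y₀
      have h1 : (n : G) = 1 := Subgroup.mem_bot.mp n.2
      have h2 : (n : G) • x₀ = y₀ := hn
      rw [h1, one_smul] at h2
      exact hy₀ h2.symm
    · refine ⟨x₀, ?_⟩
      intro h
      have hmem : (⟨q₀, Subgroup.mem_top q₀⟩ : (⊤ : Subgroup G)) ∈
          MulAction.stabilizer (⊤ : Subgroup G) x₀ := by
        rw [MulAction.mem_stabilizer_iff]
        exact hfixQ hq₀
      rw [h, Subgroup.mem_bot] at hmem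
      exact hq₀1 (congrArg Subtype.val hmem)
  · intro y z hy hz
    obtain ⟨u, hu, huy⟩ := hreg hy hz
    refine ⟨⟨u, hu⟩, huy, ?_⟩
    intro u' hu'
    apply Subtype.ext
    exact huniq hy u'.2 hu (hu'.trans huy.symm)

end

end Cfsg.Agent.Lib.Helper69.BSWD
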