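import Mathlib
import Cfsg.Agent.Lib.Helper69.BSWDih6
import Cfsg.Agent.Lib.Helper69.BSWDih8
import Cfsg.Agent.S0731
import Cfsg.Agent.S0087

/-!
# From the BSW goal to `PSL₂(q)` for a simple group
-/

set_option autoImplicit false

namespace Cfsg.Agent.Lib.Helper69.BSWD

open Cfsg.Agent.Lib.Helper69.BSW

universe u

variable {G : Type u} [Group G]

theorem psl_of_goal [Finite G] [IsSimpleGroup G] (h : Goal G) :
    ∃ (F : Type) (_ : Field F) (_ : Fintype F), Odd (Fintype.card F) ∧
      Nonempty (G ≃* Matrix.ProjectiveSpecialLinearGroup (Fin 2) F) := by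
  classical
  obtain ⟨Q, D, hcard, hcent, -, hDq, hQD, hN, -⟩ := h
  have hQcomm := Q_comm Q hcent
  have hDpos : 0 < Nat.card D := Nat.card_pos
  have hQpos : 0 < Nat.card Q := Nat.card_pos
  -- `D ≠ ⊥`
  have hD1 : D ≠ ⊥ := by
    intro hD
    have hDc : Nat.card D = 1 := by rw [hD]; exact Subgroup.card_bot
    have hq : Nat.card Q = 3 := by omega
    rw [hq] at hcard
    have hG : Nat.card G = 12 := by omega
    have hidx : Q.index = 4 := by
      have := Q.card_mul_index
      rw [hq, hG] at this
      omega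
    have hHall : Nat.Coprime (Nat.card Q) Q.index := by rw [hq, hidx]; decide
    have hNC : Subgroup.normalizer (Q : Set G) ≤ Subgroup.centralizer (Q : Set G) := by
      rw [hN, hD, sup_bot_eq]
      intro x hx
      rw [Subgroup.mem_centralizer_iff]
      intro y hy
      exact hQcomm y hy x hx
    obtain ⟨N, hNn, hNc⟩ := Cfsg.Agent.S0087.result Q hHall hNC
    have hmul := hNc.card_mul_card
    rcases hNn.eq_bot_or_eq_top with h | h
    · rw [h, Subgroup.card_bot, hq, hG] at hmul; omega
    · rw [h, Subgroup.card_top, hq, hG] at hmul; omega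
  -- the action
  have hstab : MulAction.stabilizer G ((1 : G) : G ⧸ Subgroup.normalizer (Q : Set G)) =
      Subgroup.normalizer (Q : Set G) := MulAction.stabilizer_quotient _
  have hcardB := card_B Q D hQD hN
  have h2 : Nat.card Q - 1 = 2 * Nat.card D := by omega
  rw [h2] at hcard
  have hcardΩ : Nat.card (G ⧸ Subgroup.normalizer (Q : Set G)) = Nat.card Q + 1 := by
    rw [← Subgroup.index_eq_card]
    have h1 := (Subgroup.normalizer (Q : Set G)).card_mul_index
    rw [hcardB] at h1
    have h3 : (2 * Nat.card Q * Nat.card D) * (Subgroup.normalizer (Q : Set G)).index =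
        (2 * Nat.card Q * Nat.card D) * (Nat.card Q + 1) := by
      calc (2 * Nat.card Q * Nat.card D) * (Subgroup.normalizer (Q : Set G)).index
          = 2 * (Nat.card Q * Nat.card D * (Subgroup.normalizer (Q : Set G)).index) := by ring
        _ = 2 * Nat.card G := by rw [h1]
        _ = Nat.card Q * (Nat.card Q + 1) * (2 * Nat.card D) := hcard
        _ = (2 * Nat.card Q * Nat.card D) * (Nat.card Q + 1) := by ring
    exact Nat.eq_of_mul_eq_mul_left (by positivity) h3
  have hZ := zass_main Q D ((1 : G) : G ⧸ Subgroup.normalizer (Q : Set G))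
    (MulAction.isPretransitive_quotient G _) hstab hcardΩ hcent hDq hQD hN hD1
  have hFle : Q ≤ MulAction.stabilizer G ((1 : G) : G ⧸ Subgroup.normalizer (Q : Set G)) := by
    rw [hstab]; exact Subgroup.le_normalizer
  have hFn : (Q.subgroupOf
      (MulAction.stabilizer G ((1 : G) : G ⧸ Subgroup.normalizer (Q : Set G)))).Normal := by
    rw [hstab]; exact Subgroup.normal_in_normalizer
  have hFab : IsMulCommutative Q := ⟨⟨fun a b => Subtype.ext (hQcomm a.1 a.2 b.1 b.2)⟩⟩
  rcases Cfsg.Agent.S0731.result hZ.1 _ Q hFle hFn hFab hZ.2 with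
    ⟨h3, -⟩ | ⟨K, fK, ftK, hchar, hiso⟩
  · exfalso
    haveI := Fintype.ofFinite (G ⧸ Subgroup.normalizer (Q : Set G))
    have hcardΩ' : Fintype.card (G ⧸ Subgroup.normalizer (Q : Set G)) = Nat.card Q + 1 := by
      rw [← Nat.card_eq_fintype_card]; exact hcardΩ
    have hemb : Fintype.card (Fin 3 ↪ (G ⧸ Subgroup.normalizer (Q : Set G))) =
        (Nat.card Q + 1) * Nat.card Q * (2 * Nat.card D) := by
      rw [Fintype.card_embedding_eq, Fintype.card_fin, hcardΩ']
      rw [Nat.descFactorial_succ, Nat.descFactorial_succ, Nat.descFactorial_succ,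
        Nat.descFactorial_zero]
      have e1 : Nat.card Q + 1 - 2 = 2 * Nat.card D := by omega
      have e2 : Nat.card Q + 1 - 1 = Nat.card Q := by omega
      rw [e1, e2, Nat.sub_zero]; ring
    obtain ⟨e₀⟩ : Nonempty (Fin 3 ↪ (G ⧸ Subgroup.normalizer (Q : Set G))) := by
      apply Function.Embedding.nonempty_of_card_le
      rw [Fintype.card_fin, hcardΩ']; omega
    have hsurj : Function.Surjective (fun g : G => g • e₀) :=
      fun e => MulAction.exists_smul_eq G e₀ e
    have hle := Nat.card_le_card_of_surjective _ hsurj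
    rw [Nat.card_eq_fintype_card, hemb] at hle
    have hpos : 0 < (Nat.card Q + 1) * Nat.card Q * (2 * Nat.card D) := by positivity
    have e : Nat.card Q * (Nat.card Q + 1) * (2 * Nat.card D) =
        (Nat.card Q + 1) * Nat.card Q * (2 * Nat.card D) := by ring
    rw [e] at hcard
    omega
  · refine ⟨K, fK, ftK, ?_, hiso⟩
    by_contra hodd
    apply hchar
    rw [FiniteField.even_card_iff_char_two]
    exact Nat.not_odd_iff.mp hodd

end Cfsg.Agent.Lib.Helper69.BSWD
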