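import Cfsg.Agent.Lib.Helper69.BrauerE2
import Cfsg.Agent.Lib.Helper69.StarGeneral

/-!
# Exceptional characters for a self-centralizing subgroup of prime order: general index `e`

If `P ≤ G` has prime order `p`, `C_G(P) ≤ P`, `|N_G(P)| = e p` and `e (e + 3) < p`, then there are
an integer vector `u` on `Irr G` of norm `e` with `u(1_G) = 1`, an irreducible character `θ`
outside its support and a sign `ε` with `ψ(1) ≡ u(ψ) (mod p)` on the support of `u` and
`∑ u(ψ) ψ(1) = ε θ(1)` (Brauer; proved with the method of exceptional characters).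
-/

set_option autoImplicit false
set_option linter.style.haveILetI false
set_option linter.unusedSectionVars false
set_option maxHeartbeats 800000

namespace Cfsg.Agent.Lib.Helper69.TI

open Cfsg Subgroup
open scoped ComplexConjugate
open Cfsg.Agent.Lib.Helper69.StarG

universe u

variable {G : Type u} [Group G]

theorem exists_exceptional [Finite G] [Fintype (IrrCharacter G)] {p : ℕ} [hp : Fact p.Prime]
    (e : ℕ) (he : e * (e + 3) < p) (P : Subgroup G)
    (hP : Nat.card P = p) (hN : Nat.card (normalizer (P : Set G)) = e * p)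
    (hC : centralizer (P : Set G) ≤ P) :
    ∃ (u : IrrCharacter G → ℤ) (θ : IrrCharacter G) (ε : ℤ), (ε = 1 ∨ ε = -1) ∧
      u (Cfsg.Agent.Lib.Helper81.oneIrr G) = 1 ∧ u θ = 0 ∧ ∑ ψ, u ψ * u ψ = e ∧
      (∀ ψ, u ψ ≠ 0 → ∃ a : ℤ, (charDegree (ψ : G → ℂ) : ℤ) = u ψ + p * a) ∧
      ∑ ψ, u ψ * (charDegree (ψ : G → ℂ) : ℤ) = ε * charDegree (θ : G → ℂ) := by
  classical
  haveI : Fintype G := Fintype.ofFinite G
  haveI : Fintype P := Fintype.ofFinite P
  haveI : Fintype (IrrCharacter P) := Fintype.ofFinite _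
  have he0 : 0 < e := by
    rcases Nat.eq_zero_or_pos e with h | h
    · exfalso
      rw [h, zero_mul] at hN
      have : 0 < Nat.card (normalizer (P : Set G)) := Nat.card_pos
      omega
    · exact h
  have hchar : ∀ ψ : IrrCharacter G, IsCharacter G (ψ : G → ℂ) := fun ψ =>
    Cfsg.Agent.Lib.Helper3.IsIrrCharacter.isCharacter ψ.2
  have hcl : ∀ ψ : IrrCharacter G, IsClassFunction G (ψ : G → ℂ) := fun ψ =>
    Cfsg.Agent.Lib.Helper3.IsCharacter.isClassFunction (hchar ψ)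
  have hint : ∀ (μ : IrrCharacter P) (ψ : IrrCharacter G),
      ∃ n : ℤ, cc P (μ : P → ℂ) (ψ : G → ℂ) = (n : ℂ) := fun μ ψ => cc_int P μ.2 (hchar ψ)
  choose v hv using hint
  set o := Cfsg.Agent.Lib.Helper81.oneIrr G with ho
  set oP := Cfsg.Agent.Lib.Helper81.oneIrr P with hoP
  have hne1 : ∀ μ : IrrCharacter P, μ ≠ oP → (μ : P → ℂ) ≠ fun _ => 1 := by
    intro μ hμ h
    apply hμ
    apply Subtype.ext
    rw [h]; rfl
  have h0 : ∀ μ, μ ≠ oP → v μ o = 1 := by
    intro μ hμ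
    have h := hv μ o
    have h' : cc P (μ : P → ℂ) (o : G → ℂ) = 1 := cc_one P μ.2 (hne1 μ hμ)
    rw [h'] at h
    exact_mod_cast h.symm
  have hgram : ∀ μ ν, ∑ ψ, ((v μ ψ : ℤ) : ℂ) * ((v ν ψ : ℤ) : ℂ) =
      classInner (indFun P (al P (μ : P → ℂ))) (indFun P (al P (ν : P → ℂ))) := by
    intro μ ν
    rw [← sum_cc_mul_conj]
    apply Finset.sum_congr rfl
    intro ψ _
    rw [hv μ ψ, hv ν ψ]
    simp
  have h1 : ∀ μ, μ ≠ oP → ip (v μ) (v μ) = e + 1 := by
    intro μ hμ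
    have := hgram μ μ
    rw [gram_diag P hP hC e hN μ.2 (hne1 μ hμ)] at this
    have h3 : ((∑ ψ, v μ ψ * v μ ψ : ℤ) : ℂ) = (((e : ℤ) + 1 : ℤ) : ℂ) := by
      push_cast
      rw [this]
    unfold ip
    exact_mod_cast h3
  have hoff : ∀ μ ν : IrrCharacter P, μ ≠ oP → ν ≠ oP →
      (∀ (g : G) (hg : g ∈ normalizer (P : Set G)),
        cjFun P g hg (ν : P → ℂ) ≠ (μ : P → ℂ)) → ip (v μ) (v ν) = e := by
    intro μ ν hμ hν hrel
    have := hgram μ ν
    rw [gram_off P hP e hN μ.2 ν.2 (hne1 μ hμ) (hne1 ν hν) hrel] at this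
    have h3 : ((∑ ψ, v μ ψ * v ν ψ : ℤ) : ℂ) = (((e : ℤ) : ℤ) : ℂ) := by
      push_cast
      rw [this]
    unfold ip
    exact_mod_cast h3
  have hconj : ∀ μ ν : IrrCharacter P, (∃ (g : G) (hg : g ∈ normalizer (P : Set G)),
        cjFun P g hg (ν : P → ℂ) = (μ : P → ℂ)) → v μ = v ν := by
    rintro μ ν ⟨g, hg, h⟩
    funext ψ
    have e1 := hv μ ψ
    have e2 := hv ν ψ
    rw [← h, cc_cjFun P g hg _ (hcl ψ), e2] at e1
    exact_mod_cast e1.symm
  have hdist : ∀ μ ν : IrrCharacter P, μ ≠ oP → ν ≠ oP → v μ = v ν →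
      ∃ (g : G) (hg : g ∈ normalizer (P : Set G)), cjFun P g hg (ν : P → ℂ) = (μ : P → ℂ) := by
    intro μ ν hμ hν h
    by_contra hrel
    push Not at hrel
    have e1 := hoff μ ν hμ hν hrel
    rw [← h, h1 μ hμ] at e1
    omega
  -- degrees
  set d : IrrCharacter G → ℤ := fun ψ => (charDegree (ψ : G → ℂ) : ℤ) with hd
  have hdpos : ∀ ψ, 0 < d ψ := fun ψ => by
    have := Nat.one_le_iff_ne_zero.mpr (Cfsg.Agent.Lib.Helper81.irr_charDegree_ne_zero ψ)
    simp only [hd]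
    exact_mod_cast this
  have hdeg : ∀ μ : IrrCharacter P, ip (v μ) d = 0 := by
    intro μ
    have h := sum_cc_mul_degree P hP μ.2 (G := G)
    have h3 : ((∑ ψ, v μ ψ * d ψ : ℤ) : ℂ) = ((0 : ℤ) : ℂ) := by
      push_cast
      rw [← h]
      apply Finset.sum_congr rfl
      intro ψ _
      rw [hv μ ψ, Cfsg.Agent.Lib.Helper81.irr_apply_one_eq_charDegree ψ]
      simp only [hd, Int.cast_natCast]
    unfold ip
    exact_mod_cast h3
  -- the set of vectors
  set T : Finset (IrrCharacter P) := Finset.univ.erase oP with hT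
  have hTcard : T.card = p - 1 := by
    rw [hT, Finset.card_erase_of_mem (Finset.mem_univ _), Finset.card_univ, card_irr_eq P hP]
  set W : Finset (IrrCharacter G → ℤ) := T.image v with hW
  have hmemT : ∀ μ, μ ∈ T ↔ μ ≠ oP := by
    intro μ
    rw [hT, Finset.mem_erase]
    simp
  have hfiber : ∀ b ∈ T.image v, (T.filter (fun μ => v μ = b)).card ≤ e := by
    intro b hb
    obtain ⟨μ₀, hμ₀T, rfl⟩ := Finset.mem_image.mp hb
    obtain ⟨F, hF1, hF2⟩ := exists_orbit_finset P hP e hN μ₀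
    apply le_trans _ hF1
    apply Finset.card_le_card
    intro μ hμ
    rw [Finset.mem_filter] at hμ
    obtain ⟨g, hg, h⟩ := hdist μ μ₀ ((hmemT μ).mp hμ.1) ((hmemT μ₀).mp hμ₀T) hμ.2
    have h2 := hF2 g hg
    have h3 : (⟨cjFun P g hg (μ₀ : P → ℂ), cjFun_isIrr P g hg μ₀.2⟩ : IrrCharacter P) = μ :=
      Subtype.ext h
    rw [h3] at h2
    exact h2
  have hcardW : e + 3 ≤ W.card := by
    have h := Finset.card_le_mul_card_image (f := v) T e hfiber
    rw [hTcard] at h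
    have h2 : e * (e + 3) ≤ e * W.card := by
      have : e * (e + 3) ≤ p - 1 := by omega
      exact this.trans h
    exact Nat.le_of_mul_le_mul_left h2 he0
  obtain ⟨u, ε, hε, huo, hnu, H⟩ := star_general e d hdpos o W
    (by
      intro w hw
      obtain ⟨μ, hμT, rfl⟩ := Finset.mem_image.mp hw
      exact h0 μ ((hmemT μ).mp hμT))
    (by
      intro w hw
      obtain ⟨μ, hμT, rfl⟩ := Finset.mem_image.mp hw
      exact h1 μ ((hmemT μ).mp hμT))
    (by
      intro w hw w' hw' hne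
      obtain ⟨μ, hμT, rfl⟩ := Finset.mem_image.mp hw
      obtain ⟨ν, hνT, rfl⟩ := Finset.mem_image.mp hw'
      apply hoff μ ν ((hmemT μ).mp hμT) ((hmemT ν).mp hνT)
      intro g hg h
      exact hne (hconj μ ν ⟨g, hg, h⟩))
    (by
      intro w hw
      obtain ⟨μ, _, rfl⟩ := Finset.mem_image.mp hw
      exact hdeg μ)
    hcardW
  -- pick one character
  have hWne : W.Nonempty := by
    rw [← Finset.card_pos]; omega
  obtain ⟨w₁, hw₁⟩ := hWne
  obtain ⟨μ₁, hμ₁T, hμ₁⟩ := Finset.mem_image.mp hw₁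
  obtain ⟨θ, huθ, hθ⟩ := H w₁ hw₁
  refine ⟨u, θ, ε, hε, huo, huθ, hnu, ?_, ?_⟩
  · -- congruences
    intro ψ hψ
    have hall : ∀ μ ∈ T, v μ ψ = u ψ := by
      intro μ hμ
      obtain ⟨c, huc, hc⟩ := H (v μ) (Finset.mem_image_of_mem v hμ)
      have h2 := congrFun hc ψ
      simp only [Pi.sub_apply, Pi.smul_apply, smul_eq_mul, ev_apply] at h2
      have hne : ψ ≠ c := by
        intro h; rw [h] at hψ; exact hψ huc
      rw [if_neg hne] at h2
      rw [h2]; ring
    obtain ⟨a, ha⟩ := degree_formula P hP (hchar ψ)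
    have hsum : ∑ μ : IrrCharacter P, cc P (μ : P → ℂ) (ψ : G → ℂ) =
        ((p - 1 : ℕ) : ℂ) * ((u ψ : ℤ) : ℂ) := by
      rw [← Finset.add_sum_erase Finset.univ _ (Finset.mem_univ oP)]
      have e1 : cc P ((oP : IrrCharacter P) : P → ℂ) (ψ : G → ℂ) = 0 := cc_trivial P _
      rw [e1, zero_add]
      have e2 : ∀ μ ∈ Finset.univ.erase oP,
          cc P (μ : P → ℂ) (ψ : G → ℂ) = ((u ψ : ℤ) : ℂ) := by
        intro μ hμ
        rw [hv μ ψ, hall μ hμ]
      rw [Finset.sum_congr rfl e2, Finset.sum_const, ← hT, hTcard, nsmul_eq_mul]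
    rw [hsum, Cfsg.Agent.Lib.Helper81.irr_apply_one_eq_charDegree ψ] at ha
    have hp1 : 1 ≤ p := hp.out.one_lt.le
    refine ⟨(a : ℤ) - u ψ, ?_⟩
    have h3 : (((charDegree (ψ : G → ℂ) : ℤ) + ((p : ℤ) - 1) * u ψ : ℤ) : ℂ) =
        (((p : ℤ) * (a : ℤ) : ℤ) : ℂ) := by
      push_cast
      rw [← ha]
      push_cast [Nat.cast_sub hp1]
      ring
    have h4 : (charDegree (ψ : G → ℂ) : ℤ) + ((p : ℤ) - 1) * u ψ = (p : ℤ) * (a : ℤ) := by
      exact_mod_cast h3
    linarith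
  · -- the degree equation
    have h := hdeg μ₁
    rw [hμ₁, hθ, ip_sub_left, ip_smul_left, ip_ev_left] at h
    have : ip u d = ε * d θ := by linarith
    exact this

end Cfsg.Agent.Lib.Helper69.TI
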