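import Cfsg.Agent.Lib.Helper69.BrauerApply
import Cfsg.Agent.Lib.Helper69.BrauerGeneral

/-!
# Arithmetic form of Brauer's theorem on groups with a self-centralizing Sylow subgroup of prime
order, case `|N(P) : P| = 3`
-/

set_option autoImplicit false
set_option linter.style.haveILetI false
set_option linter.unusedSectionVars false
set_option maxHeartbeats 800000

namespace Cfsg.Agent.Lib.Helper69.TI

open Cfsg Subgroup

universe u

variable {G : Type u} [Group G]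

/-- **Arithmetic form of Brauer's theorem (`e = 3`) for simple groups.** -/
theorem simple_degrees_e3 [Finite G] [IsSimpleGroup G] (hnc : ¬ IsMulCommutative G) {p : ℕ}
    [hp : Fact p.Prime] (hp19 : 19 ≤ p) (P : Subgroup G) (hP : Nat.card P = p)
    (hN : Nat.card (normalizer (P : Set G)) = 3 * p)
    (hNC : ¬ normalizer (P : Set G) ≤ centralizer (P : Set G)) :
    ∃ (n₂ n₃ m : ℕ) (δ₂ δ₃ ε a₂ a₃ : ℤ), n₂ ∣ Nat.card G ∧ n₃ ∣ Nat.card G ∧ m ∣ Nat.card G ∧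
      1 < n₂ ∧ 1 < n₃ ∧ (δ₂ = 1 ∨ δ₂ = -1) ∧ (δ₃ = 1 ∨ δ₃ = -1) ∧ (ε = 1 ∨ ε = -1) ∧
      (n₂ : ℤ) = δ₂ + p * a₂ ∧ (n₃ : ℤ) = δ₃ + p * a₃ ∧
      1 + δ₂ * n₂ + δ₃ * n₃ = ε * m := by
  classical
  haveI : Fintype (IrrCharacter G) := Fintype.ofFinite _
  have hC := centralizer_le_of_card_normalizer Nat.prime_three P hP hN hNC
  obtain ⟨u, θ, ε, hε, huo, -, hnu, hcong, hdeg⟩ :=
    exists_exceptional 3 (by omega) P hP hN hC
  set o := Cfsg.Agent.Lib.Helper81.oneIrr G with ho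
  have h3 : ∑ ψ, u ψ * u ψ = 3 := by
    rw [hnu]; norm_num
  obtain ⟨A, B, hAo, hBo, hAB, hA, hB, hz⟩ := Cfsg.Agent.Lib.Helper69.Star.struct3 o u huo h3
  have hdo : charDegree ((o : IrrCharacter G) : G → ℂ) = 1 := by
    apply Cfsg.Agent.Lib.Helper81.charDegree_eq_of_apply_one
    rw [ho, Cfsg.Agent.Lib.Helper81.oneIrr_apply]
    simp
  rw [Cfsg.Agent.Lib.Helper69.Star.sum_split3 o A B hAo hBo hAB] at hdeg
  have h5 : ∑ ψ ∈ Finset.univ.filter (fun ψ => ψ ≠ o ∧ ψ ≠ A ∧ ψ ≠ B),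
      u ψ * (charDegree (ψ : G → ℂ) : ℤ) = 0 := by
    apply Finset.sum_eq_zero
    intro ψ hψ
    rw [Finset.mem_filter] at hψ
    rw [hz ψ hψ.2.1 hψ.2.2.1 hψ.2.2.2, zero_mul]
  rw [h5, huo, hdo] at hdeg
  have hA0 : u A ≠ 0 := by rcases hA with h | h <;> rw [h] <;> norm_num
  have hB0 : u B ≠ 0 := by rcases hB with h | h <;> rw [h] <;> norm_num
  obtain ⟨a₂, ha₂⟩ := hcong A hA0
  obtain ⟨a₃, ha₃⟩ := hcong B hB0
  have hA1 : ((A : IrrCharacter G) : G → ℂ) ≠ fun _ => 1 := by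
    intro h
    apply hAo
    apply Subtype.ext
    rw [h]; rfl
  have hB1 : ((B : IrrCharacter G) : G → ℂ) ≠ fun _ => 1 := by
    intro h
    apply hBo
    apply Subtype.ext
    rw [h]; rfl
  refine ⟨charDegree (A : G → ℂ), charDegree (B : G → ℂ), charDegree (θ : G → ℂ), u A, u B, ε,
    a₂, a₃, irr_degree_dvd A, irr_degree_dvd B, irr_degree_dvd θ,
    one_lt_degree_of_simple hnc A hA1, one_lt_degree_of_simple hnc B hB1, hA, hB, hε, ha₂, ha₃, ?_⟩
  push_cast at hdeg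
  linarith

end Cfsg.Agent.Lib.Helper69.TI
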