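import Cfsg.Agent.Lib.Helper69.TIChar
import Cfsg.Agent.Lib.Helper69.StarLemma

/-!
# Exceptional characters for a self-centralizing subgroup of prime order with dihedral normalizer

If `P ≤ G` has prime order `p ≥ 11`, `C_G(P) ≤ P` and `|N_G(P)| = 2p`, then `G` has nontrivial
irreducible characters `χ, θ` with `χ(1) ≡ δ (mod p)` and `θ(1) = χ(1) + δ` for a sign `δ = ±1`
(Brauer–Suzuki; proved with the method of exceptional characters).
-/

set_option autoImplicit false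
set_option linter.style.haveILetI false
set_option linter.unusedSectionVars false
set_option maxHeartbeats 800000

namespace Cfsg.Agent.Lib.Helper69.TI

open Cfsg Subgroup
open scoped ComplexConjugate

universe u

variable {G : Type u} [Group G]

theorem cc_trivial [Fintype G] (P : Subgroup G) [Fintype P] (ψ : G → ℂ) :
    cc P (fun _ => (1 : ℂ)) ψ = 0 := by
  unfold cc al
  rw [sub_self]
  exact Cfsg.Agent.Lib.Helper25.classInner_zero_left _

theorem exists_degrees_e2 [Finite G] {p : ℕ} [hp : Fact p.Prime] (hp11 : 11 ≤ p) (P : Subgroup G)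
    (hP : Nat.card P = p) (hN : Nat.card (normalizer (P : Set G)) = 2 * p)
    (hC : centralizer (P : Set G) ≤ P) :
    ∃ χ θ : IrrCharacter G, (χ : G → ℂ) ≠ (fun _ => 1) ∧ (θ : G → ℂ) ≠ (fun _ => 1) ∧
      ∃ a : ℕ, (charDegree (χ : G → ℂ) + p = p * a + 1 ∧
          charDegree (θ : G → ℂ) = charDegree (χ : G → ℂ) + 1) ∨
        (charDegree (χ : G → ℂ) + 1 = p * a ∧
          charDegree (θ : G → ℂ) + 1 = charDegree (χ : G → ℂ)) := by
  classical
  haveI : Fintype G := Fintype.ofFinite G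
  haveI : Fintype P := Fintype.ofFinite P
  haveI : Fintype (IrrCharacter G) := Fintype.ofFinite _
  haveI : Fintype (IrrCharacter P) := Fintype.ofFinite _
  have hchar : ∀ ψ : IrrCharacter G, IsCharacter G (ψ : G → ℂ) := fun ψ =>
    Cfsg.Agent.Lib.Helper3.IsIrrCharacter.isCharacter ψ.2
  have hcl : ∀ ψ : IrrCharacter G, IsClassFunction G (ψ : G → ℂ) := fun ψ =>
    Cfsg.Agent.Lib.Helper3.IsCharacter.isClassFunction (hchar ψ)
  have hint : ∀ (μ : {μ : IrrCharacter P // (μ : P → ℂ) ≠ fun _ => 1}) (ψ : IrrCharacter G),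
      ∃ n : ℤ, cc P (μ.1 : P → ℂ) (ψ : G → ℂ) = (n : ℂ) := fun μ ψ => cc_int P μ.1.2 (hchar ψ)
  choose v hv using hint
  set o := Cfsg.Agent.Lib.Helper81.oneIrr G with ho
  have h0 : ∀ μ, v μ o = 1 := by
    intro μ
    have h := hv μ o
    have h' : cc P (μ.1 : P → ℂ) (o : G → ℂ) = 1 := cc_one P μ.1.2 μ.2
    rw [h'] at h
    exact_mod_cast h.symm
  have hgram : ∀ μ ν, ∑ ψ, ((v μ ψ : ℤ) : ℂ) * ((v ν ψ : ℤ) : ℂ) =
      classInner (indFun P (al P (μ.1 : P → ℂ))) (indFun P (al P (ν.1 : P → ℂ))) := by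
    intro μ ν
    rw [← sum_cc_mul_conj]
    apply Finset.sum_congr rfl
    intro ψ _
    rw [hv μ ψ, hv ν ψ]
    simp
  have h1 : ∀ μ, ∑ ψ, v μ ψ * v μ ψ = 3 := by
    intro μ
    have := hgram μ μ
    rw [gram_diag P hP hC 2 hN μ.1.2 μ.2] at this
    have h3 : ((∑ ψ, v μ ψ * v μ ψ : ℤ) : ℂ) = ((3 : ℤ) : ℂ) := by
      push_cast
      rw [this]
      norm_num
    exact_mod_cast h3
  have hoff : ∀ μ ν : {μ : IrrCharacter P // (μ : P → ℂ) ≠ fun _ => 1},
      (∀ (g : G) (hg : g ∈ normalizer (P : Set G)),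
        cjFun P g hg (ν.1 : P → ℂ) ≠ (μ.1 : P → ℂ)) → ∑ ψ, v μ ψ * v ν ψ = 2 := by
    intro μ ν hrel
    have := hgram μ ν
    rw [gram_off P hP 2 hN μ.1.2 ν.1.2 μ.2 ν.2 hrel] at this
    have h3 : ((∑ ψ, v μ ψ * v ν ψ : ℤ) : ℂ) = ((2 : ℤ) : ℂ) := by
      push_cast
      rw [this]
      norm_num
    exact_mod_cast h3
  have h2 : ∀ μ ν, v μ = v ν ∨ ∑ ψ, v μ ψ * v ν ψ = 2 := by
    intro μ ν
    by_cases hrel : ∃ (g : G) (hg : g ∈ normalizer (P : Set G)),
        cjFun P g hg (ν.1 : P → ℂ) = (μ.1 : P → ℂ)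
    · left
      obtain ⟨g, hg, h⟩ := hrel
      funext ψ
      have e1 := hv μ ψ
      have e2 := hv ν ψ
      rw [← h, cc_cjFun P g hg _ (hcl ψ), e2] at e1
      exact_mod_cast e1.symm
    · right
      push Not at hrel
      exact hoff μ ν hrel
  have hdist : ∀ μ ν : {μ : IrrCharacter P // (μ : P → ℂ) ≠ fun _ => 1},
      (∀ (g : G) (hg : g ∈ normalizer (P : Set G)),
        cjFun P g hg (ν.1 : P → ℂ) ≠ (μ.1 : P → ℂ)) → v μ ≠ v ν := by
    intro μ ν hrel h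
    have e1 := hoff μ ν hrel
    rw [← h, h1 μ] at e1
    norm_num at e1
  -- selection of four pairwise non-conjugate characters
  obtain ⟨ν1, hν1, -⟩ := exists_unrelated P hP 2 hN ∅ (by simp; omega)
  obtain ⟨ν2, hν2, h21⟩ := exists_unrelated P hP 2 hN {ν1} (by simp; omega)
  obtain ⟨ν3, hν3, h3⟩ := exists_unrelated P hP 2 hN {ν1, ν2} (by
    have := Finset.card_le_two (a := ν1) (b := ν2); omega)
  obtain ⟨ν4, hν4, h4⟩ := exists_unrelated P hP 2 hN {ν1, ν2, ν3} (by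
    have := Finset.card_le_three (a := ν1) (b := ν2) (c := ν3); omega)
  set i1 : {μ : IrrCharacter P // (μ : P → ℂ) ≠ fun _ => 1} := ⟨ν1, hν1⟩ with hi1
  set i2 : {μ : IrrCharacter P // (μ : P → ℂ) ≠ fun _ => 1} := ⟨ν2, hν2⟩ with hi2
  set i3 : {μ : IrrCharacter P // (μ : P → ℂ) ≠ fun _ => 1} := ⟨ν3, hν3⟩ with hi3
  set i4 : {μ : IrrCharacter P // (μ : P → ℂ) ≠ fun _ => 1} := ⟨ν4, hν4⟩ with hi4
  have d12 : v i1 ≠ v i2 := hdist i1 i2 (h21 ν1 (by simp))
  have d13 : v i1 ≠ v i3 := hdist i1 i3 (h3 ν1 (by simp))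
  have d23 : v i2 ≠ v i3 := hdist i2 i3 (h3 ν2 (by simp))
  have d14 : v i1 ≠ v i4 := hdist i1 i4 (h4 ν1 (by simp))
  have d24 : v i2 ≠ v i4 := hdist i2 i4 (h4 ν2 (by simp))
  have d34 : v i3 ≠ v i4 := hdist i3 i4 (h4 ν3 (by simp))
  obtain ⟨A, X, hAo, hXo, hAX, hA, hX, hz, hall⟩ :=
    Cfsg.Agent.Lib.Helper69.Star.star2 o v h0 h1 h2 i1 i2 i3 i4 d12 d13 d14 d23 d24 d34
  -- degrees
  set d : IrrCharacter G → ℕ := fun ψ => charDegree (ψ : G → ℂ) with hd
  have hdpos : ∀ ψ, 1 ≤ d ψ := fun ψ =>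
    Nat.one_le_iff_ne_zero.mpr (Cfsg.Agent.Lib.Helper81.irr_charDegree_ne_zero ψ)
  have hdo : d o = 1 := by
    apply Cfsg.Agent.Lib.Helper81.charDegree_eq_of_apply_one
    rw [ho, Cfsg.Agent.Lib.Helper81.oneIrr_apply]
    simp
  -- the degree equation
  have hdeg : 1 + v i1 A * (d A : ℤ) + v i1 X * (d X : ℤ) = 0 := by
    have h := sum_cc_mul_degree P hP i1.1.2 (G := G)
    have h3 : ((∑ ψ, v i1 ψ * (d ψ : ℤ) : ℤ) : ℂ) = ((0 : ℤ) : ℂ) := by
      push_cast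
      rw [← h]
      apply Finset.sum_congr rfl
      intro ψ _
      rw [hv i1 ψ, Cfsg.Agent.Lib.Helper81.irr_apply_one_eq_charDegree ψ]
    have h4 : ∑ ψ, v i1 ψ * (d ψ : ℤ) = 0 := by exact_mod_cast h3
    rw [Cfsg.Agent.Lib.Helper69.Star.sum_split3 o A X hAo hXo hAX] at h4
    have h5 : ∑ ψ ∈ Finset.univ.filter (fun ψ => ψ ≠ o ∧ ψ ≠ A ∧ ψ ≠ X), v i1 ψ * (d ψ : ℤ) = 0 := by
      apply Finset.sum_eq_zero
      intro ψ hψ
      rw [Finset.mem_filter] at hψ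
      rw [hz ψ hψ.2.1 hψ.2.2.1 hψ.2.2.2, zero_mul]
    rw [h5, h0 i1, hdo] at h4
    push_cast at h4
    linarith
  -- the degree of `A` modulo `p`
  obtain ⟨a, ha⟩ := degree_formula P hP (hchar A)
  have hsum : ∑ μ : IrrCharacter P, cc P (μ : P → ℂ) (A : G → ℂ) =
      ((p - 1 : ℕ) : ℂ) * ((v i1 A : ℤ) : ℂ) := by
    rw [← Finset.add_sum_erase Finset.univ _ (Finset.mem_univ (Cfsg.Agent.Lib.Helper81.oneIrr P))]
    have e1 : cc P ((Cfsg.Agent.Lib.Helper81.oneIrr P : IrrCharacter P) : P → ℂ) (A : G → ℂ) = 0 :=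
      cc_trivial P _
    rw [e1, zero_add]
    have e2 : ∀ μ ∈ Finset.univ.erase (Cfsg.Agent.Lib.Helper81.oneIrr P),
        cc P (μ : P → ℂ) (A : G → ℂ) = ((v i1 A : ℤ) : ℂ) := by
      intro μ hμ
      rw [Finset.mem_erase] at hμ
      have hμ1 : (μ : P → ℂ) ≠ fun _ => 1 := by
        intro h
        apply hμ.1
        apply Subtype.ext
        rw [h]; rfl
      rw [hv ⟨μ, hμ1⟩ A, hall ⟨μ, hμ1⟩]
    rw [Finset.sum_congr rfl e2, Finset.sum_const, Finset.card_erase_of_mem (Finset.mem_univ _),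
      Finset.card_univ, card_irr_eq P hP, nsmul_eq_mul]
  rw [hsum, Cfsg.Agent.Lib.Helper81.irr_apply_one_eq_charDegree A] at ha
  have hp1 : 1 ≤ p := by omega
  have haZ : (d A : ℤ) + ((p : ℤ) - 1) * v i1 A = (p : ℤ) * (a : ℤ) := by
    have h3 : (((d A : ℤ) + ((p : ℤ) - 1) * v i1 A : ℤ) : ℂ) = (((p : ℤ) * (a : ℤ) : ℤ) : ℂ) := by
      push_cast
      rw [← ha]
      push_cast [Nat.cast_sub hp1]
      ring
    exact_mod_cast h3
  have hdA := hdpos A
  have hdX := hdpos X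
  refine ⟨A, X, ?_, ?_, ?_⟩
  · intro h
    apply hAo
    apply Subtype.ext
    rw [h]; rfl
  · intro h
    apply hXo
    apply Subtype.ext
    rw [h]; rfl
  · rcases hA with hA1 | hA1
    · -- `ε = 1`
      refine ⟨a, Or.inl ⟨?_, ?_⟩⟩
      · rw [hA1] at haZ
        have : ((d A + p : ℕ) : ℤ) = ((p * a + 1 : ℕ) : ℤ) := by push_cast; linarith
        exact_mod_cast this
      · rw [hA1] at hdeg
        rcases hX with hX1 | hX1
        · rw [hX1] at hdeg
          exfalso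
          have : (0 : ℤ) ≤ (d A : ℤ) := by positivity
          have : (0 : ℤ) ≤ (d X : ℤ) := by positivity
          linarith
        · rw [hX1] at hdeg
          have : ((d X : ℕ) : ℤ) = ((d A + 1 : ℕ) : ℤ) := by push_cast; linarith
          exact_mod_cast this
    · -- `ε = -1`
      refine ⟨a + 1, Or.inr ⟨?_, ?_⟩⟩
      · rw [hA1] at haZ
        have : ((d A + 1 : ℕ) : ℤ) = ((p * (a + 1) : ℕ) : ℤ) := by push_cast; linarith
        exact_mod_cast this
      · rw [hA1] at hdeg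
        rcases hX with hX1 | hX1
        · rw [hX1] at hdeg
          have : ((d X + 1 : ℕ) : ℤ) = ((d A : ℕ) : ℤ) := by push_cast; linarith
          exact_mod_cast this
        · rw [hX1] at hdeg
          exfalso
          have h5 : (1 : ℤ) ≤ (d A : ℤ) := by exact_mod_cast hdA
          have h6 : (1 : ℤ) ≤ (d X : ℤ) := by exact_mod_cast hdX
          linarith

end Cfsg.Agent.Lib.Helper69.TI
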