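import Mathlib
import Cfsg.Agent.Lib.Helper69.BSWOrbit

/-!
# CA-groups (commuting is transitive on non-identity elements): basics
-/

set_option autoImplicit false

namespace Cfsg.Agent.Lib.Helper69.CA

open Cfsg.Agent.Lib.Helper69.BSW

universe u

variable {G : Type u} [Group G]

/-- commuting is transitive on non-identity elements -/
def CT (G : Type u) [Group G] : Prop :=
  ∀ a b c : G, a ≠ 1 → b ≠ 1 → c ≠ 1 → Commute a b → Commute b c → Commute a c

theorem CT.comm_of (h : CT G) {x a b : G} (hx : x ≠ 1) (ha : a * x = x * a) (hb : b * x = x * b) :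
    a * b = b * a := by
  by_cases ha1 : a = 1
  · rw [ha1, one_mul, mul_one]
  by_cases hb1 : b = 1
  · rw [hb1, one_mul, mul_one]
  exact h a x b ha1 hx hb1 ha hb.symm

theorem CT.cent_eq (h : CT G) {x y : G} (hx : x ≠ 1) (hy : y ≠ 1) (hxy : x * y = y * x) :
    Subgroup.centralizer ({x} : Set G) = Subgroup.centralizer ({y} : Set G) := by
  ext z
  rw [mem_centralizer_singleton, mem_centralizer_singleton]
  constructor
  · intro hz
    by_cases hz1 : z = 1
    · rw [hz1, one_mul, mul_one]
    exact h z x y hz1 hx hy hz hxy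
  · intro hz
    by_cases hz1 : z = 1
    · rw [hz1, one_mul, mul_one]
    exact h z y x hz1 hy hx hz hxy.symm

theorem conj_ne_one {y : G} (hy : y ≠ 1) (g : G) : g * y * g⁻¹ ≠ 1 := by
  intro h
  apply hy
  calc y = g⁻¹ * (g * y * g⁻¹) * g := by group
    _ = 1 := by rw [h]; group

theorem conj_comm {y z : G} (h : z * y = y * z) (g : G) :
    (g * z * g⁻¹) * (g * y * g⁻¹) = (g * y * g⁻¹) * (g * z * g⁻¹) := by
  calc (g * z * g⁻¹) * (g * y * g⁻¹) = g * (z * y) * g⁻¹ := by group
    _ = g * (y * z) * g⁻¹ := by rw [h]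
    _ = (g * y * g⁻¹) * (g * z * g⁻¹) := by group

/-- the TI property of centralizers -/
theorem CT.cent_TI [Finite G] (h : CT G) {x : G} (hx : x ≠ 1) {y g : G}
    (hy : y ∈ Subgroup.centralizer ({x} : Set G)) (hy1 : y ≠ 1)
    (hgy : g * y * g⁻¹ ∈ Subgroup.centralizer ({x} : Set G)) :
    g ∈ Subgroup.normalizer ((Subgroup.centralizer ({x} : Set G) : Subgroup G) : Set G) := by
  apply mem_normalizer_of_finite
  intro z hz
  rw [mem_centralizer_singleton] at hy hgy hz ⊢
  have hzy : z * y = y * z := h.comm_of hx hz hy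
  have h1 := conj_comm hzy g
  -- `g z g⁻¹` commutes with `g y g⁻¹`, which commutes with `x`
  have h2 := h.cent_eq (conj_ne_one hy1 g) hx hgy
  have h3 : g * z * g⁻¹ ∈ Subgroup.centralizer ({g * y * g⁻¹} : Set G) := by
    rw [mem_centralizer_singleton]; exact h1
  rw [h2, mem_centralizer_singleton] at h3
  exact h3

/-- two non-commuting involutions have a product of odd order -/
theorem CT.inv_prod_odd [Finite G] (h : CT G) {s u : G} (hs : IsInv s) (hu : IsInv u)
    (hne : s * u ≠ u * s) : Odd (orderOf (s * u)) := by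
  by_contra hodd
  rw [Nat.not_odd_iff_even] at hodd
  obtain ⟨j, hj⟩ := hodd
  have hpos : 0 < orderOf (s * u) := orderOf_pos _
  have hjpos : 0 < j := by omega
  set x := s * u with hx
  set z := x ^ j with hz
  have hz1 : z ≠ 1 := pow_ne_one_of_lt_orderOf (by omega) (by omega)
  have hsx : s * x * s⁻¹ = x⁻¹ := by
    rw [hx, hs.inv_eq]
    calc s * (s * u) * s = (s * s) * u * s := by group
      _ = u * s := by rw [hs.1, one_mul]
      _ = (s * u)⁻¹ := by rw [mul_inv_rev, hs.inv_eq, hu.inv_eq]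
  have hux : u * x * u⁻¹ = x⁻¹ := by
    rw [hx, hu.inv_eq]
    calc u * (s * u) * u = u * s * (u * u) := by group
      _ = u * s := by rw [hu.1, mul_one]
      _ = (s * u)⁻¹ := by rw [mul_inv_rev, hs.inv_eq, hu.inv_eq]
  have hzz : z⁻¹ = z := by
    have : z * z = 1 := by
      rw [hz, ← pow_add, ← hj]; exact pow_orderOf_eq_one x
    exact inv_eq_of_mul_eq_one_right this
  have hsz : s * z = z * s := by
    have h1 : s * z * s⁻¹ = z := by
      rw [hz, ← conj_pow, hsx, inv_pow, ← hz, hzz]
    calc s * z = (s * z * s⁻¹) * s := by group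
      _ = z * s := by rw [h1]
  have huz : u * z = z * u := by
    have h1 : u * z * u⁻¹ = z := by
      rw [hz, ← conj_pow, hux, inv_pow, ← hz, hzz]
    calc u * z = (u * z * u⁻¹) * u := by group
      _ = z * u := by rw [h1]
  exact hne (h s z u hs.2 hz1 hu.2 hsz huz.symm)

/-- two non-commuting involutions are conjugate -/
theorem CT.inv_conj_of_not_comm [Finite G] (h : CT G) {s u : G} (hs : IsInv s) (hu : IsInv u)
    (hne : s * u ≠ u * s) : ∃ g : G, g * s * g⁻¹ = u := by
  obtain ⟨j, hj⟩ := h.inv_prod_odd hs hu hne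
  set x := s * u with hx
  have hsx : s * x * s⁻¹ = x⁻¹ := by
    rw [hx, hs.inv_eq]
    calc s * (s * u) * s = (s * s) * u * s := by group
      _ = u * s := by rw [hs.1, one_mul]
      _ = (s * u)⁻¹ := by rw [mul_inv_rev, hs.inv_eq, hu.inv_eq]
  have hxo : x ^ (2 * j + 1) = 1 := by rw [← hj]; exact pow_orderOf_eq_one x
  have hsxi : s * x⁻¹ * s⁻¹ = x := by
    have e : s * x⁻¹ * s⁻¹ = (s * x * s⁻¹)⁻¹ := by group
    rw [e, hsx, inv_inv]
  have hsxj : s * (x ^ j)⁻¹ * s⁻¹ = x ^ j := by
    rw [← inv_pow, ← conj_pow, hsxi]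
  have hx2j : x ^ (2 * j) = x⁻¹ := by
    have : x ^ (2 * j) * x = 1 := by rw [← pow_succ]; exact hxo
    exact eq_inv_of_mul_eq_one_left this
  refine ⟨x ^ j, ?_⟩
  calc x ^ j * s * (x ^ j)⁻¹ = x ^ j * (s * (x ^ j)⁻¹ * s⁻¹) * s := by group
    _ = x ^ j * x ^ j * s := by rw [hsxj]
    _ = x ^ (2 * j) * s := by rw [← pow_add, two_mul]
    _ = x⁻¹ * s := by rw [hx2j]
    _ = u * (s * s) := by rw [hx, mul_inv_rev, hs.inv_eq, hu.inv_eq, mul_assoc]
    _ = u := by rw [hs.1, mul_one]

/-- in a simple non-abelian CA-group all involutions are conjugate -/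
theorem CT.all_inv_conj [Finite G] [IsSimpleGroup G] (h : CT G) (hG : ¬ IsMulCommutative G)
    {s u : G} (hs : IsInv s) (hu : IsInv u) : ∃ g : G, g * s * g⁻¹ = u := by
  by_cases hne : s * u = u * s
  · have hex : ∃ w : G, IsInv w ∧ s * w ≠ w * s := by
      by_contra hcon
      push_neg at hcon
      have hT : Subgroup.normalClosure {w : G | IsInv w} ≤ Subgroup.centralizer ({s} : Set G) := by
        unfold Subgroup.normalClosure
        rw [Subgroup.closure_le]
        intro a ha
        obtain ⟨b, hb, hba⟩ := Group.mem_conjugatesOfSet_iff.mp ha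
        obtain ⟨g, rfl⟩ := isConj_iff.mp hba
        rw [SetLike.mem_coe, mem_centralizer_singleton]
        exact (hcon _ (IsInv.conj hb g)).symm
      have hTtop : Subgroup.normalClosure {w : G | IsInv w} = ⊤ := by
        rcases (Subgroup.normalClosure_normal (s := {w : G | IsInv w})).eq_bot_or_eq_top with h' | h'
        · exfalso
          have : s ∈ Subgroup.normalClosure {w : G | IsInv w} := Subgroup.subset_normalClosure hs
          rw [h', Subgroup.mem_bot] at this
          exact hs.2 this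
        · exact h'
      apply hG
      refine ⟨⟨fun a b => ?_⟩⟩
      have ha : a ∈ Subgroup.centralizer ({s} : Set G) := hT (hTtop ▸ Subgroup.mem_top a)
      have hb : b ∈ Subgroup.centralizer ({s} : Set G) := hT (hTtop ▸ Subgroup.mem_top b)
      rw [mem_centralizer_singleton] at ha hb
      exact h.comm_of hs.2 ha hb
    obtain ⟨w, hw, hsw⟩ := hex
    have huw : u * w ≠ w * u := by
      intro huw
      exact hsw (h s u w hs.2 hu.2 hw.2 hne huw)
    obtain ⟨g₁, hg₁⟩ := h.inv_conj_of_not_comm hs hw hsw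
    obtain ⟨g₂, hg₂⟩ := h.inv_conj_of_not_comm hw hu (fun h' => huw h'.symm)
    refine ⟨g₂ * g₁, ?_⟩
    rw [← hg₂, ← hg₁]; group
  · exact h.inv_conj_of_not_comm hs hu hne

end Cfsg.Agent.Lib.Helper69.CA
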