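import Mathlib
import Cfsg.Agent.Lib.Helper69.CA1

/-!
# `PSL₂(2^f)` is a CA-group
-/

set_option autoImplicit false

namespace Cfsg.Agent.Lib.Helper69.CA

universe u

/-- commuting with a non-scalar `2 × 2` matrix is a transitive relation -/
theorem comm_of_nonscalar {F : Type u} [Field F] (X Y Z : Matrix (Fin 2) (Fin 2) F)
    (hY : Y 0 1 ≠ 0 ∨ Y 1 0 ≠ 0 ∨ Y 0 0 ≠ Y 1 1) (hXY : X * Y = Y * X) (hYZ : Y * Z = Z * Y) :
    X * Z = Z * X := by
  have a00 := congrFun (congrFun hXY 0) 0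
  have a01 := congrFun (congrFun hXY 0) 1
  have a10 := congrFun (congrFun hXY 1) 0
  have b00 := congrFun (congrFun hYZ 0) 0
  have b01 := congrFun (congrFun hYZ 0) 1
  have b10 := congrFun (congrFun hYZ 1) 0
  simp only [Matrix.mul_apply, Fin.sum_univ_two] at a00 a01 a10 b00 b01 b10
  have h1 : X 0 1 * Y 1 0 - Y 0 1 * X 1 0 = 0 := by linear_combination a00
  have h2 : Y 0 1 * (X 0 0 - X 1 1) - X 0 1 * (Y 0 0 - Y 1 1) = 0 := by linear_combination a01
  have h3 : X 1 0 * (Y 0 0 - Y 1 1) - Y 1 0 * (X 0 0 - X 1 1) = 0 := by linear_combination a10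
  have k1 : Y 0 1 * Z 1 0 - Z 0 1 * Y 1 0 = 0 := by linear_combination b00
  have k2 : Z 0 1 * (Y 0 0 - Y 1 1) - Y 0 1 * (Z 0 0 - Z 1 1) = 0 := by linear_combination b01
  have k3 : Y 1 0 * (Z 0 0 - Z 1 1) - Z 1 0 * (Y 0 0 - Y 1 1) = 0 := by linear_combination b10
  have hE : X 0 1 * Z 1 0 - Z 0 1 * X 1 0 = 0 ∧
      Z 0 1 * (X 0 0 - X 1 1) - X 0 1 * (Z 0 0 - Z 1 1) = 0 ∧
      X 1 0 * (Z 0 0 - Z 1 1) - Z 1 0 * (X 0 0 - X 1 1) = 0 := by
    rcases hY with h | h | h
    · have hE1 : X 0 1 * Z 1 0 - Z 0 1 * X 1 0 = 0 := by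
        apply mul_left_cancel₀ h
        linear_combination X 0 1 * k1 + Z 0 1 * h1
      have hE2 : Z 0 1 * (X 0 0 - X 1 1) - X 0 1 * (Z 0 0 - Z 1 1) = 0 := by
        apply mul_left_cancel₀ h
        linear_combination Z 0 1 * h2 + X 0 1 * k2
      refine ⟨hE1, hE2, ?_⟩
      apply mul_left_cancel₀ h
      linear_combination (-(Y 1 0)) * hE2 - (Z 0 0 - Z 1 1) * h1 - (X 0 0 - X 1 1) * k1
    · have hE1 : X 0 1 * Z 1 0 - Z 0 1 * X 1 0 = 0 := by
        apply mul_left_cancel₀ h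
        linear_combination Z 1 0 * h1 + X 1 0 * k1
      have hE3 : X 1 0 * (Z 0 0 - Z 1 1) - Z 1 0 * (X 0 0 - X 1 1) = 0 := by
        apply mul_left_cancel₀ h
        linear_combination X 1 0 * k3 + Z 1 0 * h3
      refine ⟨hE1, ?_, hE3⟩
      apply mul_left_cancel₀ h
      linear_combination (-(Y 0 1)) * hE3 - (X 0 0 - X 1 1) * k1 - (Z 0 0 - Z 1 1) * h1
    · have h' : Y 0 0 - Y 1 1 ≠ 0 := sub_ne_zero.mpr h
      refine ⟨?_, ?_, ?_⟩
      · apply mul_left_cancel₀ h'
        linear_combination (X 0 0 - X 1 1) * k1 - Z 1 0 * h2 - Z 0 1 * h3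
      · apply mul_left_cancel₀ h'
        linear_combination (X 0 0 - X 1 1) * k2 + (Z 0 0 - Z 1 1) * h2
      · apply mul_left_cancel₀ h'
        linear_combination (Z 0 0 - Z 1 1) * h3 + (X 0 0 - X 1 1) * k3
  obtain ⟨hE1, hE2, hE3⟩ := hE
  ext i j
  fin_cases i <;> fin_cases j
  · simp only [Matrix.mul_apply, Fin.sum_univ_two, Fin.zero_eta, Fin.isValue]
    linear_combination hE1
  · simp only [Matrix.mul_apply, Fin.sum_univ_two, Fin.zero_eta, Fin.mk_one, Fin.isValue]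
    linear_combination hE2
  · simp only [Matrix.mul_apply, Fin.sum_univ_two, Fin.zero_eta, Fin.mk_one, Fin.isValue]
    linear_combination hE3
  · simp only [Matrix.mul_apply, Fin.sum_univ_two, Fin.mk_one, Fin.isValue]
    linear_combination (-1 : F) * hE1

theorem two_eq_zero_of_card {F : Type u} [Field F] [Fintype F] {f : ℕ} (hf : 1 ≤ f)
    (hF : Fintype.card F = 2 ^ f) : (2 : F) = 0 := by
  have h := Nat.cast_card_eq_zero F
  rw [hF] at h
  push_cast at h
  exact (pow_eq_zero_iff (by omega)).mp h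

theorem sl2_nonscalar {F : Type u} [Field F] (h2 : (2 : F) = 0)
    (Y : Matrix.SpecialLinearGroup (Fin 2) F) (hY : Y ≠ 1) :
    Y.1 0 1 ≠ 0 ∨ Y.1 1 0 ≠ 0 ∨ Y.1 0 0 ≠ Y.1 1 1 := by
  by_contra hcon
  push_neg at hcon
  obtain ⟨h01, h10, h00⟩ := hcon
  apply hY
  have hdet := Y.2
  rw [Matrix.det_fin_two, h01, h10, ← h00] at hdet
  have h1 : (Y.1 0 0 - 1) * (Y.1 0 0 - 1) = 0 := by
    linear_combination hdet - (Y.1 0 0 - 1) * h2
  have h3 : Y.1 0 0 = 1 := sub_eq_zero.mp (mul_self_eq_zero.mp h1)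
  have h4 : Y.1 1 1 = 1 := by rw [← h00, h3]
  apply Subtype.ext
  ext i j
  fin_cases i <;> fin_cases j
  · simpa using h3
  · simpa using h01
  · simpa using h10
  · simpa using h4

theorem sl2_CT {F : Type u} [Field F] (h2 : (2 : F) = 0) :
    CT (Matrix.SpecialLinearGroup (Fin 2) F) := by
  intro a b c _ hb _ hab hbc
  have hXY : a.1 * b.1 = b.1 * a.1 := by
    have := congrArg Subtype.val hab.eq
    simpa using this
  have hYZ : b.1 * c.1 = c.1 * b.1 := by
    have := congrArg Subtype.val hbc.eq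
    simpa using this
  have h := comm_of_nonscalar a.1 b.1 c.1 (sl2_nonscalar h2 b hb) hXY hYZ
  show a * c = c * a
  apply Subtype.ext
  simpa using h

theorem sl2_center {F : Type u} [Field F] (h2 : (2 : F) = 0) :
    Subgroup.center (Matrix.SpecialLinearGroup (Fin 2) F) = ⊥ := by
  rw [Subgroup.eq_bot_iff_forall]
  intro z hz
  rw [Matrix.SpecialLinearGroup.mem_center_iff] at hz
  obtain ⟨r, hr, hrz⟩ := hz
  rw [Fintype.card_fin] at hr
  have hr1 : r = 1 := by
    have h1 : (r - 1) * (r - 1) = 0 := by linear_combination hr - (r - 1) * h2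
    exact sub_eq_zero.mp (mul_self_eq_zero.mp h1)
  subst hr1
  apply Subtype.ext
  rw [← hrz]
  simp

theorem psl2_CT {F : Type u} [Field F] (h2 : (2 : F) = 0) :
    CT (Matrix.ProjectiveSpecialLinearGroup (Fin 2) F) := by
  have hcen := sl2_center h2
  have hinj : ∀ X Y : Matrix.SpecialLinearGroup (Fin 2) F,
      (X : Matrix.ProjectiveSpecialLinearGroup (Fin 2) F) = Y → X = Y := by
    intro X Y h
    rw [QuotientGroup.eq, hcen, Subgroup.mem_bot] at h
    exact inv_mul_eq_one.mp h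
  intro a b c ha hb hc hab hbc
  obtain ⟨A, rfl⟩ := QuotientGroup.mk_surjective a
  obtain ⟨B, rfl⟩ := QuotientGroup.mk_surjective b
  obtain ⟨C, rfl⟩ := QuotientGroup.mk_surjective c
  have hA : A ≠ 1 := fun h => ha (by rw [h]; rfl)
  have hB : B ≠ 1 := fun h => hb (by rw [h]; rfl)
  have hC : C ≠ 1 := fun h => hc (by rw [h]; rfl)
  have hAB : Commute A B := by
    apply hinj
    have := hab.eq
    rw [← QuotientGroup.mk_mul, ← QuotientGroup.mk_mul] at this
    exact this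
  have hBC : Commute B C := by
    apply hinj
    have := hbc.eq
    rw [← QuotientGroup.mk_mul, ← QuotientGroup.mk_mul] at this
    exact this
  have h := sl2_CT h2 A B C hA hB hC hAB hBC
  show (A : Matrix.ProjectiveSpecialLinearGroup (Fin 2) F) * C = C * A
  rw [← QuotientGroup.mk_mul, ← QuotientGroup.mk_mul, h.eq]

theorem CT_of_equiv {G : Type*} {H : Type*} [Group G] [Group H] (e : G ≃* H) (h : CT H) :
    CT G := by
  intro a b c ha hb hc hab hbc
  have h1 := h (e a) (e b) (e c) (e.map_ne_one_iff.mpr ha) (e.map_ne_one_iff.mpr hb)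
    (e.map_ne_one_iff.mpr hc) (hab.map e) (hbc.map e)
  have h2 : e (a * c) = e (c * a) := by
    rw [map_mul, map_mul]; exact h1.eq
  exact e.injective h2

/-- the converse direction -/
theorem CT_of_psl {G : Type*} [Group G] {F : Type} [Field F] [Fintype F] {f : ℕ} (hf : 2 ≤ f)
    (hF : Fintype.card F = 2 ^ f)
    (e : G ≃* Matrix.ProjectiveSpecialLinearGroup (Fin 2) F) : CT G :=
  CT_of_equiv e (psl2_CT (two_eq_zero_of_card (by omega) hF))

end Cfsg.Agent.Lib.Helper69.CA
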