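import Mathlib
import Cfsg.Agent.Lib.Helper69.CA1

/-!
# CA-groups: the subgroups `A = C(t)` and `M = N(A)`
-/

set_option autoImplicit false

namespace Cfsg.Agent.Lib.Helper69.CA

open Cfsg.Agent.Lib.Helper69.BSW

universe u

variable {G : Type u} [Group G]

/-- the configuration: a CA-group with an involution, all involutions conjugate -/
structure CACfg (G : Type u) [Group G] where
  t : G
  ht : IsInv t
  ct : CT G
  allconj : ∀ s u : G, IsInv s → IsInv u → ∃ g : G, g * s * g⁻¹ = u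

namespace CACfg

variable (c : CACfg G)

/-- `A = C(t)` -/
def A : Subgroup G := Subgroup.centralizer ({c.t} : Set G)

/-- `M = N(A)` -/
def M : Subgroup G := Subgroup.normalizer ((c.A : Subgroup G) : Set G)

theorem mem_A {y : G} : y ∈ c.A ↔ y * c.t = c.t * y := mem_centralizer_singleton

theorem t_mem_A : c.t ∈ c.A := c.mem_A.mpr rfl

theorem A_le_M : c.A ≤ c.M := Subgroup.le_normalizer

theorem A_comm : ∀ a ∈ c.A, ∀ b ∈ c.A, a * b = b * a := by
  intro a ha b hb
  exact c.ct.comm_of c.ht.2 (c.mem_A.mp ha) (c.mem_A.mp hb)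

theorem cent_eq_A {y : G} (hy : y ∈ c.A) (hy1 : y ≠ 1) :
    Subgroup.centralizer ({y} : Set G) = c.A :=
  c.ct.cent_eq hy1 c.ht.2 (c.mem_A.mp hy)

theorem mem_A_of_comm {y z : G} (hy : y ∈ c.A) (hy1 : y ≠ 1) (hz : z * y = y * z) : z ∈ c.A := by
  rw [← c.cent_eq_A hy hy1, mem_centralizer_singleton]; exact hz

theorem mem_M_of_conj [Finite G] {y g : G} (hy : y ∈ c.A) (hy1 : y ≠ 1) (hgy : g * y * g⁻¹ ∈ c.A) :
    g ∈ c.M := c.ct.cent_TI c.ht.2 hy hy1 hgy

theorem conj_mem_A {m y : G} (hm : m ∈ c.M) (hy : y ∈ c.A) : m * y * m⁻¹ ∈ c.A :=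
  (mem_normalizer_iff'.mp hm).1 y hy

theorem conj_mem_A' {m y : G} (hm : m ∈ c.M) (hy : y ∈ c.A) : m⁻¹ * y * m ∈ c.A :=
  (mem_normalizer_iff'.mp hm).2 y hy

/-- involutions of `M` lie in `A` -/
theorem inv_mem_A [Finite G] {w : G} (hw : IsInv w) (hwM : w ∈ c.M) : w ∈ c.A := by
  have hs : w * c.t * w⁻¹ ∈ c.A := c.conj_mem_A hwM c.t_mem_A
  by_cases hst : w * c.t * w⁻¹ = c.t
  · rw [c.mem_A]
    calc w * c.t = (w * c.t * w⁻¹) * w := by group
      _ = c.t * w := by rw [hst]
  · -- `p = t * s` is fixed by `w`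
    have hcomm := c.A_comm _ c.t_mem_A _ hs
    have hp : c.t * (w * c.t * w⁻¹) ∈ c.A := c.A.mul_mem c.t_mem_A hs
    have hp1 : c.t * (w * c.t * w⁻¹) ≠ 1 := by
      intro h
      apply hst
      have := eq_inv_of_mul_eq_one_right h
      rw [this, c.ht.inv_eq]
    apply c.mem_A_of_comm hp hp1
    rw [hw.inv_eq] at hcomm ⊢
    calc w * (c.t * (w * c.t * w)) = ((w * c.t * w) * c.t) * w := by group
      _ = (c.t * (w * c.t * w)) * w := by rw [← hcomm]

/-- TI -/
theorem inter_conj [Finite G] {g y : G} (hg : g ∉ c.M) (hy : y ∈ c.A) (hgy : g⁻¹ * y * g ∈ c.A) :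
    y = 1 := by
  by_contra hy1
  apply hg
  have h1 : g⁻¹ * y * g ≠ 1 := by
    have := conj_ne_one hy1 g⁻¹
    rwa [inv_inv] at this
  apply c.mem_M_of_conj hgy h1
  have e : g * (g⁻¹ * y * g) * g⁻¹ = y := by group
  rw [e]; exact hy

/-- the number of involutions of `A` -/
noncomputable def e : ℕ := {w : G | IsInv w ∧ w ∈ c.A}.ncard

theorem e_pos [Finite G] : 0 < c.e := by
  unfold e
  rw [Set.ncard_pos (Set.toFinite _)]
  exact ⟨c.t, c.ht, c.t_mem_A⟩

/-- `|M| = e |A|` -/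
theorem card_M [Finite G] : Nat.card c.M = c.e * Nat.card c.A := by
  classical
  have := Fintype.ofFinite G
  unfold e
  rw [ncard_setOf_eq_card_filter, card_subgroup_eq_card_filter c.M, card_subgroup_eq_card_filter c.A]
  apply card_eq_mul_of_fibers _ _ (fun m => m * c.t * m⁻¹)
  · intro m hm
    rw [Finset.mem_filter] at hm ⊢
    exact ⟨Finset.mem_univ _, IsInv.conj c.ht m, c.conj_mem_A hm.2 c.t_mem_A⟩
  · intro s hs
    rw [Finset.mem_filter] at hs
    obtain ⟨g, hg⟩ := c.allconj c.t s c.ht hs.2.1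
    have hgM : g ∈ c.M := c.mem_M_of_conj c.t_mem_A c.ht.2 (hg ▸ hs.2.2)
    -- the fibre is `g A`
    have hfib : (Finset.univ.filter (· ∈ c.M)).filter (fun m => m * c.t * m⁻¹ = s) =
        (Finset.univ.filter (· ∈ c.A)).image (fun a => g * a) := by
      ext m
      rw [Finset.mem_filter, Finset.mem_filter, Finset.mem_image]
      constructor
      · rintro ⟨⟨-, hm⟩, hms⟩
        refine ⟨g⁻¹ * m, ?_, by group⟩
        rw [Finset.mem_filter]
        refine ⟨Finset.mem_univ _, ?_⟩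
        rw [c.mem_A]
        have h1 : m * c.t * m⁻¹ = g * c.t * g⁻¹ := by rw [hms, hg]
        calc g⁻¹ * m * c.t = g⁻¹ * (m * c.t * m⁻¹) * m := by group
          _ = g⁻¹ * (g * c.t * g⁻¹) * m := by rw [h1]
          _ = c.t * (g⁻¹ * m) := by group
      · rintro ⟨a, ha, rfl⟩
        rw [Finset.mem_filter] at ha
        refine ⟨⟨Finset.mem_univ _, c.M.mul_mem hgM (c.A_le_M ha.2)⟩, ?_⟩
        have h1 := c.mem_A.mp ha.2
        calc g * a * c.t * (g * a)⁻¹ = g * (a * c.t) * a⁻¹ * g⁻¹ := by group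
          _ = g * (c.t * a) * a⁻¹ * g⁻¹ := by rw [h1]
          _ = g * c.t * g⁻¹ := by group
          _ = s := hg
    rw [hfib, Finset.card_image_of_injective _ (mul_right_injective g)]

/-- the number of involutions of `G` -/
theorem nInv_eq [Finite G] : nInv G = c.M.index * c.e := by
  have h1 : Nat.card G = nInv G * Nat.card c.A := by
    rw [← Subgroup.index_mul_card c.A]
    congr 1
    unfold A
    rw [Cfsg.Agent.Lib.Helper3.index_centralizer_eq_ncard]
    unfold nInv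
    congr 1
    ext v
    simp only [Set.mem_setOf_eq]
    constructor
    · intro h
      obtain ⟨g, hg⟩ := isConj_iff.mp h
      have h2 := IsInv.conj c.ht g⁻¹
      have e : v = g⁻¹ * c.t * g⁻¹⁻¹ := by rw [← hg]; group
      rw [e]; exact h2
    · intro h
      obtain ⟨g, hg⟩ := c.allconj c.t v c.ht h
      rw [isConj_comm, isConj_iff]
      exact ⟨g, hg⟩
  have h2 : Nat.card G = c.M.index * (c.e * Nat.card c.A) := by
    rw [← c.card_M]; exact (Subgroup.index_mul_card c.M).symm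
  have hpos : 0 < Nat.card c.A := Nat.card_pos
  have h3 : nInv G * Nat.card c.A = (c.M.index * c.e) * Nat.card c.A := by
    rw [← h1, h2]; ring
  exact Nat.eq_of_mul_eq_mul_right hpos h3

end CACfg

end Cfsg.Agent.Lib.Helper69.CA
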