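import Mathlib
import Cfsg.Agent.Lib.Helper69.CA2

/-!
# CA-groups: the action on the cosets of `M = N(C(t))`, involutions in cosets, two-point stabilizers
-/

set_option autoImplicit false

namespace Cfsg.Agent.Lib.Helper69.CA

open Cfsg.Agent.Lib.Helper69.BSW

universe u

variable {G : Type u} [Group G]

namespace CACfg

variable (c : CACfg G)

/-- the base point -/
def α : G ⧸ c.M := ((1 : G) : G ⧸ c.M)

theorem smul_α (g : G) : g • c.α = (g : G ⧸ c.M) := by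
  unfold α
  rw [MulAction.Quotient.smul_coe, smul_eq_mul, mul_one]

theorem smul_α_eq_iff {g h : G} : g • c.α = h • c.α ↔ g⁻¹ * h ∈ c.M := by
  rw [smul_α, smul_α, QuotientGroup.eq]

theorem smul_α_eq_α_iff {g : G} : g • c.α = c.α ↔ g ∈ c.M := by
  have h := c.smul_α_eq_iff (g := g) (h := 1)
  rw [one_smul, mul_one] at h
  rw [h]
  exact ⟨fun h => by simpa using c.M.inv_mem h, fun h => c.M.inv_mem h⟩

theorem exists_smul_α (x : G ⧸ c.M) : ∃ g : G, g • c.α = x := by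
  obtain ⟨g, rfl⟩ := QuotientGroup.mk_surjective x
  exact ⟨g, c.smul_α g⟩

theorem inv_smul_smul' {u : G} (hu : IsInv u) (x : G ⧸ c.M) : u • u • x = x := by
  rw [← mul_smul, hu.1, one_smul]

/-- the involutions mapping `α` to `x` -/
def fib (x : G ⧸ c.M) : Set G := {w : G | IsInv w ∧ w • c.α = x}

theorem fib_α [Finite G] : c.fib c.α = {w : G | IsInv w ∧ w ∈ c.A} := by
  ext w
  unfold fib
  simp only [Set.mem_setOf_eq]
  constructor
  · rintro ⟨hw, hwα⟩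
    exact ⟨hw, c.inv_mem_A hw (c.smul_α_eq_α_iff.mp hwα)⟩
  · rintro ⟨hw, hwA⟩
    exact ⟨hw, c.smul_α_eq_α_iff.mpr (c.A_le_M hwA)⟩

/-- products of two involutions of the same coset -/
theorem mul_mem_M {x : G ⧸ c.M} {u w : G} (hu : u ∈ c.fib x) (hw : w ∈ c.fib x) : u * w ∈ c.M := by
  rw [← c.smul_α_eq_α_iff, mul_smul, hw.2, ← hu.2, c.inv_smul_smul' hu.1]

theorem fib_injOn [Finite G] {x : G ⧸ c.M} (hx : x ≠ c.α) {u : G} (hu : u ∈ c.fib x) :
    Set.InjOn (fun w => (u * w) * c.t * (u * w)⁻¹) (c.fib x) := by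
  intro w hw w' hw' heq
  simp only at heq
  -- `c₀ = w' w ∈ A`
  have h1 : (w' * w) ∈ c.A := by
    rw [c.mem_A]
    have e1 : w' * w = (u * w')⁻¹ * (u * w) := by
      rw [mul_inv_rev, hw'.1.inv_eq]; group
    rw [e1]
    calc (u * w')⁻¹ * (u * w) * c.t = (u * w')⁻¹ * ((u * w) * c.t * (u * w)⁻¹) * (u * w) := by group
      _ = (u * w')⁻¹ * ((u * w') * c.t * (u * w')⁻¹) * (u * w) := by rw [heq]
      _ = c.t * ((u * w')⁻¹ * (u * w)) := by group
  by_contra hne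
  have h2 : w' * w ≠ 1 := by
    intro h
    apply hne
    have := eq_inv_of_mul_eq_one_right h
    rw [this, hw'.1.inv_eq]
  have h3 : w' * (w' * w) * w'⁻¹ ∈ c.A := by
    have e : w' * (w' * w) * w'⁻¹ = (w' * w)⁻¹ := by
      rw [hw'.1.inv_eq, mul_inv_rev, hw'.1.inv_eq, hw.1.inv_eq]
      calc w' * (w' * w) * w' = (w' * w') * w * w' := by group
        _ = w * w' := by rw [hw'.1.1, one_mul]
    rw [e]; exact c.A.inv_mem h1
  have h4 := c.mem_M_of_conj h1 h2 h3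
  apply hx
  rw [← hw'.2]
  exact c.smul_α_eq_α_iff.mpr h4

theorem fib_le [Finite G] {x : G ⧸ c.M} (hx : x ≠ c.α) : (c.fib x).ncard ≤ c.e := by
  by_cases hne : (c.fib x).Nonempty
  · obtain ⟨u, hu⟩ := hne
    unfold e
    apply Set.ncard_le_ncard_of_injOn _ _ (c.fib_injOn hx hu) (Set.toFinite _)
    intro w hw
    have hM := c.mul_mem_M hu hw
    exact ⟨IsInv.conj c.ht _, c.conj_mem_A hM c.t_mem_A⟩
  · rw [Set.not_nonempty_iff_eq_empty] at hne
    rw [hne, Set.ncard_empty]; exact Nat.zero_le _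

/-- every coset contains exactly `e` involutions -/
theorem fib_eq [Finite G] (x : G ⧸ c.M) : (c.fib x).ncard = c.e := by
  classical
  have := Fintype.ofFinite G
  have := Fintype.ofFinite (G ⧸ c.M)
  have hle : ∀ y ∈ (Finset.univ : Finset (G ⧸ c.M)), (c.fib y).ncard ≤ c.e := by
    intro y _
    by_cases hy : y = c.α
    · rw [hy, c.fib_α]; exact le_of_eq rfl
    · exact c.fib_le hy
  have hsum : ∑ y : G ⧸ c.M, (c.fib y).ncard = ∑ _y : G ⧸ c.M, c.e := by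
    rw [Finset.sum_const, Finset.card_univ, smul_eq_mul, ← Nat.card_eq_fintype_card,
      ← Subgroup.index_eq_card, ← c.nInv_eq]
    unfold nInv
    rw [ncard_setOf_eq_card_filter,
      Finset.card_eq_sum_card_fiberwise (f := fun w => w • c.α) (t := Finset.univ)
        (fun _ _ => Finset.mem_univ _)]
    apply Finset.sum_congr rfl
    intro y _
    unfold fib
    rw [ncard_setOf_eq_card_filter, Finset.filter_filter]
  exact (Finset.sum_eq_sum_iff_of_le hle).mp hsum x (Finset.mem_univ x)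

theorem exists_fib [Finite G] (x : G ⧸ c.M) : ∃ w, w ∈ c.fib x := by
  have h := c.fib_eq x
  have hpos := c.e_pos
  have : (c.fib x).Nonempty := by
    rw [← Set.ncard_pos (Set.toFinite _)]; omega
  exact this

/-- the two-point stabilizer -/
def D (x : G ⧸ c.M) : Subgroup G := c.M ⊓ MulAction.stabilizer G x

theorem mem_D {x : G ⧸ c.M} {d : G} : d ∈ c.D x ↔ d ∈ c.M ∧ d • x = x := by
  unfold D
  rw [Subgroup.mem_inf, MulAction.mem_stabilizer_iff]

theorem not_mem_M_of_fib {x : G ⧸ c.M} (hx : x ≠ c.α) {u : G} (hu : u ∈ c.fib x) : u ∉ c.M := by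
  intro h
  apply hx
  rw [← hu.2]
  exact c.smul_α_eq_α_iff.mpr h

theorem fib_smul {x : G ⧸ c.M} {u : G} (hu : u ∈ c.fib x) : u • x = c.α := by
  rw [← hu.2, c.inv_smul_smul' hu.1]

/-- conjugating by an involution of the coset swaps the two point stabilizers -/
theorem conj_mem_M {x : G ⧸ c.M} {u : G} (hu : u ∈ c.fib x) {d : G} (hd : d • x = x) :
    u * d * u⁻¹ ∈ c.M := by
  rw [hu.1.inv_eq, ← c.smul_α_eq_α_iff, mul_smul, mul_smul, hu.2, hd, c.fib_smul hu]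

/-- `D ∩ A = 1` -/
theorem D_inter_A [Finite G] {x : G ⧸ c.M} (hx : x ≠ c.α) {d : G} (hd : d ∈ c.D x)
    (hdA : d ∈ c.A) : d = 1 := by
  obtain ⟨u, hu⟩ := c.exists_fib x
  have huM := c.not_mem_M_of_fib hx hu
  have hd' : u * d * u⁻¹ ∈ c.M := c.conj_mem_M hu (c.mem_D.mp hd).2
  have hconj : u⁻¹ * d * u = u * d * u⁻¹ := by
    have h := hu.1.inv_eq
    calc u⁻¹ * d * u = u * d * u := by rw [h]
      _ = u * d * u⁻¹ := by rw [h]
  -- the commutator lies in `A ∩ u A u⁻¹`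
  have hc1 : d * (u * d * u⁻¹) * d⁻¹ * (u * d * u⁻¹)⁻¹ ∈ c.A := by
    have h1 : (u * d * u⁻¹) * d⁻¹ * (u * d * u⁻¹)⁻¹ ∈ c.A := c.conj_mem_A hd' (c.A.inv_mem hdA)
    have e : d * (u * d * u⁻¹) * d⁻¹ * (u * d * u⁻¹)⁻¹ =
        d * ((u * d * u⁻¹) * d⁻¹ * (u * d * u⁻¹)⁻¹) := by group
    rw [e]; exact c.A.mul_mem hdA h1
  have hc2 : u⁻¹ * (d * (u * d * u⁻¹) * d⁻¹ * (u * d * u⁻¹)⁻¹) * u ∈ c.A := by
    have h1 : (u * d * u⁻¹) * d * (u * d * u⁻¹)⁻¹ ∈ c.A := c.conj_mem_A hd' hdA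
    have e : u⁻¹ * (d * (u * d * u⁻¹) * d⁻¹ * (u * d * u⁻¹)⁻¹) * u =
        (u⁻¹ * d * u) * d * (u⁻¹ * d * u)⁻¹ * d⁻¹ := by group
    rw [e, hconj]; exact c.A.mul_mem h1 (c.A.inv_mem hdA)
  have hcomm := c.inter_conj huM hc1 hc2
  by_contra hd1
  have h5 : (u * d * u⁻¹) * d = d * (u * d * u⁻¹) := by
    have e : (u * d * u⁻¹) * d =
        (d * (u * d * u⁻¹) * d⁻¹ * (u * d * u⁻¹)⁻¹)⁻¹ * (d * (u * d * u⁻¹)) := by group
    rw [e, hcomm, inv_one, one_mul]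
  have h6 : u * d * u⁻¹ ∈ c.A := c.mem_A_of_comm hdA hd1 h5
  have h7 : u⁻¹ * (u * d * u⁻¹) * u ∈ c.A := by
    have e : u⁻¹ * (u * d * u⁻¹) * u = d := by group
    rw [e]; exact hdA
  have h8 := c.inter_conj huM h6 h7
  apply hd1
  calc d = u⁻¹ * (u * d * u⁻¹) * u := by group
    _ = 1 := by rw [h8]; group

end CACfg

end Cfsg.Agent.Lib.Helper69.CA
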