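import Mathlib
import Cfsg.Agent.Lib.Helper69.CA3

/-!
# CA-groups: structure of the two-point stabilizers
-/

set_option autoImplicit false

namespace Cfsg.Agent.Lib.Helper69.CA

open Cfsg.Agent.Lib.Helper69.BSW

universe u

variable {G : Type u} [Group G]

namespace CACfg

variable (c : CACfg G)

/-- subgroups of `M` meeting `A` trivially have order at most `e` -/
theorem card_le_e [Finite G] {X : Subgroup G} (hXM : X ≤ c.M)
    (hXA : ∀ x ∈ X, x ∈ c.A → x = 1) : Nat.card X ≤ c.e := by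
  unfold e
  rw [card_subgroup_eq_ncard]
  apply Set.ncard_le_ncard_of_injOn (fun d => d * c.t * d⁻¹) _ _ (Set.toFinite _)
  · intro d hd
    exact ⟨IsInv.conj c.ht d, c.conj_mem_A (hXM hd) c.t_mem_A⟩
  · intro d hd d' hd' heq
    simp only at heq
    have h1 : d'⁻¹ * d ∈ c.A := by
      rw [c.mem_A]
      calc d'⁻¹ * d * c.t = d'⁻¹ * (d * c.t * d⁻¹) * d := by group
        _ = d'⁻¹ * (d' * c.t * d'⁻¹) * d := by rw [heq]
        _ = c.t * (d'⁻¹ * d) := by group
    have h2 := hXA _ (X.mul_mem (X.inv_mem hd') hd) h1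
    calc d = d' * (d'⁻¹ * d) := by group
      _ = d' := by rw [h2, mul_one]

theorem D_le_M (x : G ⧸ c.M) : c.D x ≤ c.M := inf_le_left

theorem image_subset_D {x : G ⧸ c.M} {u : G} (hu : u ∈ c.fib x) :
    (fun w => u * w) '' c.fib x ⊆ ((c.D x : Subgroup G) : Set G) := by
  rintro _ ⟨w, hw, rfl⟩
  rw [SetLike.mem_coe, c.mem_D]
  refine ⟨c.mul_mem_M hu hw, ?_⟩
  rw [mul_smul, c.fib_smul hw, hu.2]

theorem card_D [Finite G] {x : G ⧸ c.M} (hx : x ≠ c.α) : Nat.card (c.D x) = c.e := by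
  obtain ⟨u, hu⟩ := c.exists_fib x
  apply le_antisymm
  · exact c.card_le_e (c.D_le_M x) (fun d hd hdA => c.D_inter_A hx hd hdA)
  · rw [card_subgroup_eq_ncard, ← c.fib_eq x,
      ← Set.ncard_image_of_injective (c.fib x) (mul_right_injective u)]
    exact Set.ncard_le_ncard (c.image_subset_D hu) (Set.toFinite _)

theorem D_eq_image [Finite G] {x : G ⧸ c.M} (hx : x ≠ c.α) {u : G} (hu : u ∈ c.fib x) :
    (fun w => u * w) '' c.fib x = ((c.D x : Subgroup G) : Set G) := by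
  apply Set.eq_of_subset_of_ncard_le (c.image_subset_D hu) _ (Set.toFinite _)
  rw [Set.ncard_image_of_injective (c.fib x) (mul_right_injective u), c.fib_eq x,
    ← card_subgroup_eq_ncard, c.card_D hx]

/-- every involution swapping `α` and `x` inverts the two-point stabilizer -/
theorem inverts_D [Finite G] {x : G ⧸ c.M} (hx : x ≠ c.α) {u : G} (hu : u ∈ c.fib x)
    {d : G} (hd : d ∈ c.D x) : u * d * u⁻¹ = d⁻¹ := by
  have h : d ∈ ((c.D x : Subgroup G) : Set G) := hd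
  rw [← c.D_eq_image hx hu] at h
  obtain ⟨w, hw, rfl⟩ := h
  rw [mul_inv_rev, hu.1.inv_eq, hw.1.inv_eq]
  calc u * (u * w) * u = (u * u) * w * u := by group
    _ = w * u := by rw [hu.1.1, one_mul]

theorem D_comm [Finite G] {x : G ⧸ c.M} (hx : x ≠ c.α) :
    ∀ a ∈ c.D x, ∀ b ∈ c.D x, a * b = b * a := by
  intro a ha b hb
  obtain ⟨u, hu⟩ := c.exists_fib x
  have h1 := c.inverts_D hx hu ha
  have h2 := c.inverts_D hx hu hb
  have h3 := c.inverts_D hx hu ((c.D x).mul_mem ha hb)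
  have h4 : u * (a * b) * u⁻¹ = (u * a * u⁻¹) * (u * b * u⁻¹) := by group
  rw [h4, h1, h2] at h3
  have h5 : (a⁻¹ * b⁻¹)⁻¹ = ((a * b)⁻¹)⁻¹ := by rw [h3]
  rw [mul_inv_rev, inv_inv, inv_inv, inv_inv] at h5
  exact h5.symm

/-- `C(d) ∩ M = D` for `1 ≠ d ∈ D` -/
theorem cent_inf_M [Finite G] {x : G ⧸ c.M} (hx : x ≠ c.α) {d : G} (hd : d ∈ c.D x)
    (hd1 : d ≠ 1) : Subgroup.centralizer ({d} : Set G) ⊓ c.M = c.D x := by
  symm
  apply Subgroup.eq_of_le_of_card_ge
  · intro b hb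
    rw [Subgroup.mem_inf, mem_centralizer_singleton]
    exact ⟨c.D_comm hx b hb d hd, c.D_le_M x hb⟩
  · rw [c.card_D hx]
    apply c.card_le_e inf_le_right
    intro z hz hzA
    by_contra hz1
    rw [Subgroup.mem_inf, mem_centralizer_singleton] at hz
    have h1 : d ∈ c.A := c.mem_A_of_comm hzA hz1 hz.1.symm
    exact hd1 (c.D_inter_A hx hd h1)

/-- an element of a two-point stabilizer fixing a further point -/
theorem D_eq_of_fix [Finite G] {x y : G ⧸ c.M} (hx : x ≠ c.α) (hy : y ≠ c.α) {d : G}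
    (hd : d ∈ c.D x) (hd1 : d ≠ 1) (hdy : d • y = y) : c.D x = c.D y := by
  have hdy' : d ∈ c.D y := c.mem_D.mpr ⟨c.D_le_M x hd, hdy⟩
  rw [← c.cent_inf_M hx hd hd1, ← c.cent_inf_M hy hdy' hd1]

end CACfg

end Cfsg.Agent.Lib.Helper69.CA
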