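import Mathlib
import Cfsg.Agent.Lib.Helper69.CA2

/-!
# CA-groups: `A` contains at least two involutions (Burnside transfer)
-/

set_option autoImplicit false

namespace Cfsg.Agent.Lib.Helper69.CA

open Cfsg.Agent.Lib.Helper69.BSW

universe u

variable {G : Type u} [Group G]

namespace CACfg

variable (c : CACfg G)

theorem two_le_e [Finite G] [IsSimpleGroup G] (hG : ¬ IsMulCommutative G) : 2 ≤ c.e := by
  haveI : Fact (Nat.Prime 2) := ⟨Nat.prime_two⟩
  by_contra hlt
  have he : c.e = 1 := by
    have := c.e_pos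
    omega
  have hMA : c.A = c.M := by
    apply Subgroup.eq_of_le_of_card_ge c.A_le_M
    rw [c.card_M, he, one_mul]
  -- a Sylow 2-subgroup containing `t`
  have hp : IsPGroup 2 (Subgroup.zpowers c.t) := by
    intro x
    obtain ⟨k, hk⟩ := Subgroup.mem_zpowers_iff.mp x.2
    refine ⟨1, ?_⟩
    apply Subtype.ext
    rw [Subgroup.coe_pow, ← hk, pow_one, Subgroup.coe_one, pow_two, ← zpow_add, ← two_mul,
      zpow_mul, zpow_ofNat, pow_two, c.ht.1, one_zpow]
  obtain ⟨S, hS⟩ := hp.exists_le_sylow
  have htS : c.t ∈ (S : Subgroup G) := hS (Subgroup.mem_zpowers c.t)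
  -- `S ≤ A`
  have hSA : (S : Subgroup G) ≤ c.A := by
    haveI : Nontrivial (S : Subgroup G) := ⟨⟨⟨c.t, htS⟩, 1, fun h => c.ht.2 (congrArg Subtype.val h)⟩⟩
    haveI := IsPGroup.center_nontrivial S.2
    obtain ⟨z, hz⟩ := exists_ne (1 : Subgroup.center (S : Subgroup G))
    have hz1 : ((z : (S : Subgroup G)) : G) ≠ 1 := by
      intro h
      apply hz
      apply Subtype.ext
      apply Subtype.ext
      exact h
    have hzc : ∀ s : (S : Subgroup G), s * (z : (S : Subgroup G)) = (z : (S : Subgroup G)) * s :=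
      fun s => (Subgroup.mem_center_iff.mp z.2 s)
    have hzA : ((z : (S : Subgroup G)) : G) ∈ c.A := by
      rw [c.mem_A]
      have := hzc ⟨c.t, htS⟩
      have h2 := congrArg Subtype.val this
      exact h2.symm
    intro s hs
    apply c.mem_A_of_comm hzA hz1
    have := hzc ⟨s, hs⟩
    exact congrArg Subtype.val this
  -- `N(S) ≤ C(S)`
  have hNC : Subgroup.normalizer ((S : Subgroup G) : Set G) ≤
      Subgroup.centralizer ((S : Subgroup G) : Set G) := by
    intro g hg
    have h1 : g * c.t * g⁻¹ ∈ c.A := hSA ((mem_normalizer_iff'.mp hg).1 c.t htS)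
    have h2 : g ∈ c.M := c.mem_M_of_conj c.t_mem_A c.ht.2 h1
    rw [← hMA] at h2
    rw [Subgroup.mem_centralizer_iff]
    intro s hs
    exact c.A_comm s (hSA hs) g h2
  have hcompl := MonoidHom.ker_transferSylow_isComplement' S hNC
  have hcard := hcompl.card_mul_card
  rcases (MonoidHom.normal_ker (MonoidHom.transferSylow S hNC)).eq_bot_or_eq_top with h | h
  · -- `G` is a 2-group
    rw [h, Subgroup.card_bot, one_mul] at hcard
    have hStop : (S : Subgroup G) = ⊤ := Subgroup.eq_top_of_card_eq _ hcard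
    have hG2 : IsPGroup 2 G := by
      intro g
      obtain ⟨k, hk⟩ := S.2 ⟨g, hStop ▸ Subgroup.mem_top g⟩
      exact ⟨k, by simpa using congrArg Subtype.val hk⟩
    haveI := IsPGroup.center_nontrivial hG2
    have hcen : Subgroup.center G = ⊤ := by
      rcases (inferInstance : (Subgroup.center G).Normal).eq_bot_or_eq_top with h' | h'
      · exfalso
        obtain ⟨z, hz⟩ := exists_ne (1 : Subgroup.center G)
        apply hz
        apply Subtype.ext
        have h3 : (z : G) ∈ (⊥ : Subgroup G) := h' ▸ z.2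
        exact Subgroup.mem_bot.mp h3
      · exact h'
    apply hG
    refine ⟨⟨fun a b => ?_⟩⟩
    have ha : a ∈ Subgroup.center G := hcen ▸ Subgroup.mem_top a
    exact (Subgroup.mem_center_iff.mp ha b).symm
  · rw [h, Subgroup.card_top] at hcard
    have hS1 : Nat.card (S : Subgroup G) = 1 := by
      have hpos : 0 < Nat.card G := Nat.card_pos
      have : Nat.card G * Nat.card (S : Subgroup G) = Nat.card G * 1 := by rw [hcard, mul_one]
      exact Nat.eq_of_mul_eq_mul_left hpos this
    have := (Subgroup.card_eq_one.mp hS1)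
    rw [this, Subgroup.mem_bot] at htS
    exact c.ht.2 htS

end CACfg

end Cfsg.Agent.Lib.Helper69.CA
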