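import Mathlib
import Cfsg.Agent.Lib.Helper69.CA4

/-!
# CA-groups: a two-point stabilizer fixes exactly two points
-/

set_option autoImplicit false

namespace Cfsg.Agent.Lib.Helper69.CA

open Cfsg.Agent.Lib.Helper69.BSW

universe u

variable {G : Type u} [Group G]

namespace CACfg

variable (c : CACfg G)

theorem sq_ne_one [Finite G] {x : G ⧸ c.M} (hx : x ≠ c.α) {d : G} (hd : d ∈ c.D x)
    (hd1 : d ≠ 1) : d * d ≠ 1 := by
  intro h
  have hi : IsInv d := ⟨h, hd1⟩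
  have hA := c.inv_mem_A hi (c.D_le_M x hd)
  exact hd1 (c.D_inter_A hx hd hA)

/-- no element of `M` inverts a nontrivial two-point stabilizer -/
theorem no_inverter [Finite G] {x : G ⧸ c.M} (hx : x ≠ c.α) {d₀ : G} (hd₀ : d₀ ∈ c.D x)
    (hd₀1 : d₀ ≠ 1) {m : G} (hm : m ∈ c.M) (hinv : ∀ d ∈ c.D x, m * d * m⁻¹ = d⁻¹) : False := by
  have h1 := hinv d₀ hd₀
  have hmm : m * m ∈ c.D x := by
    rw [← c.cent_inf_M hx hd₀ hd₀1, Subgroup.mem_inf, mem_centralizer_singleton]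
    refine ⟨?_, c.M.mul_mem hm hm⟩
    have h2 : m * d₀⁻¹ * m⁻¹ = d₀ := by
      have : m * d₀⁻¹ * m⁻¹ = (m * d₀ * m⁻¹)⁻¹ := by group
      rw [this, h1, inv_inv]
    calc m * m * d₀ = m * (m * d₀ * m⁻¹) * m := by group
      _ = m * d₀⁻¹ * m := by rw [h1]
      _ = (m * d₀⁻¹ * m⁻¹) * (m * m) := by group
      _ = d₀ * (m * m) := by rw [h2]
  have h3 := hinv (m * m) hmm
  have h4 : m * (m * m) * m⁻¹ = m * m := by group
  rw [h4] at h3
  have h5 : (m * m) * (m * m) = 1 := by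
    have := mul_inv_cancel (m * m)
    rw [← h3] at this
    exact this
  have h6 : m * m = 1 := by
    by_contra h
    exact c.sq_ne_one hx hmm h h5
  have hm1 : m ≠ 1 := by
    intro h
    rw [h, one_mul, inv_one, mul_one] at h1
    apply c.sq_ne_one hx hd₀ hd₀1
    calc d₀ * d₀ = d₀ * d₀⁻¹ := by rw [← h1]
      _ = 1 := mul_inv_cancel _
  have hmA : m ∈ c.A := c.inv_mem_A ⟨h6, hm1⟩ hm
  have h7 : m * d₀ * m⁻¹ * d₀⁻¹ ∈ c.A := by
    have h8 : d₀ * m⁻¹ * d₀⁻¹ ∈ c.A := c.conj_mem_A (c.D_le_M x hd₀) (c.A.inv_mem hmA)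
    have e : m * d₀ * m⁻¹ * d₀⁻¹ = m * (d₀ * m⁻¹ * d₀⁻¹) := by group
    rw [e]; exact c.A.mul_mem hmA h8
  rw [h1] at h7
  have h9 : d₀⁻¹ * d₀⁻¹ ∈ c.D x := (c.D x).mul_mem ((c.D x).inv_mem hd₀) ((c.D x).inv_mem hd₀)
  have h10 := c.D_inter_A hx h9 h7
  apply c.sq_ne_one hx hd₀ hd₀1
  have : (d₀ * d₀)⁻¹ = 1 := by rw [mul_inv_rev]; exact h10
  rwa [inv_eq_one] at this

/-- the fixed points of a nontrivial two-point stabilizer -/
theorem fix_D [Finite G] {x : G ⧸ c.M} (hx : x ≠ c.α) (hD : ∃ d ∈ c.D x, d ≠ 1) {y : G ⧸ c.M}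
    (hy : ∀ d ∈ c.D x, d • y = y) : y = c.α ∨ y = x := by
  obtain ⟨d₀, hd₀, hd₀1⟩ := hD
  obtain ⟨u, hu⟩ := c.exists_fib x
  have hui := hu.1.inv_eq
  have huu := hu.1.1
  have hBcomm : ∀ a b : G, a * d₀ = d₀ * a → b * d₀ = d₀ * b → a * b = b * a :=
    fun a b ha hb => c.ct.comm_of hd₀1 ha hb
  have hDd₀ : ∀ d ∈ c.D x, d * d₀ = d₀ * d := fun d hd => c.D_comm hx d hd d₀ hd₀
  have hBD : ∀ b : G, b * d₀ = d₀ * b → ∀ d ∈ c.D x, b * d = d * b :=
    fun b hb d hd => hBcomm b d hb (hDd₀ d hd)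
  -- (a)
  have hBM : ∀ b : G, b * d₀ = d₀ * b → b ∈ c.M → b ∈ c.D x := by
    intro b hb hbM
    rw [← c.cent_inf_M hx hd₀ hd₀1, Subgroup.mem_inf, mem_centralizer_singleton]
    exact ⟨hb, hbM⟩
  have hinv1 : u * d₀ * u⁻¹ = d₀⁻¹ := c.inverts_D hx hu hd₀
  have hinv2 : u⁻¹ * d₀ * u = d₀⁻¹ := by
    have := hinv1
    rw [hui] at this ⊢
    exact this
  have hinv3 : u * d₀⁻¹ * u⁻¹ = d₀ := by
    have : u * d₀⁻¹ * u⁻¹ = (u * d₀ * u⁻¹)⁻¹ := by group
    rw [this, hinv1, inv_inv]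
  -- conjugating an element of `B` by `u` stays in `B`
  have hconjB : ∀ b : G, b * d₀ = d₀ * b → (u * b * u⁻¹) * d₀ = d₀ * (u * b * u⁻¹) := by
    intro b hb
    have hb' : b * d₀⁻¹ = d₀⁻¹ * b := by
      calc b * d₀⁻¹ = d₀⁻¹ * (d₀ * b) * d₀⁻¹ := by group
        _ = d₀⁻¹ * (b * d₀) * d₀⁻¹ := by rw [hb]
        _ = d₀⁻¹ * b := by group
    calc (u * b * u⁻¹) * d₀ = u * b * (u⁻¹ * d₀ * u) * u⁻¹ := by group
      _ = u * (b * d₀⁻¹) * u⁻¹ := by rw [hinv2]; group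
      _ = u * (d₀⁻¹ * b) * u⁻¹ := by rw [hb']
      _ = (u * d₀⁻¹ * u⁻¹) * (u * b * u⁻¹) := by group
      _ = d₀ * (u * b * u⁻¹) := by rw [hinv3]
  -- (b)
  have hBx : ∀ b : G, b * d₀ = d₀ * b → b • x = x → b ∈ c.D x := by
    intro b hb hbx
    have h1 : u * b * u⁻¹ ∈ c.D x := hBM _ (hconjB b hb) (c.conj_mem_M hu hbx)
    have h2 := c.inverts_D hx hu h1
    have h3 : u * (u * b * u⁻¹) * u⁻¹ = b := by
      rw [hui]
      calc u * (u * b * u) * u = (u * u) * b * (u * u) := by group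
        _ = b := by rw [huu, one_mul, mul_one]
    rw [h3] at h2
    rw [h2]; exact (c.D x).inv_mem h1
  -- (c)
  have hc : ∀ z : G ⧸ c.M, z ≠ c.α → (∀ d ∈ c.D x, d • z = z) →
      ∃ b : G, b * d₀ = d₀ * b ∧ z = (u * b) • c.α := by
    intro z hz hfix
    obtain ⟨w, hw⟩ := c.exists_fib z
    have hle : c.D x ≤ c.D z := by
      intro d hd
      exact c.mem_D.mpr ⟨c.D_le_M x hd, hfix d hd⟩
    have heq : c.D x = c.D z := by
      apply Subgroup.eq_of_le_of_card_ge hle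
      rw [c.card_D hx, c.card_D hz]
    have hw1 : w * d₀ * w⁻¹ = d₀⁻¹ := c.inverts_D hz hw (heq ▸ hd₀)
    refine ⟨u * w, ?_, ?_⟩
    · have e : u * w * d₀ = u * (w * d₀ * w⁻¹) * u⁻¹ * (u * w) := by group
      rw [e, hw1, hinv3]
    · have e : u * (u * w) = (u * u) * w := by group
      rw [e, huu, one_mul, hw.2]
  -- (d)
  have hd : ∀ b : G, b * d₀ = d₀ * b → b • c.α ≠ x := by
    intro b hb hbx
    have hm : u * b ∈ c.M := by
      rw [← c.smul_α_eq_α_iff, mul_smul, hbx, c.fib_smul hu]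
    apply c.no_inverter hx hd₀ hd₀1 hm
    intro d hd
    have h1 := hBD b hb d hd
    have h2 := c.inverts_D hx hu hd
    calc u * b * d * (u * b)⁻¹ = u * (b * d) * b⁻¹ * u⁻¹ := by group
      _ = u * (d * b) * b⁻¹ * u⁻¹ := by rw [h1]
      _ = u * d * u⁻¹ := by group
      _ = d⁻¹ := h2
  -- (e1)
  have he1 : ∀ z : G ⧸ c.M, (∀ d ∈ c.D x, d • z = z) → z ≠ x →
      ∃ b : G, b * d₀ = d₀ * b ∧ b • c.α = z := by
    intro z hfix hzx
    by_cases hz : z = c.α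
    · exact ⟨1, by rw [one_mul, mul_one], by rw [one_smul, hz]⟩
    · have hz' : u • z ≠ c.α := by
        intro h
        apply hzx
        have : u • u • z = u • c.α := by rw [h]
        rw [c.inv_smul_smul' hu.1, hu.2] at this
        exact this
      have hfix' : ∀ d ∈ c.D x, d • (u • z) = u • z := by
        intro d hd
        have h2' := c.inverts_D hx hu ((c.D x).inv_mem hd)
        have h3 : d * u = u * d⁻¹ := by
          calc d * u = (d⁻¹)⁻¹ * u := by rw [inv_inv]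
            _ = (u * d⁻¹ * u⁻¹) * u := by rw [h2']
            _ = u * d⁻¹ := by group
        rw [← mul_smul, h3, mul_smul, hfix d⁻¹ ((c.D x).inv_mem hd)]
      obtain ⟨b, hb, hbz⟩ := hc (u • z) hz' hfix'
      refine ⟨b, hb, ?_⟩
      rw [mul_smul] at hbz
      exact (smul_left_cancel u hbz).symm
  -- (e2)
  have he2 : ∀ b : G, b * d₀ = d₀ * b → b • x = x := by
    intro b hb
    by_contra hbx
    have hfix : ∀ d ∈ c.D x, d • (b • x) = b • x := by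
      intro d hd
      have h1 := hBD b hb d hd
      rw [← mul_smul, ← h1, mul_smul, (c.mem_D.mp hd).2]
    obtain ⟨b', hb', hbb'⟩ := he1 (b • x) hfix hbx
    apply hd (b⁻¹ * b')
    · have hbi : b⁻¹ * d₀ = d₀ * b⁻¹ := by
        calc b⁻¹ * d₀ = b⁻¹ * (d₀ * b) * b⁻¹ := by group
          _ = b⁻¹ * (b * d₀) * b⁻¹ := by rw [hb]
          _ = d₀ * b⁻¹ := by group
      calc b⁻¹ * b' * d₀ = b⁻¹ * (b' * d₀) := by group
        _ = b⁻¹ * (d₀ * b') := by rw [hb']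
        _ = (b⁻¹ * d₀) * b' := by group
        _ = (d₀ * b⁻¹) * b' := by rw [hbi]
        _ = d₀ * (b⁻¹ * b') := by group
    · rw [mul_smul, hbb', inv_smul_smul]
  -- (e3), (e4)
  by_cases hyx : y = x
  · exact Or.inr hyx
  · left
    obtain ⟨b, hb, hby⟩ := he1 y hy hyx
    have hbD : b ∈ c.D x := hBx b hb (he2 b hb)
    rw [← hby]
    exact c.smul_α_eq_α_iff.mpr (c.D_le_M x hbD)

/-- a nonidentity element of `M` fixes at most one further point -/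
theorem fix_two [Finite G] (he : 2 ≤ c.e) {g : G} {x y : G ⧸ c.M} (hx : x ≠ c.α) (hy : y ≠ c.α)
    (hxy : x ≠ y) (hgM : g ∈ c.M) (hgx : g • x = x) (hgy : g • y = y) : g = 1 := by
  by_contra hg1
  have hgD : g ∈ c.D x := c.mem_D.mpr ⟨hgM, hgx⟩
  have heq := c.D_eq_of_fix hx hy hgD hg1 hgy
  have hfix : ∀ d ∈ c.D x, d • y = y := by
    intro d hd
    rw [heq] at hd
    exact (c.mem_D.mp hd).2
  rcases c.fix_D hx ⟨g, hgD, hg1⟩ hfix with h | h
  · exact hy h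
  · exact hxy h.symm

theorem D_nontrivial [Finite G] (he : 2 ≤ c.e) {x : G ⧸ c.M} (hx : x ≠ c.α) :
    ∃ d ∈ c.D x, d ≠ 1 := by
  by_contra hcon
  push_neg at hcon
  have : c.D x = ⊥ := by
    rw [Subgroup.eq_bot_iff_forall]
    exact hcon
  have h1 := c.card_D hx
  rw [this, Subgroup.card_bot] at h1
  omega

end CACfg

end Cfsg.Agent.Lib.Helper69.CA
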