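import Mathlib
import Cfsg.Agent.Lib.Helper69.CA6

/-!
# CA-groups: `A` acts regularly on the remaining points
-/

set_option autoImplicit false

namespace Cfsg.Agent.Lib.Helper69.CA

open Cfsg.Agent.Lib.Helper69.BSW

universe u v

/-- a semiregular subgroup of the right size is regular -/
theorem exists_of_semireg {G : Type u} [Group G] {Ω : Type v} [MulAction G Ω] [Finite Ω]
    (Q : Subgroup G) [Finite Q] (x₀ : Ω) (hfix : ∀ a ∈ Q, a • x₀ = x₀)
    (hsemi : ∀ a ∈ Q, ∀ y : Ω, y ≠ x₀ → a • y = y → a = 1)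
    (hcard : Nat.card Ω = Nat.card Q + 1) {y z : Ω} (hy : y ≠ x₀) (hz : z ≠ x₀) :
    ∃ a ∈ Q, a • y = z := by
  let ψ : Option Q → Ω := fun o => match o with
    | none => x₀
    | some a => (a : G) • y
  have hne : ∀ a : Q, (a : G) • y ≠ x₀ := by
    intro a h
    apply hy
    have h2 := hfix a.1 a.2
    rw [← h2] at h
    exact smul_left_cancel _ h
  have hinj : Function.Injective ψ := by
    intro a b hab
    cases a with
    | none =>
      cases b with
      | none => rfl
      | some a' => exact absurd hab.symm (hne a')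
    | some a =>
      cases b with
      | none => exact absurd hab (hne a)
      | some a' =>
        have h1 : (a : G) • y = (a' : G) • y := hab
        have h2 : ((a' : G)⁻¹ * (a : G)) • y = y := by
          rw [mul_smul, h1, inv_smul_smul]
        have h3 := hsemi _ (Q.mul_mem (Q.inv_mem a'.2) a.2) y hy h2
        have h4 : (a : G) = (a' : G) := by
          calc (a : G) = (a' : G) * ((a' : G)⁻¹ * (a : G)) := by group
            _ = (a' : G) := by rw [h3, mul_one]
        rw [Subtype.ext h4]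
  have hbij := hinj.bijective_of_nat_card_le (by rw [Finite.card_option, hcard])
  obtain ⟨o, ho⟩ := hbij.2 z
  cases o with
  | none => exact absurd ho.symm hz
  | some a => exact ⟨a.1, a.2, ho⟩

variable {G : Type u} [Group G]

namespace CACfg

variable (c : CACfg G)

theorem A_semireg [Finite G] {a : G} (ha : a ∈ c.A) {y : G ⧸ c.M} (hy : y ≠ c.α)
    (hay : a • y = y) : a = 1 :=
  c.D_inter_A hy (c.mem_D.mpr ⟨c.A_le_M ha, hay⟩) ha

theorem A_fix {a : G} (ha : a ∈ c.A) : a • c.α = c.α := c.smul_α_eq_α_iff.mpr (c.A_le_M ha)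

/-- the degree is `|A| + 1` -/
theorem card_Ω [Finite G] (he : 2 ≤ c.e) (hx₀ : ∃ x : G ⧸ c.M, x ≠ c.α) :
    Nat.card (G ⧸ c.M) = Nat.card c.A + 1 := by
  classical
  have := Fintype.ofFinite G
  have := Fintype.ofFinite (G ⧸ c.M)
  obtain ⟨x, hx⟩ := hx₀
  have hpos : 0 < Nat.card (G ⧸ c.M) := Nat.card_pos
  -- lower bound
  have hlow : Nat.card c.A ≤ Nat.card (G ⧸ c.M) - 1 := by
    have h1 : ({c.α} : Set (G ⧸ c.M))ᶜ.ncard = Nat.card (G ⧸ c.M) - 1 := by
      rw [Set.ncard_compl, Set.ncard_singleton]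
    rw [← h1, card_subgroup_eq_ncard]
    apply Set.ncard_le_ncard_of_injOn (fun a => a • x) _ _ (Set.toFinite _)
    · intro a ha
      rw [Set.mem_compl_iff, Set.mem_singleton_iff]
      intro h
      apply hx
      have h2 : a⁻¹ • (a • x) = a⁻¹ • c.α := by rw [h]
      rw [inv_smul_smul, c.A_fix (c.A.inv_mem ha)] at h2
      exact h2
    · intro a ha a' ha' heq
      simp only at heq
      have h2 : (a'⁻¹ * a) • x = x := by rw [mul_smul, heq, inv_smul_smul]
      have h3 := c.A_semireg (c.A.mul_mem (c.A.inv_mem ha') ha) hx h2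
      calc a = a' * (a'⁻¹ * a) := by group
        _ = a' := by rw [h3, mul_one]
  -- upper bound
  have hup : (Nat.card (G ⧸ c.M) - 1) * (c.e - 1) ≤ Nat.card c.A * (c.e - 1) := by
    set S : Finset (G ⧸ c.M) := Finset.univ.erase c.α with hS
    set T : (G ⧸ c.M) → Finset G := fun z => (Finset.univ.filter (· ∈ c.D z)).erase 1 with hT
    have hdisj : ∀ z ∈ S, ∀ z' ∈ S, z ≠ z' → Disjoint (T z) (T z') := by
      intro z hz z' hz' hzz'
      rw [Finset.disjoint_left]
      intro d hd hd'
      rw [hT, Finset.mem_erase, Finset.mem_filter] at hd hd'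
      rw [hS, Finset.mem_erase] at hz hz'
      have h1 := c.mem_D.mp hd.2.2
      have h2 := c.mem_D.mp hd'.2.2
      exact hd.1 (c.fix_two he hz.1 hz'.1 hzz' h1.1 h1.2 h2.2)
    have hcardT : ∀ z ∈ S, (T z).card = c.e - 1 := by
      intro z hz
      rw [hS, Finset.mem_erase] at hz
      rw [hT, Finset.card_erase_of_mem, ← card_subgroup_eq_card_filter, c.card_D hz.1]
      rw [Finset.mem_filter]
      exact ⟨Finset.mem_univ _, (c.D z).one_mem⟩
    have hsub : S.biUnion T ⊆ (Finset.univ.filter (· ∈ c.M)) \ (Finset.univ.filter (· ∈ c.A)) := by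
      intro d hd
      rw [Finset.mem_biUnion] at hd
      obtain ⟨z, hz, hdz⟩ := hd
      rw [hS, Finset.mem_erase] at hz
      rw [hT, Finset.mem_erase, Finset.mem_filter] at hdz
      rw [Finset.mem_sdiff, Finset.mem_filter, Finset.mem_filter]
      refine ⟨⟨Finset.mem_univ _, c.D_le_M z hdz.2.2⟩, ?_⟩
      rintro ⟨-, hdA⟩
      exact hdz.1 (c.D_inter_A hz.1 hdz.2.2 hdA)
    have h1 := Finset.card_le_card hsub
    rw [Finset.card_biUnion hdisj, Finset.sum_congr rfl hcardT, Finset.sum_const, smul_eq_mul,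
      Finset.card_sdiff_of_subset, ← card_subgroup_eq_card_filter, ← card_subgroup_eq_card_filter,
      c.card_M, hS, Finset.card_erase_of_mem (Finset.mem_univ _), Finset.card_univ,
      ← Nat.card_eq_fintype_card] at h1
    · have h2 : c.e * Nat.card c.A - Nat.card c.A = Nat.card c.A * (c.e - 1) := by
        rw [Nat.mul_sub, mul_one, mul_comm]
      rw [h2] at h1
      exact h1
    · intro d hd
      rw [Finset.mem_filter] at hd ⊢
      exact ⟨hd.1, c.A_le_M hd.2⟩
  have he1 : 0 < c.e - 1 := by omega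
  have h3 := Nat.le_of_mul_le_mul_right hup he1
  omega

/-- `A` is regular on the points different from `α` -/
theorem A_reg [Finite G] (he : 2 ≤ c.e) (hx₀ : ∃ x : G ⧸ c.M, x ≠ c.α) {y z : G ⧸ c.M}
    (hy : y ≠ c.α) (hz : z ≠ c.α) : ∃! a : c.A, (a : G) • y = z := by
  obtain ⟨a, ha, hayz⟩ := exists_of_semireg c.A c.α (fun a ha => c.A_fix ha)
    (fun a ha y hy hay => c.A_semireg ha hy hay) (c.card_Ω he hx₀) hy hz
  refine ⟨⟨a, ha⟩, hayz, ?_⟩
  intro a' ha'
  apply Subtype.ext
  have h2 : ((a : G)⁻¹ * (a' : G)) • y = y := by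
    rw [mul_smul, ha', ← hayz, inv_smul_smul]
  have h3 := c.A_semireg (c.A.mul_mem (c.A.inv_mem ha) a'.2) hy h2
  calc (a' : G) = a * (a⁻¹ * (a' : G)) := by group
    _ = a := by rw [h3, mul_one]

end CACfg

end Cfsg.Agent.Lib.Helper69.CA
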