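import Mathlib
import Cfsg.Prelude.Def_LieExceptional
import Cfsg.Agent.Lib.Helper69.CA5
import Cfsg.Agent.Lib.Helper69.CA7

/-!
# CA-groups: the action on the cosets of `M` is a Zassenhaus action
-/

set_option autoImplicit false

namespace Cfsg.Agent.Lib.Helper69.CA

open Cfsg.Agent.Lib.Helper69.BSW

universe u

variable {G : Type u} [Group G]

namespace CACfg

variable (c : CACfg G)

theorem exists_ne_α [Finite G] [IsSimpleGroup G] (hG : ¬ IsMulCommutative G) :
    ∃ x : G ⧸ c.M, x ≠ c.α := by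
  by_contra hcon
  push_neg at hcon
  apply hG
  have hM : c.M = ⊤ := by
    rw [Subgroup.eq_top_iff']
    intro g
    exact c.smul_α_eq_α_iff.mp (hcon _)
  have hAn : c.A.Normal := by
    rw [← Subgroup.normalizer_eq_top_iff]
    exact hM
  have hA : c.A = ⊤ := by
    rcases hAn.eq_bot_or_eq_top with h | h
    · exfalso
      have := c.t_mem_A
      rw [h, Subgroup.mem_bot] at this
      exact c.ht.2 this
    · exact h
  refine ⟨⟨fun a b => ?_⟩⟩
  exact c.A_comm a (by rw [hA]; trivial) b (by rw [hA]; trivial)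

theorem M_fix {m : G} (hm : m ∈ c.M) : m • c.α = c.α := c.smul_α_eq_α_iff.mpr hm

theorem zass [Finite G] [IsSimpleGroup G] (hG : ¬ IsMulCommutative G) :
    Cfsg.IsZassenhausGroup G (G ⧸ c.M) := by
  have he := c.two_le_e hG
  have hx₀ := c.exists_ne_α hG
  obtain ⟨y₀, hy₀⟩ := hx₀
  have hreg : ∀ {y z : G ⧸ c.M}, y ≠ c.α → z ≠ c.α → ∃ a ∈ c.A, a • y = z := by
    intro y z hy hz
    obtain ⟨a, ha, -⟩ := c.A_reg he ⟨y₀, hy₀⟩ hy hz
    exact ⟨a.1, a.2, ha⟩
  refine ⟨?_, ?_, ?_, ?_, ?_⟩
  · -- faithful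
    constructor
    intro m₁ m₂ h
    have hker : (MulAction.toPermHom G (G ⧸ c.M)).ker = ⊥ := by
      rcases (MonoidHom.normal_ker (MulAction.toPermHom G (G ⧸ c.M))).eq_bot_or_eq_top with h' | h'
      · exact h'
      · exfalso
        obtain ⟨g, hg⟩ := c.exists_smul_α y₀
        have hgk : g ∈ (MulAction.toPermHom G (G ⧸ c.M)).ker := by
          rw [h']; exact Subgroup.mem_top g
        rw [MonoidHom.mem_ker] at hgk
        have : g • c.α = c.α := by
          have := congrArg (fun σ : Equiv.Perm (G ⧸ c.M) => σ c.α) hgk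
          simpa using this
        exact hy₀ (hg ▸ this)
    have hinj := (MonoidHom.ker_eq_bot_iff _).mp hker
    apply hinj
    ext a
    exact h a
  · -- two-transitive
    rw [MulAction.is_two_pretransitive_iff]
    intro a b c' d hab hcd
    obtain ⟨g₁, hg₁⟩ := c.exists_smul_α a
    obtain ⟨g₂, hg₂⟩ := c.exists_smul_α c'
    have hg₁' : g₁⁻¹ • a = c.α := by rw [← hg₁, inv_smul_smul]
    have hg₂' : g₂⁻¹ • c' = c.α := by rw [← hg₂, inv_smul_smul]
    have hb' : g₁⁻¹ • b ≠ c.α := by
      intro h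
      rw [← hg₁'] at h
      exact hab (smul_left_cancel _ h).symm
    have hd' : g₂⁻¹ • d ≠ c.α := by
      intro h
      rw [← hg₂'] at h
      exact hcd (smul_left_cancel _ h).symm
    obtain ⟨u, hu, huy⟩ := hreg hb' hd'
    refine ⟨g₂ * u * g₁⁻¹, ?_, ?_⟩
    · rw [mul_smul, mul_smul, hg₁', c.A_fix hu, hg₂]
    · rw [mul_smul, mul_smul, huy, smul_inv_smul]
  · -- no element fixes three points
    intro g a b c' hab hbc hac hga hgb hgc
    obtain ⟨h₀, hh₀⟩ := c.exists_smul_α a
    set h := h₀⁻¹ with hh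
    have hha : h • a = c.α := by rw [← hh₀, hh, inv_smul_smul]
    have hb' : h • b ≠ c.α := by
      intro h'
      rw [← hha] at h'
      exact hab (smul_left_cancel _ h').symm
    have hc' : h • c' ≠ c.α := by
      intro h'
      rw [← hha] at h'
      exact hac (smul_left_cancel _ h').symm
    have hbc' : h • b ≠ h • c' := fun h' => hbc (smul_left_cancel _ h')
    have hfix : ∀ {p : G ⧸ c.M}, g • p = p → (h * g * h⁻¹) • (h • p) = h • p := by
      intro p hp
      rw [mul_smul, mul_smul, inv_smul_smul, hp]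
    have h0 : (h * g * h⁻¹) • c.α = c.α := by
      have := hfix hga
      rwa [hha] at this
    have hgM := c.smul_α_eq_α_iff.mp h0
    have h1 := c.fix_two he hb' hc' hbc' hgM (hfix hgb) (hfix hgc)
    calc g = h⁻¹ * (h * g * h⁻¹) * h := by group
      _ = 1 := by rw [h1]; group
  · -- some element fixes two points
    obtain ⟨d, hd, hd1⟩ := c.D_nontrivial he hy₀
    have hd' := c.mem_D.mp hd
    exact ⟨d, hd1, c.α, y₀, hy₀.symm, c.M_fix hd'.1, hd'.2⟩
  · -- no regular normal subgroup
    intro N hNn hNt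
    rcases hNn.eq_bot_or_eq_top with rfl | rfl
    · exfalso
      obtain ⟨n, hn⟩ := hNt.exists_smul_eq c.α y₀
      have h1 : (n : G) = 1 := Subgroup.mem_bot.mp n.2
      have h2 : (n : G) • c.α = y₀ := hn
      rw [h1, one_smul] at h2
      exact hy₀ h2.symm
    · refine ⟨c.α, ?_⟩
      intro h
      have hmem : (⟨c.t, Subgroup.mem_top c.t⟩ : (⊤ : Subgroup G)) ∈
          (⊥ : Subgroup (⊤ : Subgroup G)) := by
        rw [← h, MulAction.mem_stabilizer_iff]
        exact c.A_fix c.t_mem_A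
      rw [Subgroup.mem_bot] at hmem
      exact c.ht.2 (congrArg Subtype.val hmem)

end CACfg

end Cfsg.Agent.Lib.Helper69.CA
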