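import Mathlib
import Cfsg.Agent.Lib.Helper69.CA8
import Cfsg.Agent.Lib.Helper3.ZT14
import Cfsg.Agent.S0727
import Cfsg.Agent.S0182

/-!
# CA-groups: a nonabelian simple CA-group is `PSL₂(2^f)`
-/

set_option autoImplicit false

namespace Cfsg.Agent.Lib.Helper69.CA

open Cfsg.Agent.Lib.Helper69.BSW

universe u v

/-- transport a sharply 3-transitive faithful action to the image in the symmetric group -/
theorem transport {G : Type u} [Group G] {Ω : Type v} [MulAction G Ω] [FaithfulSMul G Ω]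
    (h3 : MulAction.IsMultiplyPretransitive G Ω 3)
    (hs : ∀ t : Fin 3 ↪ Ω, MulAction.stabilizer G t = ⊥) :
    Nonempty (G ≃* (MulAction.toPermHom G Ω).range) ∧
      MulAction.IsMultiplyPretransitive (MulAction.toPermHom G Ω).range Ω 3 ∧
      ∀ t : Fin 3 ↪ Ω, MulAction.stabilizer (MulAction.toPermHom G Ω).range t = ⊥ := by
  have hinj : Function.Injective (MulAction.toPermHom G Ω) := MulAction.toPerm_injective
  refine ⟨⟨MonoidHom.ofInjective hinj⟩, ?_, ?_⟩
  · refine ⟨fun e e' => ?_⟩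
    obtain ⟨g, hg⟩ := h3.exists_smul_eq e e'
    refine ⟨⟨MulAction.toPermHom G Ω g, ⟨g, rfl⟩⟩, ?_⟩
    ext i
    rw [← hg]
    rfl
  · intro t
    rw [Subgroup.eq_bot_iff_forall]
    rintro ⟨_, ⟨g, rfl⟩⟩ hh
    rw [MulAction.mem_stabilizer_iff] at hh
    have hg : g ∈ MulAction.stabilizer G t := by
      rw [MulAction.mem_stabilizer_iff]
      ext i
      have := congrArg (fun e : Fin 3 ↪ Ω => e i) hh
      exact this
    rw [hs t, Subgroup.mem_bot] at hg
    subst hg
    apply Subtype.ext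
    exact map_one _

variable {G : Type u} [Group G]

namespace CACfg

variable (c : CACfg G)

theorem two_dvd_card_A [Finite G] : 2 ∣ Nat.card c.A := by
  have h : orderOf (⟨c.t, c.t_mem_A⟩ : c.A) = 2 := by
    apply orderOf_eq_prime
    · apply Subtype.ext
      simp only [pow_two, Subgroup.coe_mul, Subgroup.coe_one]
      exact c.ht.1
    · intro h
      exact c.ht.2 (congrArg Subtype.val h)
  rw [← h]
  exact orderOf_dvd_natCard _

theorem exists_psl (c : CACfg G) [Finite G] [IsSimpleGroup G] (hG : ¬ IsMulCommutative G) :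
    ∃ (F : Type) (_ : Field F) (_ : Fintype F) (f : ℕ), 2 ≤ f ∧ Fintype.card F = 2 ^ f ∧
      Nonempty (G ≃* Matrix.ProjectiveSpecialLinearGroup (Fin 2) F) := by
  classical
  haveI := Fintype.ofFinite (G ⧸ c.M)
  have he := c.two_le_e hG
  have hx₀ := c.exists_ne_α hG
  have hZ := c.zass hG
  have hcardΩ := c.card_Ω he hx₀
  obtain ⟨y₀, hy₀⟩ := hx₀
  have hstab : MulAction.stabilizer G c.α = c.M := MulAction.stabilizer_quotient _
  have hFle : c.A ≤ MulAction.stabilizer G c.α := by rw [hstab]; exact c.A_le_M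
  have hFn : (c.A.subgroupOf (MulAction.stabilizer G c.α)).Normal := by
    rw [hstab]; exact Subgroup.normal_in_normalizer
  have hreg : ∀ y z : G ⧸ c.M, y ≠ c.α → z ≠ c.α → ∃! a : c.A, (a : G) • y = z :=
    fun y z hy hz => c.A_reg he ⟨y₀, hy₀⟩ hy hz
  have h2A := c.two_dvd_card_A
  have hApos : 0 < Nat.card c.A := Nat.card_pos
  have hcardΩ' : Fintype.card (G ⧸ c.M) = Nat.card c.A + 1 := by
    rw [← Nat.card_eq_fintype_card]; exact hcardΩ
  rcases Cfsg.Agent.Lib.Helper3.ZT.zassenhaus_abelian hZ hy₀.symm hFle hFn c.A_comm hreg with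
    ⟨h3, hsharp⟩ | ⟨-, K, fK, ftK, hodd, hK, -⟩
  · haveI : FaithfulSMul G (G ⧸ c.M) := hZ.1
    obtain ⟨⟨eGH⟩, h3', hsharp'⟩ := transport h3 hsharp
    have h3Ω : 3 ≤ Fintype.card (G ⧸ c.M) := by
      rw [hcardΩ']
      have := Nat.le_of_dvd hApos h2A
      omega
    have hcardH := Cfsg.Agent.S0727.card_G h3' hsharp' h3Ω
    set a := Nat.card c.A with ha
    have hcardG : Nat.card G = (a + 1) * a * (a - 1) := by
      rw [Nat.card_congr eGH.toEquiv, hcardH, hcardΩ']
      have e1 : a + 1 - 1 = a := by omega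
      have e2 : a + 1 - 2 = a - 1 := by omega
      rw [e1, e2]
    have h4 := c.M.index_mul_card
    rw [Subgroup.index_eq_card, hcardΩ, c.card_M, hcardG] at h4
    have hea : c.e = a - 1 := by
      have h5 : (a + 1) * a * c.e = (a + 1) * a * (a - 1) := by
        rw [← h4]; ring
      exact Nat.eq_of_mul_eq_mul_left (by positivity) h5
    -- every non-identity element of `A` is an involution
    have hsub : {w : G | IsInv w ∧ w ∈ c.A} ⊆ ((c.A : Subgroup G) : Set G) \ {1} := by
      rintro w ⟨hw, hwA⟩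
      exact ⟨hwA, hw.2⟩
    have hcard1 : (((c.A : Subgroup G) : Set G) \ {1}).ncard = a - 1 := by
      rw [Set.ncard_diff_singleton_of_mem (c.A.one_mem), ← card_subgroup_eq_ncard]
    have heq : {w : G | IsInv w ∧ w ∈ c.A} = ((c.A : Subgroup G) : Set G) \ {1} := by
      apply Set.eq_of_subset_of_ncard_le hsub _ (Set.toFinite _)
      rw [hcard1, ← hea]
      exact le_rfl
    have hinv : ∀ x ∈ c.A, x * x = 1 := by
      intro x hx
      by_cases hx1 : x = 1
      · rw [hx1, mul_one]
      · have : x ∈ ((c.A : Subgroup G) : Set G) \ {1} := ⟨hx, hx1⟩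
        rw [← heq] at this
        exact this.1.1
    have hp : IsPGroup 2 c.A := by
      intro g
      refine ⟨1, ?_⟩
      apply Subtype.ext
      simp only [pow_one, pow_two, Subgroup.coe_mul, Subgroup.coe_one]
      exact hinv g.1 g.2
    obtain ⟨f, hf⟩ := hp.exists_card_eq
    have hf2 : 2 ≤ f := by
      by_contra hlt
      have hf1 : f = 0 ∨ f = 1 := by omega
      rcases hf1 with rfl | rfl
      · rw [pow_zero] at hf; omega
      · rw [pow_one] at hf; omega
    have hα : Fintype.card (G ⧸ c.M) = 2 ^ f + 1 := by rw [hcardΩ', ← hf]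
    obtain ⟨F, fF, ftF, hFc, ⟨e2⟩⟩ :=
      Cfsg.Agent.S0727.main_large hf2 hα (MulAction.toPermHom G (G ⧸ c.M)).range h3' hsharp'
    exact ⟨F, fF, ftF, f, hf2, hFc, ⟨eGH.trans e2⟩⟩
  · exfalso
    have h1 : Nat.card c.A = Fintype.card K := by omega
    rw [h1] at h2A
    exact (Nat.not_even_iff_odd.mpr hodd) (even_iff_two_dvd.mpr h2A)

end CACfg

/-- **Suzuki**: a nonabelian finite simple CA-group is `PSL₂(2^f)`, `f ≥ 2`. -/
theorem psl_of_CT [Finite G] [IsSimpleGroup G] (hG : ¬ IsMulCommutative G) (h : CT G) :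
    ∃ (F : Type) (_ : Field F) (_ : Fintype F) (f : ℕ), 2 ≤ f ∧ Fintype.card F = 2 ^ f ∧
      Nonempty (G ≃* Matrix.ProjectiveSpecialLinearGroup (Fin 2) F) := by
  rcases Nat.even_or_odd (Nat.card G) with heven | hodd
  · haveI : Fact (Nat.Prime 2) := ⟨Nat.prime_two⟩
    obtain ⟨t, ht⟩ := exists_prime_orderOf_dvd_card' 2 (even_iff_two_dvd.mp heven)
    have hti : IsInv t := by
      refine ⟨?_, ?_⟩
      · have := pow_orderOf_eq_one t
        rw [ht, pow_two] at this
        exact this
      · intro h1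
        rw [h1, orderOf_one] at ht
        omega
    exact (⟨t, hti, h, fun s u hs hu => h.all_inv_conj hG hs hu⟩ : CACfg G).exists_psl hG
  · exfalso
    apply hG
    have hsol : Group.IsSolvable G := by
      apply Cfsg.Agent.S0182.result hodd
      intro x hx a ha b hb
      exact h.comm_of hx (mem_centralizer_singleton.mp ha) (mem_centralizer_singleton.mp hb)
    have hcomm := IsSimpleGroup.comm_iff_isSolvable.mpr hsol
    exact ⟨⟨fun a b => hcomm a b⟩⟩

end Cfsg.Agent.Lib.Helper69.CA
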