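import Mathlib
import Cfsg.Agent.Lib.Helper53.CenterMeet

/-!
# Central involutions of a `2`-subgroup inside a normalized subgroup
-/

set_option autoImplicit false
set_option linter.style.haveILetI false

namespace Cfsg.Agent.Lib.Helper69

open Subgroup

/-- If `K` is a `2`-subgroup and `M ∩ K` is nontrivial and normalized by `K`, then `M ∩ K`
contains an involution which is central in `K`. -/
theorem exists_central_involution {G : Type*} [Group G] [Finite G] (K M : Subgroup G) {n : ℕ}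
    (hK : Nat.card K = 2 ^ n)
    (hMnorm : ∀ k ∈ K, ∀ m ∈ M, m ∈ K → k * m * k⁻¹ ∈ M) (hM : ∃ m ∈ M, m ∈ K ∧ m ≠ 1) :
    ∃ y ∈ M, y ∈ K ∧ y * y = 1 ∧ y ≠ 1 ∧ ∀ k ∈ K, k * y = y * k := by
  haveI : Fact (Nat.Prime 2) := ⟨Nat.prime_two⟩
  have hK2 : IsPGroup 2 ↥K := IsPGroup.of_card hK
  set M' : Subgroup ↥K := M.subgroupOf K with hM'
  haveI : M'.Normal := by
    constructor
    intro m hm g
    rw [hM', Subgroup.mem_subgroupOf] at hm ⊢
    have := hMnorm g g.2 m hm m.2
    simpa using this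
  have hne : M' ≠ ⊥ := by
    obtain ⟨m, hmM, hmK, hm1⟩ := hM
    intro h
    have h1 : (⟨m, hmK⟩ : ↥K) ∈ M' := by
      rw [hM', Subgroup.mem_subgroupOf]; exact hmM
    rw [h, Subgroup.mem_bot] at h1
    exact hm1 (congrArg Subtype.val h1)
  obtain ⟨b, hbM, hb1, hbZ⟩ := Cfsg.Agent.Lib.Helper53.normal_meets_center hK2 M' hne
  have hdvd : orderOf b ∣ 2 ^ n := by rw [← hK]; exact orderOf_dvd_natCard b
  obtain ⟨j, -, hj⟩ := (Nat.dvd_prime_pow Nat.prime_two).mp hdvd
  have hj0 : j ≠ 0 := by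
    intro h
    rw [h, pow_zero, orderOf_eq_one_iff] at hj
    exact hb1 hj
  set y' : ↥K := b ^ (2 ^ (j - 1)) with hy'
  have hy2 : y' * y' = 1 := by
    rw [hy', ← pow_add]
    have : 2 ^ (j - 1) + 2 ^ (j - 1) = 2 ^ j := by
      have : j = (j - 1) + 1 := by omega
      conv_rhs => rw [this, pow_succ]
      ring
    rw [this, ← hj, pow_orderOf_eq_one]
  have hy1 : y' ≠ 1 := by
    rw [hy']
    apply pow_ne_one_of_lt_orderOf (by positivity)
    rw [hj]
    exact Nat.pow_lt_pow_right (by norm_num) (by omega)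
  have hyM : y' ∈ M' := pow_mem hbM _
  have hyZ : y' ∈ Subgroup.center ↥K := pow_mem hbZ _
  refine ⟨(y' : G), ?_, y'.2, ?_, ?_, ?_⟩
  · rw [hM', Subgroup.mem_subgroupOf] at hyM; exact hyM
  · have := congrArg Subtype.val hy2
    simpa using this
  · intro h
    exact hy1 (Subtype.ext h)
  · intro k hk
    have := (Subgroup.mem_center_iff.mp hyZ) ⟨k, hk⟩
    have h2 := congrArg Subtype.val this
    simpa using h2

end Cfsg.Agent.Lib.Helper69
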