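import Mathlib

/-!
# Counting conjugates of a non-real element inside a normalized subgroup of order `9`
-/

set_option autoImplicit false
set_option linter.style.haveILetI false

namespace Cfsg.Agent.Lib.Helper69

open Subgroup

/-- `Q` of order `9`, `z ∈ Q` nontrivial and not conjugate to its inverse, `T ≤ N(Q)` meeting
`C(z)` trivially: then `2 |T| + 1 ≤ 9`, and if `|T| = 4` every nontrivial element of `Q` is a
`T`-conjugate of `z` or `z⁻¹`. -/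
theorem conj_count {G : Type*} [Group G] [Finite G] (Q T : Subgroup G) (hQ : Nat.card Q = 9)
    (z : G) (hzQ : z ∈ Q) (hz1 : z ≠ 1) (hTN : T ≤ normalizer (Q : Set G))
    (hfree : ∀ τ ∈ T, τ * z = z * τ → τ = 1) (hnr : ∀ g : G, g * z * g⁻¹ ≠ z⁻¹) :
    2 * Nat.card T + 1 ≤ 9 ∧ (Nat.card T = 4 → ∀ y ∈ Q, y ≠ 1 →
      ∃ τ ∈ T, y = τ * z * τ⁻¹ ∨ y = τ * z⁻¹ * τ⁻¹) := by
  have hconj : ∀ τ ∈ T, ∀ x ∈ Q, τ * x * τ⁻¹ ∈ Q := by
    intro τ hτ x hx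
    exact (mem_normalizer_iff.mp (hTN hτ) x).mp hx
  let g' : Option (↥T ⊕ ↥T) → ↥Q := fun o =>
    match o with
    | none => 1
    | some (Sum.inl τ) => ⟨τ * z * (τ : G)⁻¹, hconj τ τ.2 z hzQ⟩
    | some (Sum.inr τ) => ⟨τ * z⁻¹ * (τ : G)⁻¹, hconj τ τ.2 z⁻¹ (inv_mem hzQ)⟩
  have hkey1 : ∀ τ σ : ↥T, (τ : G) * z * (τ : G)⁻¹ = σ * z * (σ : G)⁻¹ → τ = σ := by
    intro τ σ h
    have h1 : ((σ⁻¹ * τ : ↥T) : G) * z = z * ((σ⁻¹ * τ : ↥T) : G) := by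
      push_cast
      calc (σ : G)⁻¹ * τ * z = (σ : G)⁻¹ * (τ * z * (τ : G)⁻¹) * τ := by group
        _ = (σ : G)⁻¹ * (σ * z * (σ : G)⁻¹) * τ := by rw [h]
        _ = z * ((σ : G)⁻¹ * τ) := by group
    have h2 := hfree _ (σ⁻¹ * τ).2 h1
    have h3 : σ⁻¹ * τ = 1 := Subtype.ext h2
    exact (inv_mul_eq_one.mp h3).symm
  have hkey2 : ∀ τ σ : ↥T, (τ : G) * z⁻¹ * (τ : G)⁻¹ = σ * z⁻¹ * (σ : G)⁻¹ → τ = σ := by
    intro τ σ h
    apply hkey1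
    have h1 : ((τ : G) * z⁻¹ * (τ : G)⁻¹)⁻¹ = (σ * z⁻¹ * (σ : G)⁻¹)⁻¹ := by rw [h]
    simpa [mul_assoc] using h1
  have hkey3 : ∀ τ σ : ↥T, (τ : G) * z * (τ : G)⁻¹ ≠ σ * z⁻¹ * (σ : G)⁻¹ := by
    intro τ σ h
    apply hnr ((σ : G)⁻¹ * τ)
    calc (σ : G)⁻¹ * τ * z * ((σ : G)⁻¹ * τ)⁻¹ = (σ : G)⁻¹ * (τ * z * (τ : G)⁻¹) * σ := by group
      _ = (σ : G)⁻¹ * (σ * z⁻¹ * (σ : G)⁻¹) * σ := by rw [h]
      _ = z⁻¹ := by group
  have hne1 : ∀ τ : ↥T, (τ : G) * z * (τ : G)⁻¹ ≠ 1 := by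
    intro τ h
    apply hz1
    calc z = (τ : G)⁻¹ * (τ * z * (τ : G)⁻¹) * τ := by group
      _ = 1 := by rw [h]; group
  have hne2 : ∀ τ : ↥T, (τ : G) * z⁻¹ * (τ : G)⁻¹ ≠ 1 := by
    intro τ h
    apply hz1
    have : z⁻¹ = 1 := by
      calc z⁻¹ = (τ : G)⁻¹ * (τ * z⁻¹ * (τ : G)⁻¹) * τ := by group
        _ = 1 := by rw [h]; group
    exact inv_eq_one.mp this
  have hinj : Function.Injective g' := by
    intro a b hab
    have hab' : ((g' a : ↥Q) : G) = ((g' b : ↥Q) : G) := congrArg Subtype.val hab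
    rcases a with _ | (τ | τ) <;> rcases b with _ | (σ | σ)
    · rfl
    · exact absurd hab'.symm (hne1 σ)
    · exact absurd hab'.symm (hne2 σ)
    · exact absurd hab' (hne1 τ)
    · rw [hkey1 τ σ hab']
    · exact absurd hab' (hkey3 τ σ)
    · exact absurd hab' (hne2 τ)
    · exact absurd hab'.symm (hkey3 σ τ)
    · rw [hkey2 τ σ hab']
  have hcard : Nat.card (Option (↥T ⊕ ↥T)) = 2 * Nat.card T + 1 := by
    rw [Finite.card_option, Nat.card_sum]; ring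
  have hle := Nat.card_le_card_of_injective g' hinj
  rw [hcard, hQ] at hle
  refine ⟨hle, ?_⟩
  intro hT4 y hy hy1
  have hbij : Function.Bijective g' := by
    apply hinj.bijective_of_nat_card_le
    rw [hcard, hQ, hT4]
  obtain ⟨a, ha⟩ := hbij.2 ⟨y, hy⟩
  have ha' : ((g' a : ↥Q) : G) = y := congrArg Subtype.val ha
  rcases a with _ | (τ | τ)
  · exact absurd ha'.symm hy1
  · exact ⟨τ, τ.2, Or.inl ha'.symm⟩
  · exact ⟨τ, τ.2, Or.inr ha'.symm⟩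

end Cfsg.Agent.Lib.Helper69
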