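import Mathlib
import Cfsg.Prelude.Def_Transfer
import Cfsg.Agent.Lib.Helper15.CycSylDefs
import Cfsg.Agent.Lib.Helper11.NPC

set_option autoImplicit false

/-! # S4016 hive, leaf D3: a nontrivial normal subgroup `N` with `Good p N` gives a nontrivial
normal `p`-subgroup or a nontrivial normal `p'`-subgroup of `G`. -/

namespace Cfsg.Agent.Lib.Helper15.CycSyl

open Subgroup

variable {G : Type*} [Group G] [Finite G] {p : ℕ} [Fact p.Prime]

/-- the normal `p`-complement is characteristic -/
theorem h69_d3_wit_characteristic {N : Type*} [Group N] {K : Subgroup N}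
    (hK : Cfsg.Agent.Lib.Helper11.NPCWit p K) : K.Characteristic := by
  rw [Subgroup.characteristic_iff_le_comap]
  intro ϕ x hx
  rw [Subgroup.mem_comap]
  rw [hK.mem_iff] at hx ⊢
  have : orderOf (ϕ.toMonoidHom x) = orderOf x := by
    exact orderOf_injective ϕ.toMonoidHom ϕ.injective x
  rw [this]
  exact hx

/-- [D3] A proper nontrivial normal subgroup `N` with `Good p N`: its normal Sylow `p`-subgroup,
resp. its normal `p`-complement, is characteristic in `N`, hence normal in `G`; one of them is
nontrivial, or `N` itself is a `p'`-group or a `p`-group. -/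
theorem h69_good_of_normal_subgroup (N : Subgroup G) [N.Normal] (hN1 : N ≠ ⊥)
    (hNg : Good p ↥N)
    (ha : ∀ K : Subgroup G, K.Normal → K ≠ ⊥ → (Nat.card K).Coprime p → Good p G)
    (hb : ∀ D : Subgroup G, D.Normal → D ≠ ⊥ → IsPGroup p D → Good p G) : Good p G := by
  have hp : p.Prime := Fact.out
  rcases hNg with hnpc | hcl
  · -- `N` has a normal `p`-complement `K₀`
    obtain ⟨K₀, hK₀⟩ := Cfsg.Agent.Lib.Helper11.exists_wit_of_hasNPC hnpc
    haveI : K₀.Characteristic := h69_d3_wit_characteristic hK₀
    have hKn : (K₀.map N.subtype).Normal := ConjAct.normal_of_characteristic_of_normal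
    by_cases hK1 : K₀.map N.subtype = ⊥
    · -- `N` is a `p`-group
      have hK₀bot : K₀ = ⊥ :=
        (Subgroup.map_eq_bot_iff_of_injective K₀ N.subtype_injective).mp hK1
      apply hb N inferInstance hN1
      intro n
      obtain ⟨k, hk⟩ := hK₀.2.2 n
      rw [hK₀bot, Subgroup.mem_bot] at hk
      exact ⟨k, hk⟩
    · apply ha _ hKn hK1
      have h1 : (Nat.card K₀).Coprime p :=
        Cfsg.Agent.Lib.Helper11.coprime_card_of_forall_orderOf K₀ hK₀.2.1
      have h2 : Nat.card (K₀.map N.subtype) = Nat.card K₀ :=
        Nat.card_congr (K₀.equivMapOfInjective N.subtype N.subtype_injective).symm.toEquiv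
      rw [h2]; exact h1
  · -- `N` has a normal Sylow `p`-subgroup `Q`
    let Q : Sylow p N := default
    have hQn : (Q : Subgroup N).Normal := hcl Q
    haveI : (Q : Subgroup N).Characteristic := Sylow.characteristic_of_normal Q hQn
    have hDn : ((Q : Subgroup N).map N.subtype).Normal :=
      ConjAct.normal_of_characteristic_of_normal
    by_cases hD1 : (Q : Subgroup N).map N.subtype = ⊥
    · -- `N` is a `p'`-group
      have hQbot : (Q : Subgroup N) = ⊥ :=
        (Subgroup.map_eq_bot_iff_of_injective _ N.subtype_injective).mp hD1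
      apply ha N inferInstance hN1
      rw [Nat.coprime_comm, Nat.Prime.coprime_iff_not_dvd hp]
      intro hdvd
      exact Q.ne_bot_of_dvd_card hdvd hQbot
    · apply hb _ hDn hD1
      exact Q.2.map N.subtype

end Cfsg.Agent.Lib.Helper15.CycSyl
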