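import Mathlib
import Cfsg.Prelude.Def_Transfer
import Cfsg.Agent.Lib.Helper15.CycSylDefs
import Cfsg.Agent.Lib.Helper15.CycSylBasic

set_option autoImplicit false

/-! # S4016 hive, leaf W6: `⟨u⟩` acts semiregularly on `L`. -/

namespace Cfsg.Agent.Lib.Helper15.CycSyl

open Subgroup

variable {G : Type*} [Group G] [Finite G] {p : ℕ} [Fact p.Prime]

/-- [W6] `⟨u⟩` acts semiregularly on `L`.  `v ≠ 1` a `p`-element, in a Sylow `P'`; `y ∈ L`
commuting with `v`, `y ≠ 1`: [f1] `y ∈ C(P')`, [f2] `C(y) = N(P')`, `L` abelian so `L ≤ N(P')`;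
`v` normalizes `L`, `L` normalizes `P' ∋ v`: `[v, L] ≤ L ⊓ P' = 1`, `v ∈ C(L) ≤ L`, `v = 1`. -/
theorem Local.h69_semireg (h : Local p G) (P : Sylow p G) (L : Subgroup G) (u : G)
    (hc : TConf p P L u) :
    ∀ v ∈ zpowers u, v ≠ 1 → ∀ y ∈ L, v * y = y * v → y = 1 := by
  intro v hv hv1 y hy hvy
  by_contra hy1
  -- `v` is a `p`-element
  have hvp : ∃ k : ℕ, v ^ p ^ k = 1 := by
    obtain ⟨k, hk⟩ := hc.upow
    obtain ⟨i, rfl⟩ := Subgroup.mem_zpowers_iff.mp hv
    refine ⟨k, ?_⟩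
    rw [← zpow_natCast, ← zpow_mul, mul_comm, zpow_mul, zpow_natCast, hk, one_zpow]
  -- `v` lies in a Sylow `p`-subgroup `P'`
  have hZ : IsPGroup p (zpowers v) := by
    obtain ⟨k, hk⟩ := hvp
    intro ⟨x, hx⟩
    obtain ⟨i, rfl⟩ := Subgroup.mem_zpowers_iff.mp hx
    refine ⟨k, Subtype.ext ?_⟩
    simp only [Subgroup.coe_pow, Subgroup.coe_one]
    rw [← zpow_natCast, ← zpow_mul, mul_comm, zpow_mul, zpow_natCast, hk, one_zpow]
  obtain ⟨P', hP'⟩ := hZ.exists_le_sylow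
  have hvP' : v ∈ (P' : Subgroup G) := hP' (Subgroup.mem_zpowers v)
  have hyo : (orderOf y).Coprime p := coprime_orderOf_of_mem L hc.cop hy
  have hyC : y ∈ centralizer ((P' : Subgroup G) : Set G) :=
    h.f1 P' v hvP' hv1 y hvy.symm hyo
  have hCy : centralizer ({y} : Set G) = normalizer ((P' : Subgroup G) : Set G) :=
    h.f2 P' y hyC hy1 hyo
  have hLab := h.ab L hc.cop
  have hLN : L ≤ normalizer ((P' : Subgroup G) : Set G) := by
    rw [← hCy]
    intro l hl
    rw [Subgroup.mem_centralizer_iff]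
    intro z hz
    rw [Set.mem_singleton_iff] at hz
    subst hz
    exact hLab z hy l hl
  have hvN : v ∈ normalizer (L : Set G) :=
    (Subgroup.zpowers_le.mpr hc.un) hv
  -- `v` centralizes `L`
  have hvC : v ∈ centralizer (L : Set G) := by
    rw [Subgroup.mem_centralizer_iff]
    intro l hl
    have h1 : v * l * v⁻¹ ∈ L := (Subgroup.mem_normalizer_iff.mp hvN l).mp hl
    have h2 : l * v⁻¹ * l⁻¹ ∈ (P' : Subgroup G) :=
      (Subgroup.mem_normalizer_iff.mp (hLN hl) v⁻¹).mp ((P' : Subgroup G).inv_mem hvP')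
    set c : G := v * l * v⁻¹ * l⁻¹ with hcdef
    have hcL : c ∈ L := L.mul_mem h1 (L.inv_mem hl)
    have hcP : c ∈ (P' : Subgroup G) := by
      have : c = v * (l * v⁻¹ * l⁻¹) := by rw [hcdef]; group
      rw [this]
      exact (P' : Subgroup G).mul_mem hvP' h2
    have hc1 : c = 1 := by
      apply eq_one_of_pow_of_coprime (p := p)
      · obtain ⟨k, hk⟩ := P'.2 ⟨c, hcP⟩
        exact ⟨k, by simpa using congrArg Subtype.val hk⟩
      · exact coprime_orderOf_of_mem L hc.cop hcL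
    have : v * l * v⁻¹ = l := by
      rw [hcdef, mul_inv_eq_one] at hc1
      exact hc1
    calc l * v = (v * l * v⁻¹) * v := by rw [this]
      _ = v * l := by group
  have hvL : v ∈ L := hc.self hvC
  exact hv1 (eq_one_of_pow_of_coprime hvp (coprime_orderOf_of_mem L hc.cop hvL))

end Cfsg.Agent.Lib.Helper15.CycSyl
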