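import Mathlib
import Cfsg.Prelude.Def_Transfer
import Cfsg.Prelude.Def_OddOrderLocal
import Cfsg.Agent.Lib.Helper15.CycSylDefs
import Cfsg.Agent.Lib.Helper15.CycSylBasic

set_option autoImplicit false

/-! # S4016 hive, leaf W9a: `C(P)` is a TI-subset. -/

namespace Cfsg.Agent.Lib.Helper15.CycSyl

open Subgroup

variable {G : Type*} [Group G] [Finite G] {p : ℕ} [Fact p.Prime]

/-- the normalizer of a subgroup normalizes its centralizer -/
theorem h69_w9a_normalizer_le (Q : Subgroup G) :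
    normalizer (Q : Set G) ≤ normalizer ((centralizer (Q : Set G) : Subgroup G) : Set G) := by
  have key : ∀ g ∈ normalizer (Q : Set G), ∀ n ∈ centralizer (Q : Set G),
      g * n * g⁻¹ ∈ centralizer (Q : Set G) := by
    intro g hg n hn
    rw [Subgroup.mem_centralizer_iff] at hn ⊢
    intro a ha
    have ha' : g⁻¹ * a * g⁻¹⁻¹ ∈ Q :=
      (Subgroup.mem_normalizer_iff.mp ((normalizer (Q : Set G)).inv_mem hg) a).mp ha
    have := hn _ ha'
    calc a * (g * n * g⁻¹) = g * ((g⁻¹ * a * g⁻¹⁻¹) * n) * g⁻¹ := by group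
      _ = g * (n * (g⁻¹ * a * g⁻¹⁻¹)) * g⁻¹ := by rw [this]
      _ = g * n * g⁻¹ * a := by group
  intro g hg
  rw [Subgroup.mem_normalizer_iff]
  intro n
  constructor
  · intro hn
    exact key g hg n hn
  · intro hn
    have := key g⁻¹ ((normalizer (Q : Set G)).inv_mem hg) _ hn
    have h2 : g⁻¹ * (g * n * g⁻¹) * g⁻¹⁻¹ = n := by group
    rw [h2] at this
    exact this

/-- [W9a] `p = 3` endgame: `C(P)` is a TI-subset. (`x ∈ C(P) ⊓ g C(P) g⁻¹`, `x ≠ 1`: its `3`-part
is in `P` and moved into `P` [ti], or `x` is a `3'`-element [f3]; in both cases `g ∈ N(P) ≤ N(C(P))`.) -/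
theorem Local.h69_tiSubset (h : Local p G) (P : Sylow p G) :
    Cfsg.IsTISubset (centralizer ((P : Subgroup G) : Set G) : Set G) := by
  intro g hg x hx hgx
  by_contra hx1
  apply hg
  apply h69_w9a_normalizer_le (P : Subgroup G)
  have hx' : x ∈ centralizer ((P : Subgroup G) : Set G) := hx
  have hgx' : g * x * g⁻¹ ∈ centralizer ((P : Subgroup G) : Set G) := hgx
  obtain ⟨a, b, ha, hb, hab, hap, hbo⟩ := exists_p_decomp p x
  have hzle : zpowers x ≤ centralizer ((P : Subgroup G) : Set G) :=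
    Subgroup.zpowers_le.mpr hx'
  have hconj : ∀ c ∈ zpowers x, g * c * g⁻¹ ∈ centralizer ((P : Subgroup G) : Set G) := by
    intro c hc
    obtain ⟨i, rfl⟩ := Subgroup.mem_zpowers_iff.mp hc
    have : g * x ^ i * g⁻¹ = (g * x * g⁻¹) ^ i := by
      rw [conj_zpow]
    rw [this]
    exact (centralizer ((P : Subgroup G) : Set G)).zpow_mem hgx' i
  have hCN : centralizer ((P : Subgroup G) : Set G) ≤ normalizer ((P : Subgroup G) : Set G) :=
    Subgroup.centralizer_le_normalizer _
  by_cases hb1 : b = 1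
  · -- `x = a` is a `p`-element
    have hxa : x = a := by rw [hab, hb1, mul_one]
    have ha1 : a ≠ 1 := by rw [← hxa]; exact hx1
    have haP : a ∈ (P : Subgroup G) :=
      mem_sylow_of_mem_normalizer P (hCN (hzle ha)) hap
    have hgaP : g * a * g⁻¹ ∈ (P : Subgroup G) := by
      apply mem_sylow_of_mem_normalizer P (hCN (hconj a ha))
      obtain ⟨k, hk⟩ := hap
      exact ⟨k, by rw [conj_pow, hk, mul_one, mul_inv_cancel]⟩
    exact h.ti P g a haP ha1 hgaP
  · exact h.f3 P g b (hzle hb) hb1 hbo (hconj b hb)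

end Cfsg.Agent.Lib.Helper15.CycSyl
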