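import Mathlib
import Cfsg.Prelude.Def_CharExt
import Cfsg.Agent.Lib.Helper15.DetChar

set_option autoImplicit false
set_option linter.style.haveILetI false

/-!
# The determinantal character on a cyclic subgroup of even order where the character is a
multiple of the regular character

If `y` has even order `m`, `χ 1 = k * m` and `χ` vanishes on the nontrivial powers of `y`, then
`det χ (y) = (-1) ^ k`.
-/

namespace Cfsg.Agent.Lib.Helper69.DetCyc

open Cfsg

universe u

/-- The diagonal representation of a group given by a family of homomorphisms to `ℂˣ`-powers. -/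
noncomputable def diagRep {H : Type u} [Group H] (ι : Type) [Fintype ι] [DecidableEq ι]
    (d : H →* (ι → ℂ)) : Representation ℂ H (ι → ℂ) where
  toFun h := Matrix.toLin' (Matrix.diagonal (d h))
  map_one' := by
    rw [map_one]
    have : Matrix.diagonal (1 : ι → ℂ) = 1 := Matrix.diagonal_one
    rw [this, Matrix.toLin'_one]
    rfl
  map_mul' a b := by
    rw [map_mul]
    have : Matrix.diagonal (d a * d b) = Matrix.diagonal (d a) * Matrix.diagonal (d b) := by
      rw [Matrix.diagonal_mul_diagonal]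
      rfl
    rw [this, Matrix.toLin'_mul]
    rfl

theorem diagRep_character {H : Type u} [Group H] (ι : Type) [Fintype ι] [DecidableEq ι]
    (d : H →* (ι → ℂ)) (h : H) : (diagRep ι d).character h = ∑ i, d h i := by
  show LinearMap.trace ℂ _ (Matrix.toLin' (Matrix.diagonal (d h))) = _
  rw [Matrix.trace_toLin'_eq, Matrix.trace_diagonal]

theorem diagRep_det {H : Type u} [Group H] (ι : Type) [Fintype ι] [DecidableEq ι]
    (d : H →* (ι → ℂ)) (h : H) : LinearMap.det ((diagRep ι d) h) = ∏ i, d h i := by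
  show LinearMap.det (Matrix.toLin' (Matrix.diagonal (d h))) = _
  rw [LinearMap.det_toLin', Matrix.det_diagonal]

/-- product of all `m`-th roots of unity (as powers of a primitive one), `m` even -/
theorem prod_pow_primitive {ζ : ℂ} {m : ℕ} (hζ : IsPrimitiveRoot ζ m) (hm : Even m) (hm0 : 0 < m) :
    ∏ i ∈ Finset.range m, ζ ^ i = -1 := by
  obtain ⟨r, hr⟩ := hm
  have hr0 : 0 < r := by omega
  rw [Finset.prod_pow_eq_pow_sum]
  have hsum : ∑ i ∈ Finset.range m, i = r * (m - 1) := by
    have := Finset.sum_range_id_mul_two m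
    have h2 : m * (m - 1) = (r * (m - 1)) * 2 := by rw [hr]; ring
    rw [h2] at this
    exact Nat.eq_of_mul_eq_mul_right (by norm_num) this
  rw [hsum, pow_mul]
  have hneg : ζ ^ r = -1 := by
    have h2 : IsPrimitiveRoot (ζ ^ r) 2 := hζ.pow hm0 (by rw [hr]; ring)
    exact h2.eq_neg_one_of_two_right
  rw [hneg]
  have hodd : Odd (m - 1) := by
    rw [hr]
    exact ⟨r - 1, by omega⟩
  exact hodd.neg_one_pow

theorem geom_sum_root {z : ℂ} {m : ℕ} (hz : z ^ m = 1) (hz1 : z ≠ 1) :
    ∑ i ∈ Finset.range m, z ^ i = 0 := by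
  have h := geom_sum_mul z m
  rw [hz, sub_self] at h
  rcases mul_eq_zero.mp h with h1 | h1
  · exact h1
  · exact absurd (sub_eq_zero.mp h1) hz1

theorem detChar_cyclic {G : Type u} [Group G] [Finite G] {χ : G → ℂ} (hχ : IsCharacter G χ)
    (y : G) (m k : ℕ) (hm : orderOf y = m) (hmeven : Even m) (hm0 : 0 < m)
    (hdeg : χ 1 = ((k * m : ℕ) : ℂ)) (hvan : ∀ j : ℕ, y ^ j ≠ 1 → χ (y ^ j) = 0) :
    detChar χ y = (-1) ^ k := by
  classical
  set H : Subgroup G := Subgroup.zpowers y with hH
  set gH : H := ⟨y, Subgroup.mem_zpowers y⟩ with hgH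
  have hgen : ∀ h : H, h ∈ Subgroup.zpowers gH := by
    intro h
    obtain ⟨n, hn⟩ := Subgroup.mem_zpowers_iff.mp h.2
    refine Subgroup.mem_zpowers_iff.mpr ⟨n, ?_⟩
    apply Subtype.ext
    rw [Subgroup.coe_zpow]
    exact hn
  have hordg : orderOf gH = m := by
    rw [← hm]
    exact Subgroup.orderOf_mk y _
  -- primitive root
  set ζ : ℂ := Complex.exp (2 * Real.pi * Complex.I / m) with hζdef
  have hζ : IsPrimitiveRoot ζ m := Complex.isPrimitiveRoot_exp m hm0.ne'
  have hζu : IsUnit ζ := hζ.isUnit hm0.ne'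
  set ζu : ℂˣ := hζu.unit with hζudef
  have hζuval : (ζu : ℂ) = ζ := IsUnit.unit_spec hζu
  have hordζ : orderOf ζu = m := by
    rw [← orderOf_units, hζuval]
    exact hζ.eq_orderOf.symm
  set φ : H →* ℂˣ := monoidHomOfForallMemZpowers hgen (g' := ζu) (by rw [hordζ, hordg]) with hφ
  have hφg : φ gH = ζu := monoidHomOfForallMemZpowers_apply_gen hgen _
  have hφpow : ∀ j : ℕ, ((φ (gH ^ j) : ℂˣ) : ℂ) = ζ ^ j := by
    intro j
    rw [map_pow, hφg, Units.val_pow_eq_pow_val, hζuval]
  -- the diagonal representation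
  let ι := Fin k × Fin m
  let d : H →* (ι → ℂ) :=
    { toFun := fun h ji => ((φ h : ℂˣ) : ℂ) ^ (ji.2 : ℕ)
      map_one' := by
        funext ji
        simp
      map_mul' := by
        intro a b
        funext ji
        simp [mul_pow] }
  have hd : ∀ (h : H) (ji : ι), d h ji = ((φ h : ℂˣ) : ℂ) ^ (ji.2 : ℕ) := fun _ _ => rfl
  set D := diagRep ι d with hD
  -- every element of `H` is a natural power of `gH`
  have hpowers : ∀ h : H, ∃ j : ℕ, h = gH ^ j := by
    intro h
    have h1 : h ∈ Submonoid.powers gH := (mem_powers_iff_mem_zpowers).mpr (hgen h)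
    obtain ⟨j, hj⟩ := h1
    exact ⟨j, hj.symm⟩
  -- the character of `D` is the restriction of `χ`
  have hchar : (fun h : H => χ h) = D.character := by
    funext h
    obtain ⟨j, rfl⟩ := hpowers h
    rw [hD, diagRep_character]
    have h1 : ∑ ji : ι, d (gH ^ j) ji = (k : ℂ) * ∑ i ∈ Finset.range m, (ζ ^ j) ^ i := by
      rw [Fintype.sum_prod_type]
      simp_rw [hd, hφpow]
      rw [Finset.sum_const, Finset.card_univ, Fintype.card_fin, nsmul_eq_mul]
      congr 1
      exact Fin.sum_univ_eq_sum_range (fun i => (ζ ^ j) ^ i) m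
    rw [h1]
    have hcoe : ((gH ^ j : H) : G) = y ^ j := by
      rw [Subgroup.coe_pow]
    rw [hcoe]
    by_cases hj : y ^ j = 1
    · rw [hj, hdeg]
      have h2 : ζ ^ j = 1 := by
        have : m ∣ j := by rw [← hm]; exact orderOf_dvd_of_pow_eq_one hj
        exact (hζ.pow_eq_one_iff_dvd j).mpr this
      rw [h2]
      simp
    · rw [hvan j hj]
      have h2 : ζ ^ j ≠ 1 := by
        intro h3
        have : m ∣ j := (hζ.pow_eq_one_iff_dvd j).mp h3
        apply hj
        rw [← hm] at this
        exact orderOf_dvd_iff_pow_eq_one.mp this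
      have h3 : (ζ ^ j) ^ m = 1 := by
        rw [← pow_mul, mul_comm, pow_mul, hζ.pow_eq_one, one_pow]
      rw [geom_sum_root h3 h2, mul_zero]
  -- determinant
  have h1 := Cfsg.Agent.Lib.Helper15.detChar_restrict hχ H gH
  have h2 : detChar (fun h : H => χ h) gH = LinearMap.det (D gH) := by
    rw [hchar]
    exact Cfsg.Agent.Lib.Helper15.detChar_eq_det D gH
  have h3 : LinearMap.det (D gH) = (-1) ^ k := by
    rw [hD, diagRep_det, Fintype.prod_prod_type]
    have h4 : ∀ j : Fin k, ∏ i : Fin m, d gH (j, i) = -1 := by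
      intro j
      simp_rw [hd, hφg, hζuval]
      rw [Fin.prod_univ_eq_prod_range (fun i => ζ ^ i) m]
      exact prod_pow_primitive hζ hmeven hm0
    simp_rw [h4]
    rw [Finset.prod_const, Finset.card_univ, Fintype.card_fin]
  have h5 : ((gH : H) : G) = y := rfl
  rw [← h5, ← h1, h2, h3]

end Cfsg.Agent.Lib.Helper69.DetCyc
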