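import Cfsg.Agent.Lib.Helper69.DihedralEquation
import Cfsg.Agent.Lib.Helper69.Basic

/-!
# Arithmetic form of the class equation for a Sylow subgroup of prime order with dihedral
normalizer in a simple group
-/

set_option autoImplicit false
set_option linter.style.haveILetI false
set_option linter.unusedSectionVars false
set_option maxHeartbeats 800000

namespace Cfsg.Agent.Lib.Helper69.TI

open Cfsg Subgroup

universe u

variable {G : Type u} [Group G]

/-- **Class equation, arithmetic form.**  Simple nonabelian `G`, `P` of prime order `p ≥ 7` with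
`|N(P)| = 2p` (not central in its normalizer).  With `n, m` the degrees of the non-exceptional and
exceptional characters of the principal `p`-block, `I` the size of the class of the involutions
inverting `P`, `a₀` the value of the non-exceptional character at such an involution and `B` the
sum of the squares of the values of the `p - 1` exceptional characters. -/
theorem simple_dihedral_equation [Finite G] [IsSimpleGroup G] (hnc : ¬ IsMulCommutative G) {p : ℕ}
    [hp : Fact p.Prime] (hp7 : 7 ≤ p) (P : Subgroup G) (hP : Nat.card P = p)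
    (hN : Nat.card (normalizer (P : Set G)) = 2 * p)
    (hNC : ¬ normalizer (P : Set G) ≤ centralizer (P : Set G)) :
    ∃ (n m I k kθ : ℕ) (δ ε a₀ B : ℤ), n ∣ Nat.card G ∧ m ∣ Nat.card G ∧ I ∣ Nat.card G ∧ 1 < n ∧
      (δ = 1 ∨ δ = -1) ∧ (ε = 1 ∨ ε = -1) ∧
      (p : ℤ) * k = n + ((p : ℤ) - 1) * δ ∧ 1 + δ * n = ε * m ∧ (p : ℤ) * kθ = m - 2 * ε ∧
      |a₀| ≤ k ∧ 0 ≤ B ∧ B ≤ ((p : ℤ) - 1) * kθ ^ 2 ∧ (kθ = 1 → B = (p : ℤ) - 1) ∧
      ((p : ℤ) - 1) * p * Nat.card G * n * m =
        (I : ℤ) ^ 2 * (((p : ℤ) - 1) * (n * m + δ * a₀ ^ 2 * m) - ε * B * n) := by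
  classical
  haveI : Fintype G := Fintype.ofFinite G
  haveI : Fintype P := Fintype.ofFinite P
  have hp2 : p ≠ 2 := by omega
  have hC := centralizer_le_of_card_normalizer Nat.prime_two P hP hN hNC
  obtain ⟨t, htN, htt, ht1, hinv⟩ :=
    Cfsg.Agent.Lib.Helper69.exists_inverting_involution hp2 P hP hN hNC
  have htP : t ∉ P := by
    intro htP
    obtain ⟨r, hr⟩ := (hp.out.eq_two_or_odd').resolve_left hp2
    have htp : t ^ p = 1 := by
      have h1 : (⟨t, htP⟩ : P) ^ Nat.card P = 1 := pow_card_eq_one'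
      rw [hP] at h1
      have := congrArg Subtype.val h1
      simpa using this
    apply ht1
    have h2 : t ^ p = t := by
      rw [hr, pow_succ, pow_mul, pow_two, htt, one_pow, one_mul]
    rw [← h2, htp]
  obtain ⟨χ, θ, δ, ε, a₀, B, k, kθ, hχ, hδ, hε, h1, h2, h3, h4, h5, h6, h7, h8⟩ :=
    dihedral_class_equation P hp7 hP hN hC t htN htt htP hinv
  refine ⟨charDegree (χ : G → ℂ), charDegree (θ : G → ℂ), Nat.card {s : G // IsConj t s}, k, kθ,
    δ, ε, a₀, B, irr_degree_dvd χ, irr_degree_dvd θ, ?_, one_lt_degree_of_simple hnc χ hχ,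
    hδ, hε, h1, h2, h3, h4, h5, h6, h7, h8⟩
  rw [← Cfsg.Agent.Lib.Helper69.index_centralizer_eq_card_isConj]
  exact Subgroup.index_dvd_card _

end Cfsg.Agent.Lib.Helper69.TI
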