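import Cfsg.Agent.Lib.Helper69.DihedralClass

/-!
# The class equation for a self-centralizing subgroup of prime order with dihedral normalizer

`P ≤ G` of prime order `p ≥ 7`, `C(P) = P`, `|N(P)| = 2p`, `t` the inverting involution.  Then
there are irreducible characters `χ, θ` of degrees `n, m`, signs `δ, ε` and integers `a₀, B` with
`(p-1) p |G| n m = |t^G|² ((p-1)(n m + δ a₀² m) - ε B n)`.
-/

set_option autoImplicit false
set_option linter.style.haveILetI false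
set_option linter.unusedSectionVars false
set_option maxHeartbeats 1600000

namespace Cfsg.Agent.Lib.Helper69.TI

open Cfsg Subgroup
open scoped ComplexConjugate

universe u

variable {G : Type u} [Group G] [Fintype G] {p : ℕ} [hp : Fact p.Prime] (P : Subgroup G)
  [Fintype P]

theorem dihedral_class_equation (hp7 : 7 ≤ p) (hP : Nat.card P = p)
    (hN : Nat.card (normalizer (P : Set G)) = 2 * p) (hC : centralizer (P : Set G) ≤ P)
    (t : G) (htN : t ∈ normalizer (P : Set G)) (htt : t * t = 1) (htP : t ∉ P)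
    (hinv : ∀ x ∈ P, t * x * t⁻¹ = x⁻¹) :
    ∃ (χ θ : IrrCharacter G) (δ ε a₀ B : ℤ) (k kθ : ℕ),
      (χ : G → ℂ) ≠ (fun _ => 1) ∧ (δ = 1 ∨ δ = -1) ∧ (ε = 1 ∨ ε = -1) ∧
      (p : ℤ) * k = charDegree (χ : G → ℂ) + ((p : ℤ) - 1) * δ ∧
      1 + δ * charDegree (χ : G → ℂ) = ε * charDegree (θ : G → ℂ) ∧
      (p : ℤ) * kθ = charDegree (θ : G → ℂ) - 2 * ε ∧
      |a₀| ≤ k ∧ 0 ≤ B ∧ B ≤ ((p : ℤ) - 1) * kθ ^ 2 ∧ (kθ = 1 → B = (p : ℤ) - 1) ∧
      ((p : ℤ) - 1) * p * Nat.card G * charDegree (χ : G → ℂ) * charDegree (θ : G → ℂ) =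
        (Nat.card {s : G // IsConj t s} : ℤ) ^ 2 *
          (((p : ℤ) - 1) * (charDegree (χ : G → ℂ) * charDegree (θ : G → ℂ) +
            δ * a₀ ^ 2 * charDegree (θ : G → ℂ)) - ε * B * charDegree (χ : G → ℂ)) := by
  classical
  haveI : Fintype (IrrCharacter G) := Fintype.ofFinite _
  haveI : Fintype (IrrCharacter P) := Fintype.ofFinite _
  have hp2 : p ≠ 2 := by omega
  obtain ⟨u, ε, c, hε, huo, hnu, Hc⟩ :=
    exists_exceptional_full 2 (by omega) (by omega) P hP hN hC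
  set o := Cfsg.Agent.Lib.Helper81.oneIrr G with ho
  set oP := Cfsg.Agent.Lib.Helper81.oneIrr P with hoP
  have hε2 : ε * ε = 1 := by rcases hε with rfl | rfl <;> norm_num
  obtain ⟨A, hAo, hA, hz⟩ := struct2 o u huo (by rw [hnu]; norm_num)
  have hδ2 : u A * u A = 1 := by rcases hA with h | h <;> rw [h] <;> norm_num
  have hchar : ∀ ψ : IrrCharacter G, IsCharacter G (ψ : G → ℂ) := fun ψ =>
    Cfsg.Agent.Lib.Helper3.IsIrrCharacter.isCharacter ψ.2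
  have hne1 : ∀ μ : IrrCharacter P, μ ≠ oP → (μ : P → ℂ) ≠ fun _ => 1 := by
    intro μ hμ h
    apply hμ
    apply Subtype.ext
    rw [h]; rfl
  -- degrees
  set d : IrrCharacter G → ℤ := fun ψ => (charDegree (ψ : G → ℂ) : ℤ) with hd
  have hdo : d o = 1 := by
    have : charDegree ((o : IrrCharacter G) : G → ℂ) = 1 := by
      apply Cfsg.Agent.Lib.Helper81.charDegree_eq_of_apply_one
      rw [ho, Cfsg.Agent.Lib.Helper81.oneIrr_apply]
      simp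
    simp only [hd, this]
    rfl
  have hdpos : ∀ ψ, 0 < d ψ := fun ψ => by
    have := Nat.one_le_iff_ne_zero.mpr (Cfsg.Agent.Lib.Helper81.irr_charDegree_ne_zero ψ)
    simp only [hd]
    exact_mod_cast this
  have hsumu : ∀ f : IrrCharacter G → ℂ, ∑ ψ, f ψ * ((u ψ : ℤ) : ℂ) =
      f o + f A * ((u A : ℤ) : ℂ) := by
    intro f
    rw [Finset.sum_eq_add o A (Ne.symm hAo)]
    · rw [huo]; simp
    · intro ψ _ hψ
      rw [hz ψ hψ.1 hψ.2]; simp
    · intro h; exact absurd (Finset.mem_univ _) h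
    · intro h; exact absurd (Finset.mem_univ _) h
  have hsumd : ∑ ψ, u ψ * d ψ = 1 + u A * d A := by
    rw [Finset.sum_eq_add o A (Ne.symm hAo)]
    · rw [huo, hdo]; ring
    · intro ψ _ hψ
      rw [hz ψ hψ.1 hψ.2]; simp
    · intro h; exact absurd (Finset.mem_univ _) h
    · intro h; exact absurd (Finset.mem_univ _) h
  -- a nontrivial character of `P`
  obtain ⟨μ₁, hμ₁, -⟩ := exists_unrelated P hP 2 hN ∅ (by simp; omega)
  have hμ₁' : μ₁ ≠ oP := by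
    intro h
    apply hμ₁
    rw [h, hoP]
    funext x
    exact Cfsg.Agent.Lib.Helper81.oneIrr_apply x
  set θ := c μ₁ with hθ
  have hdegθ : 1 + u A * d A = ε * d θ := by
    rw [← hsumd]; exact (Hc μ₁ hμ₁).2.2.2
  have hdegμ : ∀ μ, μ ≠ oP → d (c μ) = d θ := by
    intro μ hμ
    have h1 : 1 + u A * d A = ε * d (c μ) := by
      rw [← hsumd]; exact (Hc μ (hne1 μ hμ)).2.2.2
    have h2 : ε * d (c μ) = ε * d θ := by rw [← h1, hdegθ]
    calc d (c μ) = ε * ε * d (c μ) := by rw [hε2, one_mul]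
      _ = ε * (ε * d (c μ)) := by ring
      _ = ε * (ε * d θ) := by rw [h2]
      _ = d θ := by rw [← mul_assoc, hε2, one_mul]
  -- values at `t`
  have hval : ∀ ψ : IrrCharacter G, ∃ k₁ k₂ : ℕ, (ψ : G → ℂ) t = (k₁ : ℂ) - k₂ ∧
      classInner (fun _ : P => (1 : ℂ)) (fun h : P => (ψ : G → ℂ) h) = (k₁ : ℂ) + k₂ :=
    fun ψ => char_value_inverting P hp2 hP hN t htN htt htP hinv (hchar ψ)
  choose K1 K2 hK1 hK2 using hval
  -- the multiplicity equation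
  have hmult : ∀ ψ : IrrCharacter G, (d ψ : ℂ) + ∑ μ : IrrCharacter P, cc P (μ : P → ℂ) (ψ : G → ℂ) =
      (p : ℂ) * ((K1 ψ : ℂ) + K2 ψ) := by
    intro ψ
    have h := degree_formula' P hP (hchar ψ)
    rw [hK2 ψ, Cfsg.Agent.Lib.Helper81.irr_apply_one_eq_charDegree ψ] at h
    simp only [hd, Int.cast_natCast]
    exact h
  set T : Finset (IrrCharacter P) := Finset.univ.erase oP with hT
  have hTcard : T.card = p - 1 := by
    rw [hT, Finset.card_erase_of_mem (Finset.mem_univ _), Finset.card_univ, card_irr_eq P hP]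
  have hmemT : ∀ μ, μ ∈ T ↔ μ ≠ oP := by
    intro μ
    rw [hT, Finset.mem_erase]
    simp
  have hsumT : ∀ f : IrrCharacter P → ℂ, f oP = 0 → ∑ μ, f μ = ∑ μ ∈ T, f μ := by
    intro f hf
    rw [← Finset.add_sum_erase Finset.univ _ (Finset.mem_univ oP), hf, zero_add]
  have hccoP : ∀ ψ : G → ℂ, cc P ((oP : IrrCharacter P) : P → ℂ) ψ = 0 := fun ψ => cc_trivial P ψ
  -- coefficient formula
  have hcc : ∀ μ ∈ T, ∀ ψ : IrrCharacter G, cc P (μ : P → ℂ) (ψ : G → ℂ) =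
      ((u ψ : ℤ) : ℂ) - (if ψ = c μ then ((ε : ℤ) : ℂ) else 0) := by
    intro μ hμ ψ
    obtain ⟨h1, h2, h3, -⟩ := Hc μ (hne1 μ ((hmemT μ).mp hμ))
    by_cases hψ : ψ = c μ
    · rw [if_pos hψ, hψ, h3, h1]; push_cast; ring
    · rw [if_neg hψ, h2 ψ hψ, sub_zero]
  -- the character `A`
  have hAc : ∀ μ ∈ T, A ≠ c μ := by
    intro μ hμ h
    have := (Hc μ (hne1 μ ((hmemT μ).mp hμ))).1
    rw [← h] at this
    rw [this] at hδ2
    norm_num at hδ2
  have hkA : (p : ℤ) * ((K1 A + K2 A : ℕ) : ℤ) = d A + ((p : ℤ) - 1) * u A := by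
    have h := hmult A
    rw [hsumT _ (hccoP _)] at h
    have h2 : ∑ μ ∈ T, cc P (μ : P → ℂ) (A : G → ℂ) = ∑ _μ ∈ T, ((u A : ℤ) : ℂ) := by
      apply Finset.sum_congr rfl
      intro μ hμ
      rw [hcc μ hμ A, if_neg (hAc μ hμ), sub_zero]
    rw [h2, Finset.sum_const, hTcard, nsmul_eq_mul, Nat.cast_sub hp.out.one_lt.le] at h
    have h3 : (((p : ℤ) * ((K1 A + K2 A : ℕ) : ℤ) : ℤ) : ℂ) =
        ((d A + ((p : ℤ) - 1) * u A : ℤ) : ℂ) := by
      push_cast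
      rw [← h]
      push_cast
      ring
    exact_mod_cast h3
  -- the exceptional characters
  have hkθ : ∀ μ ∈ T, (p : ℤ) * ((K1 (c μ) + K2 (c μ) : ℕ) : ℤ) = d θ - 2 * ε := by
    intro μ hμ
    have h := hmult (c μ)
    rw [hsumT _ (hccoP _)] at h
    set Kμ := (T.filter (fun ν => c μ = c ν)).card with hKμ
    have h2 : ∑ ν ∈ T, cc P (ν : P → ℂ) (c μ : G → ℂ) = -((ε : ℤ) : ℂ) * (Kμ : ℂ) := by
      have h3 : ∀ ν ∈ T, cc P (ν : P → ℂ) (c μ : G → ℂ) =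
          (if c μ = c ν then -((ε : ℤ) : ℂ) else 0) := by
        intro ν hν
        rw [hcc ν hν (c μ), (Hc μ (hne1 μ ((hmemT μ).mp hμ))).1]
        split_ifs <;> simp
      rw [Finset.sum_congr rfl h3, ← Finset.sum_filter, Finset.sum_const, nsmul_eq_mul]
      ring
    rw [h2, hdegμ μ ((hmemT μ).mp hμ)] at h
    have h4 : d θ - ε * (Kμ : ℤ) = (p : ℤ) * ((K1 (c μ) + K2 (c μ) : ℕ) : ℤ) := by
      have h5 : ((d θ - ε * (Kμ : ℤ) : ℤ) : ℂ) =
          (((p : ℤ) * ((K1 (c μ) + K2 (c μ) : ℕ) : ℤ) : ℤ) : ℂ) := by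
        push_cast
        rw [← h]
        ring
      exact_mod_cast h5
    have hK1 : 1 ≤ Kμ := by
      rw [hKμ]
      apply Finset.card_pos.mpr
      exact ⟨μ, Finset.mem_filter.mpr ⟨hμ, rfl⟩⟩
    have hK2 : Kμ ≤ p - 1 := by
      rw [← hTcard]
      exact Finset.card_filter_le _ _
    -- `p ∣ 2 - Kμ`
    set q : ℤ := ε * ((K1 (c μ) + K2 (c μ) : ℕ) : ℤ) - (u A * ((K1 A + K2 A : ℕ) : ℤ) - 1) with hq
    have h6 : (2 : ℤ) - Kμ = p * q := by
      have e1 : ε * (d θ - ε * (Kμ : ℤ)) = ε * ((p : ℤ) * ((K1 (c μ) + K2 (c μ) : ℕ) : ℤ)) := by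
        rw [h4]
      have e2 : ε * (d θ - ε * (Kμ : ℤ)) = ε * d θ - (Kμ : ℤ) := by
        have : ε * (d θ - ε * (Kμ : ℤ)) = ε * d θ - (ε * ε) * (Kμ : ℤ) := by ring
        rw [this, hε2, one_mul]
      have e3 : u A * d A = u A * ((p : ℤ) * ((K1 A + K2 A : ℕ) : ℤ)) - ((p : ℤ) - 1) := by
        rw [hkA]
        have : u A * (d A + ((p : ℤ) - 1) * u A) = u A * d A + ((p : ℤ) - 1) * (u A * u A) := by
          ring
        rw [this, hδ2]; ring
      rw [hq]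
      linear_combination e1 - e2 + hdegθ - e3
    have hp1 : (1 : ℤ) ≤ p := by exact_mod_cast hp.out.one_lt.le
    have hKz1 : (1 : ℤ) ≤ (Kμ : ℤ) := by exact_mod_cast hK1
    have hKz2 : (Kμ : ℤ) ≤ (p : ℤ) - 1 := by
      have : ((Kμ : ℕ) : ℤ) ≤ ((p - 1 : ℕ) : ℤ) := by exact_mod_cast hK2
      rwa [Nat.cast_sub hp.out.one_lt.le] at this
    have hq0 : q = 0 := by
      rcases lt_trichotomy q 0 with h | h | h
      · exfalso
        have : q ≤ -1 := by omega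
        nlinarith
      · exact h
      · exfalso
        have : 1 ≤ q := by omega
        nlinarith
    have hK : (Kμ : ℤ) = 2 := by rw [hq0, mul_zero] at h6; linarith
    rw [← h4, hK]; ring
  -- the integers attached to the exceptional characters
  set kθ : ℕ := K1 θ + K2 θ with hkθdef
  have hμ₁T : μ₁ ∈ T := (hmemT μ₁).mpr hμ₁'
  have hkθ1 : (p : ℤ) * (kθ : ℤ) = d θ - 2 * ε := hkθ μ₁ hμ₁T
  have hkθμ : ∀ μ ∈ T, K1 (c μ) + K2 (c μ) = kθ := by
    intro μ hμ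
    have h1 := hkθ μ hμ
    have h2 : (p : ℤ) * ((K1 (c μ) + K2 (c μ) : ℕ) : ℤ) = (p : ℤ) * (kθ : ℤ) := by
      rw [h1, hkθ1]
    have hp0 : (p : ℤ) ≠ 0 := by exact_mod_cast hp.out.ne_zero
    exact_mod_cast mul_left_cancel₀ hp0 h2
  set b : IrrCharacter P → ℤ := fun μ => (K1 (c μ) : ℤ) - K2 (c μ) with hb
  set B : ℤ := ∑ μ ∈ T, b μ ^ 2 with hB
  set a₀ : ℤ := (K1 A : ℤ) - K2 A with ha₀
  refine ⟨A, θ, u A, ε, a₀, B, K1 A + K2 A, kθ, ?_, hA, hε, hkA, hdegθ, hkθ1, ?_, ?_, ?_, ?_, ?_⟩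
  · intro h
    apply hAo
    apply Subtype.ext
    rw [h]; rfl
  · rw [ha₀, abs_le]
    push_cast
    constructor <;> linarith [Int.natCast_nonneg (K1 A), Int.natCast_nonneg (K2 A)]
  · exact Finset.sum_nonneg (fun μ _ => sq_nonneg _)
  · have h1 : ∀ μ ∈ T, b μ ^ 2 ≤ (kθ : ℤ) ^ 2 := by
      intro μ hμ
      have h2 := hkθμ μ hμ
      have h3 : ((K1 (c μ) : ℤ) + K2 (c μ)) = kθ := by exact_mod_cast h2
      simp only [hb]
      rw [← h3]
      nlinarith [Int.natCast_nonneg (K1 (c μ)), Int.natCast_nonneg (K2 (c μ))]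
    calc B ≤ ∑ _μ ∈ T, (kθ : ℤ) ^ 2 := Finset.sum_le_sum h1
      _ = ((p : ℤ) - 1) * kθ ^ 2 := by
        rw [Finset.sum_const, hTcard, nsmul_eq_mul, Nat.cast_sub hp.out.one_lt.le]
        simp
  · intro hk1
    have h1 : ∀ μ ∈ T, b μ ^ 2 = 1 := by
      intro μ hμ
      have h2 := hkθμ μ hμ
      rw [hk1] at h2
      simp only [hb]
      have h3 : (K1 (c μ) = 1 ∧ K2 (c μ) = 0) ∨ (K1 (c μ) = 0 ∧ K2 (c μ) = 1) := by omega
      rcases h3 with ⟨e1, e2⟩ | ⟨e1, e2⟩ <;> rw [e1, e2] <;> norm_num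
    rw [hB, Finset.sum_congr rfl h1, Finset.sum_const, hTcard, nsmul_eq_mul,
      Nat.cast_sub hp.out.one_lt.le]
    simp
  · have hE := sum_class_eq P hp2 hP hN t htN htt htP hinv
    set I : ℕ := Nat.card {s : G // IsConj t s} with hI
    set w : IrrCharacter G → ℂ :=
      fun ψ => (ψ : G → ℂ) t * (ψ : G → ℂ) t / (ψ : G → ℂ) 1 with hw
    have hwo : w o = 1 := by simp [hw, ho, Cfsg.Agent.Lib.Helper81.oneIrr_apply]
    have hwA : w A = ((a₀ : ℤ) : ℂ) ^ 2 / ((d A : ℤ) : ℂ) := by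
      simp only [hw]
      rw [hK1 A, Cfsg.Agent.Lib.Helper81.irr_apply_one_eq_charDegree A]
      simp only [ha₀, hd]
      push_cast
      ring
    have hwc : ∀ μ ∈ T, w (c μ) = ((b μ : ℤ) : ℂ) ^ 2 / ((d θ : ℤ) : ℂ) := by
      intro μ hμ
      simp only [hw]
      rw [hK1 (c μ), Cfsg.Agent.Lib.Helper81.irr_apply_one_eq_charDegree (c μ)]
      have h1 := hdegμ μ ((hmemT μ).mp hμ)
      have h2 : (charDegree ((c μ : IrrCharacter G) : G → ℂ) : ℂ) = ((d θ : ℤ) : ℂ) := by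
        have h3 : ((d (c μ) : ℤ) : ℂ) = ((d θ : ℤ) : ℂ) := by rw [h1]
        simpa only [hd, Int.cast_natCast] using h3
      rw [h2]
      simp only [hb]
      push_cast
      ring
    have hS : ∑ ψ : IrrCharacter G, w ψ * ∑ μ : IrrCharacter P, cc P (μ : P → ℂ) (ψ : G → ℂ) =
        ((p : ℂ) - 1) * (1 + ((a₀ : ℤ) : ℂ) ^ 2 / ((d A : ℤ) : ℂ) * ((u A : ℤ) : ℂ)) -
          ((ε : ℤ) : ℂ) * ((B : ℤ) : ℂ) / ((d θ : ℤ) : ℂ) := by
      have h1 : ∀ ψ : IrrCharacter G, w ψ * ∑ μ : IrrCharacter P, cc P (μ : P → ℂ) (ψ : G → ℂ) =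
          ∑ μ ∈ T, w ψ * cc P (μ : P → ℂ) (ψ : G → ℂ) := by
        intro ψ
        rw [hsumT _ (hccoP _), Finset.mul_sum]
      simp_rw [h1]
      rw [Finset.sum_comm]
      have h2 : ∀ μ ∈ T, ∑ ψ : IrrCharacter G, w ψ * cc P (μ : P → ℂ) (ψ : G → ℂ) =
          (1 + ((a₀ : ℤ) : ℂ) ^ 2 / ((d A : ℤ) : ℂ) * ((u A : ℤ) : ℂ)) -
            ((ε : ℤ) : ℂ) * (((b μ : ℤ) : ℂ) ^ 2 / ((d θ : ℤ) : ℂ)) := by
        intro μ hμ
        have h3 : ∀ ψ : IrrCharacter G, w ψ * cc P (μ : P → ℂ) (ψ : G → ℂ) =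
            w ψ * ((u ψ : ℤ) : ℂ) - (if ψ = c μ then w ψ * ((ε : ℤ) : ℂ) else 0) := by
          intro ψ
          rw [hcc μ hμ ψ]
          split_ifs <;> ring
        simp_rw [h3]
        rw [Finset.sum_sub_distrib, hsumu w, hwo, hwA, Finset.sum_ite_eq' Finset.univ (c μ)]
        simp only [Finset.mem_univ, if_true]
        rw [hwc μ hμ]
        ring
      rw [Finset.sum_congr rfl h2, Finset.sum_sub_distrib, Finset.sum_const, hTcard, nsmul_eq_mul,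
        Nat.cast_sub hp.out.one_lt.le, ← Finset.mul_sum, ← Finset.sum_div]
      simp only [hB]
      push_cast
      ring
    rw [hS] at hE
    have hg0 : ((Nat.card G : ℕ) : ℂ) ≠ 0 := by exact_mod_cast (Nat.card_pos (α := G)).ne'
    have hdA0 : ((d A : ℤ) : ℂ) ≠ 0 := by exact_mod_cast (hdpos A).ne'
    have hdθ0 : ((d θ : ℤ) : ℂ) ≠ 0 := by exact_mod_cast (hdpos θ).ne'
    have key : ((p : ℂ) - 1) * p * (Nat.card G : ℂ) * ((d A : ℤ) : ℂ) * ((d θ : ℤ) : ℂ) =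
        (I : ℂ) * (I : ℂ) * (((p : ℂ) - 1) * (((d A : ℤ) : ℂ) * ((d θ : ℤ) : ℂ) +
          ((u A : ℤ) : ℂ) * ((a₀ : ℤ) : ℂ) ^ 2 * ((d θ : ℤ) : ℂ)) -
          ((ε : ℤ) : ℂ) * ((B : ℤ) : ℂ) * ((d A : ℤ) : ℂ)) := by
      rw [hE]
      field_simp
    have hfin : ((((p : ℤ) - 1) * p * Nat.card G * d A * d θ : ℤ) : ℂ) =
        (((I : ℤ) ^ 2 * (((p : ℤ) - 1) * (d A * d θ + u A * a₀ ^ 2 * d θ) - ε * B * d A) : ℤ) : ℂ) := by
      push_cast
      rw [key]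
      ring
    exact_mod_cast hfin

end Cfsg.Agent.Lib.Helper69.TI
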