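import Cfsg.Agent.Lib.Helper37.EfDefs

/-! # Ef hive (S2211, helper37): leaf EF-INTW7 `intw7` (helper69)

`x_29(t) x_34(t) * Pm = Pm * x^{F₄}_20(t)` in characteristic 2.

Method (generic, works verbatim for the other blocks): every entry of `x_r(t)` is `c₀ + c₁ t + c₂ t²` with integers
`c_k` read off the tables (`intw7_xMat_entry`), so `x_r(t) = Z₀ + t Z₁ + t² Z₂` with the `Z_k` defined over `𝔽₂` and mapped
to `F` (`intw7_x_eq`).  The identity then follows from five identities between constant matrices over `𝔽₂`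
(`intw7_poly`), which are checked with a rectangular version of helper36's bit-matrix engine (`F4Lit`): rows as natural
numbers, product = xor of rows, `decide +kernel`. -/

set_option autoImplicit false
set_option linter.unusedSectionVars false
set_option linter.unusedVariables false

namespace Cfsg.Agent.Lib.Helper37.Ef

open Cfsg Cfsg.Lie Cfsg.Agent.Lib.Helper36

/-! ## part 1: `x_r(t) = Z₀ + t Z₁ + t² Z₂` with integer matrices `Z_k` -/

/-- the coefficient of `t ^ k` in the entry `(row, col)` of `x_r(t)` -/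
def intw7_xC (D : ChevalleyDatum) (r : Fin D.nroots) (k : ℕ) (row col : D.Idx) : ℤ :=
  match col with
  | Sum.inl i =>
    (match row with
     | Sum.inl i' => if k = 0 then (if i' = i then 1 else 0) else 0
     | Sum.inr u => if k = 1 then (if u = r then - ((D.cartanSR.getD i.val #[]).getD r.val 0) else 0) else 0)
  | Sum.inr s =>
    if s = r then
      (match row with
       | Sum.inr u => if k = 0 then (if u = r then 1 else 0) else 0
       | Sum.inl _ => 0)
    else if s.val = D.negIdx.getD r.val 0 then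
      (match row with
       | Sum.inl i => if k = 1 then (D.coroot.getD r.val #[]).getD i.val 0 else 0
       | Sum.inr u => if u = s then (if k = 0 then 1 else 0) else if u = r then (if k = 2 then -1 else 0) else 0)
    else
      (match row with
       | Sum.inl _ => 0
       | Sum.inr u => (if k = 0 then (if u = s then 1 else 0) else 0) +
           (((D.chainCoeff r.val s.val u.val).filter fun km => km.1 = k).map fun km => km.2).sum)

theorem intw7_list_sum {F : Type*} [Field F] (t : F) (L : List (ℕ × ℤ))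
    (hL : ∀ km ∈ L, km.1 = 1 ∨ km.1 = 2) :
    (L.map fun km => ((km.2 : ℤ) : F) * t ^ km.1).sum =
      (((((L.filter fun km => km.1 = 1).map fun km => km.2).sum : ℤ) : F)) * t +
      (((((L.filter fun km => km.1 = 2).map fun km => km.2).sum : ℤ) : F)) * t ^ 2 := by
  induction L with
  | nil => simp
  | cons a L ih =>
    have ha := hL a (List.mem_cons_self)
    have ih' := ih (fun km hkm => hL km (List.mem_cons_of_mem _ hkm))
    rw [List.map_cons, List.sum_cons, ih']
    rcases ha with h | h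
    · have h2 : ¬ a.1 = 2 := by omega
      simp only [List.filter_cons, h, h2, decide_true, decide_false, if_true, List.map_cons, List.sum_cons,
        Int.cast_add, pow_one]
      simp
      ring
    · have h1 : ¬ a.1 = 1 := by omega
      simp only [List.filter_cons, h, h1, decide_true, decide_false, if_true, List.map_cons, List.sum_cons,
        Int.cast_add]
      simp
      ring

theorem intw7_filter_zero (L : List (ℕ × ℤ)) (hL : ∀ km ∈ L, km.1 = 1 ∨ km.1 = 2) :
    (L.filter fun km => km.1 = 0) = [] := by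
  rw [List.filter_eq_nil_iff]
  intro km hkm
  have := hL km hkm
  simp
  omega

/-- the decomposition, entrywise -/
theorem intw7_xMat_entry {F : Type*} [Field F] (D : ChevalleyDatum) (r : Fin D.nroots)
    (hexp : ∀ s u : ℕ, ∀ km ∈ D.chainCoeff r.val s u, km.1 = 1 ∨ km.1 = 2) (t : F) (row col : D.Idx) :
    D.xMat F r t row col = ((intw7_xC D r 0 row col : ℤ) : F) + ((intw7_xC D r 1 row col : ℤ) : F) * t +
      ((intw7_xC D r 2 row col : ℤ) : F) * t ^ 2 := by
  unfold ChevalleyDatum.xMat intw7_xC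
  rw [Matrix.of_apply]
  rcases col with i | s
  · rcases row with i' | u
    · simp
    · by_cases hu : u = r
      · simp [hu]
      · simp [hu]
  · by_cases hsr : s = r
    · rcases row with i' | u
      · simp [hsr]
      · simp [hsr]
    · by_cases hneg : s.val = D.negIdx.getD r.val 0
      · rcases row with i' | u
        · simp [hsr, hneg]
        · by_cases hus : u = s
          · simp [hsr, hneg, hus]
          · by_cases hur : u = r
            · subst hur
              have hrs : ¬ u = s := hus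
              simp [hsr, hneg, hrs]
            · simp [hsr, hneg, hus, hur]
      · rcases row with i' | u
        · simp [hsr, hneg]
        · simp only [hsr, hneg, if_false]
          rw [intw7_list_sum t _ (hexp s.val u.val), intw7_filter_zero _ (hexp s.val u.val)]
          simp
          ring


/-! ## part 2: bit matrices over `𝔽₂` (rectangular version of helper36's `F4Lit` engine) -/

/-- numbering of the index set of a datum -/
def intw7_num (D : ChevalleyDatum) : D.Idx → ℕ
  | Sum.inl i => i.val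
  | Sum.inr s => D.rank + s.val

/-- a bit as an element of `𝔽₂` -/
def intw7_bitZ (b : Bool) : ZMod 2 := if b then 1 else 0

theorem intw7_bitZ_xor (p q : Bool) : intw7_bitZ (p ^^ q) = intw7_bitZ p + intw7_bitZ q := by
  cases p <;> cases q <;> decide

/-- the matrix over `𝔽₂` whose rows are given by the bits of the numbers of a list -/
def intw7_bitMat (D₁ D₂ : ChevalleyDatum) (R : List ℕ) : Matrix D₁.Idx D₂.Idx (ZMod 2) :=
  Matrix.of fun i j => intw7_bitZ ((R.getD (intw7_num D₁ i) 0).testBit (intw7_num D₂ j))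

/-- the product of a row with a bit matrix -/
def intw7_rowMul (a : ℕ) (B : List ℕ) : ℕ → ℕ
  | 0 => 0
  | n + 1 => if a.testBit n then intw7_rowMul a B n ^^^ B.getD n 0 else intw7_rowMul a B n

/-- the product of two bit matrices (`n` rows, inner dimension `N`) -/
def intw7_mulBits (n N : ℕ) (A B : List ℕ) : List ℕ :=
  (List.range n).map fun i => intw7_rowMul (A.getD i 0) B N

/-- the sum of two bit matrices (`n` rows) -/
def intw7_addBits (n : ℕ) (A B : List ℕ) : List ℕ :=
  (List.range n).map fun i => A.getD i 0 ^^^ B.getD i 0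

theorem intw7_rowMul_succ (a : ℕ) (B : List ℕ) (n : ℕ) :
    intw7_rowMul a B (n + 1) =
      if a.testBit n then intw7_rowMul a B n ^^^ B.getD n 0 else intw7_rowMul a B n := rfl

theorem intw7_rowMul_testBit (a : ℕ) (B : List ℕ) (j : ℕ) (n : ℕ) :
    intw7_bitZ ((intw7_rowMul a B n).testBit j) =
      ∑ k ∈ Finset.range n, intw7_bitZ (a.testBit k) * intw7_bitZ ((B.getD k 0).testBit j) := by
  induction n with
  | zero => simp [intw7_rowMul, intw7_bitZ]
  | succ n ih =>
    rw [Finset.sum_range_succ, ← ih, intw7_rowMul_succ]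
    by_cases h : a.testBit n = true
    · rw [if_pos h, Nat.testBit_xor, intw7_bitZ_xor, h]
      simp [intw7_bitZ]
    · rw [if_neg h]
      have : a.testBit n = false := by simpa using h
      rw [this]
      simp [intw7_bitZ]

theorem intw7_num_lt (D : ChevalleyDatum) (i : D.Idx) : intw7_num D i < D.rank + D.nroots := by
  rcases i with i | s
  · have : i.val < D.rank := i.isLt
    show i.val < D.rank + D.nroots
    omega
  · have : s.val < D.nroots := s.isLt
    show D.rank + s.val < D.rank + D.nroots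
    omega

theorem intw7_sum_num (D : ChevalleyDatum) (g : ℕ → ZMod 2) :
    ∑ x : D.Idx, g (intw7_num D x) = ∑ k ∈ Finset.range (D.rank + D.nroots), g k := by
  rw [Fintype.sum_sum_type]
  have h1 : ∑ i : Fin D.rank, g (intw7_num D (Sum.inl i)) = ∑ k ∈ Finset.range D.rank, g k :=
    Fin.sum_univ_eq_sum_range (fun k => g k) D.rank
  have h2 : ∑ s : Fin D.nroots, g (intw7_num D (Sum.inr s)) = ∑ k ∈ Finset.range D.nroots, g (D.rank + k) :=
    Fin.sum_univ_eq_sum_range (fun k => g (D.rank + k)) D.nroots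
  rw [h1, h2, Finset.sum_range_add]

theorem intw7_mulBits_getD (n N : ℕ) (A B : List ℕ) (i : ℕ) (hi : i < n) :
    (intw7_mulBits n N A B).getD i 0 = intw7_rowMul (A.getD i 0) B N := by
  unfold intw7_mulBits
  rw [List.getD_eq_getElem?_getD, List.getElem?_map, List.getElem?_range hi]
  rfl

theorem intw7_addBits_getD (n : ℕ) (A B : List ℕ) (i : ℕ) (hi : i < n) :
    (intw7_addBits n A B).getD i 0 = A.getD i 0 ^^^ B.getD i 0 := by
  unfold intw7_addBits
  rw [List.getD_eq_getElem?_getD, List.getElem?_map, List.getElem?_range hi]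
  rfl

/-- soundness of the bit-matrix product -/
theorem intw7_bitMat_mul (D₁ D₂ D₃ : ChevalleyDatum) (A B : List ℕ) :
    intw7_bitMat D₁ D₂ A * intw7_bitMat D₂ D₃ B =
      intw7_bitMat D₁ D₃ (intw7_mulBits (D₁.rank + D₁.nroots) (D₂.rank + D₂.nroots) A B) := by
  ext i j
  rw [Matrix.mul_apply]
  show ∑ x, intw7_bitZ ((A.getD (intw7_num D₁ i) 0).testBit (intw7_num D₂ x)) *
      intw7_bitZ ((B.getD (intw7_num D₂ x) 0).testBit (intw7_num D₃ j)) =
    intw7_bitZ (((intw7_mulBits (D₁.rank + D₁.nroots) (D₂.rank + D₂.nroots) A B).getD (intw7_num D₁ i) 0).testBit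
      (intw7_num D₃ j))
  rw [intw7_mulBits_getD _ _ A B _ (intw7_num_lt D₁ i), intw7_rowMul_testBit,
    intw7_sum_num D₂ (fun k => intw7_bitZ ((A.getD (intw7_num D₁ i) 0).testBit k) *
      intw7_bitZ ((B.getD k 0).testBit (intw7_num D₃ j)))]

/-- soundness of the bit-matrix sum -/
theorem intw7_bitMat_add (D₁ D₂ : ChevalleyDatum) (A B : List ℕ) :
    intw7_bitMat D₁ D₂ A + intw7_bitMat D₁ D₂ B =
      intw7_bitMat D₁ D₂ (intw7_addBits (D₁.rank + D₁.nroots) A B) := by
  ext i j
  show intw7_bitZ ((A.getD (intw7_num D₁ i) 0).testBit (intw7_num D₂ j)) +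
      intw7_bitZ ((B.getD (intw7_num D₁ i) 0).testBit (intw7_num D₂ j)) =
    intw7_bitZ (((intw7_addBits (D₁.rank + D₁.nroots) A B).getD (intw7_num D₁ i) 0).testBit (intw7_num D₂ j))
  rw [intw7_addBits_getD _ A B _ (intw7_num_lt D₁ i), Nat.testBit_xor, intw7_bitZ_xor]

theorem intw7_bitMat_nil (D₁ D₂ : ChevalleyDatum) : intw7_bitMat D₁ D₂ [] = 0 := by
  ext i j
  show intw7_bitZ (((([] : List ℕ)).getD (intw7_num D₁ i) 0).testBit (intw7_num D₂ j)) = 0
  simp [intw7_bitZ]

/-! ## part 3: the polynomial identity -/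

theorem intw7_poly {n m : Type*} [Fintype n] [DecidableEq n] [Fintype m] [DecidableEq m] {F : Type*} [Field F]
    (A0 A1 A2 B0 B1 B2 : Matrix n n F) (P : Matrix n m F) (C0 C1 C2 : Matrix m m F) (t : F)
    (h0 : A0 * B0 * P = P * C0) (h1 : A1 * B0 * P + A0 * B1 * P = P * C1)
    (h2 : A2 * B0 * P + A1 * B1 * P + A0 * B2 * P = P * C2) (h3 : A2 * B1 * P + A1 * B2 * P = 0)
    (h4 : A2 * B2 * P = 0) :
    (A0 + t • A1 + t ^ 2 • A2) * (B0 + t • B1 + t ^ 2 • B2) * P = P * (C0 + t • C1 + t ^ 2 • C2) := by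
  have h3' : A2 * B1 * P = -(A1 * B2 * P) := eq_neg_of_add_eq_zero_left h3
  simp only [Matrix.add_mul, Matrix.mul_add, Matrix.smul_mul, Matrix.mul_smul, smul_add, smul_smul]
  rw [← h0, ← h1, ← h2, h3', h4]
  module


/-! ## part 4: the exponent condition, the reduction mod 2 -/

theorem intw7_hexp (D : ChevalleyDatum) (r : ℕ)
    (h : ∀ e ∈ (D.chain.getD r #[]).toList, e.2.toList.length ≤ 2) :
    ∀ s u : ℕ, ∀ km ∈ D.chainCoeff r s u, km.1 = 1 ∨ km.1 = 2 := by
  intro s u km hkm
  unfold ChevalleyDatum.chainCoeff at hkm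
  rw [List.mem_flatMap] at hkm
  obtain ⟨e, he, hkm⟩ := hkm
  rw [List.mem_map] at hkm
  obtain ⟨q, hq, rfl⟩ := hkm
  have he' := (List.mem_filter.1 he).1
  have hq' := (List.mem_filter.1 hq).1
  have h1 := List.snd_lt_of_mem_zipIdx hq'
  have h2 := h e he'
  show q.2 + 1 = 1 ∨ q.2 + 1 = 2
  omega

/-- the canonical map `𝔽₂ → F` -/
noncomputable def intw7_phi (F : Type*) [Field F] [CharP F 2] : ZMod 2 →+* F := ZMod.castHom (dvd_refl 2) F

/-- the `k`-th coefficient matrix of `x_r(t)` mod 2 -/
def intw7_Z (D : ChevalleyDatum) (r : Fin D.nroots) (k : ℕ) : Matrix D.Idx D.Idx (ZMod 2) :=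
  Matrix.of fun row col => ((intw7_xC D r k row col : ℤ) : ZMod 2)

theorem intw7_x_eq {F : Type*} [Field F] [CharP F 2] (D : ChevalleyDatum) (r : ℕ) (hr : r < D.nroots)
    (hexp : ∀ s u : ℕ, ∀ km ∈ D.chainCoeff r s u, km.1 = 1 ∨ km.1 = 2) (t : F) :
    D.x F r t = (intw7_Z D ⟨r, hr⟩ 0).map (intw7_phi F) + t • (intw7_Z D ⟨r, hr⟩ 1).map (intw7_phi F) +
      t ^ 2 • (intw7_Z D ⟨r, hr⟩ 2).map (intw7_phi F) := by
  unfold ChevalleyDatum.x
  rw [dif_pos hr]
  ext row col
  rw [intw7_xMat_entry D ⟨r, hr⟩ hexp t row col]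
  simp only [Matrix.add_apply, Matrix.smul_apply, Matrix.map_apply, intw7_Z, Matrix.of_apply, smul_eq_mul,
    map_intCast]
  ring

theorem intw7_Pm_map {F : Type*} [Field F] [CharP F 2] : Pm F = (Pm (ZMod 2)).map (intw7_phi F) := by
  ext i j
  rcases i with a | a <;> rcases j with k | s <;> simp [Pm, Matrix.map_apply, apply_ite]


theorem intw7_map_add {n m : Type*} {F : Type*} [Field F] (φ : ZMod 2 →+* F) (M N : Matrix n m (ZMod 2)) :
    (M + N).map φ = M.map φ + N.map φ := Matrix.map_add φ (map_add φ) M N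

theorem intw7_map_zero {n m : Type*} {F : Type*} [Field F] (φ : ZMod 2 →+* F) :
    (0 : Matrix n m (ZMod 2)).map φ = 0 := Matrix.map_zero φ (map_zero φ)

theorem intw7_bitMat_zero_of (D₁ D₂ : ChevalleyDatum) (L : List ℕ) (h : ∀ x ∈ L, x = 0) :
    intw7_bitMat D₁ D₂ L = 0 := by
  ext i j
  show intw7_bitZ ((L.getD (intw7_num D₁ i) 0).testBit (intw7_num D₂ j)) = 0
  have h0 : L.getD (intw7_num D₁ i) 0 = 0 := by
    rw [List.getD_eq_getElem?_getD]
    cases hx : L[intw7_num D₁ i]? with
    | none => rfl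
    | some x => exact h x (List.mem_of_getElem? hx)
  rw [h0]
  simp [intw7_bitZ]

/-! ## part 5: the data -/

def intw7_P : List ℕ := [1, 8, 2, 4, 2, 1, 16, 32, 64, 128, 2048, 128, 256, 4096, 512, 8192, 32768, 1024, 16384, 65536, 131072, 262144, 2048, 4096, 524288, 8192, 1048576, 4194304, 32768, 4194304, 33554432, 134217728, 16384, 2097152, 8388608, 16777216, 65536, 8388608, 67108864, 131072, 16777216, 262144, 137438953472, 2147483648, 274877906944, 536870912, 4294967296, 549755813888, 2147483648, 4294967296, 17179869184, 2199023255552, 268435456, 1073741824, 8589934592, 1099511627776, 8589934592, 34359738368, 4398046511104, 68719476736, 8796093022208, 17592186044416, 137438953472, 274877906944, 549755813888, 2199023255552, 35184372088832, 1099511627776, 4398046511104, 70368744177664, 8796093022208, 140737488355328, 281474976710656, 17592186044416, 281474976710656, 562949953421312, 1125899906842624, 2251799813685248]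
def intw7_A0 : List ℕ := [1, 2, 4, 8, 16, 32, 64, 128, 256, 512, 1024, 2048, 4096, 8192, 16384, 32768, 65536, 131072, 262144, 524288, 1048576, 2097152, 4194304, 8388608, 16777216, 33554432, 67108864, 134217728, 268435456, 536870912, 1073741824, 2147483648, 4294967296, 8589934592, 17179869184, 34359738368, 68719476736, 137438953472, 274877906944, 549755813888, 1099511627776, 2199023255552, 4398046511104, 8796093022208, 17592186044416, 35184372088832, 70368744177664, 140737488355328, 281474976710656, 562949953421312, 1125899906842624, 2251799813685248, 4503599627370496, 9007199254740992, 18014398509481984, 36028797018963968, 72057594037927936, 144115188075855872, 288230376151711744, 576460752303423488, 1152921504606846976, 2305843009213693952, 4611686018427387904, 9223372036854775808, 18446744073709551616, 36893488147419103232, 73786976294838206464, 147573952589676412928, 295147905179352825856, 590295810358705651712, 1180591620717411303424, 2361183241434822606848, 4722366482869645213696, 9444732965739290427392,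 18889465931478580854784, 37778931862957161709568, 75557863725914323419136, 151115727451828646838272]
def intw7_A1 : List ℕ := [0, 0, 281474976710656, 0, 0, 0, 0, 0, 2048, 4096, 8192, 0, 0, 0, 0, 0, 0, 0, 0, 0, 2097152, 0, 0, 0, 0, 268435456, 536870912, 1073741824, 0, 0, 0, 0, 68719476736, 137438953472, 274877906944, 9, 0, 0, 0, 0, 0, 0, 0, 0, 0, 562949953421312, 1125899906842624, 2251799813685248, 0, 0, 0, 0, 0, 72057594037927936, 144115188075855872, 288230376151711744, 0, 0, 0, 0, 0, 0, 9223372036854775808, 0, 0, 0, 0, 0, 0, 0, 9444732965739290427392, 18889465931478580854784, 37778931862957161709568, 0, 0, 0, 0, 0]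
def intw7_A2 : List ℕ := [0, 0, 0, 0, 0, 0, 0, 0, 0, 0, 0, 0, 0, 0, 0, 0, 0, 0, 0, 0, 0, 0, 0, 0, 0, 0, 0, 0, 0, 0, 0, 0, 0, 0, 0, 281474976710656, 0, 0, 0, 0, 0, 0, 0, 0, 0, 0, 0, 0, 0, 0, 0, 0, 0, 0, 0, 0, 0, 0, 0, 0, 0, 0, 0, 0, 0, 0, 0, 0, 0, 0, 0, 0, 0, 0, 0, 0, 0, 0]
def intw7_B0 : List ℕ := [1, 2, 4, 8, 16, 32, 64, 128, 256, 512, 1024, 2048, 4096, 8192, 16384, 32768, 65536, 131072, 262144, 524288, 1048576, 2097152, 4194304, 8388608, 16777216, 33554432, 67108864, 134217728, 268435456, 536870912, 1073741824, 2147483648, 4294967296, 8589934592, 17179869184, 34359738368, 68719476736, 137438953472, 274877906944, 549755813888, 1099511627776, 2199023255552, 4398046511104, 8796093022208, 17592186044416, 35184372088832, 70368744177664, 140737488355328, 281474976710656, 562949953421312, 1125899906842624, 2251799813685248, 4503599627370496, 9007199254740992, 18014398509481984, 36028797018963968, 72057594037927936, 144115188075855872, 288230376151711744, 576460752303423488, 1152921504606846976,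 2305843009213693952, 4611686018427387904, 9223372036854775808, 18446744073709551616, 36893488147419103232, 73786976294838206464, 147573952589676412928, 295147905179352825856, 590295810358705651712, 1180591620717411303424, 2361183241434822606848, 4722366482869645213696, 9444732965739290427392, 18889465931478580854784, 37778931862957161709568, 75557863725914323419136, 151115727451828646838272]
def intw7_B1 : List ℕ := [0, 0, 0, 0, 8796093022208, 0, 0, 0, 512, 0, 0, 4096, 0, 0, 0, 65536, 0, 0, 524288, 0, 0, 0, 8388608, 0, 0, 0, 134217728, 0, 0, 1073741824, 0, 0, 0, 17179869184, 0, 0, 0, 274877906944, 0, 2199023255552, 40, 0, 17592186044416, 0, 0, 70368744177664, 0, 0, 0, 1125899906842624, 0, 0, 0, 18014398509481984, 0, 0, 144115188075855872, 0, 0, 0, 2305843009213693952, 0, 0, 0, 36893488147419103232, 0, 0, 295147905179352825856, 0, 0, 0, 4722366482869645213696, 0, 0, 37778931862957161709568, 0, 0, 0]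
def intw7_B2 : List ℕ := [0, 0, 0, 0, 0, 0, 0, 0, 0, 0, 0, 0, 0, 0, 0, 0, 0, 0, 0, 0, 0, 0, 0, 0, 0, 0, 0, 0, 0, 0, 0, 0, 0, 0, 0, 0, 0, 0, 0, 0, 8796093022208, 0, 0, 0, 0, 0, 0, 0, 0, 0, 0, 0, 0, 0, 0, 0, 0, 0, 0, 0, 0, 0, 0, 0, 0, 0, 0, 0, 0, 0, 0, 0, 0, 0, 0, 0, 0, 0]
def intw7_C0 : List ℕ := [1, 2, 4, 8, 16, 32, 64, 128, 256, 512, 1024, 2048, 4096, 8192, 16384, 32768, 65536, 131072, 262144, 524288, 1048576, 2097152, 4194304, 8388608, 16777216, 33554432, 67108864, 134217728, 268435456, 536870912, 1073741824, 2147483648, 4294967296, 8589934592, 17179869184, 34359738368, 68719476736, 137438953472, 274877906944, 549755813888, 1099511627776, 2199023255552, 4398046511104, 8796093022208, 17592186044416, 35184372088832, 70368744177664, 140737488355328, 281474976710656, 562949953421312, 1125899906842624, 2251799813685248]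
def intw7_C1 : List ℕ := [0, 2147483648, 0, 0, 0, 0, 0, 256, 0, 0, 0, 4096, 0, 32768, 65536, 0, 0, 262144, 0, 0, 0, 0, 33554432, 67108864, 5, 0, 0, 0, 0, 0, 0, 0, 17179869184, 34359738368, 0, 0, 0, 274877906944, 0, 2199023255552, 4398046511104, 0, 0, 17592186044416, 0, 0, 0, 0, 562949953421312, 0, 0, 0]
def intw7_C2 : List ℕ := [0, 0, 0, 0, 0, 0, 256, 0, 0, 0, 0, 0, 0, 0, 0, 0, 0, 0, 0, 0, 33554432, 67108864, 0, 0, 2147483648, 0, 0, 0, 0, 17179869184, 34359738368, 0, 0, 0, 0, 0, 0, 0, 0, 0, 0, 0, 0, 0, 0, 0, 0, 562949953421312, 0, 0, 0, 0]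

theorem intw7_hexpA : ∀ s u : ℕ, ∀ km ∈ chevE6.chainCoeff 29 s u, km.1 = 1 ∨ km.1 = 2 :=
  intw7_hexp chevE6 29 (by decide +kernel)

theorem intw7_hexpB : ∀ s u : ℕ, ∀ km ∈ chevE6.chainCoeff 34 s u, km.1 = 1 ∨ km.1 = 2 :=
  intw7_hexp chevE6 34 (by decide +kernel)

theorem intw7_hexpC : ∀ s u : ℕ, ∀ km ∈ chevF4.chainCoeff 20 s u, km.1 = 1 ∨ km.1 = 2 :=
  intw7_hexp chevF4 20 (by decide +kernel)

theorem intw7_ZA0 : intw7_Z chevE6 ⟨29, by decide⟩ 0 = intw7_bitMat chevE6 chevE6 intw7_A0 := by decide +kernel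
theorem intw7_ZA1 : intw7_Z chevE6 ⟨29, by decide⟩ 1 = intw7_bitMat chevE6 chevE6 intw7_A1 := by decide +kernel
theorem intw7_ZA2 : intw7_Z chevE6 ⟨29, by decide⟩ 2 = intw7_bitMat chevE6 chevE6 intw7_A2 := by decide +kernel
theorem intw7_ZB0 : intw7_Z chevE6 ⟨34, by decide⟩ 0 = intw7_bitMat chevE6 chevE6 intw7_B0 := by decide +kernel
theorem intw7_ZB1 : intw7_Z chevE6 ⟨34, by decide⟩ 1 = intw7_bitMat chevE6 chevE6 intw7_B1 := by decide +kernel
theorem intw7_ZB2 : intw7_Z chevE6 ⟨34, by decide⟩ 2 = intw7_bitMat chevE6 chevE6 intw7_B2 := by decide +kernel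
theorem intw7_ZC0 : intw7_Z chevF4 ⟨20, by decide⟩ 0 = intw7_bitMat chevF4 chevF4 intw7_C0 := by decide +kernel
theorem intw7_ZC1 : intw7_Z chevF4 ⟨20, by decide⟩ 1 = intw7_bitMat chevF4 chevF4 intw7_C1 := by decide +kernel
theorem intw7_ZC2 : intw7_Z chevF4 ⟨20, by decide⟩ 2 = intw7_bitMat chevF4 chevF4 intw7_C2 := by decide +kernel
theorem intw7_ZP : Pm (ZMod 2) = intw7_bitMat chevE6 chevF4 intw7_P := by decide +kernel

/-- product `A * B * P` in bits -/
def intw7_abp (A B : List ℕ) : List ℕ := intw7_mulBits 78 78 (intw7_mulBits 78 78 A B) intw7_P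

theorem intw7_abp_spec (A B : List ℕ) :
    intw7_bitMat chevE6 chevE6 A * intw7_bitMat chevE6 chevE6 B * intw7_bitMat chevE6 chevF4 intw7_P =
      intw7_bitMat chevE6 chevF4 (intw7_abp A B) := by
  rw [intw7_bitMat_mul, intw7_bitMat_mul]
  rfl

theorem intw7_pc_spec (C : List ℕ) :
    intw7_bitMat chevE6 chevF4 intw7_P * intw7_bitMat chevF4 chevF4 C =
      intw7_bitMat chevE6 chevF4 (intw7_mulBits 78 52 intw7_P C) := by
  rw [intw7_bitMat_mul]
  rfl

theorem intw7_add_spec (A B : List ℕ) :
    intw7_bitMat chevE6 chevF4 A + intw7_bitMat chevE6 chevF4 B =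
      intw7_bitMat chevE6 chevF4 (intw7_addBits 78 A B) := by
  rw [intw7_bitMat_add]
  rfl

theorem intw7_h0 : intw7_abp intw7_A0 intw7_B0 = intw7_mulBits 78 52 intw7_P intw7_C0 := by decide +kernel

theorem intw7_h1 : intw7_addBits 78 (intw7_abp intw7_A1 intw7_B0) (intw7_abp intw7_A0 intw7_B1) =
    intw7_mulBits 78 52 intw7_P intw7_C1 := by decide +kernel

theorem intw7_h2 : intw7_addBits 78 (intw7_addBits 78 (intw7_abp intw7_A2 intw7_B0) (intw7_abp intw7_A1 intw7_B1))
    (intw7_abp intw7_A0 intw7_B2) = intw7_mulBits 78 52 intw7_P intw7_C2 := by decide +kernel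

theorem intw7_h3 : ∀ x ∈ intw7_addBits 78 (intw7_abp intw7_A2 intw7_B1) (intw7_abp intw7_A1 intw7_B2), x = 0 := by
  decide +kernel

theorem intw7_h4 : ∀ x ∈ intw7_abp intw7_A2 intw7_B2, x = 0 := by decide +kernel

/-- EF-INTW7. -/
theorem intw7 {F : Type*} [Field F] [CharP F 2] (t : F) :
    ((yG F 7 t : GL chevE6.Idx F) : Matrix chevE6.Idx chevE6.Idx F) * Pm F = Pm F * chevF4.x F 20 t := by
  have hb : blk.getD 7 [] = [29, 34] := rfl
  have hy : ((yG F 7 t : GL chevE6.Idx F) : Matrix chevE6.Idx chevE6.Idx F) =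
      chevE6.x F 29 t * chevE6.x F 34 t := by
    unfold yG
    rw [wordGL_coe, hb]
    simp [ChevalleyDatum.wordMat]
  rw [hy, intw7_x_eq chevE6 29 (by decide) intw7_hexpA t, intw7_x_eq chevE6 34 (by decide) intw7_hexpB t,
    intw7_x_eq chevF4 20 (by decide) intw7_hexpC t, intw7_Pm_map]
  rw [intw7_ZA0, intw7_ZA1, intw7_ZA2, intw7_ZB0, intw7_ZB1, intw7_ZB2, intw7_ZC0, intw7_ZC1, intw7_ZC2, intw7_ZP]
  apply intw7_poly
  · rw [← Matrix.map_mul, ← Matrix.map_mul, ← Matrix.map_mul, intw7_abp_spec, intw7_pc_spec, intw7_h0]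
  · rw [← Matrix.map_mul, ← Matrix.map_mul, ← Matrix.map_mul, ← Matrix.map_mul, ← Matrix.map_mul,
      ← intw7_map_add, intw7_abp_spec, intw7_abp_spec, intw7_pc_spec, intw7_add_spec, intw7_h1]
  · rw [← Matrix.map_mul, ← Matrix.map_mul, ← Matrix.map_mul, ← Matrix.map_mul, ← Matrix.map_mul,
      ← Matrix.map_mul, ← Matrix.map_mul, ← intw7_map_add, ← intw7_map_add, intw7_abp_spec, intw7_abp_spec,
      intw7_abp_spec, intw7_pc_spec, intw7_add_spec, intw7_add_spec, intw7_h2]
  · rw [← Matrix.map_mul, ← Matrix.map_mul, ← Matrix.map_mul, ← Matrix.map_mul, ← intw7_map_add,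
      intw7_abp_spec, intw7_abp_spec, intw7_add_spec, intw7_bitMat_zero_of _ _ _ intw7_h3, intw7_map_zero]
  · rw [← Matrix.map_mul, ← Matrix.map_mul, intw7_abp_spec, intw7_bitMat_zero_of _ _ _ intw7_h4, intw7_map_zero]

end Cfsg.Agent.Lib.Helper37.Ef
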