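import Mathlib
import Cfsg.Agent.Lib.Helper83.FpDefs

/-! # Fp hive (S2276, helper83): leaf FP-T2 `fix_not_ppow` (helper69) -/

set_option autoImplicit false

namespace Cfsg.Agent.Lib.Helper83.Fp

open Equiv

theorem fpt2_fixCard {α : Type*} [Fintype α] [DecidableEq α] (e : Perm α) :
    FixCard e = e.supportᶜ.card := by
  unfold FixCard
  congr 1
  ext x
  simp [Perm.mem_support]

/-- FP-T2 -/
theorem fix_not_ppow : FixStmt := by
  intro p hp m hpm e hfix
  rintro ⟨k, hk⟩
  apply hfix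
  haveI : Fact p.Prime := ⟨hp⟩
  have h1 : e ^ p ^ k = 1 := by rw [← hk]; exact pow_orderOf_eq_one e
  have h2 := Equiv.Perm.card_compl_support_modEq (p := p) h1
  rw [Fintype.card_fin] at h2
  rw [fpt2_fixCard]
  exact (Nat.modEq_zero_iff_dvd.mp (h2.trans (Nat.modEq_zero_iff_dvd.mpr hpm)))

end Cfsg.Agent.Lib.Helper83.Fp
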