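import Mathlib
import Cfsg.Prelude.Def_Transfer
import Cfsg.Agent.Lib.Helper24.RelSZ
import Cfsg.Agent.Lib.Helper55.Cores

set_option autoImplicit false

/-!
# Normal `p`-complements and subgroups of the Frattini subgroup of a Sylow subgroup (helper69)
-/

namespace Cfsg.Agent.Lib.Helper69

open Cfsg.Agent.Lib.Helper24 Cfsg.Agent.Lib.Helper33

/-- Let `P` be a Sylow `p`-subgroup of `X` and `Q ⊴ X` with `P' ≤ Q ≤ Φ(P)`.  If
`N_X(P) = C_X(P) P`, then `X` has a normal `p`-complement. -/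
theorem hasNormalPComplement_of_frattini_section {X : Type*} [Group X] [Finite X] {p : ℕ}
    [Fact p.Prime] (P : Sylow p X) (Q : Subgroup X) [hQn : Q.Normal]
    (hQP : Q ≤ (P : Subgroup X))
    (h1 : ∀ x ∈ (P : Subgroup X), ∀ y ∈ (P : Subgroup X), x * y * x⁻¹ * y⁻¹ ∈ Q)
    (h2 : Q ≤ (frattini ↥(P : Subgroup X)).map (P : Subgroup X).subtype)
    (hNC : ∀ n ∈ Subgroup.normalizer ((P : Subgroup X) : Set X),
      ∃ k ∈ Subgroup.centralizer ((P : Subgroup X) : Set X), ∃ u ∈ (P : Subgroup X), n = k * u) :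
    ∃ K : Subgroup X, K.Normal ∧ K.IsComplement' (P : Subgroup X) := by
  classical
  set π := QuotientGroup.mk' Q with hπ
  have hπs : Function.Surjective π := QuotientGroup.mk'_surjective Q
  let Pbar : Sylow p (X ⧸ Q) := P.mapSurjective hπs
  have hPbar : (Pbar : Subgroup (X ⧸ Q)) = (P : Subgroup X).map π := rfl
  have key : ∀ z : X, π z ∈ (P : Subgroup X).map π ↔ z ∈ (P : Subgroup X) := by
    intro z
    constructor
    · rintro ⟨w, hw, hwz⟩
      have h3 : w⁻¹ * z ∈ Q := QuotientGroup.eq.mp hwz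
      have h4 : z = w * (w⁻¹ * z) := by group
      rw [h4]; exact mul_mem hw (hQP h3)
    · intro hz; exact ⟨z, hz, rfl⟩
  have hB : Subgroup.normalizer ((Pbar : Subgroup (X ⧸ Q)) : Set (X ⧸ Q)) ≤
      Subgroup.centralizer ((Pbar : Subgroup (X ⧸ Q)) : Set (X ⧸ Q)) := by
    intro nbar hn
    obtain ⟨n, rfl⟩ := hπs nbar
    have hnP : n ∈ Subgroup.normalizer ((P : Subgroup X) : Set X) := by
      rw [Subgroup.mem_normalizer_iff]
      intro x
      have h3 := Subgroup.mem_normalizer_iff.mp hn (π x)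
      rw [hPbar, key, ← map_inv, ← map_mul, ← map_mul, key] at h3
      exact h3
    obtain ⟨k, hk, u, hu, rfl⟩ := hNC n hnP
    rw [Subgroup.mem_centralizer_iff]
    rintro _ ⟨x, hx, rfl⟩
    have h3 : u * x * u⁻¹ ∈ (P : Subgroup X) := mul_mem (mul_mem hu hx) (inv_mem hu)
    have h4 : k * (u * x * u⁻¹) * k⁻¹ = u * x * u⁻¹ := by
      have := hk (u * x * u⁻¹) h3
      rw [← this]; group
    have h5 : (k * u) * x * (k * u)⁻¹ = u * x * u⁻¹ := by
      rw [← h4]; group
    have h6 : π (u * x * u⁻¹) = π x := by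
      have : (u * x * u⁻¹)⁻¹ * x ∈ Q := by
        have h7 := h1 u hu x hx
        have h8 : (u * x * u⁻¹)⁻¹ * x = (x⁻¹ * (u * x * u⁻¹ * x⁻¹) * x)⁻¹ := by group
        rw [h8]
        exact inv_mem (by
          have := hQn.conj_mem _ h7 x⁻¹
          simpa using this)
      exact QuotientGroup.eq.mpr this
    have h7 : π (k * u) * π x * (π (k * u))⁻¹ = π x := by
      rw [← map_inv, ← map_mul, ← map_mul, h5, h6]
    calc π x * π (k * u) = (π (k * u) * π x * (π (k * u))⁻¹) * π (k * u) := by rw [h7]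
      _ = π (k * u) * π x := by group
  set Lbar : Subgroup (X ⧸ Q) := (MonoidHom.transferSylow Pbar hB).ker with hLbar
  have hLcompl : Lbar.IsComplement' (Pbar : Subgroup (X ⧸ Q)) :=
    MonoidHom.ker_transferSylow_isComplement' Pbar hB
  have hLcard : ¬ p ∣ Nat.card Lbar := MonoidHom.not_dvd_card_ker_transferSylow Pbar hB
  set L : Subgroup X := Lbar.comap π with hL
  have hLn : L.Normal := Subgroup.Normal.comap inferInstance π
  have hQL : Q ≤ L := Cfsg.Agent.Lib.Helper55.le_comap_mk' Q Lbar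
  have hcardL : Nat.card L = Nat.card Q * Nat.card Lbar :=
    Cfsg.Agent.Lib.Helper55.card_comap_mk' Q Lbar
  have hQp : IsPGroup p Q := P.2.to_le hQP
  obtain ⟨a, ha⟩ := IsPGroup.iff_card.mp hQp
  have hcopLbar : (Nat.card Lbar).Coprime p :=
    ((Nat.Prime.coprime_iff_not_dvd Fact.out).mpr hLcard).symm
  have hrel : Q.relIndex L = Nat.card Lbar := by
    have := Cfsg.Agent.Lib.Helper55.card_mul_relIndex_eq hQL
    rw [hcardL] at this
    exact Nat.eq_of_mul_eq_mul_left Nat.card_pos this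
  have hnormQ : Subgroup.normalizer (Q : Set X) = ⊤ := Subgroup.normalizer_eq_top_iff.mpr hQn
  obtain ⟨K₁, hK₁L, hK₁card, hK₁Q, hK₁sup⟩ := rel_sz_exists Q L hQL (by rw [hnormQ]; exact le_top)
    (by rw [hrel, ha]; exact (Nat.Coprime.pow_left a hcopLbar.symm))
  rw [hrel] at hK₁card
  have hsolvQ : Group.IsSolvable Q := by
    have : Group.IsNilpotent Q := hQp.isNilpotent
    infer_instance
  have hcopK₁Q : (Nat.card K₁).Coprime (Nat.card Q) := by
    rw [hK₁card, ha]; exact Nat.Coprime.pow_right a hcopLbar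
  -- Frattini argument
  have hfrat : ∀ h : X, ∃ n ∈ Q, ∃ m ∈ Subgroup.normalizer (K₁ : Set X), h = n * m := by
    intro h
    have h₂ : cj h K₁ ≤ K₁ ⊔ Q := by
      rw [hK₁sup]
      intro z hz
      rw [mem_cj] at hz
      have hz' := hK₁L hz
      have : z = h * (h⁻¹ * z * h) * h⁻¹ := by group
      rw [this]
      exact hLn.conj_mem _ hz' h
    have hcard : Nat.card (cj h K₁) = Nat.card K₁ := by
      rw [cj_def]; exact Subgroup.card_map_of_injective (MulAut.conj h).injective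
    obtain ⟨n, hn, hnK⟩ := rel_sz_conj Q K₁ (cj h K₁) (by rw [hnormQ]; exact le_top) hcopK₁Q
      (Or.inl hsolvQ) h₂ hcard
    refine ⟨n, hn, n⁻¹ * h, ?_, by group⟩
    rw [← cj_eq_self_iff, cj_mul, ← hnK, cj_inv_cj]
  -- P normalizes K₁
  have hPM : (P : Subgroup X) ≤ Subgroup.normalizer (K₁ : Set X) := by
    rw [← Subgroup.subgroupOf_eq_top]
    apply frattini_nongenerating
    rw [eq_top_iff]
    intro x _
    obtain ⟨n, hn, m, hm, hx⟩ := hfrat (x : X)
    obtain ⟨f, hf, hfn⟩ := h2 hn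
    have hnP : n ∈ (P : Subgroup X) := hQP hn
    have hmP : m ∈ (P : Subgroup X) := by
      have : m = n⁻¹ * (x : X) := by rw [hx]; group
      rw [this]; exact mul_mem (inv_mem hnP) x.2
    have hxe : x = f * ⟨m, hmP⟩ := by
      apply Subtype.ext
      rw [Subgroup.coe_mul]
      change (x : X) = (P : Subgroup X).subtype f * m
      rw [hfn, hx]
    rw [hxe]
    exact Subgroup.mul_mem_sup hf (Subgroup.mem_subgroupOf.mpr hm) |> fun h => by
      rw [sup_comm]; exact h
  have hK₁n : K₁.Normal := by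
    rw [← Subgroup.normalizer_eq_top_iff, eq_top_iff]
    intro h _
    obtain ⟨n, hn, m, hm, rfl⟩ := hfrat h
    exact mul_mem (hPM (hQP hn)) hm
  refine ⟨K₁, hK₁n, ?_⟩
  have hPcomap : (P : Subgroup X) = (Pbar : Subgroup (X ⧸ Q)).comap π := by
    ext z
    rw [Subgroup.mem_comap, hPbar, key]
  have hcardP : Nat.card (P : Subgroup X) = Nat.card Q * Nat.card (Pbar : Subgroup (X ⧸ Q)) := by
    rw [hPcomap]
    exact Cfsg.Agent.Lib.Helper55.card_comap_mk' Q _
  apply Subgroup.isComplement'_of_coprime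
  · rw [hK₁card, hcardP]
    have e1 := hLcompl.card_mul_card
    have e2 := Subgroup.card_eq_card_quotient_mul_card_subgroup Q
    rw [e2, ← e1]; ring
  · rw [hK₁card]
    obtain ⟨b, hb⟩ := IsPGroup.iff_card.mp P.2
    rw [hb]; exact Nat.Coprime.pow_right b hcopLbar

end Cfsg.Agent.Lib.Helper69
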