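import Mathlib

set_option autoImplicit false

/-! Free generation of a module by translates of a subspace: basic predicate and combinators. -/

namespace Cfsg.Agent.Lib.Helper69.FrobFree

open scoped BigOperators

section Basic

variable {k : Type*} [Field k] {V : Type*} [AddCommGroup V] [Module k V]
variable {G : Type*} [Group G] [Fintype G]

/-- `V₁` is the internal direct sum of the translates `σ g W`, `g ∈ G` (elementwise form). -/
structure IsFreeOn (σ : G →* Module.End k V) (W V₁ : Submodule k V) : Prop where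
  indep : ∀ v : G → V, (∀ g, v g ∈ W) → ∑ g, σ g (v g) = 0 → ∀ g, v g = 0
  span : ∀ x ∈ V₁, ∃ v : G → V, (∀ g, v g ∈ W) ∧ ∑ g, σ g (v g) = x
  mem : ∀ g, ∀ w ∈ W, σ g w ∈ V₁

theorem isFreeOn_bot (σ : G →* Module.End k V) : IsFreeOn σ ⊥ ⊥ := by
  refine ⟨fun v hv _ g => by simpa using hv g, fun x hx => ⟨fun _ => 0, fun _ => by simp, ?_⟩,
    fun g w hw => ?_⟩
  · rw [Submodule.mem_bot] at hx
    simp [hx]
  · rw [Submodule.mem_bot] at hw
    simp [hw]

theorem IsFreeOn.map {V' : Type*} [AddCommGroup V'] [Module k V'] (ι : V' →ₗ[k] V)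
    (hι : Function.Injective ι)
    (σ' : G →* Module.End k V') (σ : G →* Module.End k V)
    (hσ : ∀ g x, ι (σ' g x) = σ g (ι x))
    {W' V₁' : Submodule k V'} (h : IsFreeOn σ' W' V₁') :
    IsFreeOn σ (W'.map ι) (V₁'.map ι) := by
  refine ⟨?_, ?_, ?_⟩
  · intro v hv hsum
    have hv' : ∀ g, ∃ w ∈ W', ι w = v g := fun g => Submodule.mem_map.mp (hv g)
    choose w hw hwv using hv'
    have h0 : ∑ g, σ' g (w g) = 0 := by
      apply hι
      rw [map_sum, map_zero, ← hsum]
      exact Finset.sum_congr rfl fun g _ => by rw [hσ, hwv]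
    intro g
    rw [← hwv g, h.indep w hw h0 g, map_zero]
  · intro x hx
    obtain ⟨x', hx', rfl⟩ := Submodule.mem_map.mp hx
    obtain ⟨v, hv, hsum⟩ := h.span x' hx'
    refine ⟨fun g => ι (v g), fun g => Submodule.mem_map_of_mem (hv g), ?_⟩
    rw [← hsum, map_sum]
    exact Finset.sum_congr rfl fun g _ => (hσ g (v g)).symm
  · intro g w hw
    obtain ⟨w', hw', rfl⟩ := Submodule.mem_map.mp hw
    rw [← hσ]
    exact Submodule.mem_map_of_mem (h.mem g w' hw')

theorem IsFreeOn.extend (σ : G →* Module.End k V) (V₁ : Submodule k V)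
    (σq : G →* Module.End k (V ⧸ V₁)) (hσq : ∀ g x, σq g (V₁.mkQ x) = V₁.mkQ (σ g x))
    {W₁ : Submodule k V} (h₁ : IsFreeOn σ W₁ V₁) {W₂ : Submodule k (V ⧸ V₁)}
    (h₂ : IsFreeOn σq W₂ ⊤) :
    ∃ W, IsFreeOn σ W ⊤ := by
  obtain ⟨s, hs⟩ := LinearMap.exists_rightInverse_of_surjective V₁.mkQ (Submodule.range_mkQ V₁)
  have hs' : ∀ c, V₁.mkQ (s c) = c := fun c => by
    have := congrArg (fun f => f c) hs
    simpa using this
  refine ⟨W₁ ⊔ W₂.map s, ?_, ?_, fun _ _ _ => Submodule.mem_top⟩
  · intro v hv hsum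
    have hv' : ∀ g, ∃ a ∈ W₁, ∃ c ∈ W₂, a + s c = v g := by
      intro g
      obtain ⟨a, ha, b, hb, hab⟩ := Submodule.mem_sup.mp (hv g)
      obtain ⟨c, hc, rfl⟩ := Submodule.mem_map.mp hb
      exact ⟨a, ha, c, hc, hab⟩
    choose a ha c hc hac using hv'
    have hA : ∑ g, σ g (a g) ∈ V₁ := Submodule.sum_mem _ fun g _ => h₁.mem g _ (ha g)
    have hsum' : ∑ g, σ g (a g) + ∑ g, σ g (s (c g)) = 0 := by
      rw [← Finset.sum_add_distrib, ← hsum]
      exact Finset.sum_congr rfl fun g _ => by rw [← map_add, hac]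
    have hC : ∑ g, σq g (c g) = 0 := by
      have h3 := congrArg V₁.mkQ hsum'
      rw [map_add, map_zero, Submodule.mkQ_apply,
        (Submodule.Quotient.mk_eq_zero V₁).mpr hA, zero_add, map_sum] at h3
      rw [← h3]
      exact Finset.sum_congr rfl fun g _ => by rw [← hσq, hs']
    have hc0 := h₂.indep c hc hC
    have hA0 : ∑ g, σ g (a g) = 0 := by
      rw [← hsum']
      simp [hc0]
    have ha0 := h₁.indep a ha hA0
    intro g
    rw [← hac g, ha0 g, hc0 g, map_zero, add_zero]
  · intro x _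
    obtain ⟨c, hc, hcx⟩ := h₂.span (V₁.mkQ x) Submodule.mem_top
    have hy : x - ∑ g, σ g (s (c g)) ∈ V₁ := by
      rw [← Submodule.Quotient.mk_eq_zero V₁, ← Submodule.mkQ_apply, map_sub, map_sum, ← hcx,
        sub_eq_zero]
      exact Finset.sum_congr rfl fun g _ => by rw [← hσq, hs']
    obtain ⟨a, ha, hax⟩ := h₁.span _ hy
    refine ⟨fun g => a g + s (c g),
      fun g => Submodule.add_mem_sup (ha g) (Submodule.mem_map_of_mem (hc g)), ?_⟩
    simp only [map_add, Finset.sum_add_distrib, hax]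
    abel

end Basic

section Induce

variable {k : Type*} [Field k] {V : Type*} [AddCommGroup V] [Module k V]
variable {G : Type*} [Group G] [Fintype G]

/-- Sum over the group, decomposed along a left transversal. -/
theorem sum_eq_sum_transversal {M : Type*} [AddCommMonoid M] (G₁ : Subgroup G) [Fintype G₁]
    (S : Set G) [Fintype S] (hS : Subgroup.IsComplement S (G₁ : Set G)) (f : G → M) :
    ∑ g, f g = ∑ s : S, ∑ h : G₁, f ((s : G) * (h : G)) := by
  rw [← Fintype.sum_prod_type' (f := fun (s : S) (h : G₁) => f ((s : G) * (h : G)))]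
  exact (Fintype.sum_equiv (Equiv.ofBijective _ hS) _ _ (fun _ => rfl)).symm

theorem IsFreeOn.induce (σ : G →* Module.End k V) (G₁ : Subgroup G) [Fintype G₁] (S : Set G)
    [Fintype S] (hS : Subgroup.IsComplement S (G₁ : Set G)) (W U : Submodule k V)
    (hU : IsFreeOn (σ.comp G₁.subtype) W U)
    (hind : ∀ u : S → V, (∀ s, u s ∈ U) → ∑ s : S, σ (s : G) (u s) = 0 → ∀ s, u s = 0) :
    IsFreeOn σ W (⨆ s : S, U.map (σ (s : G))) := by
  classical
  refine ⟨?_, ?_, ?_⟩
  · intro v hv hsum
    rw [sum_eq_sum_transversal G₁ S hS] at hsum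
    have h1 : ∀ s : S, ∑ h : G₁, σ ((s : G) * (h : G)) (v ((s : G) * (h : G)))
        = σ (s : G) (∑ h : G₁, (σ.comp G₁.subtype) h (v ((s : G) * (h : G)))) := by
      intro s
      rw [map_sum]
      exact Finset.sum_congr rfl fun h _ => by
        rw [map_mul]; rfl
    have h2 : ∀ s : S, ∑ h : G₁, (σ.comp G₁.subtype) h (v ((s : G) * (h : G))) ∈ U :=
      fun s => Submodule.sum_mem _ fun h _ => hU.mem h _ (hv _)
    have h3 := hind (fun s => ∑ h : G₁, (σ.comp G₁.subtype) h (v ((s : G) * (h : G)))) h2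
      (by rw [← hsum]; exact Finset.sum_congr rfl fun s _ => (h1 s).symm)
    intro g
    obtain ⟨⟨s, h⟩, hg, -⟩ := hS.existsUnique g
    have := hU.indep (fun h => v ((s : G) * (h : G))) (fun h => hv _) (h3 s) h
    simp only at hg this
    rw [← hg]
    exact this
  · intro x hx
    have key : ∀ x ∈ (⨆ s : S, U.map (σ (s : G))), ∃ u : S → V, (∀ s, u s ∈ U) ∧
        ∑ s : S, σ (s : G) (u s) = x := by
      intro x hx
      induction hx using Submodule.iSup_induction' with
      | mem s y hy =>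
        obtain ⟨u0, hu0, rfl⟩ := Submodule.mem_map.mp hy
        refine ⟨fun s' => if s' = s then u0 else 0, fun s' => ?_, ?_⟩
        · by_cases h : s' = s
          · simp [h, hu0]
          · simp [h]
        · rw [Finset.sum_eq_single s]
          · simp
          · intro b _ hb
            simp [hb]
          · intro h
            exact absurd (Finset.mem_univ s) h
      | zero => exact ⟨fun _ => 0, fun _ => U.zero_mem, by simp⟩
      | add y z _ _ ihy ihz =>
        obtain ⟨u1, hu1, h1⟩ := ihy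
        obtain ⟨u2, hu2, h2⟩ := ihz
        refine ⟨fun s => u1 s + u2 s, fun s => U.add_mem (hu1 s) (hu2 s), ?_⟩
        simp only [map_add, Finset.sum_add_distrib, h1, h2]
    obtain ⟨u, hu, hux⟩ := key x hx
    have hw : ∀ s : S, ∃ w : G₁ → V, (∀ h, w h ∈ W) ∧
        ∑ h : G₁, (σ.comp G₁.subtype) h (w h) = u s := fun s => hU.span _ (hu s)
    choose w hwW hwsum using hw
    let e : S × G₁ ≃ G := Equiv.ofBijective _ hS
    have he : ∀ (s : S) (h : G₁), e.symm ((s : G) * (h : G)) = (s, h) := by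
      intro s h
      rw [Equiv.symm_apply_eq]
      rfl
    refine ⟨fun g => w (e.symm g).1 (e.symm g).2, fun g => hwW _ _, ?_⟩
    rw [sum_eq_sum_transversal G₁ S hS, ← hux]
    refine Finset.sum_congr rfl fun s _ => ?_
    rw [← hwsum s, map_sum]
    refine Finset.sum_congr rfl fun h _ => ?_
    simp only [he]
    rw [map_mul]
    rfl
  · intro g w hw
    obtain ⟨⟨s, h⟩, hg, -⟩ := hS.existsUnique g
    simp only at hg
    rw [← hg, map_mul]
    have h1 : (σ.comp G₁.subtype) h w ∈ U := hU.mem h w hw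
    exact Submodule.mem_iSup_of_mem s (Submodule.mem_map_of_mem h1)

/-- Conversion to an internal direct sum. -/
theorem IsFreeOn.isInternal [DecidableEq G] (σ : G →* Module.End k V) {W : Submodule k V}
    (h : IsFreeOn σ W ⊤) : DirectSum.IsInternal (fun g : G => W.map (σ g)) := by
  rw [DirectSum.isInternal_submodule_iff_iSupIndep_and_iSup_eq_top]
  constructor
  · rw [iSupIndep_iff_finsetSum_eq_zero_imp_eq_zero]
    intro s v hv hsum i hi
    have hv' : ∀ g, ∃ w ∈ W, σ g w = (if g ∈ s then v g else 0) := by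
      intro g
      by_cases hg : g ∈ s
      · obtain ⟨w, hw, hwv⟩ := Submodule.mem_map.mp (hv g hg)
        exact ⟨w, hw, by simp [hg, hwv]⟩
      · exact ⟨0, W.zero_mem, by simp [hg]⟩
    choose w hw hwv using hv'
    have h0 : ∑ g, σ g (w g) = 0 := by
      rw [← hsum, ← Finset.sum_filter_add_sum_filter_not Finset.univ (· ∈ s)]
      have h1 : ∑ g ∈ Finset.univ.filter (· ∈ s), σ g (w g) = ∑ g ∈ s, v g := by
        have : Finset.univ.filter (· ∈ s) = s := by ext; simp
        rw [this]
        exact Finset.sum_congr rfl fun g hg => by rw [hwv, if_pos hg]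
      have h2 : ∑ g ∈ Finset.univ.filter (fun g => ¬ g ∈ s), σ g (w g) = 0 := by
        apply Finset.sum_eq_zero
        intro g hg
        rw [Finset.mem_filter] at hg
        rw [hwv, if_neg hg.2]
      rw [h1, h2, add_zero]
    have := h.indep w hw h0 i
    have h3 := hwv i
    rw [if_pos hi, this, map_zero] at h3
    exact h3.symm
  · rw [eq_top_iff]
    intro x _
    obtain ⟨v, hv, hsum⟩ := h.span x Submodule.mem_top
    rw [← hsum]
    exact Submodule.sum_mem _ fun g _ =>
      Submodule.mem_iSup_of_mem g (Submodule.mem_map_of_mem (hv g))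

end Induce

end Cfsg.Agent.Lib.Helper69.FrobFree
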