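import Mathlib

set_option autoImplicit false

/-! A conjugation-invariant coset of a subgroup of order prime to `q` contains an element
commuting with a given element of order `q`. -/

namespace Cfsg.Agent.Lib.Helper69.FrobFree

theorem exists_commuting_in_coset {A : Type*} [Group A] [Finite A] (M : Subgroup A) (n g : A)
    (q : ℕ) [Fact q.Prime] (hq : orderOf g = q) (hM : ¬ q ∣ Nat.card M)
    (hcl : ∀ y, n⁻¹ * y ∈ M → n⁻¹ * (g * y * g⁻¹) ∈ M)
    (hcl' : ∀ y, n⁻¹ * y ∈ M → n⁻¹ * (g⁻¹ * y * g) ∈ M) :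
    ∃ y, n⁻¹ * y ∈ M ∧ g * y = y * g := by
  classical
  haveI : Fintype A := Fintype.ofFinite A
  let X := {y : A // n⁻¹ * y ∈ M}
  let π : Equiv.Perm X :=
    { toFun := fun y => ⟨g * y.1 * g⁻¹, hcl y.1 y.2⟩
      invFun := fun y => ⟨g⁻¹ * y.1 * g, hcl' y.1 y.2⟩
      left_inv := fun y => Subtype.ext (by simp [mul_assoc])
      right_inv := fun y => Subtype.ext (by simp [mul_assoc]) }
  have hpow : ∀ (j : ℕ) (y : X), (((π ^ j) y : X) : A) = g ^ j * y.1 * (g ^ j)⁻¹ := by
    intro j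
    induction j with
    | zero => intro y; simp
    | succ j ih =>
      intro y
      rw [pow_succ, Equiv.Perm.mul_apply, ih]
      show g ^ j * (g * y.1 * g⁻¹) * (g ^ j)⁻¹ = g ^ (j + 1) * y.1 * (g ^ (j + 1))⁻¹
      rw [pow_succ, mul_inv_rev]
      simp only [mul_assoc]
  have hπ : π ^ q ^ 1 = 1 := by
    ext y
    rw [pow_one, hpow, ← hq, pow_orderOf_eq_one]
    simp
  have hcard : Fintype.card X = Nat.card M := by
    rw [← Nat.card_eq_fintype_card]
    apply Nat.card_congr
    exact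
      { toFun := fun y => ⟨n⁻¹ * y.1, y.2⟩
        invFun := fun m => ⟨n * m.1, by simp⟩
        left_inv := fun y => Subtype.ext (by simp)
        right_inv := fun m => Subtype.ext (by simp) }
  have hX : ¬ q ∣ Fintype.card X := by rwa [hcard]
  obtain ⟨y, hy⟩ := Equiv.Perm.exists_fixed_point_of_prime hX hπ
  refine ⟨y.1, y.2, ?_⟩
  have := congrArg Subtype.val hy
  have h2 : g * y.1 * g⁻¹ = y.1 := this
  calc g * y.1 = g * y.1 * g⁻¹ * g := by group
    _ = y.1 * g := by rw [h2]

end Cfsg.Agent.Lib.Helper69.FrobFree
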