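import Mathlib

set_option autoImplicit false

/-! Galois descent with a normal basis: a vector space over a field `Z` with a semilinear action
of a finite group `G` acting faithfully on `Z` is freely generated over the group by a subspace. -/

namespace Cfsg.Agent.Lib.Helper69.FrobFree

open scoped BigOperators

section MatAct

variable {Z : Type*} [CommRing Z] {U : Type*} [AddCommGroup U] [Module Z U]
variable {G : Type*} [Fintype G]

/-- Action of a matrix on a vector with entries in a module. -/
def matAct (B : Matrix G G Z) (x : G → U) : G → U := fun i => ∑ j, B i j • x j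

theorem matAct_mul (A B : Matrix G G Z) (x : G → U) :
    matAct (A * B) x = matAct A (matAct B x) := by
  funext i
  simp only [matAct, Matrix.mul_apply, Finset.sum_smul, Finset.smul_sum, mul_smul]
  rw [Finset.sum_comm]

theorem matAct_one [DecidableEq G] (x : G → U) : matAct (1 : Matrix G G Z) x = x := by
  funext i
  simp [matAct, Matrix.one_apply, ite_smul]

end MatAct

section Galois

variable {k : Type*} [Field k] {Z : Type*} [Field Z] [Algebra k Z]
variable {U : Type*} [AddCommGroup U] [Module k U] [Module Z U] [IsScalarTower k Z U]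
variable {G : Type*} [Group G] [Fintype G] [MulSemiringAction G Z] [FaithfulSMul G Z]

theorem galois_free (σ : G →* Module.End k U)
    (hσ : ∀ (g : G) (z : Z) (u : U), σ g (z • u) = (g • z) • σ g u) :
    ∃ W : Submodule k U,
      (∀ w : G → U, (∀ g, w g ∈ W) → ∑ g, σ g (w g) = 0 → ∀ g, w g = 0) ∧
      (∀ u : U, ∃ w : G → U, (∀ g, w g ∈ W) ∧ ∑ g, σ g (w g) = u) := by
  classical
  let L := FixedPoints.subfield G Z
  let e : G ≃* (Z ≃ₐ[L] Z) := FixedPoints.toAlgAutMulEquiv G Z
  let b0 := IsGalois.normalBasis L Z
  let b : Module.Basis G L Z := b0.reindex e.symm.toEquiv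
  let θ : Z := b0 1
  have hb : ∀ g : G, b g = g • θ := by
    intro g
    have h1 : b g = b0 (e g) := by
      simp [b]
    rw [h1, IsGalois.normalBasis_apply]
    rfl
  have hL : ∀ (l : L) (g : G), g • (l : Z) = (l : Z) := fun l g => l.2 g
  -- expansion of elements
  have hexp : ∀ z : Z, z = ∑ g, ((b.repr z g : L) : Z) * (g • θ) := by
    intro z
    conv_lhs => rw [← b.sum_repr z]
    refine Finset.sum_congr rfl fun g _ => ?_
    rw [hb g]
    rfl
  -- Dedekind
  have hM : ∀ c : G → Z, (∀ g, ∑ h, c h * ((h * g) • θ) = 0) → ∀ h, c h = 0 := by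
    intro c hc
    have hz : ∀ z : Z, ∑ h, c h * (h • z) = 0 := by
      intro z
      have h1 : ∀ h : G, h • z = ∑ g, ((b.repr z g : L) : Z) * ((h * g) • θ) := by
        intro h
        conv_lhs => rw [hexp z]
        rw [Finset.smul_sum]
        refine Finset.sum_congr rfl fun g _ => ?_
        rw [smul_mul', hL, mul_smul]
      calc ∑ h, c h * (h • z)
          = ∑ h, ∑ g, ((b.repr z g : L) : Z) * (c h * ((h * g) • θ)) := by
            refine Finset.sum_congr rfl fun h _ => ?_
            rw [h1 h, Finset.mul_sum]
            refine Finset.sum_congr rfl fun g _ => ?_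
            ring
        _ = ∑ g, ((b.repr z g : L) : Z) * ∑ h, c h * ((h * g) • θ) := by
            rw [Finset.sum_comm]
            refine Finset.sum_congr rfl fun g _ => ?_
            rw [Finset.mul_sum]
        _ = 0 := by
            apply Finset.sum_eq_zero
            intro g _
            rw [hc g, mul_zero]
    let φ : G → (Z →* Z) := fun g => MulDistribMulAction.toMonoidHom Z g
    have hφ : Function.Injective φ := by
      intro g₁ g₂ h
      apply eq_of_smul_eq_smul (α := Z)
      intro z
      have := congrArg (fun f : Z →* Z => f z) h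
      simpa [φ] using this
    have hli := (linearIndependent_monoidHom Z Z).comp φ hφ
    rw [Fintype.linearIndependent_iff] at hli
    apply hli c
    funext z
    simp only [Function.comp_apply, Finset.sum_apply, Pi.smul_apply, smul_eq_mul, Pi.zero_apply]
    exact hz z
  let M : Matrix G G Z := fun h g => (h * g) • θ
  have hMunit : IsUnit M := by
    rw [← Matrix.vecMul_injective_iff_isUnit]
    intro c c' hcc
    have hcc' : Matrix.vecMul c M = Matrix.vecMul c' M := hcc
    have h0 : Matrix.vecMul (c - c') M = 0 := by
      rw [Matrix.sub_vecMul, hcc', sub_self]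
    have h1 : ∀ h, (c - c') h = 0 := by
      apply hM
      intro g
      have := congrFun h0 g
      simpa [Matrix.vecMul, dotProduct, M] using this
    funext h
    have := h1 h
    rwa [Pi.sub_apply, sub_eq_zero] at this
  have hdet : IsUnit M.det := (Matrix.isUnit_iff_isUnit_det M).mp hMunit
  have hinv1 : M⁻¹ * M = 1 := Matrix.nonsing_inv_mul M hdet
  have hinv2 : M * M⁻¹ = 1 := Matrix.mul_nonsing_inv M hdet
  -- fixed points
  let U₀ : Submodule k U :=
    { carrier := {u | ∀ g, σ g u = u}
      add_mem' := fun {a b} ha hb g => by rw [map_add, ha g, hb g]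
      zero_mem' := fun g => map_zero _
      smul_mem' := fun c u hu g => by rw [map_smul, hu g] }
  have hU₀ : ∀ u, u ∈ U₀ ↔ ∀ g, σ g u = u := fun u => Iff.rfl
  have hU₀L : ∀ (l : L) (u : U), u ∈ U₀ → ((l : Z) • u) ∈ U₀ := by
    intro l u hu g
    rw [hσ, hL, hu g]
  let mθ : U →ₗ[k] U :=
    { toFun := fun u => θ • u
      map_add' := smul_add θ
      map_smul' := fun c u => smul_comm θ c u }
  have hmθ : ∀ u, mθ u = θ • u := fun u => rfl
  have hσθ : ∀ g u, u ∈ U₀ → σ g (θ • u) = (g • θ) • u := by
    intro g u hu
    rw [hσ, hu g]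
  refine ⟨U₀.map mθ, ?_, ?_⟩
  · intro w hw hsum
    have hw' : ∀ g, ∃ u ∈ U₀, θ • u = w g := fun g => by
      obtain ⟨u, hu, h⟩ := Submodule.mem_map.mp (hw g)
      exact ⟨u, hu, h⟩
    choose u hu huw using hw'
    have h1 : ∑ g, (g • θ) • u g = 0 := by
      rw [← hsum]
      exact Finset.sum_congr rfl fun g _ => by rw [← huw g, hσθ g _ (hu g)]
    have h2 : matAct M u = 0 := by
      funext h
      have := congrArg (σ h) h1
      rw [map_sum, map_zero] at this
      rw [Pi.zero_apply, ← this]
      simp only [matAct, M]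
      refine Finset.sum_congr rfl fun g _ => ?_
      rw [hσ, hu g h, mul_smul]
    have h3 : u = 0 := by
      rw [← matAct_one (Z := Z) u, ← hinv1, matAct_mul, h2]
      funext i
      simp [matAct]
    intro g
    rw [← huw g, h3, Pi.zero_apply, smul_zero]
  · intro u
    -- traces
    let t : G → U := fun j => ∑ h, σ h ((j • θ) • u)
    have ht : ∀ j, t j ∈ U₀ := by
      intro j g
      simp only [t]
      rw [map_sum]
      have : ∀ h, σ g (σ h ((j • θ) • u)) = σ (g * h) ((j • θ) • u) := fun h => by
        rw [map_mul]; rfl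
      simp_rw [this]
      exact Fintype.sum_equiv (Equiv.mulLeft g) _ _ (fun h => rfl)
    have ht' : t = matAct M.transpose (fun h => σ h u) := by
      funext j
      show ∑ h, σ h ((j • θ) • u) = ∑ h, M.transpose j h • σ h u
      refine Finset.sum_congr rfl fun h _ => ?_
      rw [Matrix.transpose_apply, hσ]
      show (h • j • θ) • σ h u = ((h * j) • θ) • σ h u
      rw [mul_smul]
    have hx : (fun h => σ h u) = matAct (M⁻¹).transpose t := by
      rw [ht', ← matAct_mul, ← Matrix.transpose_mul, hinv2, Matrix.transpose_one, matAct_one]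
    have hu1 : u = ∑ j, (M⁻¹ j 1) • t j := by
      have := congrFun hx 1
      simpa [matAct] using this
    let l : G → G → L := fun j g => b.repr (M⁻¹ j 1) g
    let u' : G → U := fun g => ∑ j, ((l j g : L) : Z) • t j
    have hu' : ∀ g, u' g ∈ U₀ := fun g =>
      Submodule.sum_mem _ fun j _ => hU₀L _ _ (ht j)
    refine ⟨fun g => mθ (u' g), fun g => Submodule.mem_map_of_mem (hu' g), ?_⟩
    have h4 : ∀ g, σ g (mθ (u' g)) = (g • θ) • u' g := fun g => by
      rw [hmθ, hσθ g _ (hu' g)]
    simp_rw [h4]
    conv_rhs => rw [hu1]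
    simp only [u', Finset.smul_sum]
    rw [Finset.sum_comm]
    refine Finset.sum_congr rfl fun j _ => ?_
    conv_rhs => rw [hexp (M⁻¹ j 1), Finset.sum_smul]
    refine Finset.sum_congr rfl fun g _ => ?_
    rw [smul_smul, mul_comm]

end Galois

end Cfsg.Agent.Lib.Helper69.FrobFree
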