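import Mathlib
import Cfsg.Agent.Lib.Helper69.FrobFreeGalois

set_option autoImplicit false

namespace Cfsg.Agent.Lib.Helper69.FrobFree

open scoped BigOperators

theorem galois_free' {k : Type*} [Field k] {U : Type*} [AddCommGroup U] [Module k U] [Nontrivial U]
    (Z : Subalgebra k (Module.End k U))
    (hc : ∀ a ∈ Z, ∀ b ∈ Z, a * b = b * a)
    (hinv : ∀ a ∈ Z, a ≠ 0 → ∃ b ∈ Z, b * a = 1)
    {G : Type*} [Group G] [Fintype G] (σ : G →* Module.End k U)
    (hconj : ∀ g, ∀ z ∈ Z, σ g * z * σ g⁻¹ ∈ Z)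
    (hfaith : ∀ g, (∀ z ∈ Z, σ g * z = z * σ g) → g = 1) :
    ∃ W : Submodule k U,
      (∀ w : G → U, (∀ g, w g ∈ W) → ∑ g, σ g (w g) = 0 → ∀ g, w g = 0) ∧
      (∀ u : U, ∃ w : G → U, (∀ g, w g ∈ W) ∧ ∑ g, σ g (w g) = u) := by
  letI : CommRing Z :=
    { (inferInstance : Ring Z) with mul_comm := fun a b => Subtype.ext (hc a a.2 b b.2) }
  have h01 : (0 : Z) ≠ 1 := by
    intro h
    have := congrArg Subtype.val h
    exact zero_ne_one this
  have hF : IsField Z :=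
    { exists_pair_ne := ⟨0, 1, h01⟩
      mul_comm := mul_comm
      mul_inv_cancel := fun {a} ha => by
        have ha' : (a : Module.End k U) ≠ 0 := fun h => ha (Subtype.ext h)
        obtain ⟨b, hb, hba⟩ := hinv a a.2 ha'
        exact ⟨⟨b, hb⟩, by rw [mul_comm]; exact Subtype.ext hba⟩ }
  letI : Field Z := hF.toField
  have hσinv : ∀ g, σ g * σ g⁻¹ = 1 := fun g => by rw [← map_mul, mul_inv_cancel, map_one]
  have hσinv' : ∀ g, σ g⁻¹ * σ g = 1 := fun g => by rw [← map_mul, inv_mul_cancel, map_one]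
  letI : MulSemiringAction G Z :=
    { smul := fun g z => ⟨σ g * z * σ g⁻¹, hconj g z z.2⟩
      one_smul := fun z => Subtype.ext (by
        show σ 1 * (z : Module.End k U) * σ 1⁻¹ = z
        rw [inv_one, map_one, one_mul, mul_one])
      mul_smul := fun g h z => Subtype.ext (by
        show σ (g * h) * (z : Module.End k U) * σ (g * h)⁻¹ = σ g * (σ h * z * σ h⁻¹) * σ g⁻¹
        rw [mul_inv_rev, map_mul, map_mul]
        simp only [mul_assoc])
      smul_zero := fun g => Subtype.ext (by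
        show σ g * ((0 : Z) : Module.End k U) * σ g⁻¹ = 0
        simp)
      smul_add := fun g a b => Subtype.ext (by
        show σ g * ((a + b : Z) : Module.End k U) * σ g⁻¹ = σ g * a * σ g⁻¹ + σ g * b * σ g⁻¹
        simp [mul_add, add_mul])
      smul_one := fun g => Subtype.ext (by
        show σ g * ((1 : Z) : Module.End k U) * σ g⁻¹ = 1
        simp [hσinv])
      smul_mul := fun g a b => Subtype.ext (by
        show σ g * ((a * b : Z) : Module.End k U) * σ g⁻¹ = (σ g * a * σ g⁻¹) * (σ g * b * σ g⁻¹)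
        have : (σ g * a * σ g⁻¹) * (σ g * b * σ g⁻¹) = σ g * a * (σ g⁻¹ * σ g) * b * σ g⁻¹ := by
          simp only [mul_assoc]
        rw [this, hσinv', mul_one]
        simp [mul_assoc]) }
  have hsmul : ∀ (g : G) (z : Z), ((g • z : Z) : Module.End k U) = σ g * z * σ g⁻¹ := fun _ _ => rfl
  haveI : FaithfulSMul G Z := ⟨fun {g₁ g₂} h => by
    have h1 : g₂⁻¹ * g₁ = 1 := by
      apply hfaith
      intro z hz
      have h2 := congrArg Subtype.val (h ⟨z, hz⟩)
      rw [hsmul, hsmul] at h2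
      simp only at h2
      -- σ g₁ z σ g₁⁻¹ = σ g₂ z σ g₂⁻¹
      have h3 : σ g₂⁻¹ * (σ g₁ * z * σ g₁⁻¹) * σ g₁ = σ g₂⁻¹ * (σ g₂ * z * σ g₂⁻¹) * σ g₁ := by
        rw [h2]
      have h4 : σ g₂⁻¹ * (σ g₁ * z * σ g₁⁻¹) * σ g₁ = σ (g₂⁻¹ * g₁) * z := by
        rw [map_mul]
        simp only [mul_assoc, hσinv', mul_one]
      have h5 : σ g₂⁻¹ * (σ g₂ * z * σ g₂⁻¹) * σ g₁ = z * σ (g₂⁻¹ * g₁) := by
        rw [map_mul]
        have : σ g₂⁻¹ * (σ g₂ * z * σ g₂⁻¹) * σ g₁ = (σ g₂⁻¹ * σ g₂) * z * (σ g₂⁻¹ * σ g₁) := by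
          simp only [mul_assoc]
        rw [this, hσinv', one_mul]
      rw [← h4, h3, h5]
    exact (inv_mul_eq_one.mp h1).symm⟩
  refine galois_free (k := k) (Z := Z) (U := U) σ ?_
  intro g z u
  show σ g ((z : Module.End k U) u) = ((g • z : Z) : Module.End k U) (σ g u)
  rw [hsmul]
  simp only [Module.End.mul_apply]
  rw [← Module.End.mul_apply (σ g⁻¹), hσinv', Module.End.one_apply]

end Cfsg.Agent.Lib.Helper69.FrobFree
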