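import Mathlib

set_option autoImplicit false

/-! Elementary "isotypic component" theory for a commutative subalgebra of `End k V`. -/

namespace Cfsg.Agent.Lib.Helper69.FrobFree

open scoped BigOperators

section Iso

variable {k : Type*} [Field k] {V : Type*} [AddCommGroup V] [Module k V]
variable (𝒜 : Subalgebra k (Module.End k V))

/-- `S` is invariant under the algebra. -/
def Inv (S : Submodule k V) : Prop := ∀ a ∈ 𝒜, ∀ s ∈ S, a s ∈ S

/-- `S` is a simple module for the algebra. -/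
def IsSimp (S : Submodule k V) : Prop :=
  S ≠ ⊥ ∧ Inv 𝒜 S ∧ ∀ S' : Submodule k V, S' ≤ S → Inv 𝒜 S' → S' = ⊥ ∨ S' = S

/-- The vectors killed by the annihilator of `S`. -/
def iso (S : Submodule k V) : Submodule k V where
  carrier := {v | ∀ a ∈ 𝒜, (∀ s ∈ S, a s = 0) → a v = 0}
  add_mem' := fun {x y} hx hy a ha h => by rw [map_add, hx a ha h, hy a ha h, add_zero]
  zero_mem' := fun a _ _ => map_zero a
  smul_mem' := fun c x hx a ha h => by rw [map_smul, hx a ha h, smul_zero]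

variable {𝒜}

theorem mem_iso {S : Submodule k V} {v : V} :
    v ∈ iso 𝒜 S ↔ ∀ a ∈ 𝒜, (∀ s ∈ S, a s = 0) → a v = 0 := Iff.rfl

theorem le_iso (S : Submodule k V) : S ≤ iso 𝒜 S := fun s hs a _ h => h s hs

variable (hcomm : ∀ a ∈ 𝒜, ∀ b ∈ 𝒜, a * b = b * a)
include hcomm

theorem iso_inv (S : Submodule k V) : Inv 𝒜 (iso 𝒜 S) := by
  intro b hb v hv a ha h
  have : a (b v) = b (a v) := by
    rw [← Module.End.mul_apply, hcomm a ha b hb, Module.End.mul_apply]
  rw [this, hv a ha h, map_zero]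

theorem exists_inv_on_iso {S : Submodule k V} (hS : IsSimp 𝒜 S) {a : Module.End k V}
    (ha : a ∈ 𝒜) {s₀ : V} (hs₀ : s₀ ∈ S) (has₀ : a s₀ ≠ 0) :
    ∃ b ∈ 𝒜, ∀ v ∈ iso 𝒜 S, b (a v) = v := by
  obtain ⟨hS0, hSinv, hSmin⟩ := hS
  -- T = 𝒜 (a s₀)
  let T : Submodule k V := (Subalgebra.toSubmodule 𝒜).map (LinearMap.applyₗ (a s₀))
  have hT : ∀ v, v ∈ T ↔ ∃ c ∈ 𝒜, c (a s₀) = v := by
    intro v
    simp only [T, Submodule.mem_map, Subalgebra.mem_toSubmodule, LinearMap.applyₗ_apply_apply]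
  have hTS : T ≤ S := by
    intro v hv
    obtain ⟨c, hc, rfl⟩ := (hT v).mp hv
    exact hSinv c hc _ (hSinv a ha _ hs₀)
  have hTinv : Inv 𝒜 T := by
    intro b hb v hv
    obtain ⟨c, hc, rfl⟩ := (hT v).mp hv
    exact (hT _).mpr ⟨b * c, 𝒜.mul_mem hb hc, rfl⟩
  have hT0 : T ≠ ⊥ := by
    intro h
    have : a s₀ ∈ T := (hT _).mpr ⟨1, 𝒜.one_mem, rfl⟩
    rw [h, Submodule.mem_bot] at this
    exact has₀ this
  have hTeq : T = S := (hSmin T hTS hTinv).resolve_left hT0
  obtain ⟨b, hb, hbs⟩ := (hT s₀).mp (hTeq ▸ hs₀)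
  refine ⟨b, hb, ?_⟩
  -- d = b * a - 1 kills S
  have hd : b * a - 1 ∈ 𝒜 := 𝒜.sub_mem (𝒜.mul_mem hb ha) 𝒜.one_mem
  let K : Submodule k V := S ⊓ LinearMap.ker (b * a - 1)
  have hKS : K ≤ S := inf_le_left
  have hKinv : Inv 𝒜 K := by
    intro c hc v hv
    have hv' := Submodule.mem_inf.mp hv
    refine Submodule.mem_inf.mpr ⟨hSinv c hc v hv'.1, LinearMap.mem_ker.mpr ?_⟩
    have h1 : (b * a - 1) (c v) = c ((b * a - 1) v) := by
      rw [← Module.End.mul_apply, hcomm _ hd c hc, Module.End.mul_apply]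
    rw [h1, LinearMap.mem_ker.mp hv'.2, map_zero]
  have hs₀K : s₀ ∈ K := by
    refine Submodule.mem_inf.mpr ⟨hs₀, LinearMap.mem_ker.mpr ?_⟩
    rw [LinearMap.sub_apply, Module.End.mul_apply, hbs, Module.End.one_apply, sub_self]
  have hK0 : K ≠ ⊥ := by
    intro h
    rw [h, Submodule.mem_bot] at hs₀K
    rw [hs₀K, map_zero] at has₀
    exact has₀ rfl
  have hKeq : K = S := (hSmin K hKS hKinv).resolve_left hK0
  have hdS : ∀ s ∈ S, (b * a - 1) s = 0 := by
    intro s hs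
    have : s ∈ K := hKeq ▸ hs
    exact LinearMap.mem_ker.mp (Submodule.mem_inf.mp this).2
  intro v hv
  have := hv _ hd hdS
  rw [LinearMap.sub_apply, Module.End.mul_apply, Module.End.one_apply, sub_eq_zero] at this
  exact this

theorem iso_eq_of_ann_le {S S' : Submodule k V} (hS : IsSimp 𝒜 S) (hS' : IsSimp 𝒜 S')
    (h : ∀ a ∈ 𝒜, (∀ s ∈ S, a s = 0) → ∀ s ∈ S', a s = 0) : iso 𝒜 S = iso 𝒜 S' := by
  have hS'le : S' ≤ iso 𝒜 S := fun v hv a ha hk => h a ha hk v hv
  have h' : ∀ a ∈ 𝒜, (∀ s ∈ S', a s = 0) → ∀ s ∈ S, a s = 0 := by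
    intro a ha hk
    by_contra hcon
    push Not at hcon
    obtain ⟨s₀, hs₀, has₀⟩ := hcon
    obtain ⟨b, _, hb⟩ := exists_inv_on_iso hcomm hS ha hs₀ has₀
    apply hS'.1
    rw [eq_bot_iff]
    intro v hv
    rw [Submodule.mem_bot, ← hb v (hS'le hv), hk v hv, map_zero]
  ext v
  constructor
  · intro hv a ha hk
    exact hv a ha (h' a ha hk)
  · intro hv a ha hk
    exact hv a ha (h a ha hk)

theorem iso_indep {ι : Type*} [Fintype ι] [DecidableEq ι] (S : ι → Submodule k V)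
    (hS : ∀ i, IsSimp 𝒜 (S i))
    (hdist : ∀ i j, iso 𝒜 (S i) = iso 𝒜 (S j) → i = j) (u : ι → V)
    (hu : ∀ i, u i ∈ iso 𝒜 (S i)) (hsum : ∑ i, u i = 0) : ∀ i, u i = 0 := by
  intro j
  have key : ∀ s : Finset ι, j ∉ s → ∃ a ∈ 𝒜, (∀ i ∈ s, ∀ v ∈ iso 𝒜 (S i), a v = 0) ∧
      ∃ b ∈ 𝒜, ∀ v ∈ iso 𝒜 (S j), b (a v) = v := by
    intro s
    induction s using Finset.induction_on with
    | empty =>
      intro _
      exact ⟨1, 𝒜.one_mem, fun i hi => absurd hi (Finset.notMem_empty i), 1, 𝒜.one_mem,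
        fun v _ => rfl⟩
    | insert i s his ih =>
      intro hj
      rw [Finset.mem_insert, not_or] at hj
      obtain ⟨a, ha, hak, b, hb, hba⟩ := ih hj.2
      have hex : ∃ c ∈ 𝒜, (∀ s ∈ S i, c s = 0) ∧ ∃ s₀ ∈ S j, c s₀ ≠ 0 := by
        by_contra hcon
        push Not at hcon
        exact hj.1 ((hdist i j (iso_eq_of_ann_le hcomm (hS i) (hS j) hcon)).symm)
      obtain ⟨c, hc, hck, s₀, hs₀, hcs₀⟩ := hex
      obtain ⟨d, hd, hdc⟩ := exists_inv_on_iso hcomm (hS j) hc hs₀ hcs₀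
      refine ⟨c * a, 𝒜.mul_mem hc ha, ?_, b * d, 𝒜.mul_mem hb hd, ?_⟩
      · intro i' hi' v hv
        rcases Finset.mem_insert.mp hi' with rfl | hi'
        · rw [hcomm c hc a ha, Module.End.mul_apply, hv c hc hck, map_zero]
        · rw [Module.End.mul_apply, hak i' hi' v hv, map_zero]
      · intro v hv
        have hav : a v ∈ iso 𝒜 (S j) := iso_inv hcomm (S j) a ha v hv
        rw [Module.End.mul_apply, Module.End.mul_apply, hdc _ hav, hba v hv]
  obtain ⟨a, _, hak, b, _, hba⟩ := key (Finset.univ.erase j) (Finset.notMem_erase j _)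
  have h1 : a (∑ i, u i) = a (u j) := by
    rw [map_sum]
    apply Finset.sum_eq_single j
    · intro i _ hij
      exact hak i (Finset.mem_erase.mpr ⟨hij, Finset.mem_univ i⟩) _ (hu i)
    · intro h
      exact absurd (Finset.mem_univ j) h
  rw [hsum, map_zero] at h1
  rw [← hba (u j) (hu j), ← h1, map_zero]

omit hcomm

/-- Existence of a simple submodule. -/
theorem exists_isSimp [FiniteDimensional k V] [Nontrivial V] : ∃ S, IsSimp 𝒜 S := by
  classical
  let P : ℕ → Prop := fun n => ∃ S : Submodule k V, S ≠ ⊥ ∧ Inv 𝒜 S ∧ Module.finrank k S = n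
  have hP : ∃ n, P n := ⟨_, ⊤, top_ne_bot, fun _ _ _ _ => Submodule.mem_top, rfl⟩
  obtain ⟨S, hS0, hSinv, hSn⟩ := Nat.find_spec hP
  refine ⟨S, hS0, hSinv, ?_⟩
  intro S' hle hinv
  by_cases h0 : S' = ⊥
  · exact Or.inl h0
  · right
    have h1 : Nat.find hP ≤ Module.finrank k S' := Nat.find_min' hP ⟨S', h0, hinv, rfl⟩
    exact Submodule.eq_of_le_of_finrank_le hle (hSn ▸ h1)

/-- Transport of simplicity and of `iso` along a conjugating automorphism. -/
theorem isSimp_map {S : Submodule k V} (hS : IsSimp 𝒜 S) (T T' : Module.End k V)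
    (h1 : T * T' = 1) (h2 : T' * T = 1) (hT : ∀ a ∈ 𝒜, T * a * T' ∈ 𝒜)
    (hT' : ∀ a ∈ 𝒜, T' * a * T ∈ 𝒜) : IsSimp 𝒜 (S.map T) := by
  obtain ⟨hS0, hSinv, hSmin⟩ := hS
  have hTT' : ∀ v, T (T' v) = v := fun v => by
    rw [← Module.End.mul_apply, h1, Module.End.one_apply]
  have hT'T : ∀ v, T' (T v) = v := fun v => by
    rw [← Module.End.mul_apply, h2, Module.End.one_apply]
  refine ⟨?_, ?_, ?_⟩
  · intro h
    apply hS0
    rw [eq_bot_iff]
    intro s hs
    have : T s ∈ S.map T := Submodule.mem_map_of_mem hs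
    rw [h, Submodule.mem_bot] at this
    rw [Submodule.mem_bot, ← hT'T s, this, map_zero]
  · intro a ha v hv
    obtain ⟨s, hs, rfl⟩ := Submodule.mem_map.mp hv
    have : a (T s) = T ((T' * a * T) s) := by
      simp only [Module.End.mul_apply, hTT']
    rw [this]
    exact Submodule.mem_map_of_mem (hSinv _ (hT' a ha) s hs)
  · intro S'' hle hinv
    have hle' : S''.map T' ≤ S := by
      intro v hv
      obtain ⟨w, hw, rfl⟩ := Submodule.mem_map.mp hv
      obtain ⟨s, hs, rfl⟩ := Submodule.mem_map.mp (hle hw)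
      rw [hT'T]
      exact hs
    have hinv' : Inv 𝒜 (S''.map T') := by
      intro a ha v hv
      obtain ⟨w, hw, rfl⟩ := Submodule.mem_map.mp hv
      have : a (T' w) = T' ((T * a * T') w) := by
        simp only [Module.End.mul_apply, hT'T]
      rw [this]
      exact Submodule.mem_map_of_mem (hinv _ (hT a ha) w hw)
    have hback : (S''.map T').map T = S'' := by
      ext v
      constructor
      · intro hv
        obtain ⟨w, hw, rfl⟩ := Submodule.mem_map.mp hv
        obtain ⟨x, hx, rfl⟩ := Submodule.mem_map.mp hw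
        rw [hTT']
        exact hx
      · intro hv
        exact Submodule.mem_map.mpr ⟨T' v, Submodule.mem_map_of_mem hv, hTT' v⟩
    rcases hSmin _ hle' hinv' with h | h
    · left
      rw [← hback, h, Submodule.map_bot]
    · right
      rw [← hback, h]

theorem iso_map (S : Submodule k V) (T T' : Module.End k V)
    (h1 : T * T' = 1) (h2 : T' * T = 1) (hT : ∀ a ∈ 𝒜, T * a * T' ∈ 𝒜)
    (hT' : ∀ a ∈ 𝒜, T' * a * T ∈ 𝒜) : iso 𝒜 (S.map T) = (iso 𝒜 S).map T := by
  have hTT' : ∀ v, T (T' v) = v := fun v => by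
    rw [← Module.End.mul_apply, h1, Module.End.one_apply]
  have hT'T : ∀ v, T' (T v) = v := fun v => by
    rw [← Module.End.mul_apply, h2, Module.End.one_apply]
  ext w
  constructor
  · intro hw
    refine Submodule.mem_map.mpr ⟨T' w, ?_, hTT' w⟩
    intro a ha hk
    have h3 : ∀ s ∈ S.map T, (T * a * T') s = 0 := by
      intro s hs
      obtain ⟨s', hs', rfl⟩ := Submodule.mem_map.mp hs
      simp only [Module.End.mul_apply, hT'T, hk s' hs', map_zero]
    have h4 := hw _ (hT a ha) h3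
    simp only [Module.End.mul_apply] at h4
    rw [← hT'T (a (T' w)), h4, map_zero]
  · intro hw
    obtain ⟨v, hv, rfl⟩ := Submodule.mem_map.mp hw
    intro a ha hk
    have h3 : ∀ s ∈ S, (T' * a * T) s = 0 := by
      intro s hs
      simp only [Module.End.mul_apply, hk (T s) (Submodule.mem_map_of_mem hs), map_zero]
    have h4 := hv _ (hT' a ha) h3
    simp only [Module.End.mul_apply] at h4
    rw [← hTT' (a (T v)), h4, map_zero]

end Iso

end Cfsg.Agent.Lib.Helper69.FrobFree
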