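import Mathlib
import Cfsg.Agent.Lib.Helper69.FrobFreeBasic
import Cfsg.Agent.Lib.Helper69.FrobFreeGalois2
import Cfsg.Agent.Lib.Helper69.FrobFreeIso
import Cfsg.Agent.Lib.Helper69.FrobFreeCoset

set_option autoImplicit false

/-! The core step: an abelian normal section acting without fixed points. -/

namespace Cfsg.Agent.Lib.Helper69.FrobFree

open scoped BigOperators

section MapRep

variable {k : Type*} [Field k] {V : Type*} [AddCommGroup V] [Module k V]
variable {A : Type*} [Group A] (ρ : Representation k A V)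

theorem map_rep_mul (U : Submodule k V) (g h : A) :
    U.map (ρ (g * h)) = (U.map (ρ h)).map (ρ g) := by
  rw [map_mul, Module.End.mul_eq_comp, Submodule.map_comp]

theorem map_rep_one (U : Submodule k V) : U.map (ρ 1) = U := by
  rw [map_one, Module.End.one_eq_id, Submodule.map_id]

theorem map_rep_eq_of_le (U : Submodule k V) (g : A) (h1 : U.map (ρ g) ≤ U)
    (h2 : U.map (ρ g⁻¹) ≤ U) : U.map (ρ g) = U := by
  apply le_antisymm h1
  intro u hu
  have : ρ g⁻¹ u ∈ U := h2 (Submodule.mem_map_of_mem hu)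
  exact Submodule.mem_map.mpr ⟨ρ g⁻¹ u, this, ρ.self_inv_apply g u⟩

/-- The stabilizer of a subspace. -/
def stab (U : Submodule k V) : Subgroup A where
  carrier := {g | U.map (ρ g) = U}
  one_mem' := map_rep_one ρ U
  mul_mem' := fun {g h} hg hh => by
    show U.map (ρ (g * h)) = U
    rw [map_rep_mul]
    have hh' : U.map (ρ h) = U := hh
    have hg' : U.map (ρ g) = U := hg
    rw [hh', hg']
  inv_mem' := fun {g} hg => by
    show U.map (ρ g⁻¹) = U
    have hg' : U.map (ρ g) = U := hg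
    have : (U.map (ρ g)).map (ρ g⁻¹) = U := by
      rw [← map_rep_mul, inv_mul_cancel, map_rep_one]
    rwa [hg'] at this

theorem mem_stab {U : Submodule k V} {g : A} : g ∈ stab ρ U ↔ U.map (ρ g) = U := Iff.rfl

theorem apply_mem_of_mem_stab {U : Submodule k V} {g : A} (hg : g ∈ stab ρ U) {u : V}
    (hu : u ∈ U) : ρ g u ∈ U := by
  have h : ρ g u ∈ U.map (ρ g) := Submodule.mem_map_of_mem hu
  rwa [(mem_stab ρ).mp hg] at h

theorem map_rep_mul_stab {U : Submodule k V} (g : A) {t : A} (ht : t ∈ stab ρ U) :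
    U.map (ρ (g * t)) = U.map (ρ g) := by
  rw [map_rep_mul, (mem_stab ρ).mp ht]

end MapRep

section Faithful

variable {k : Type*} [Field k] {V : Type*} [AddCommGroup V] [Module k V]
variable {A : Type*} [Group A] [Finite A] (ρ : Representation k A V)

theorem faithful_aux (N Fk H : Subgroup A) [hNn : N.Normal] (hNF : N ≤ Fk)
    (hC2 : ∀ v, (∀ n ∈ N, ρ n v = v) → v = 0)
    (hcop : (Nat.card Fk).Coprime (Nat.card H))
    (hfpf : ∀ h ∈ H, h ≠ 1 → ∀ x ∈ Fk, h * x = x * h → x = 1)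
    (U : Submodule k V) (hU0 : U ≠ ⊥)
    (h : A) (hH : h ∈ H) (hst : h ∈ stab ρ U)
    (hcm : ∀ n ∈ N, ∀ u ∈ U, ρ h (ρ n u) = ρ n (ρ h u)) : h = 1 := by
  by_contra h1
  -- the subgroup of elements with the same properties
  let C : Subgroup A :=
    { carrier := {g | g ∈ H ∧ g ∈ stab ρ U ∧ ∀ n ∈ N, ∀ u ∈ U, ρ g (ρ n u) = ρ n (ρ g u)}
      one_mem' := ⟨H.one_mem, (stab ρ U).one_mem, fun n _ u _ => by simp⟩
      mul_mem' := fun {g g'} hg hg' => by
        refine ⟨H.mul_mem hg.1 hg'.1, (stab ρ U).mul_mem hg.2.1 hg'.2.1, ?_⟩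
        intro n hn u hu
        rw [map_mul, Module.End.mul_apply, Module.End.mul_apply, hg'.2.2 n hn u hu,
          hg.2.2 n hn _ (apply_mem_of_mem_stab ρ hg'.2.1 hu)]
      inv_mem' := fun {g} hg => by
        refine ⟨H.inv_mem hg.1, (stab ρ U).inv_mem hg.2.1, ?_⟩
        intro n hn u hu
        have hu' : ρ g⁻¹ u ∈ U := apply_mem_of_mem_stab ρ ((stab ρ U).inv_mem hg.2.1) hu
        have h2 := hg.2.2 n hn _ hu'
        rw [ρ.self_inv_apply] at h2
        rw [← h2, ρ.inv_self_apply] }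
  have hC : ∀ g, g ∈ C ↔ (g ∈ H ∧ g ∈ stab ρ U ∧
      ∀ n ∈ N, ∀ u ∈ U, ρ g (ρ n u) = ρ n (ρ g u)) := fun g => Iff.rfl
  have hhC : h ∈ C := ⟨hH, hst, hcm⟩
  have hord : orderOf h ≠ 1 := fun h' => h1 (orderOf_eq_one_iff.mp h')
  obtain ⟨q, hq, hqd⟩ := Nat.exists_prime_and_dvd hord
  haveI : Fact q.Prime := ⟨hq⟩
  set h' := h ^ (orderOf h / q) with hh'def
  have hh'C : h' ∈ C := C.pow_mem hhC _
  have hh'ord : orderOf h' = q := orderOf_pow_orderOf_div (orderOf_pos h).ne' hqd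
  have hh'1 : h' ≠ 1 := by
    intro h0
    rw [h0, orderOf_one] at hh'ord
    exact hq.one_lt.ne hh'ord
  obtain ⟨hh'H, hh'st, hh'cm⟩ := (hC h').mp hh'C
  -- the kernel of the action on U
  let M : Subgroup A :=
    { carrier := {m | m ∈ N ∧ ∀ u ∈ U, ρ m u = u}
      one_mem' := ⟨N.one_mem, fun u _ => by simp⟩
      mul_mem' := fun {a b} ha hb => ⟨N.mul_mem ha.1 hb.1, fun u hu => by
        rw [map_mul, Module.End.mul_apply, hb.2 u hu, ha.2 u hu]⟩
      inv_mem' := fun {a} ha => ⟨N.inv_mem ha.1, fun u hu => by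
        conv_lhs => rw [← ha.2 u hu]
        rw [ρ.inv_self_apply]⟩ }
  have hMmem : ∀ m, m ∈ M ↔ (m ∈ N ∧ ∀ u ∈ U, ρ m u = u) := fun m => Iff.rfl
  have hMN : M ≤ N := fun m hm => hm.1
  have hMcard : ¬ q ∣ Nat.card M := by
    intro hd
    have h2 : q ∣ Nat.card Fk := hd.trans (Subgroup.card_dvd_of_le (hMN.trans hNF))
    have h3 : q ∣ Nat.card H := by
      have := orderOf_dvd_natCard (⟨h', hh'H⟩ : H)
      rwa [Subgroup.orderOf_mk, hh'ord] at this
    have := Nat.dvd_gcd h2 h3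
    rw [hcop.gcd_eq_one] at this
    exact hq.one_lt.ne' (Nat.dvd_one.mp this)
  -- closure of cosets under conjugation by elements of C
  have hclos : ∀ g ∈ C, ∀ n ∈ N, ∀ y, n⁻¹ * y ∈ M → n⁻¹ * (g * y * g⁻¹) ∈ M := by
    intro g hg n hn y hy
    obtain ⟨-, hgst, hgcm⟩ := (hC g).mp hg
    have hginv : g⁻¹ ∈ stab ρ U := (stab ρ U).inv_mem hgst
    have e1 : n⁻¹ * (g * y * g⁻¹) = (n⁻¹ * (g * n * g⁻¹)) * (g * (n⁻¹ * y) * g⁻¹) := by group
    rw [e1]
    apply M.mul_mem
    · refine ⟨N.mul_mem (N.inv_mem hn) (hNn.conj_mem n hn g), fun u hu => ?_⟩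
      have hu' : ρ g⁻¹ u ∈ U := apply_mem_of_mem_stab ρ hginv hu
      simp only [map_mul, Module.End.mul_apply]
      rw [hgcm n hn _ hu', ρ.self_inv_apply, ρ.inv_self_apply]
    · refine ⟨hNn.conj_mem _ hy.1 g, fun u hu => ?_⟩
      have hu' : ρ g⁻¹ u ∈ U := apply_mem_of_mem_stab ρ hginv hu
      have hy2 := hy.2 _ hu'
      rw [map_mul, Module.End.mul_apply] at hy2
      simp only [map_mul, Module.End.mul_apply]
      rw [hy2, ρ.self_inv_apply]
  -- every element of N acts trivially on U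
  have hNtriv : ∀ n ∈ N, n ∈ M := by
    intro n hn
    have hcl := hclos h' hh'C n hn
    have hcl' : ∀ y, n⁻¹ * y ∈ M → n⁻¹ * (h'⁻¹ * y * h') ∈ M := by
      intro y hy
      have := hclos h'⁻¹ (C.inv_mem hh'C) n hn y hy
      rwa [inv_inv] at this
    obtain ⟨y, hyM, hycomm⟩ := exists_commuting_in_coset M n h' q hh'ord hMcard hcl hcl'
    have hyN : y ∈ N := by
      have : y = n * (n⁻¹ * y) := by group
      rw [this]
      exact N.mul_mem hn hyM.1
    have hy1 : y = 1 := hfpf h' hh'H hh'1 y (hNF hyN) hycomm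
    rw [hy1, mul_one] at hyM
    have := M.inv_mem hyM
    rwa [inv_inv] at this
  obtain ⟨u, hu, hu0⟩ := Submodule.exists_mem_ne_zero_of_ne_bot hU0
  exact hu0 (hC2 u fun n hn => (hNtriv n hn).2 u hu)

end Faithful

end Cfsg.Agent.Lib.Helper69.FrobFree
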