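import Mathlib
import Cfsg.Agent.Lib.Helper69.FrobFreeCore

set_option autoImplicit false

/-! The core step: an abelian normal section acting without fixed points gives a nonzero
invariant subspace which is free over the complement. -/

namespace Cfsg.Agent.Lib.Helper69.FrobFree

open scoped BigOperators

section Core

variable {k : Type*} [Field k] {V : Type*} [AddCommGroup V] [Module k V]
variable {A : Type*} [Group A] [Finite A] (ρ : Representation k A V)

theorem core [FiniteDimensional k V] [Nontrivial V]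
    (N Fk H : Subgroup A) [hNn : N.Normal] [hFn : Fk.Normal] (hNF : N ≤ Fk)
    (hC1 : ∀ n ∈ N, ∀ m ∈ N, ρ n * ρ m = ρ m * ρ n)
    (hC2 : ∀ v, (∀ n ∈ N, ρ n v = v) → v = 0)
    (hC4 : ∀ x ∈ Fk, ∀ n ∈ N, ρ x * ρ n = ρ n * ρ x)
    (hAFH : ∀ a : A, ∃ x ∈ Fk, ∃ h ∈ H, a = x * h)
    (hcop : (Nat.card Fk).Coprime (Nat.card H))
    (hfpf : ∀ h ∈ H, h ≠ 1 → ∀ x ∈ Fk, h * x = x * h → x = 1)
    [Fintype H] :
    ∃ V₁ W₁ : Submodule k V, V₁ ≠ ⊥ ∧ (∀ a, V₁ ≤ V₁.comap (ρ a)) ∧
      IsFreeOn (ρ.comp H.subtype) W₁ V₁ := by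
  classical
  -- the algebra generated by `N`
  let 𝒜 : Subalgebra k (Module.End k V) := Algebra.adjoin k (ρ '' (N : Set A))
  have hgen : ∀ n ∈ N, ρ n ∈ 𝒜 := fun n hn => Algebra.subset_adjoin ⟨n, hn, rfl⟩
  have hcomm1 : ∀ a ∈ 𝒜, ∀ n ∈ N, a * ρ n = ρ n * a := by
    intro a ha n hn
    induction ha using Algebra.adjoin_induction with
    | mem x hx =>
      obtain ⟨m, hm, rfl⟩ := hx
      exact hC1 m hm n hn
    | algebraMap c => exact Algebra.commutes c (ρ n)
    | add x y _ _ hx hy => rw [add_mul, mul_add, hx, hy]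
    | mul x y _ _ hx hy => rw [mul_assoc, hy, ← mul_assoc, hx, mul_assoc]
  have hcomm : ∀ a ∈ 𝒜, ∀ b ∈ 𝒜, a * b = b * a := by
    intro a ha b hb
    induction hb using Algebra.adjoin_induction with
    | mem x hx =>
      obtain ⟨m, hm, rfl⟩ := hx
      exact hcomm1 a ha m hm
    | algebraMap c => exact (Algebra.commutes c a).symm
    | add x y _ _ hx hy => rw [add_mul, mul_add, hx, hy]
    | mul x y _ _ hx hy => rw [← mul_assoc, hx, mul_assoc, hy, ← mul_assoc]
  have hF : ∀ x ∈ Fk, ∀ a ∈ 𝒜, ρ x * a = a * ρ x := by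
    intro x hx a ha
    induction ha using Algebra.adjoin_induction with
    | mem y hy =>
      obtain ⟨m, hm, rfl⟩ := hy
      exact hC4 x hx m hm
    | algebraMap c => exact (Algebra.commutes c (ρ x)).symm
    | add y z _ _ hy hz => rw [add_mul, mul_add, hy, hz]
    | mul y z _ _ hy hz => rw [← mul_assoc, hy, mul_assoc, hz, ← mul_assoc]
  have hρinv : ∀ g : A, ρ g * ρ g⁻¹ = 1 := fun g => by
    rw [← map_mul, mul_inv_cancel, map_one]
  have hρinv' : ∀ g : A, ρ g⁻¹ * ρ g = 1 := fun g => by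
    rw [← map_mul, inv_mul_cancel, map_one]
  have hconj : ∀ g : A, ∀ a ∈ 𝒜, ρ g * a * ρ g⁻¹ ∈ 𝒜 := by
    intro g a ha
    induction ha using Algebra.adjoin_induction with
    | mem y hy =>
      obtain ⟨m, hm, rfl⟩ := hy
      have : ρ g * ρ m * ρ g⁻¹ = ρ (g * m * g⁻¹) := by rw [map_mul, map_mul]
      rw [this]
      exact hgen _ (hNn.conj_mem m hm g)
    | algebraMap c =>
      have : ρ g * algebraMap k (Module.End k V) c * ρ g⁻¹ = algebraMap k (Module.End k V) c := by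
        rw [← Algebra.commutes c (ρ g), mul_assoc, hρinv, mul_one]
      rw [this]
      exact 𝒜.algebraMap_mem c
    | add y z _ _ hy hz =>
      rw [mul_add, add_mul]
      exact 𝒜.add_mem hy hz
    | mul y z _ _ hy hz =>
      have : ρ g * (y * z) * ρ g⁻¹ = (ρ g * y * ρ g⁻¹) * (ρ g * z * ρ g⁻¹) := by
        have h1 : (ρ g * y * ρ g⁻¹) * (ρ g * z * ρ g⁻¹)
            = ρ g * y * (ρ g⁻¹ * ρ g) * z * ρ g⁻¹ := by simp only [mul_assoc]
        rw [h1, hρinv', mul_one]
        simp only [mul_assoc]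
      rw [this]
      exact 𝒜.mul_mem hy hz
  have hconj' : ∀ g : A, ∀ a ∈ 𝒜, ρ g⁻¹ * a * ρ g ∈ 𝒜 := by
    intro g a ha
    have := hconj g⁻¹ a ha
    rwa [inv_inv] at this
  -- a simple submodule and its isotypic component
  obtain ⟨S, hS⟩ := exists_isSimp (𝒜 := 𝒜)
  set U := iso 𝒜 S with hUdef
  have hU0 : U ≠ ⊥ := fun h => hS.1 (le_bot_iff.mp (h ▸ le_iso S))
  have hUinv : Inv 𝒜 U := iso_inv hcomm S
  haveI : Nontrivial U := Submodule.nontrivial_iff_ne_bot.mpr hU0
  have hFkU : ∀ x ∈ Fk, U.map (ρ x) ≤ U := by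
    intro x hx w hw
    obtain ⟨v, hv, rfl⟩ := Submodule.mem_map.mp hw
    intro a ha hk
    rw [← Module.End.mul_apply, ← hF x hx a ha, Module.End.mul_apply, hv a ha hk, map_zero]
  have hFkstab : Fk ≤ stab ρ U := fun x hx =>
    map_rep_eq_of_le ρ U x (hFkU x hx) (hFkU x⁻¹ (Fk.inv_mem hx))
  -- the restricted representation of the stabilizer
  let ρs : Representation k (stab ρ U) V := ρ.comp (stab ρ U).subtype
  have hle : ∀ g : stab ρ U, U ≤ U.comap (ρs g) := fun g u hu =>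
    apply_mem_of_mem_stab ρ g.2 hu
  let σA : Representation k (stab ρ U) U := ρs.subrepresentation U hle
  have hσA : ∀ (g : stab ρ U) (u : U), ((σA g u : U) : V) = ρ (g : A) (u : V) := fun g u => rfl
  let G₁ : Subgroup H := (stab ρ U).subgroupOf H
  letI : Fintype G₁ := Fintype.ofFinite _
  let j : G₁ →* stab ρ U :=
    { toFun := fun h => ⟨((h : H) : A), Subgroup.mem_subgroupOf.mp h.2⟩
      map_one' := rfl
      map_mul' := fun _ _ => rfl }
  let σ : G₁ →* Module.End k U := σA.comp j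
  have hσ : ∀ (g : G₁) (u : U), ((σ g u : U) : V) = ρ ((g : H) : A) (u : V) := fun g u => rfl
  -- the field
  let Z : Subalgebra k (Module.End k U) :=
    { carrier := {z | ∃ a ∈ 𝒜, ∀ u : U, ((z u : U) : V) = a (u : V)}
      mul_mem' := by
        rintro z z' ⟨a, ha, hz⟩ ⟨a', ha', hz'⟩
        exact ⟨a * a', 𝒜.mul_mem ha ha', fun u => by
          rw [Module.End.mul_apply, hz, hz', Module.End.mul_apply]⟩
      one_mem' := ⟨1, 𝒜.one_mem, fun u => rfl⟩
      add_mem' := by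
        rintro z z' ⟨a, ha, hz⟩ ⟨a', ha', hz'⟩
        exact ⟨a + a', 𝒜.add_mem ha ha', fun u => by
          rw [LinearMap.add_apply, Submodule.coe_add, hz, hz', LinearMap.add_apply]⟩
      zero_mem' := ⟨0, 𝒜.zero_mem, fun u => rfl⟩
      algebraMap_mem' := fun c => ⟨algebraMap k _ c, 𝒜.algebraMap_mem c, fun u => by
        simp [Module.algebraMap_end_apply]⟩ }
  have hZmem : ∀ z, z ∈ Z ↔ ∃ a ∈ 𝒜, ∀ u : U, ((z u : U) : V) = a (u : V) := fun z => Iff.rfl
  have hres : ∀ a (ha : a ∈ 𝒜), a.restrict (hUinv a ha) ∈ Z := fun a ha =>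
    (hZmem _).mpr ⟨a, ha, fun u => rfl⟩
  have hZc : ∀ z ∈ Z, ∀ z' ∈ Z, z * z' = z' * z := by
    intro z hz z' hz'
    obtain ⟨a, ha, hza⟩ := (hZmem z).mp hz
    obtain ⟨a', ha', hza'⟩ := (hZmem z').mp hz'
    apply LinearMap.ext
    intro u
    apply Subtype.ext
    rw [Module.End.mul_apply, Module.End.mul_apply, hza, hza', hza', hza,
      ← Module.End.mul_apply, ← Module.End.mul_apply, hcomm a ha a' ha']
  have hZinv : ∀ z ∈ Z, z ≠ 0 → ∃ b ∈ Z, b * z = 1 := by
    intro z hz hz0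
    obtain ⟨a, ha, hza⟩ := (hZmem z).mp hz
    have hex : ∃ s₀ ∈ S, a s₀ ≠ 0 := by
      by_contra hcon
      push Not at hcon
      apply hz0
      apply LinearMap.ext
      intro u
      apply Subtype.ext
      rw [hza]
      exact u.2 a ha hcon
    obtain ⟨s₀, hs₀, has₀⟩ := hex
    obtain ⟨b, hb, hba⟩ := exists_inv_on_iso hcomm hS ha hs₀ has₀
    refine ⟨b.restrict (hUinv b hb), hres b hb, ?_⟩
    apply LinearMap.ext
    intro u
    apply Subtype.ext
    rw [Module.End.mul_apply]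
    show b ((z u : U) : V) = u
    rw [hza]
    exact hba u u.2
  have hσinv : ∀ g : G₁, σ g⁻¹ * σ g = 1 := fun g => by
    rw [← map_mul, inv_mul_cancel, map_one]
  have hZconj : ∀ g : G₁, ∀ z ∈ Z, σ g * z * σ g⁻¹ ∈ Z := by
    intro g z hz
    obtain ⟨a, ha, hza⟩ := (hZmem z).mp hz
    refine (hZmem _).mpr ⟨ρ ((g : H) : A) * a * ρ ((g : H) : A)⁻¹, hconj _ a ha, fun u => ?_⟩
    rw [Module.End.mul_apply, Module.End.mul_apply, hσ, hza, Module.End.mul_apply,
      Module.End.mul_apply]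
    rfl
  have hZfaith : ∀ g : G₁, (∀ z ∈ Z, σ g * z = z * σ g) → g = 1 := by
    intro g hg
    have h1 : ((g : H) : A) = 1 := by
      apply faithful_aux ρ N Fk H hNF hC2 hcop hfpf U hU0 _ (g : H).2
        (Subgroup.mem_subgroupOf.mp g.2)
      intro n hn u hu
      have h2 := hg _ (hres (ρ n) (hgen n hn))
      have h3 := congrArg (fun f : Module.End k U => ((f ⟨u, hu⟩ : U) : V)) h2
      exact h3
    apply Subtype.ext
    apply Subtype.ext
    exact h1
  obtain ⟨W₀, hW₀i, hW₀s⟩ := galois_free' Z hZc hZinv σ hZconj hZfaith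
  have hfree₀ : IsFreeOn σ W₀ ⊤ := ⟨hW₀i, fun x _ => hW₀s x, fun _ _ _ => Submodule.mem_top⟩
  let σH : H →* Module.End k V := ρ.comp H.subtype
  have hfree₁ : IsFreeOn (σH.comp G₁.subtype) (W₀.map U.subtype) U := by
    have := IsFreeOn.map U.subtype Subtype.coe_injective σ (σH.comp G₁.subtype)
      (fun g x => rfl) hfree₀
    rwa [Submodule.map_subtype_top] at this
  -- transversal
  obtain ⟨T, hT, h1T⟩ := Subgroup.exists_isComplement_left G₁ (1 : H)
  letI : Fintype T := Fintype.ofFinite _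
  have hstabT : ∀ s s' : T, U.map (ρ ((s : H) : A)) = U.map (ρ ((s' : H) : A)) → s = s' := by
    intro s s' hss
    have h2 : ((s : H)⁻¹ * (s' : H)) ∈ G₁ := by
      rw [Subgroup.mem_subgroupOf, mem_stab]
      show U.map (ρ (((s : H) : A)⁻¹ * ((s' : H) : A))) = U
      rw [map_rep_mul, ← hss, ← map_rep_mul, inv_mul_cancel, map_rep_one]
    have h3 := hT.1 (a₁ := (s', (1 : G₁))) (a₂ := (s, ⟨(s : H)⁻¹ * (s' : H), h2⟩)) (by simp)
    exact (congrArg Prod.fst h3).symm
  have hind : ∀ u : T → V, (∀ s, u s ∈ U) → ∑ s : T, σH (s : H) (u s) = 0 → ∀ s, u s = 0 := by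
    intro u hu hsum
    have hSfam : ∀ s : T, IsSimp 𝒜 (S.map (ρ ((s : H) : A))) := fun s =>
      isSimp_map hS _ _ (hρinv _) (hρinv' _) (hconj _) (hconj' _)
    have hisofam : ∀ s : T, iso 𝒜 (S.map (ρ ((s : H) : A))) = U.map (ρ ((s : H) : A)) :=
      fun s => iso_map S _ _ (hρinv _) (hρinv' _) (hconj _) (hconj' _)
    have h0 := iso_indep hcomm (fun s : T => S.map (ρ ((s : H) : A))) hSfam
      (fun s s' h => hstabT s s' (by rw [← hisofam, ← hisofam]; exact h))
      (fun s => ρ ((s : H) : A) (u s))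
      (fun s => by rw [hisofam]; exact Submodule.mem_map_of_mem (hu s)) hsum
    intro s
    have := h0 s
    rw [← ρ.inv_self_apply ((s : H) : A) (u s), this, map_zero]
  have hfree := IsFreeOn.induce σH G₁ T hT (W₀.map U.subtype) U hfree₁ hind
  refine ⟨_, _, ?_, ?_, hfree⟩
  · intro h
    apply hU0
    rw [eq_bot_iff, ← h]
    have := le_iSup (fun s : T => U.map (σH (s : H))) ⟨1, h1T⟩
    simp only at this
    have h2 : U.map (σH (1 : H)) = U := map_rep_one ρ U
    rwa [h2] at this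
  · intro a
    apply iSup_le
    intro s
    rw [← Submodule.map_le_iff_le_comap]
    obtain ⟨x, hx, h, hh, rfl⟩ := hAFH a
    obtain ⟨⟨s', g₁⟩, hsg, -⟩ := hT.existsUnique ((⟨h, hh⟩ : H) * (s : H))
    simp only at hsg
    have hsg' : ((s' : H) : A) * ((g₁ : H) : A) = h * ((s : H) : A) := by
      have := congrArg (Subtype.val) hsg
      simpa using this
    have e1 : x * h * ((s : H) : A)
        = ((s' : H) : A) * ((((s' : H) : A)⁻¹ * x * ((s' : H) : A)) * ((g₁ : H) : A)) := by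
      rw [mul_assoc x, ← hsg']
      group
    have hy : ((s' : H) : A)⁻¹ * x * ((s' : H) : A) ∈ stab ρ U := by
      apply hFkstab
      have := hFn.conj_mem x hx ((s' : H) : A)⁻¹
      rwa [inv_inv] at this
    have hg₁ : ((g₁ : H) : A) ∈ stab ρ U := Subgroup.mem_subgroupOf.mp g₁.2
    have e2 : (U.map (σH (s : H))).map (ρ (x * h)) = U.map (ρ ((s' : H) : A)) := by
      show (U.map (ρ ((s : H) : A))).map (ρ (x * h)) = _
      rw [← map_rep_mul, e1, map_rep_mul_stab ρ _ ((stab ρ U).mul_mem hy hg₁)]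
    rw [e2]
    exact le_iSup (fun s : T => U.map (σH (s : H))) s'

end Core

end Cfsg.Agent.Lib.Helper69.FrobFree
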