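import Mathlib
import Cfsg.Agent.Lib.Helper69.FrobFreeCore2

set_option autoImplicit false

/-! The induction: a nilpotent normal subgroup `Q` of invertible order acting without fixed points,
inside a Frobenius-like configuration, makes the module free over the complement. -/

namespace Cfsg.Agent.Lib.Helper69.FrobFree

open scoped BigOperators

universe v

section Avg

variable {k : Type*} [Field k] {V : Type*} [AddCommGroup V] [Module k V]
variable {A : Type*} [Group A] [Finite A] (ρ : Representation k A V)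

theorem fixed_quotient (Q : Subgroup A) (hQ : (Nat.card Q : k) ≠ 0)
    (V₁ : Submodule k V) (hV₁ : ∀ a, V₁ ≤ V₁.comap (ρ a))
    (hfix : ∀ v, (∀ x ∈ Q, ρ x v = v) → v = 0) (w : V ⧸ V₁)
    (hw : ∀ x ∈ Q, (ρ.quotient V₁ hV₁) x w = w) : w = 0 := by
  classical
  haveI : Fintype Q := Fintype.ofFinite _
  obtain ⟨v, rfl⟩ := Submodule.mkQ_surjective V₁ w
  have h1 : ∀ x ∈ Q, ρ x v - v ∈ V₁ := by
    intro x hx
    have := hw x hx
    rw [Representation.quotient_apply, Submodule.mkQ_apply, Submodule.mapQ_apply] at this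
    exact (Submodule.Quotient.eq V₁).mp this
  set v' := ∑ x : Q, ρ (x : A) v with hv'
  have h2 : ∀ y ∈ Q, ρ y v' = v' := by
    intro y hy
    rw [hv', map_sum]
    have : ∀ x : Q, ρ y (ρ (x : A) v) = ρ (((⟨y, hy⟩ : Q) * x : Q) : A) v := fun x => by
      rw [Subgroup.coe_mul, map_mul]
      rfl
    simp_rw [this]
    exact Fintype.sum_equiv (Equiv.mulLeft (⟨y, hy⟩ : Q)) _ _ (fun x => rfl)
  have h3 : v' = 0 := hfix v' h2
  have h4 : v' - (Nat.card Q : k) • v ∈ V₁ := by
    have : v' - (Nat.card Q : k) • v = ∑ x : Q, (ρ (x : A) v - v) := by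
      rw [Finset.sum_sub_distrib, Finset.sum_const, Finset.card_univ,
        ← Nat.card_eq_fintype_card, Nat.cast_smul_eq_nsmul]
    rw [this]
    exact Submodule.sum_mem _ fun x _ => h1 x x.2
  rw [h3, zero_sub, Submodule.neg_mem_iff] at h4
  have h5 : v ∈ V₁ := by
    have := V₁.smul_mem (Nat.card Q : k)⁻¹ h4
    rwa [smul_smul, inv_mul_cancel₀ hQ, one_smul] at this
  rw [Submodule.mkQ_apply]
  exact (Submodule.Quotient.mk_eq_zero V₁).mpr h5

end Avg

section Series

variable {A : Type*} [Group A]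

/-- The terms of the upper central series of `Fk`, cut down to `Q`, as subgroups of `A`. -/
def ucsQ (Fk Q : Subgroup A) (i : ℕ) : Subgroup A :=
  ((Subgroup.upperCentralSeries Fk i).map Fk.subtype) ⊓ Q

instance ucsQ_normal (Fk Q : Subgroup A) [Fk.Normal] [Q.Normal] (i : ℕ) :
    (ucsQ Fk Q i).Normal := by
  unfold ucsQ
  infer_instance

theorem ucsQ_le (Fk Q : Subgroup A) (i : ℕ) : ucsQ Fk Q i ≤ Fk :=
  inf_le_left.trans (Subgroup.map_subtype_le _)

theorem ucsQ_zero (Fk Q : Subgroup A) : ucsQ Fk Q 0 = ⊥ := by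
  unfold ucsQ
  rw [Subgroup.upperCentralSeries_zero, Subgroup.map_bot, bot_inf_eq]

theorem ucsQ_comm_mem (Fk Q : Subgroup A) [hQn : Q.Normal] (i : ℕ) {n y : A}
    (hn : n ∈ ucsQ Fk Q (i + 1)) (hy : y ∈ Fk) : n * y * n⁻¹ * y⁻¹ ∈ ucsQ Fk Q i := by
  obtain ⟨hn1, hn2⟩ := Subgroup.mem_inf.mp hn
  obtain ⟨n', hn', rfl⟩ := Subgroup.mem_map.mp hn1
  refine Subgroup.mem_inf.mpr ⟨?_, ?_⟩
  · have := Subgroup.mem_upperCentralSeries_succ_iff.mp hn' ⟨y, hy⟩
    rw [commutatorElement_def] at this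
    exact Subgroup.mem_map.mpr ⟨_, this, rfl⟩
  · have h1 : Fk.subtype n' * y * (Fk.subtype n')⁻¹ * y⁻¹
        = Fk.subtype n' * (y * (Fk.subtype n')⁻¹ * y⁻¹) := by group
    rw [h1]
    exact Q.mul_mem hn2 (hQn.conj_mem _ (Q.inv_mem hn2) y)

end Series

section Induction

variable {k : Type*} [Field k] {A : Type*} [Group A] [Finite A]

theorem propY (Fk H Q : Subgroup A) [hFn : Fk.Normal] [hQn : Q.Normal] (hQF : Q ≤ Fk)
    (hnil : Group.IsNilpotent Fk)
    (hAFH : ∀ a : A, ∃ x ∈ Fk, ∃ h ∈ H, a = x * h)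
    (hcop : (Nat.card Fk).Coprime (Nat.card H))
    (hfpf : ∀ h ∈ H, h ≠ 1 → ∀ x ∈ Fk, h * x = x * h → x = 1) [Fintype H]
    {V : Type v} [AddCommGroup V] [Module k V] [FiniteDimensional k V] [Nontrivial V]
    (ρ : Representation k A V)
    (hfix : ∀ v, (∀ x ∈ Q, ρ x v = v) → v = 0) :
    ∃ V₁ W₁ : Submodule k V, V₁ ≠ ⊥ ∧ (∀ a, V₁ ≤ V₁.comap (ρ a)) ∧
      IsFreeOn (ρ.comp H.subtype) W₁ V₁ := by
  classical
  -- fixed spaces of the series
  let C : ℕ → Submodule k V := fun i =>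
    { carrier := {v | ∀ x ∈ ucsQ Fk Q i, ρ x v = v}
      add_mem' := fun {a b} ha hb x hx => by rw [map_add, ha x hx, hb x hx]
      zero_mem' := fun x _ => map_zero _
      smul_mem' := fun c v hv x hx => by rw [map_smul, hv x hx] }
  have hCmem : ∀ i v, v ∈ C i ↔ ∀ x ∈ ucsQ Fk Q i, ρ x v = v := fun i v => Iff.rfl
  have hex : ∃ j, C j = ⊥ := by
    obtain ⟨c, hc⟩ := hnil.nilpotent'
    refine ⟨c, ?_⟩
    rw [eq_bot_iff]
    intro v hv
    rw [Submodule.mem_bot]
    apply hfix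
    intro x hx
    apply hv x
    refine Subgroup.mem_inf.mpr ⟨?_, hx⟩
    rw [hc]
    exact Subgroup.mem_map.mpr ⟨⟨x, hQF hx⟩, Subgroup.mem_top _, rfl⟩
  have hj0 : Nat.find hex ≠ 0 := by
    intro h
    have h1 := Nat.find_spec hex
    rw [h] at h1
    obtain ⟨v, hv⟩ := exists_ne (0 : V)
    have : v ∈ C 0 := by
      intro x hx
      rw [ucsQ_zero, Subgroup.mem_bot] at hx
      rw [hx, map_one, Module.End.one_apply]
    rw [h1, Submodule.mem_bot] at this
    exact hv this
  obtain ⟨i, hi⟩ := Nat.exists_eq_succ_of_ne_zero hj0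
  have hCi : C i ≠ ⊥ := fun h => by
    have := Nat.find_min' hex h
    omega
  have hCi1 : C (i + 1) = ⊥ := by
    have := Nat.find_spec hex
    rwa [hi] at this
  -- `C i` is invariant
  have hinv : ∀ a, C i ≤ (C i).comap (ρ a) := by
    intro a v hv x hx
    have hx' : a⁻¹ * x * a ∈ ucsQ Fk Q i := by
      have := (ucsQ_normal Fk Q i).conj_mem x hx a⁻¹
      rwa [inv_inv] at this
    have h1 := hv _ hx'
    rw [map_mul, map_mul, Module.End.mul_apply, Module.End.mul_apply] at h1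
    have h2 := congrArg (ρ a) h1
    rw [ρ.self_inv_apply] at h2
    exact h2
  let ρ' : Representation k A (C i) := ρ.subrepresentation (C i) hinv
  have hρ' : ∀ (a : A) (v : C i), ((ρ' a v : C i) : V) = ρ a (v : V) := fun a v => rfl
  haveI : Nontrivial (C i) := Submodule.nontrivial_iff_ne_bot.mpr hCi
  -- commutation modulo the previous term
  have hcommute : ∀ n ∈ ucsQ Fk Q (i + 1), ∀ y ∈ Fk, ρ' n * ρ' y = ρ' y * ρ' n := by
    intro n hn y hy
    apply LinearMap.ext
    intro v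
    apply Subtype.ext
    rw [Module.End.mul_apply, Module.End.mul_apply, hρ', hρ', hρ', hρ']
    have hc := ucsQ_comm_mem Fk Q i hn hy
    have h1 : n * y = (n * y * n⁻¹ * y⁻¹) * (y * n) := by group
    have h2 : ρ n (ρ y (v : V)) = ρ (n * y) (v : V) := by rw [map_mul]; rfl
    have h3 : ρ y (ρ n (v : V)) = ρ (y * n) (v : V) := by rw [map_mul]; rfl
    rw [h2, h3, h1, map_mul, Module.End.mul_apply]
    have hmem : ρ (y * n) (v : V) ∈ C i := hinv (y * n) v.2
    exact hmem _ hc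
  obtain ⟨V₁', W₁', hV₁'0, hV₁'inv, hfree'⟩ := core ρ' (ucsQ Fk Q (i + 1)) Fk H (ucsQ_le Fk Q _)
    (fun n hn m hm => hcommute n hn m (ucsQ_le Fk Q _ hm))
    (fun v hv => by
      apply Subtype.ext
      have : (v : V) ∈ C (i + 1) := fun x hx => by
        have := congrArg Subtype.val (hv x hx)
        exact this
      rw [hCi1, Submodule.mem_bot] at this
      exact this)
    (fun x hx n hn => (hcommute n hn x hx).symm) hAFH hcop hfpf
  refine ⟨V₁'.map (C i).subtype, W₁'.map (C i).subtype, ?_, ?_, ?_⟩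
  · intro h
    apply hV₁'0
    rw [eq_bot_iff]
    intro w hw
    have : (C i).subtype w ∈ V₁'.map (C i).subtype := Submodule.mem_map_of_mem hw
    rw [h, Submodule.mem_bot] at this
    rw [Submodule.mem_bot]
    exact Subtype.ext this
  · intro a w hw
    obtain ⟨w', hw', rfl⟩ := Submodule.mem_map.mp hw
    exact Submodule.mem_map.mpr ⟨ρ' a w', hV₁'inv a hw', rfl⟩
  · exact IsFreeOn.map (C i).subtype Subtype.coe_injective (ρ'.comp H.subtype)
      (ρ.comp H.subtype) (fun g x => rfl) hfree'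

theorem thmX (Fk H Q : Subgroup A) [hFn : Fk.Normal] [hQn : Q.Normal] (hQF : Q ≤ Fk)
    (hnil : Group.IsNilpotent Fk) (hQ : (Nat.card Q : k) ≠ 0)
    (hAFH : ∀ a : A, ∃ x ∈ Fk, ∃ h ∈ H, a = x * h)
    (hcop : (Nat.card Fk).Coprime (Nat.card H))
    (hfpf : ∀ h ∈ H, h ≠ 1 → ∀ x ∈ Fk, h * x = x * h → x = 1) [Fintype H] :
    ∀ (n : ℕ) (V : Type v) [AddCommGroup V] [Module k V] [FiniteDimensional k V]
      (ρ : Representation k A V), Module.finrank k V = n →
      (∀ v, (∀ x ∈ Q, ρ x v = v) → v = 0) →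
      ∃ W : Submodule k V, IsFreeOn (ρ.comp H.subtype) W ⊤ := by
  intro n
  induction n using Nat.strong_induction_on with
  | _ n ih =>
    intro V _ _ _ ρ hn hfix
    rcases subsingleton_or_nontrivial V with hV | hV
    · refine ⟨⊥, fun v hv _ g => (Submodule.mem_bot k).mp (hv g), fun x _ =>
        ⟨fun _ => 0, fun _ => Submodule.zero_mem _, Subsingleton.elim _ _⟩,
        fun _ _ _ => Submodule.mem_top⟩
    · obtain ⟨V₁, W₁, hV₁0, hV₁inv, hfree₁⟩ :=
        propY Fk H Q hQF hnil hAFH hcop hfpf ρ hfix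
      let ρq : Representation k A (V ⧸ V₁) := ρ.quotient V₁ hV₁inv
      have hlt : Module.finrank k (V ⧸ V₁) < n := by
        have h1 := Submodule.finrank_quotient_add_finrank V₁
        have h2 : 0 < Module.finrank k V₁ := by
          rw [Nat.pos_iff_ne_zero]
          intro h
          exact hV₁0 (Submodule.finrank_eq_zero.mp h)
        omega
      obtain ⟨W₂, hfree₂⟩ := ih _ hlt (V ⧸ V₁) ρq rfl
        (fun w hw => fixed_quotient ρ Q hQ V₁ hV₁inv hfix w hw)
      exact IsFreeOn.extend (ρ.comp H.subtype) V₁ (ρq.comp H.subtype) (fun g x => rfl)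
        hfree₁ hfree₂

end Induction

end Cfsg.Agent.Lib.Helper69.FrobFree
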