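import Mathlib

set_option autoImplicit false

/-! A finite `p`-group acting on a nonzero space in characteristic `p` has a nonzero fixed vector. -/

namespace Cfsg.Agent.Lib.Helper69.FrobFree

open scoped BigOperators
open Polynomial

section Unipotent

variable {k : Type*} [Field k] {V : Type*} [AddCommGroup V] [Module k V]

theorem exists_fixed_of_pow_eq_one (p : ℕ) [Fact p.Prime] [CharP k p] (T : Module.End k V)
    (a : ℕ) (hT : T ^ (p ^ a) = 1) (V₂ : Submodule k V) (h0 : V₂ ≠ ⊥)
    (hinv : ∀ v ∈ V₂, T v ∈ V₂) : ∃ v ∈ V₂, v ≠ 0 ∧ T v = v := by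
  classical
  have hpoly : ((X : k[X]) - 1) ^ (p ^ a) = X ^ (p ^ a) - 1 := by
    rw [sub_pow_char_pow, one_pow]
  have hD : (T - 1) ^ (p ^ a) = 0 := by
    have := congrArg (Polynomial.aeval T) hpoly
    simp only [map_pow, map_sub, aeval_X, map_one] at this
    rw [this, hT, sub_self]
  have hDinv : ∀ (j : ℕ), ∀ v ∈ V₂, ((T - 1) ^ j : Module.End k V) v ∈ V₂ := by
    intro j
    induction j with
    | zero => intro v hv; simpa using hv
    | succ j ih =>
      intro v hv
      rw [pow_succ', Module.End.mul_apply, LinearMap.sub_apply, Module.End.one_apply]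
      exact V₂.sub_mem (hinv _ (ih v hv)) (ih v hv)
  obtain ⟨v₀, hv₀, hv₀0⟩ := Submodule.exists_mem_ne_zero_of_ne_bot h0
  have hex : ∃ j, ((T - 1) ^ j : Module.End k V) v₀ = 0 := ⟨p ^ a, by rw [hD]; rfl⟩
  have hj0 : Nat.find hex ≠ 0 := by
    intro h
    have := Nat.find_spec hex
    rw [h, pow_zero, Module.End.one_apply] at this
    exact hv₀0 this
  obtain ⟨j, hj⟩ := Nat.exists_eq_succ_of_ne_zero hj0
  refine ⟨((T - 1) ^ j : Module.End k V) v₀, hDinv j v₀ hv₀, ?_, ?_⟩
  · intro h
    have := Nat.find_min' hex h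
    omega
  · have := Nat.find_spec hex
    rw [hj, pow_succ', Module.End.mul_apply, LinearMap.sub_apply, Module.End.one_apply,
      sub_eq_zero] at this
    exact this

end Unipotent

section PGroup

variable {k : Type*} [Field k] {V : Type*} [AddCommGroup V] [Module k V]
variable {A : Type*} [Group A] [Finite A] (ρ : Representation k A V)

theorem pgroup_fixed (p : ℕ) [Fact p.Prime] [CharP k p] :
    ∀ (n : ℕ) (P : Subgroup A), Nat.card P = n → IsPGroup p P → ∀ V₀ : Submodule k V,
      V₀ ≠ ⊥ → (∀ y ∈ P, ∀ v ∈ V₀, ρ y v ∈ V₀) →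
      ∃ v ∈ V₀, v ≠ 0 ∧ ∀ y ∈ P, ρ y v = v := by
  intro n
  induction n using Nat.strong_induction_on with
  | _ n ih =>
    intro P hcard hP V₀ h0 hinv
    by_cases hbot : P = ⊥
    · obtain ⟨v, hv, hv0⟩ := Submodule.exists_mem_ne_zero_of_ne_bot h0
      refine ⟨v, hv, hv0, fun y hy => ?_⟩
      rw [hbot, Subgroup.mem_bot] at hy
      rw [hy, map_one, Module.End.one_apply]
    · -- a maximal subgroup of `P`
      have hnilP : Group.IsNilpotent P := hP.isNilpotent
      have hne : (⊥ : Subgroup P) ≠ ⊤ := by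
        intro h
        apply hbot
        rw [eq_bot_iff]
        intro x hx
        have : (⟨x, hx⟩ : P) ∈ (⊥ : Subgroup P) := h ▸ Subgroup.mem_top _
        rw [Subgroup.mem_bot] at this
        rw [Subgroup.mem_bot]
        exact congrArg Subtype.val this
      obtain ⟨M', hM', -⟩ := (eq_top_or_exists_le_coatom (⊥ : Subgroup P)).resolve_left hne
      have h3 := (Group.isNilpotent_of_finite_tfae (G := P)).out 0 2 rfl rfl
      have hM'n : M'.Normal := h3.mp hnilP M' hM'
      let M : Subgroup A := M'.map P.subtype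
      have hMP : M ≤ P := Subgroup.map_subtype_le M'
      have hMmem : ∀ x (hx : x ∈ P), x ∈ M ↔ (⟨x, hx⟩ : P) ∈ M' := by
        intro x hx
        constructor
        · intro h
          obtain ⟨y, hy, hyx⟩ := Subgroup.mem_map.mp h
          have : y = ⟨x, hx⟩ := Subtype.ext hyx
          rwa [← this]
        · intro h
          exact Subgroup.mem_map.mpr ⟨⟨x, hx⟩, h, rfl⟩
      have hMcard : Nat.card M < n := by
        rw [← hcard]
        have h1 : Nat.card M = Nat.card M' :=
          Subgroup.card_map_of_injective P.subtype_injective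
        rw [h1]
        apply lt_of_le_of_ne (Subgroup.card_le_card_group M')
        intro h
        exact hM'.1 (Subgroup.eq_top_of_card_eq M' h)
      have hMp : IsPGroup p M := hP.to_le hMP
      have hMinv : ∀ y ∈ M, ∀ v ∈ V₀, ρ y v ∈ V₀ := fun y hy => hinv y (hMP hy)
      obtain ⟨v₁, hv₁, hv₁0, hv₁fix⟩ := ih _ hMcard M rfl hMp V₀ h0 hMinv
      -- fixed space of `M`
      let VM : Submodule k V :=
        { carrier := {v | v ∈ V₀ ∧ ∀ m ∈ M, ρ m v = v}
          add_mem' := fun {a b} ha hb => ⟨V₀.add_mem ha.1 hb.1, fun m hm => by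
            rw [map_add, ha.2 m hm, hb.2 m hm]⟩
          zero_mem' := ⟨V₀.zero_mem, fun m _ => map_zero _⟩
          smul_mem' := fun c v hv => ⟨V₀.smul_mem c hv.1, fun m hm => by
            rw [map_smul, hv.2 m hm]⟩ }
      have hVMmem : ∀ v, v ∈ VM ↔ (v ∈ V₀ ∧ ∀ m ∈ M, ρ m v = v) := fun v => Iff.rfl
      have hVM0 : VM ≠ ⊥ := by
        intro h
        have : v₁ ∈ VM := ⟨hv₁, hv₁fix⟩
        rw [h, Submodule.mem_bot] at this
        exact hv₁0 this
      have hVMinv : ∀ y ∈ P, ∀ v ∈ VM, ρ y v ∈ VM := by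
        intro y hy v hv
        refine ⟨hinv y hy v hv.1, fun m hm => ?_⟩
        have hm' : y⁻¹ * m * y ∈ M := by
          have hmP : m ∈ P := hMP hm
          rw [hMmem _ (P.mul_mem (P.mul_mem (P.inv_mem hy) hmP) hy)]
          have h5 := hM'n.conj_mem ⟨m, hmP⟩ ((hMmem m hmP).mp hm) (⟨y, hy⟩ : P)⁻¹
          rw [inv_inv] at h5
          exact h5
        have h2 := hv.2 _ hm'
        rw [map_mul, map_mul, Module.End.mul_apply, Module.End.mul_apply] at h2
        have h3 := congrArg (ρ y) h2
        rw [ρ.self_inv_apply] at h3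
        exact h3
      -- an element outside `M`
      have hexy : ∃ y ∈ P, y ∉ M := by
        by_contra hcon
        push Not at hcon
        apply hM'.1
        rw [eq_top_iff]
        intro x _
        exact (hMmem x.1 x.2).mp (hcon x.1 x.2)
      obtain ⟨y, hyP, hyM⟩ := hexy
      obtain ⟨a, ha⟩ := hP ⟨y, hyP⟩
      have hya : ρ y ^ (p ^ a) = 1 := by
        rw [← map_pow]
        have : y ^ p ^ a = 1 := by
          have := congrArg Subtype.val ha
          simpa using this
        rw [this, map_one]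
      obtain ⟨v, hv, hv0, hvy⟩ := exists_fixed_of_pow_eq_one p (ρ y) a hya VM hVM0
        (hVMinv y hyP)
      refine ⟨v, hv.1, hv0, ?_⟩
      -- the stabilizer of `v` in `P`
      let C : Subgroup P :=
        { carrier := {g | ρ (g : A) v = v}
          one_mem' := by simp
          mul_mem' := fun {g h} hg hh => by
            show ρ ((g * h : P) : A) v = v
            rw [Subgroup.coe_mul, map_mul, Module.End.mul_apply, hh, hg]
          inv_mem' := fun {g} hg => by
            show ρ ((g⁻¹ : P) : A) v = v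
            rw [Subgroup.coe_inv]
            conv_lhs => rw [← hg]
            rw [ρ.inv_self_apply] }
      have hCmem : ∀ g : P, g ∈ C ↔ ρ (g : A) v = v := fun g => Iff.rfl
      have hM'C : M' ≤ C := by
        intro g hg
        rw [hCmem]
        exact hv.2 _ ((hMmem g.1 g.2).mpr hg)
      have hyC : (⟨y, hyP⟩ : P) ∈ C := hvy
      have hCtop : C = ⊤ := by
        apply hM'.2
        apply lt_of_le_of_ne hM'C
        intro h
        apply hyM
        rw [hMmem y hyP, h]
        exact hyC
      intro g hg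
      have : (⟨g, hg⟩ : P) ∈ C := hCtop ▸ Subgroup.mem_top _
      exact this

end PGroup

end Cfsg.Agent.Lib.Helper69.FrobFree
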