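import Mathlib
import Cfsg.Agent.Lib.Helper69.FrobFreeMain
import Cfsg.Agent.Lib.Helper69.FrobFreePGroup
import Cfsg.Agent.Lib.Helper1.Carter1
import Cfsg.Agent.Lib.Helper35.FrobeniusCount
import Cfsg.Agent.Lib.Helper35.FrobeniusMod

set_option autoImplicit false

/-! Reduction to the part of the kernel of invertible order, and the final theorem. -/

namespace Cfsg.Agent.Lib.Helper69.FrobFree

open scoped BigOperators Pointwise

section Reduction

variable {k : Type*} [Field k] {V : Type*} [AddCommGroup V] [Module k V]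
variable {A : Type*} [Group A] [Finite A] (ρ : Representation k A V)

theorem exists_invertible_part (Fk : Subgroup A) [hFn : Fk.Normal] (hnil : Group.IsNilpotent Fk)
    (hCF : ∀ v : V, (∀ f ∈ Fk, ρ f v = v) → v = 0) :
    ∃ Q : Subgroup A, Q ≤ Fk ∧ Q.Normal ∧ (Nat.card Q : k) ≠ 0 ∧
      ∀ v, (∀ x ∈ Q, ρ x v = v) → v = 0 := by
  classical
  by_cases h0 : (Nat.card Fk : k) ≠ 0
  · exact ⟨Fk, le_rfl, hFn, h0, hCF⟩
  push Not at h0
  obtain ⟨p, hchar⟩ := CharP.exists k
  have hp : p.Prime := by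
    rcases CharP.char_is_prime_or_zero k p with h | h
    · exact h
    · exfalso
      subst h
      have := (CharP.cast_eq_zero_iff k 0 (Nat.card Fk)).mp h0
      exact Nat.card_pos.ne' (Nat.eq_zero_of_zero_dvd this)
  haveI : Fact p.Prime := ⟨hp⟩
  haveI : Group.IsNilpotent Fk := hnil
  -- Sylow `p`-subgroup of `Fk` and its complement
  let P : Sylow p Fk := default
  have hPhall : (Nat.card (P : Subgroup Fk)).Coprime (P : Subgroup Fk).index := P.card_coprime_index
  haveI hPn : (P : Subgroup Fk).Normal :=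
    Cfsg.Agent.Lib.Helper1.normal_of_hall_of_isNilpotent (P : Subgroup Fk) hPhall
  obtain ⟨Q₀, hQ₀⟩ := Subgroup.exists_right_complement'_of_coprime hPhall
  have hmul : Nat.card (P : Subgroup Fk) * Nat.card Q₀ = Nat.card Fk := hQ₀.card_mul_card
  have hQ₀idx : Q₀.index = Nat.card (P : Subgroup Fk) := hQ₀.index_eq_card
  have hQ₀card : Nat.card Q₀ = (P : Subgroup Fk).index := by
    have h1 := (P : Subgroup Fk).card_mul_index
    have hpos : 0 < Nat.card (P : Subgroup Fk) := Nat.card_pos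
    exact Nat.eq_of_mul_eq_mul_left hpos (hmul.trans h1.symm)
  have hpQ₀ : ¬ p ∣ Nat.card Q₀ := by
    rw [hQ₀card]
    exact P.not_dvd_index
  have hQ₀hall : (Nat.card Q₀).Coprime Q₀.index := by
    rw [hQ₀idx, hQ₀card]
    exact hPhall.symm
  have hQ₀n : Q₀.Normal := Cfsg.Agent.Lib.Helper1.normal_of_hall_of_isNilpotent Q₀ hQ₀hall
  let Q : Subgroup A := Q₀.map Fk.subtype
  have hQF : Q ≤ Fk := Subgroup.map_subtype_le Q₀
  have hcardQ : Nat.card Q = Nat.card Q₀ := Subgroup.card_map_of_injective Fk.subtype_injective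
  have hQk : (Nat.card Q : k) ≠ 0 := by
    rw [Ne, CharP.cast_eq_zero_iff k p, hcardQ]
    exact hpQ₀
  have hsub : Q.subgroupOf Fk = Q₀ := by
    ext x
    rw [Subgroup.mem_subgroupOf]
    constructor
    · intro h
      obtain ⟨y, hy, hyx⟩ := Subgroup.mem_map.mp h
      have : y = x := Subtype.ext hyx
      rwa [← this]
    · intro h
      exact Subgroup.mem_map.mpr ⟨x, h, rfl⟩
  have hcopQ : (Nat.card Q).Coprime (Q.relIndex Fk) := by
    rw [Subgroup.relIndex, hsub, hcardQ]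
    exact hQ₀hall
  have hnormzr : Fk ≤ Subgroup.normalizer (Q : Set A) :=
    Cfsg.Agent.Lib.Helper1.le_normalizer_of_hall_of_isNilpotent Fk Q hQF hnil hcopQ
  have hconjeq : ∀ g : A, MulAut.conj g • Q = Q := by
    intro g
    have h1 : MulAut.conj g • Q ≤ Fk := by
      intro x hx
      rw [Cfsg.Agent.Lib.Helper35.mem_conj_smul] at hx
      have := hFn.conj_mem _ (hQF hx) g
      have e : g * (g⁻¹ * x * g) * g⁻¹ = x := by group
      rwa [e] at this
    exact Cfsg.Agent.Lib.Helper1.eq_of_normal_hall_of_card Fk Q (MulAut.conj g • Q) hQF h1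
      hnormzr hcopQ (Cfsg.Agent.Lib.Helper1.card_conj_smul g Q)
  have hQn : Q.Normal := by
    constructor
    intro n hn g
    rw [← hconjeq g]
    exact Cfsg.Agent.Lib.Helper35.conj_mem_conj_smul hn
  refine ⟨Q, hQF, hQn, hQk, ?_⟩
  -- fixed points
  intro v₀ hv₀
  by_contra hv₀0
  let V₀ : Submodule k V :=
    { carrier := {v | ∀ x ∈ Q, ρ x v = v}
      add_mem' := fun {a b} ha hb x hx => by rw [map_add, ha x hx, hb x hx]
      zero_mem' := fun x _ => map_zero _
      smul_mem' := fun c v hv x hx => by rw [map_smul, hv x hx] }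
  have hV₀mem : ∀ v, v ∈ V₀ ↔ ∀ x ∈ Q, ρ x v = v := fun v => Iff.rfl
  have hV₀0 : V₀ ≠ ⊥ := by
    intro h
    have : v₀ ∈ V₀ := hv₀
    rw [h, Submodule.mem_bot] at this
    exact hv₀0 this
  have hV₀inv : ∀ a : A, ∀ v ∈ V₀, ρ a v ∈ V₀ := by
    intro a v hv x hx
    have hx' : a⁻¹ * x * a ∈ Q := by
      have := hQn.conj_mem x hx a⁻¹
      rwa [inv_inv] at this
    have h1 := hv _ hx'
    rw [map_mul, map_mul, Module.End.mul_apply, Module.End.mul_apply] at h1
    have h2 := congrArg (ρ a) h1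
    rw [ρ.self_inv_apply] at h2
    exact h2
  let P' : Subgroup A := (P : Subgroup Fk).map Fk.subtype
  have hP'p : IsPGroup p P' := P.2.map Fk.subtype
  obtain ⟨v, hvV₀, hv0, hvP⟩ := pgroup_fixed ρ p _ P' rfl hP'p V₀ hV₀0
    (fun y _ v hv => hV₀inv y v hv)
  apply hv0
  apply hCF
  intro f hf
  obtain ⟨⟨a, b⟩, hab, -⟩ := hQ₀.existsUnique (⟨f, hf⟩ : Fk)
  simp only at hab
  have hf' : f = ((a : Fk) : A) * ((b : Fk) : A) := by
    have := congrArg Subtype.val hab
    simpa using this.symm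
  rw [hf', map_mul, Module.End.mul_apply]
  have hb : ((b : Fk) : A) ∈ Q := Subgroup.mem_map.mpr ⟨b, b.2, rfl⟩
  have ha : ((a : Fk) : A) ∈ P' := Subgroup.mem_map.mpr ⟨a, a.2, rfl⟩
  rw [hvV₀ _ hb, hvP _ ha]

end Reduction

section Final

variable {k : Type*} [Field k] {V : Type*} [AddCommGroup V] [Module k V] [FiniteDimensional k V]
variable {A : Type*} [Group A] [Finite A] [DecidableEq A]

theorem frobenius_free (ρ : Representation k A V)
    (Fk Hc : Subgroup A) [Fk.Normal] (hHc : Cfsg.IsFrobeniusComplement Hc)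
    (hker : Cfsg.frobeniusKernel Hc = (Fk : Set A)) (hnil : Group.IsNilpotent ↥Fk)
    (hCF : ∀ v : V, (∀ f ∈ Fk, ρ f v = v) → v = 0) :
    ∃ W : Submodule k V, DirectSum.IsInternal (fun h : ↥Hc => W.map (ρ (h : A))) := by
  haveI : Fintype Hc := Fintype.ofFinite _
  -- Frobenius facts
  have hcardF : Nat.card Fk = Hc.index := by
    rw [← Cfsg.Agent.Lib.Helper35.card_frobeniusKernel hHc, hker]
    rfl
  have hcop : (Nat.card Fk).Coprime (Nat.card Hc) := by
    rw [hcardF]
    have h := Cfsg.Agent.Lib.Helper35.index_mod_card hHc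
    rw [Nat.Coprime, Nat.gcd_comm, Nat.gcd_rec, h, ← Nat.gcd_rec, Nat.gcd_one_right]
  have hfpf : ∀ h ∈ Hc, h ≠ 1 → ∀ x ∈ Fk, h * x = x * h → x = 1 := by
    intro h hh h1 x hx hc
    have hxH : x ∈ Hc := Cfsg.Agent.Lib.Helper35.mem_of_commute hHc h1 hh hc.symm
    have hxk : x ∈ Cfsg.frobeniusKernel Hc := by
      rw [hker]
      exact hx
    rcases hxk with h2 | h2
    · exact h2
    · exfalso
      apply h2 1
      rw [Cfsg.Agent.Lib.Helper35.mem_conj_smul]
      simpa using hxH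
  have hAFH : ∀ a : A, ∃ x ∈ Fk, ∃ h ∈ Hc, a = x * h := by
    have hcompl : Subgroup.IsComplement' Fk Hc := by
      apply Subgroup.isComplement'_of_card_mul_and_disjoint
      · rw [hcardF, Subgroup.index_mul_card]
      · rw [disjoint_iff]
        exact Subgroup.inf_eq_bot_of_coprime hcop
    intro a
    obtain ⟨⟨x, h⟩, hxh, -⟩ := hcompl.existsUnique a
    exact ⟨x, x.2, h, h.2, hxh.symm⟩
  obtain ⟨Q, hQF, hQn, hQk, hQfix⟩ := exists_invertible_part ρ Fk hnil hCF
  haveI := hQn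
  obtain ⟨W, hW⟩ := thmX (k := k) Fk Hc Q hQF hnil hQk hAFH hcop hfpf _ V ρ rfl hQfix
  exact ⟨W, hW.isInternal (ρ.comp Hc.subtype)⟩

end Final

end Cfsg.Agent.Lib.Helper69.FrobFree
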