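import Mathlib
import Cfsg.Agent.Lib.Helper47.G42Defs

/-!
# G42 hive (S2553, owner helper47), sub-hive G42-F56 (architect helper82): sub-leaf F56-PRIM

A transitive subgroup of `Perm (Fin 6)` containing an element of cycle type `{5}` has order
divisible by `30` and is preprimitive (it is in fact 2-transitive).
-/

set_option autoImplicit false

namespace Cfsg.Agent.Lib.Helper47.G42

open Equiv

/-- An element of cycle type `{5}` in `Perm (Fin 6)` is a cycle with a unique fixed point. -/
theorem f56prim_fix (c : Perm (Fin 6)) (h5 : c.cycleType = {5}) :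
    c.IsCycle ∧ orderOf c = 5 ∧ ∃ z : Fin 6, c z = z ∧ ∀ x : Fin 6, x ≠ z → c x ≠ x := by
  have hcyc : c.IsCycle := by
    rw [← Equiv.Perm.card_cycleType_eq_one, h5]
    rfl
  have hord : orderOf c = 5 := by
    rw [← Equiv.Perm.lcm_cycleType, h5]
    rfl
  have hsupp : c.support.card = 5 := by
    rw [← Equiv.Perm.sum_cycleType, h5]
    rfl
  have hcompl : (c.supportᶜ).card = 1 := by
    rw [Finset.card_compl, hsupp, Fintype.card_fin]
  obtain ⟨z, hz⟩ := Finset.card_eq_one.mp hcompl
  refine ⟨hcyc, hord, z, ?_, ?_⟩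
  · have : z ∈ c.supportᶜ := by rw [hz]; exact Finset.mem_singleton_self z
    rw [Finset.mem_compl, Equiv.Perm.mem_support, not_not] at this
    exact this
  · intro x hx hfx
    have : x ∈ c.supportᶜ := by
      rw [Finset.mem_compl, Equiv.Perm.mem_support, not_not]
      exact hfx
    rw [hz, Finset.mem_singleton] at this
    exact hx this

/-- SUB-LEAF F56-PRIM. -/
theorem f56_prim (G : Subgroup (Perm (Fin 6))) (htr : ∀ x y : Fin 6, ∃ h ∈ G, h x = y)
    (c : Perm (Fin 6)) (hc : c ∈ G) (h5 : c.cycleType = {5}) :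
    30 ∣ Nat.card G ∧ MulAction.IsPreprimitive G (Fin 6) := by
  obtain ⟨hcyc, hord, z, hz, hmove⟩ := f56prim_fix c h5
  haveI htrans : MulAction.IsPretransitive G (Fin 6) := by
    constructor
    intro x y
    obtain ⟨h, hh, hxy⟩ := htr x y
    exact ⟨⟨h, hh⟩, hxy⟩
  constructor
  · -- 5 ∣ |G|
    have h5d : 5 ∣ Nat.card G := by
      have h := orderOf_dvd_natCard (⟨c, hc⟩ : G)
      rw [Subgroup.orderOf_mk, hord] at h
      exact h
    have h6d : 6 ∣ Nat.card G := by
      have h1 := MulAction.index_stabilizer_of_transitive G (0 : Fin 6)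
      have h2 := Subgroup.index_dvd_card (MulAction.stabilizer G (0 : Fin 6))
      rw [h1, Nat.card_fin] at h2
      exact h2
    have hco : Nat.Coprime 5 6 := by decide
    have := hco.mul_dvd_of_dvd_of_dvd h5d h6d
    simpa using this
  · apply MulAction.isPreprimitive_of_is_two_pretransitive
    rw [MulAction.is_two_pretransitive_iff]
    intro a b c' d hab hcd
    obtain ⟨g1, hg1, hg1a⟩ := htr a z
    obtain ⟨g2, hg2, hg2c⟩ := htr c' z
    have h1b : g1 b ≠ z := by
      intro h
      apply hab
      apply g1.injective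
      rw [hg1a, h]
    have h2d : g2 d ≠ z := by
      intro h
      apply hcd
      apply g2.injective
      rw [hg2c, h]
    obtain ⟨k, hk⟩ := hcyc.exists_pow_eq (hmove _ h1b) (hmove _ h2d)
    have hkz : (c ^ k) z = z := by
      have : ∀ n : ℕ, (c ^ n) z = z := by
        intro n
        induction n with
        | zero => simp
        | succ n ih => rw [pow_succ, Equiv.Perm.mul_apply, hz, ih]
      exact this k
    refine ⟨⟨g2⁻¹ * c ^ k * g1, G.mul_mem (G.mul_mem (G.inv_mem hg2) (G.pow_mem hc k)) hg1⟩, ?_, ?_⟩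
    · show (g2⁻¹ * c ^ k * g1) a = c'
      rw [Equiv.Perm.mul_apply, Equiv.Perm.mul_apply, hg1a, hkz, Equiv.Perm.inv_eq_iff_eq]
      exact hg2c.symm
    · show (g2⁻¹ * c ^ k * g1) b = d
      rw [Equiv.Perm.mul_apply, Equiv.Perm.mul_apply, hk, Equiv.Perm.inv_eq_iff_eq]

end Cfsg.Agent.Lib.Helper47.G42
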