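import Mathlib
import Cfsg.Prelude.Def_ClassicalGeometry
import Cfsg.Prelude.Def_GeometricClasses
import Cfsg.Prelude.Def_Classical
import Cfsg.Agent.Lib.Helper81.OnR2
import Cfsg.Agent.Lib.Helper69.QmR2B

/-! # An element of `Ω⁻_{2k+2}(q)` squaring to `-1` (`k` even, `q ≡ 7 mod 8`): the common core of
QM-R2A (helper14's Qm hive) and OM-R2A (helper46's Om hive). -/

set_option autoImplicit false

namespace Cfsg.Agent.Lib.Helper69.MinusR2A

open Module Matrix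
open Cfsg.Agent.Lib.Helper37

variable {F : Type*} [Field F]

/-- the rotation of the anisotropic plane: multiplication by an element of norm `1` and trace `0` -/
theorem plane_params [Fintype F] (h2 : (2 : F) ≠ 0) (hq : Fintype.card F % 4 = 3) (a b : F)
    (hab : ∀ x y : F, x ^ 2 + a * x * y + b * y ^ 2 = 0 → x = 0 ∧ y = 0) :
    ∃ s t : F, 2 * s + a * t = 0 ∧ s ^ 2 + a * s * t + b * t ^ 2 = 1 := by
  have hns : ¬ IsSquare (-1 : F) := by
    rw [FiniteField.isSquare_neg_one_iff]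
    omega
  have hd : ¬ IsSquare (a ^ 2 - 4 * b) := disc_nonsquare h2 a b hab
  have hsq : IsSquare ((-1 : F) * (a ^ 2 - 4 * b)) :=
    (isSquare_mul_nonsquare_iff (-1 : F) (a ^ 2 - 4 * b) (by simp) hd).mpr hns
  obtain ⟨w, hw⟩ := hsq
  have hw0 : w ≠ 0 := by
    rintro rfl
    apply hd
    refine ⟨0, ?_⟩
    linear_combination -hw
  refine ⟨-a * (2 / w) / 2, 2 / w, ?_, ?_⟩
  · field_simp
    ring
  · field_simp
    linear_combination hw

theorem plane_sq (a b s t : F) (htr : 2 * s + a * t = 0)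
    (hdet : s ^ 2 + a * s * t + b * t ^ 2 = 1) :
    (!![s, -(b * t); t, s + a * t] : Matrix (Fin 2) (Fin 2) F) * !![s, -(b * t); t, s + a * t] = -1 := by
  ext i j
  fin_cases i <;> fin_cases j
  · simp [Matrix.mul_apply, Fin.sum_univ_two]
    linear_combination s * htr - hdet
  · simp [Matrix.mul_apply, Fin.sum_univ_two]
    linear_combination (-b * t) * htr
  · simp [Matrix.mul_apply, Fin.sum_univ_two]
    linear_combination t * htr
  · simp [Matrix.mul_apply, Fin.sum_univ_two]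
    linear_combination (s + a * t) * htr - hdet

theorem plane_norm (a b s t : F) (hdet : s ^ 2 + a * s * t + b * t ^ 2 = 1) (z : Fin 2 → F) :
    ((!![s, -(b * t); t, s + a * t] : Matrix (Fin 2) (Fin 2) F) *ᵥ z) 0 ^ 2 +
      a * ((!![s, -(b * t); t, s + a * t] : Matrix (Fin 2) (Fin 2) F) *ᵥ z) 0 *
        ((!![s, -(b * t); t, s + a * t] : Matrix (Fin 2) (Fin 2) F) *ᵥ z) 1 +
      b * ((!![s, -(b * t); t, s + a * t] : Matrix (Fin 2) (Fin 2) F) *ᵥ z) 1 ^ 2 =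
    z 0 ^ 2 + a * z 0 * z 1 + b * z 1 ^ 2 := by
  simp [Matrix.mulVec, dotProduct, Fin.sum_univ_two]
  linear_combination (z 0 ^ 2 + a * z 0 * z 1 + b * z 1 ^ 2) * hdet

/-- an isometry of `quadFormMinus k` squaring to `-1` (`k` even, `q ≡ 3 mod 4`) -/
theorem exists_isom_sq_neg_one [Fintype F] (h2 : (2 : F) ≠ 0) (k : ℕ) (hk : Even k)
    (hq : Fintype.card F % 4 = 3) (a b : F)
    (hab : ∀ x y : F, x ^ 2 + a * x * y + b * y ^ 2 = 0 → x = 0 ∧ y = 0) :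
    ∃ x : Matrix.GeneralLinearGroup ((Fin k ⊕ Fin k) ⊕ Fin 2) F,
      x ∈ Cfsg.isometryGroup F (Cfsg.quadFormMinus k F a b) ∧
      (x : Matrix ((Fin k ⊕ Fin k) ⊕ Fin 2) ((Fin k ⊕ Fin k) ⊕ Fin 2) F) *
        (x : Matrix ((Fin k ⊕ Fin k) ⊕ Fin 2) ((Fin k ⊕ Fin k) ⊕ Fin 2) F) = -1 := by
  classical
  obtain ⟨j, hj⟩ := hk
  obtain ⟨y, hy, hyy⟩ := Cfsg.Agent.Lib.Helper81.On.r2a_core (F := F) k Fin.rev Fin.rev_rev
      (fun i => if (i : ℕ) < j then 1 else -1)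
      (by
        intro i
        have hi := i.2
        by_cases h1 : (i : ℕ) < j
        · have h3 : ¬ ((Fin.rev i : Fin k) : ℕ) < j := by
            rw [Fin.val_rev]; omega
          rw [if_pos h1, if_neg h3]; simp
        · have h3 : ((Fin.rev i : Fin k) : ℕ) < j := by
            rw [Fin.val_rev]; omega
          rw [if_neg h1, if_pos h3]; simp)
      (by
        intro i
        by_cases h1 : (i : ℕ) < j <;> simp [h1])
  obtain ⟨s, t, htr, hdet⟩ := plane_params h2 hq a b hab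
  set M : Matrix (Fin k ⊕ Fin k) (Fin k ⊕ Fin k) F :=
    (y : Matrix (Fin k ⊕ Fin k) (Fin k ⊕ Fin k) F) with hM
  set R : Matrix (Fin 2) (Fin 2) F := !![s, -(b * t); t, s + a * t] with hR
  have hRR : R * R = -1 := plane_sq a b s t htr hdet
  have hMiso : ∀ u, Cfsg.quadFormPlus k F (M *ᵥ u) = Cfsg.quadFormPlus k F u :=
    (mem_isometryGroup_iff' _ y).mp hy
  set X : Matrix ((Fin k ⊕ Fin k) ⊕ Fin 2) ((Fin k ⊕ Fin k) ⊕ Fin 2) F :=
    Matrix.fromBlocks M 0 0 R with hX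
  have hXX : X * X = -1 := by
    rw [hX, Matrix.fromBlocks_multiply]
    simp only [Matrix.mul_zero, Matrix.zero_mul, add_zero, zero_add, hyy, hRR]
    rw [show (-1 : Matrix ((Fin k ⊕ Fin k) ⊕ Fin 2) ((Fin k ⊕ Fin k) ⊕ Fin 2) F) =
      -(Matrix.fromBlocks 1 0 0 1) by rw [Matrix.fromBlocks_one], Matrix.fromBlocks_neg]
    simp
  refine ⟨⟨X, -X, by rw [Matrix.mul_neg, hXX, neg_neg], by rw [Matrix.neg_mul, hXX, neg_neg]⟩, ?_,
    hXX⟩
  rw [mem_isometryGroup_iff']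
  intro u
  show Cfsg.quadFormMinus k F a b (X *ᵥ u) = Cfsg.quadFormMinus k F a b u
  have hl : ∀ i, (X *ᵥ u) (Sum.inl i) = (M *ᵥ (u ∘ Sum.inl)) i := by
    intro i
    rw [hX, Matrix.fromBlocks_mulVec]
    simp
  have hr : ∀ i, (X *ᵥ u) (Sum.inr i) = (R *ᵥ (u ∘ Sum.inr)) i := by
    intro i
    rw [hX, Matrix.fromBlocks_mulVec]
    simp
  have hplus := hMiso (u ∘ Sum.inl)
  have hplane := plane_norm a b s t hdet (u ∘ Sum.inr)
  unfold Cfsg.quadFormPlus at hplus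
  unfold Cfsg.quadFormMinus
  simp only [hl, hr]
  rw [hplus, ← hR] at *
  rw [hplane]
  rfl

/-- the common core of QM-R2A / OM-R2A -/
theorem exists_sq_neg_one_mem_core [Fintype F] (h2 : (2 : F) ≠ 0) (k : ℕ) (hk : Even k)
    (hq : Fintype.card F % 8 = 7) (a b : F)
    (hab : ∀ x y : F, x ^ 2 + a * x * y + b * y ^ 2 = 0 → x = 0 ∧ y = 0) :
    ∃ x : Matrix.GeneralLinearGroup ((Fin k ⊕ Fin k) ⊕ Fin 2) F,
      x ∈ Cfsg.Geo.omegaGL (Cfsg.quadFormMinus k F a b) ∧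
      (x : Matrix ((Fin k ⊕ Fin k) ⊕ Fin 2) ((Fin k ⊕ Fin k) ⊕ Fin 2) F) *
        (x : Matrix ((Fin k ⊕ Fin k) ⊕ Fin 2) ((Fin k ⊕ Fin k) ⊕ Fin 2) F) = -1 := by
  obtain ⟨x, hx, hxx⟩ := exists_isom_sq_neg_one h2 k hk (by omega) a b hab
  have hgg : toMat (Cfsg.quadFormMinus k F a b) ⟨x, hx⟩ *
      toMat (Cfsg.quadFormMinus k F a b) ⟨x, hx⟩ = -1 := hxx
  obtain ⟨-, h3⟩ := Cfsg.Agent.Lib.Helper14.Qm.r2b_mem_iff h2 k a b hab ⟨x, hx⟩ hgg
  have htwo : IsSquare (2 : F) := by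
    rw [FiniteField.isSquare_two_iff]; omega
  exact ⟨x, ⟨⟨x, hx⟩, h3.2 (htwo.pow (k + 1)), rfl⟩, hxx⟩

end Cfsg.Agent.Lib.Helper69.MinusR2A
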