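import Mathlib
import Cfsg.Prelude.Def_Classical
import Cfsg.Agent.Lib.Helper15.DegCoprime
import Cfsg.Agent.Lib.Helper25.IndNormal
import Cfsg.Agent.Lib.Helper79.Basic
import Cfsg.Agent.Lib.Helper74.Osima5
import Cfsg.Agent.Lib.Helper3.FTBRep

/-! # OPBN-DESC (helper40's S2548 hive): descent of a Steinberg-type character from `K ≥ Om` to
`Om ⧸ Z(Om)` (generalisation of helper42 `pomega_steinberg_descent`). -/

set_option autoImplicit false
set_option linter.style.haveILetI false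

namespace Cfsg.Agent.Lib.Helper40.OpBN

open Cfsg

theorem descent_gen {G : Type*} [Group G] [Finite G] (p : ℕ) [Fact p.Prime]
    (K Om : Subgroup G) [Om.Normal] (hle : Om ≤ K)
    (χ : ↥K → ℂ) (hχ : Cfsg.IsIrrCharacter ↥K χ) (d k e : ℕ) (hde : d = p ^ e) (hχ1 : χ 1 = (d : ℂ))
    (hcard : Nat.card ↥K = d * k) (hpk : ¬ p ∣ k)
    (hcop : d.Coprime (Om.subgroupOf K).index)
    (hZ : ∀ z : ↥Om, z ∈ Subgroup.center ↥Om → χ ⟨(z : G), hle z.2⟩ = χ 1) :
    ∃ ψ : (↥Om ⧸ Subgroup.center ↥Om) → ℂ, Cfsg.IsIrrCharacter (↥Om ⧸ Subgroup.center ↥Om) ψ ∧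
      ∀ P : Sylow p (↥Om ⧸ Subgroup.center ↥Om), ψ 1 = Nat.card P ∧
        ∀ x : ↥Om ⧸ Subgroup.center ↥Om, x ∈ P → x ≠ 1 → ψ x = 0 := by
  classical
  have hp : p.Prime := Fact.out
  haveI : Fintype ↥K := Fintype.ofFinite _
  haveI : Fintype ↥Om := Fintype.ofFinite _
  haveI : Fintype (↥Om ⧸ Subgroup.center ↥Om) := Fintype.ofFinite _
  have hdeg : charDegree χ = d := by
    unfold charDegree
    rw [hχ1]
    simp
  have hcop' : (charDegree ((⟨χ, hχ⟩ : IrrCharacter ↥K) : ↥K → ℂ)).Coprime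
      (Om.subgroupOf K).index := by
    show (charDegree χ).Coprime (Om.subgroupOf K).index
    rw [hdeg]
    exact hcop
  have hθ0 : IsIrrCharacter ↥(Om.subgroupOf K) (fun x : ↥(Om.subgroupOf K) => χ (x : ↥K)) :=
    Cfsg.Agent.Lib.Helper15.irr_restrict_of_coprime_degree (Om.subgroupOf K) ⟨χ, hχ⟩ hcop'
  have hθ : IsIrrCharacter ↥Om (fun z : ↥Om => χ ⟨(z : G), hle z.2⟩) := by
    have h1 := Cfsg.Agent.Lib.Helper25.IsIrrCharacter.comp_surj
      ((Subgroup.subgroupOfEquivOfLe hle).symm.toMonoidHom)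
      (Subgroup.subgroupOfEquivOfLe hle).symm.surjective hθ0
    exact h1
  obtain ⟨ψ, hψ, hval⟩ := Cfsg.Agent.Lib.Helper79.isIrrCharacter_deflate hθ
    (Subgroup.center ↥Om) (fun z hz => by
      show χ ⟨(z : G), hle z.2⟩ = χ ⟨((1 : ↥Om) : G), hle (1 : ↥Om).2⟩
      rw [hZ z hz]
      rfl)
  have hψ1 : ψ 1 = (d : ℂ) := by
    have := hval 1
    rw [QuotientGroup.mk_one] at this
    rw [this, ← hχ1]
    rfl
  obtain ⟨k', hk'⟩ := Cfsg.Agent.Lib.Helper3.irr_degree_dvd_card hψ d hψ1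
  have hd0 : 0 < d := by
    rw [hde]
    exact pow_pos hp.pos e
  have hdvd : Nat.card (↥Om ⧸ Subgroup.center ↥Om) ∣ Nat.card ↥K := by
    refine (Subgroup.card_quotient_dvd_card _).trans ?_
    rw [← Nat.card_congr (Subgroup.subgroupOfEquivOfLe hle).toEquiv]
    exact Subgroup.card_subgroup_dvd_card _
  have hk'k : k' ∣ k := by
    rw [hk', hcard] at hdvd
    exact (Nat.mul_dvd_mul_iff_left hd0).mp hdvd
  have hpk' : ¬ p ∣ k' := fun h => hpk (h.trans hk'k)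
  have hcardP : ∀ P : Sylow p (↥Om ⧸ Subgroup.center ↥Om), Nat.card P = d := by
    intro P
    rw [Sylow.card_eq_multiplicity, hk', hde]
    have hk0 : k' ≠ 0 := by
      rintro rfl
      rw [mul_zero] at hk'
      exact Nat.card_pos.ne' hk'
    have h1' : p ^ e ≠ 0 := pow_ne_zero _ hp.ne_zero
    rw [Nat.factorization_mul h1' hk0, Finsupp.add_apply,
      Nat.factorization_eq_zero_of_not_dvd hpk', add_zero,
      hp.factorization_pow, Finsupp.single_eq_same]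
  refine ⟨ψ, hψ, fun P => ⟨?_, ?_⟩⟩
  · rw [hψ1, hcardP P]
  · intro x hx hx1
    have hdiv : p ∣ orderOf x := by
      obtain ⟨j, hj⟩ := (IsPGroup.iff_orderOf.mp P.isPGroup') ⟨x, hx⟩
      rw [Subgroup.orderOf_mk] at hj
      rw [hj]
      have hj0 : j ≠ 0 := by
        rintro rfl
        rw [pow_zero, orderOf_eq_one_iff] at hj
        exact hx1 hj
      exact dvd_pow_self p hj0
    exact Cfsg.Agent.Lib.Helper74.irr_vanish_of_defect_zero hp ⟨ψ, hψ⟩ d k' hψ1 hk' hpk' x hdiv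

end Cfsg.Agent.Lib.Helper40.OpBN
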