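import Mathlib

/-! # S2548 hive (helper40, "OpBN"): sub-lemma of the leaf EXC-A

For a finite group `X` of order dividing `18` whose central quotient has even order, the central
quotient is nonabelian. -/

set_option autoImplicit false

namespace Cfsg.Agent.Lib.Helper40.OpBN

/-- a central element of square one is trivial, if `|X| ∣ 18` and `|X / Z(X)|` is even -/
theorem exca_central_sq {X : Type*} [Group X] [Finite X] (h : Nat.card X ∣ 18)
    (h2 : 2 ∣ Nat.card (X ⧸ Subgroup.center X)) (c : X) (hc : c ∈ Subgroup.center X)
    (hcc : c * c = 1) : c = 1 := by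
  by_contra hne
  have ho : orderOf c = 2 := orderOf_eq_prime (by rw [pow_two]; exact hcc) hne
  have h3 : 2 ∣ Nat.card (Subgroup.center X) := by
    rw [← ho]
    exact Subgroup.orderOf_dvd_natCard _ hc
  have h4 := Subgroup.card_eq_card_quotient_mul_card_subgroup (Subgroup.center X)
  have h5 : 2 * 2 ∣ Nat.card X := by
    rw [h4]
    exact Nat.mul_dvd_mul h2 h3
  have h6 : 4 ∣ 18 := Nat.dvd_trans h5 h
  norm_num at h6

/-- EXC-A (i): the central quotient is nonabelian -/
theorem exca_nonabelian {X : Type*} [Group X] [Finite X] (h : Nat.card X ∣ 18)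
    (h2 : 2 ∣ Nat.card (X ⧸ Subgroup.center X)) :
    commutator (X ⧸ Subgroup.center X) ≠ ⊥ := by
  intro hcomm
  -- the quotient is commutative
  have hY : ∀ a b : X ⧸ Subgroup.center X, a * b = b * a := by
    intro a b
    have h1 : Subgroup.center (X ⧸ Subgroup.center X) = ⊤ :=
      (commutator_eq_bot_iff_center_eq_top _).1 hcomm
    have h3 : b ∈ Subgroup.center (X ⧸ Subgroup.center X) := by rw [h1]; trivial
    exact (Subgroup.mem_center_iff.1 h3) a
  have hcen : ∀ x y : X, (y * x)⁻¹ * (x * y) ∈ Subgroup.center X := by
    intro x y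
    have h1 := hY (QuotientGroup.mk x) (QuotientGroup.mk y)
    rw [← QuotientGroup.mk_mul, ← QuotientGroup.mk_mul] at h1
    exact QuotientGroup.eq.1 h1.symm
  -- an involution
  have h2X : 2 ∣ Nat.card X := by
    rw [Subgroup.card_eq_card_quotient_mul_card_subgroup (Subgroup.center X)]
    exact Dvd.dvd.mul_right h2 _
  haveI : Fact (Nat.Prime 2) := ⟨Nat.prime_two⟩
  obtain ⟨t, ht⟩ := exists_prime_orderOf_dvd_card' 2 h2X
  have htt : t * t = 1 := by
    rw [← pow_two, ← ht]
    exact pow_orderOf_eq_one t
  have ht1 : t ≠ 1 := by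
    intro h1
    rw [h1, orderOf_one] at ht
    norm_num at ht
  -- `t` is central
  have htc : t ∈ Subgroup.center X := by
    rw [Subgroup.mem_center_iff]
    intro y
    have key : ∀ w : X, w ∈ Subgroup.center X → t * y = y * t * w → w = 1 := by
      intro w hwc h1
      have hwt : w * t = t * w := ((Subgroup.mem_center_iff.1 hwc) t).symm
      have h3 : y * (w * w) = y := by
        calc y * (w * w) = y * (t * t) * w * w := by rw [htt, mul_one, mul_assoc]
          _ = y * t * (t * w) * w := by simp only [mul_assoc]
          _ = y * t * (w * t) * w := by rw [hwt]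
          _ = (y * t * w) * t * w := by simp only [mul_assoc]
          _ = (t * y) * t * w := by rw [← h1]
          _ = t * (y * t * w) := by simp only [mul_assoc]
          _ = t * (t * y) := by rw [← h1]
          _ = y := by rw [← mul_assoc, htt, one_mul]
      have h4 : w * w = 1 :=
        mul_left_cancel (a := y) (b := w * w) (c := 1) (by rw [h3, mul_one])
      exact exca_central_sq h h2 w hwc h4
    have h1 : t * y = y * t * ((y * t)⁻¹ * (t * y)) := by
      rw [mul_inv_cancel_left]
    have h5 := key _ (hcen t y) h1
    rw [h5, mul_one] at h1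
    exact h1.symm
  exact ht1 (exca_central_sq h h2 t htc htt)

end Cfsg.Agent.Lib.Helper40.OpBN
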