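import Mathlib

set_option autoImplicit false

namespace Cfsg.Agent.Lib.Helper69

/-- Two actions of a finite group: if orbits have coprime sizes, the stabilizer of the second
point is transitive on the first orbit. -/
theorem exists_smul_eq_of_coprime_orbits' {H X Y : Type*} [Group H] [Finite H] [MulAction H X]
    [MulAction H Y] (a : X) (b : Y)
    (hcop : ((MulAction.orbit H a).ncard).Coprime ((MulAction.orbit H b).ncard)) (h : H) :
    ∃ g : H, g • a = h • a ∧ g • b = b := by
  classical
  have hfa : (MulAction.orbit H a).Finite := Set.finite_range _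
  have hfb : (MulAction.orbit H b).Finite := Set.finite_range _
  have hfab : (MulAction.orbit H (a, b)).Finite := Set.finite_range _
  have hA := MulAction.index_stabilizer H a
  have hB := MulAction.index_stabilizer H b
  have hP := MulAction.index_stabilizer H (a, b)
  have hPA : MulAction.stabilizer H (a, b) ≤ MulAction.stabilizer H a := by
    intro g hg
    rw [MulAction.mem_stabilizer_iff] at hg ⊢
    exact congrArg Prod.fst hg
  have hPB : MulAction.stabilizer H (a, b) ≤ MulAction.stabilizer H b := by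
    intro g hg
    rw [MulAction.mem_stabilizer_iff] at hg ⊢
    exact congrArg Prod.snd hg
  have h1 : (MulAction.orbit H a).ncard ∣ (MulAction.orbit H (a, b)).ncard := by
    rw [← hA, ← hP]; exact Subgroup.index_dvd_of_le hPA
  have h2 : (MulAction.orbit H b).ncard ∣ (MulAction.orbit H (a, b)).ncard := by
    rw [← hB, ← hP]; exact Subgroup.index_dvd_of_le hPB
  have h3 := hcop.mul_dvd_of_dvd_of_dvd h1 h2
  have hsub : MulAction.orbit H (a, b) ⊆ (MulAction.orbit H a) ×ˢ (MulAction.orbit H b) := by
    rintro _ ⟨g, rfl⟩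
    exact ⟨⟨g, rfl⟩, ⟨g, rfl⟩⟩
  have hprod : ((MulAction.orbit H a) ×ˢ (MulAction.orbit H b)).ncard
      = (MulAction.orbit H a).ncard * (MulAction.orbit H b).ncard := Set.ncard_prod
  have hpos : 0 < (MulAction.orbit H (a, b)).ncard := by
    rw [Set.ncard_pos hfab]
    exact MulAction.nonempty_orbit _
  have hle : ((MulAction.orbit H a) ×ˢ (MulAction.orbit H b)).ncard
      ≤ (MulAction.orbit H (a, b)).ncard := by
    rw [hprod]
    exact Nat.le_of_dvd hpos h3
  have heq := Set.eq_of_subset_of_ncard_le hsub hle (hfa.prod hfb)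
  have hmem : (h • a, b) ∈ (MulAction.orbit H a) ×ˢ (MulAction.orbit H b) :=
    ⟨⟨h, rfl⟩, MulAction.mem_orbit_self b⟩
  rw [← heq] at hmem
  obtain ⟨g, hg⟩ := hmem
  exact ⟨g, congrArg Prod.fst hg, congrArg Prod.snd hg⟩

/-- A subgroup whose index is coprime to an orbit size is transitive on that orbit. -/
theorem exists_mem_smul_eq_of_coprime_index {K X : Type*} [Group K] [Finite K] [MulAction K X]
    (a : X) (Q : Subgroup K) (hcop : ((MulAction.orbit K a).ncard).Coprime Q.index) (κ : K) :
    ∃ g ∈ Q, g • a = κ • a := by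
  have hQ : (MulAction.orbit K ((1 : K) : K ⧸ Q)).ncard = Q.index := by
    rw [MulAction.orbit_eq_univ, Set.ncard_univ, Subgroup.index]
  rw [← hQ] at hcop
  obtain ⟨g, hg1, hg2⟩ := exists_smul_eq_of_coprime_orbits' a ((1 : K) : K ⧸ Q) hcop κ
  refine ⟨g, ?_, hg1⟩
  rw [MulAction.Quotient.smul_mk, QuotientGroup.eq] at hg2
  have : (g • (1 : K))⁻¹ * 1 = g⁻¹ := by rw [smul_eq_mul]; group
  rw [this] at hg2
  exact (Subgroup.inv_mem_iff Q).mp hg2

end Cfsg.Agent.Lib.Helper69
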