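import Mathlib
import Cfsg.Prelude.Def_Local

set_option autoImplicit false

namespace Cfsg.Agent.Lib.Helper69

universe u

theorem relIndex_dvd_relIndex_of_normal {G : Type*} [Group G] (N K L : Subgroup G) [N.Normal]
    (hKL : K ≤ L) : N.relIndex K ∣ N.relIndex L := by
  rw [← Subgroup.relIndex_subgroupOf hKL]
  exact Subgroup.relIndex_dvd_index_of_normal _ _

theorem relIndex_subgroupOf_dvd {G : Type*} [Group G] (N M B : Subgroup G) [N.Normal] :
    (N.subgroupOf B).relIndex (M.subgroupOf B) ∣ N.relIndex M := by
  have h1 : (N.subgroupOf B).relIndex (M.subgroupOf B) = N.relIndex (M ⊓ B) := by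
    show (N.comap B.subtype).relIndex (M.subgroupOf B) = _
    rw [Subgroup.relIndex_comap, Subgroup.subgroupOf_map_subtype]
  rw [h1]
  exact relIndex_dvd_relIndex_of_normal N _ _ inf_le_left

/-- Subgroups of `p`-soluble groups are `p`-soluble. -/
theorem isPSolvable_subgroup {G : Type*} [Group G] (p : ℕ) [hp : Fact p.Prime]
    (h : Cfsg.IsPSolvable p G) (B : Subgroup G) : Cfsg.IsPSolvable p B := by
  obtain ⟨n, H, h0, hl, hmono, hnorm, hstep⟩ := h
  refine ⟨n, fun i => (H i).subgroupOf B, ?_, ?_, ?_, ?_, ?_⟩
  · show (H 0).subgroupOf B = ⊥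
    rw [h0, Subgroup.bot_subgroupOf]
  · show (H (Fin.last n)).subgroupOf B = ⊤
    rw [hl, Subgroup.top_subgroupOf]
  · intro i j hij
    exact Subgroup.comap_mono (hmono hij)
  · intro i
    exact (hnorm i).subgroupOf B
  · intro i
    have := hnorm i.castSucc
    have key := relIndex_subgroupOf_dvd (H i.castSucc) (H i.succ) B
    rcases hstep i with ⟨m, hm⟩ | hc
    · left
      rw [hm] at key
      obtain ⟨j, -, hj⟩ := (Nat.dvd_prime_pow hp.out).mp key
      exact ⟨j, hj⟩
    · right
      exact Nat.Coprime.coprime_dvd_left key hc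

theorem exists_pComplement_aux (p : ℕ) [Fact p.Prime] :
    ∀ (n : ℕ) (G : Type u) [Group G] [Finite G] (H : Fin (n + 1) → Subgroup G),
      H 0 = ⊥ → H (Fin.last n) = ⊤ → Monotone H → (∀ i, (H i).Normal) →
      (∀ i : Fin n, (∃ m : ℕ, (H i.castSucc).relIndex (H i.succ) = p ^ m) ∨
        ((H i.castSucc).relIndex (H i.succ)).Coprime p) →
      ∃ Q : Subgroup G, (Nat.card Q).Coprime p ∧ ∃ m : ℕ, Q.index = p ^ m := by
  intro n
  induction n with
  | zero =>
    intro G _ _ H h0 hl _ _ _
    have : (⊥ : Subgroup G) = ⊤ := by rw [← h0, ← hl]; rfl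
    refine ⟨⊤, ?_, 0, by simp⟩
    rw [← this, Subgroup.card_bot]
    exact Nat.coprime_one_left p
  | succ n ih =>
    intro G _ _ H h0 hl hmono hnorm hstep
    have hN : (H 1).Normal := hnorm 1
    set N := H 1 with hNdef
    -- the chain in the quotient
    let K : Fin (n + 1) → Subgroup (G ⧸ N) := fun i => (H i.succ).map (QuotientGroup.mk' N)
    have hNle : ∀ i : Fin (n + 1), N ≤ H i.succ := by
      intro i
      apply hmono
      rw [Fin.le_def]
      simp
    have hK0 : K 0 = ⊥ := by
      show (H (Fin.succ 0)).map (QuotientGroup.mk' N) = ⊥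
      rw [Subgroup.map_eq_bot_iff, QuotientGroup.ker_mk']
      exact le_of_eq rfl
    have hKl : K (Fin.last n) = ⊤ := by
      show (H (Fin.last n).succ).map (QuotientGroup.mk' N) = ⊤
      rw [Fin.succ_last, hl, ← MonoidHom.range_eq_map, MonoidHom.range_eq_top]
      exact QuotientGroup.mk'_surjective N
    have hKmono : Monotone K := by
      intro i j hij
      apply Subgroup.map_mono
      apply hmono
      exact Fin.succ_le_succ_iff.mpr hij
    have hKnorm : ∀ i, (K i).Normal := by
      intro i
      have := hnorm i.succ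
      exact Subgroup.Normal.map (hnorm i.succ) _ (QuotientGroup.mk'_surjective N)
    have hKstep : ∀ i : Fin n, (∃ m : ℕ, (K i.castSucc).relIndex (K i.succ) = p ^ m) ∨
        ((K i.castSucc).relIndex (K i.succ)).Coprime p := by
      intro i
      have heq : (K i.castSucc).relIndex (K i.succ)
          = (H i.succ.castSucc).relIndex (H i.succ.succ) := by
        show ((H i.castSucc.succ).map (QuotientGroup.mk' N)).relIndex
          ((H i.succ.succ).map (QuotientGroup.mk' N)) = _
        rw [Subgroup.relIndex_map_map, QuotientGroup.ker_mk', Fin.succ_castSucc,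
          sup_of_le_left, sup_of_le_left]
        · exact hNle i.succ
        · have := hNle i.castSucc
          rwa [Fin.succ_castSucc] at this
      rw [heq]
      exact hstep i.succ
    obtain ⟨Qb, hQb1, m, hQb2⟩ := ih (G ⧸ N) K hK0 hKl hKmono hKnorm hKstep
    set L := Qb.comap (QuotientGroup.mk' N) with hL
    have hNL : N ≤ L := by
      intro x hx
      rw [hL, Subgroup.mem_comap]
      have : (QuotientGroup.mk' N) x = 1 := by
        rw [← MonoidHom.mem_ker, QuotientGroup.ker_mk']; exact hx
      rw [this]; exact Qb.one_mem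
    have hLidx : L.index = p ^ m := by
      rw [hL, Subgroup.index_comap_of_surjective _ (QuotientGroup.mk'_surjective N), hQb2]
    have hLmap : L.map (QuotientGroup.mk' N) = Qb :=
      Subgroup.map_comap_eq_self_of_surjective (QuotientGroup.mk'_surjective N) Qb
    -- |L : N| = |Qb|
    have hrel : N.relIndex L = Nat.card Qb := by
      have := Subgroup.relIndex_ker (K := L) (QuotientGroup.mk' N)
      rw [QuotientGroup.ker_mk', hLmap] at this
      exact this
    have hcardL : Nat.card (N.subgroupOf L) * N.relIndex L = Nat.card L :=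
      Subgroup.card_mul_index (N.subgroupOf L)
    have hcardN : Nat.card (N.subgroupOf L) = Nat.card N := by
      exact Nat.card_congr (Subgroup.subgroupOfEquivOfLe hNL).toEquiv
    have h01 := hstep 0
    have hrel01 : (H (0 : Fin (n + 1)).castSucc).relIndex (H (0 : Fin (n + 1)).succ) = Nat.card N := by
      have e1 : (0 : Fin (n + 1)).castSucc = 0 := rfl
      have e2 : (0 : Fin (n + 1)).succ = 1 := rfl
      rw [e1, e2, h0, Subgroup.relIndex_bot_left]
    rw [hrel01] at h01
    rcases h01 with ⟨e, he⟩ | hcop
    · -- N is a p-group: Schur-Zassenhaus in L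
      have hcopr : Nat.Coprime (Nat.card (N.subgroupOf L)) (N.subgroupOf L).index := by
        rw [hcardN, he]
        show Nat.Coprime (p ^ e) (N.relIndex L)
        rw [hrel]
        exact Nat.Coprime.pow_left e hQb1.symm
      obtain ⟨Q', hQ'⟩ := Subgroup.exists_right_complement'_of_coprime hcopr
      refine ⟨Q'.map L.subtype, ?_, e + m, ?_⟩
      · have h1 : Nat.card (Q'.map L.subtype) = Nat.card Q' :=
          Nat.card_congr (Q'.equivMapOfInjective L.subtype L.subtype_injective).toEquiv.symm
        have h2 : Nat.card Q' = (N.subgroupOf L).index := hQ'.symm.index_eq_card.symm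
        rw [h1, h2]
        show Nat.Coprime (N.relIndex L) p
        rw [hrel]; exact hQb1
      · rw [Subgroup.index_map_subtype, hLidx, hQ'.index_eq_card, hcardN, he, pow_add]
    · -- N is a p'-group
      refine ⟨L, ?_, m, hLidx⟩
      rw [← hcardL, hcardN, hrel]
      exact Nat.Coprime.mul_left hcop hQb1

/-- A finite `p`-soluble group has a `p`-complement. -/
theorem exists_pComplement (p : ℕ) [Fact p.Prime] {G : Type u} [Group G] [Finite G]
    (h : Cfsg.IsPSolvable p G) :
    ∃ Q : Subgroup G, (Nat.card Q).Coprime p ∧ ∃ m : ℕ, Q.index = p ^ m := by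
  obtain ⟨n, H, h0, hl, hmono, hnorm, hstep⟩ := h
  exact exists_pComplement_aux p n G H h0 hl hmono hnorm hstep

end Cfsg.Agent.Lib.Helper69
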