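import Mathlib
import Cfsg.Agent.Lib.Helper41.PsDefs
import Cfsg.Agent.Lib.Helper69.CgCG3c

/-! # Ps hive (S4321, owner helper41): leaf PS24 `ps_cH` (second hand: helper69)

Averaging: the product over the class of `b` (inside the commutative normal closure of `b`) is central,
hence trivial; it equals `b ^ (cs b)` times an element of `B`. -/

set_option autoImplicit false

namespace Cfsg.Agent.Lib.Helper41.Ps

open Subgroup
open Cfsg.Agent.Lib.Helper22.Cg

universe u

/-- PS24 (H). averaging: the product over the class of `b` (inside the commutative subgroup `A`)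
is central, hence trivial; so `b ^ (cs b) ∈ B` and `b ∈ B`. -/
theorem ps_cH {G : Type u} [Group G] [Finite G] (A B : Subgroup G) (hBA : B ≤ A)
    (hA : ∀ x ∈ A, ∀ y ∈ A, x * y = y * x) (b : G) (hb : b ∈ A)
    (hcen : ∀ g : G, g * b * g⁻¹ * b⁻¹ ∈ B)
    (hZ : ∀ c ∈ A, (∀ g : G, g * c = c * g) → c = 1)
    (hcop : (cs b).Coprime (orderOf b)) : b ∈ B := by
  classical
  -- conjugates of `b` lie in `A`
  have hconjA : ∀ g : G, g * b * g⁻¹ ∈ A := by
    intro g
    have h1 : g * b * g⁻¹ = (g * b * g⁻¹ * b⁻¹) * b := by group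
    rw [h1]
    exact A.mul_mem (hBA (hcen g)) hb
  -- the normal closure `M` of `b`
  let M : Subgroup G := Subgroup.normalClosure {b}
  have hMn : M.Normal := Subgroup.normalClosure_normal
  have hMA : M ≤ A := by
    show Subgroup.closure (Group.conjugatesOfSet {b}) ≤ A
    rw [Subgroup.closure_le]
    intro c hc
    rw [Group.mem_conjugatesOfSet_iff] at hc
    obtain ⟨a, ha, hac⟩ := hc
    rw [Set.mem_singleton_iff] at ha
    subst ha
    rw [isConj_iff] at hac
    obtain ⟨g, rfl⟩ := hac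
    exact hconjA g
  have hconjM : ∀ g : G, g * b * g⁻¹ ∈ M := by
    intro g
    exact hMn.conj_mem b (Subgroup.subset_normalClosure (Set.mem_singleton b)) g
  have hbM : b ∈ M := Subgroup.subset_normalClosure (Set.mem_singleton b)
  letI : CommGroup ↥M :=
    { (inferInstance : Group ↥M) with
      mul_comm := fun x y => Subtype.ext (hA x (hMA x.2) y (hMA y.2)) }
  haveI : Fintype ↥M := Fintype.ofFinite _
  let S : Finset ↥M := Finset.univ.filter (fun m : ↥M => ∃ g : G, (m : G) = g * b * g⁻¹)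
  have hS : ∀ m : ↥M, m ∈ S ↔ ∃ g : G, (m : G) = g * b * g⁻¹ := by
    intro m; simp [S]
  let Pr : ↥M := ∏ c ∈ S, c
  -- `Pr` is fixed by conjugation
  have hfix : ∀ g : G, g * (Pr : G) * g⁻¹ = (Pr : G) := by
    intro g
    have h1 : (MulAut.conjNormal g : MulAut ↥M) Pr = ∏ c ∈ S, (MulAut.conjNormal g : MulAut ↥M) c :=
      map_prod (MulAut.conjNormal g : MulAut ↥M) (fun c => c) S
    have h2 : ∏ c ∈ S, (MulAut.conjNormal g : MulAut ↥M) c = Pr := by
      refine Finset.prod_bij (fun c _ => (MulAut.conjNormal g : MulAut ↥M) c) ?_ ?_ ?_ ?_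
      · intro c hc
        rw [hS] at hc ⊢
        obtain ⟨k, hk⟩ := hc
        refine ⟨g * k, ?_⟩
        rw [MulAut.conjNormal_apply, hk]
        group
      · intro c₁ _ c₂ _ h
        exact (MulAut.conjNormal g : MulAut ↥M).injective h
      · intro c hc
        rw [hS] at hc
        obtain ⟨k, hk⟩ := hc
        refine ⟨⟨g⁻¹ * k * b * (g⁻¹ * k)⁻¹, hconjM _⟩, ?_, ?_⟩
        · rw [hS]; exact ⟨g⁻¹ * k, by simp [mul_assoc]⟩
        · apply Subtype.ext
          rw [MulAut.conjNormal_apply, hk]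
          group
      · intro c _; rfl
    have h3 := congrArg (fun m : ↥M => (m : G)) (h1.trans h2)
    simpa [MulAut.conjNormal_apply] using h3
  have hPr1 : (Pr : G) = 1 := by
    apply hZ _ (hMA Pr.2)
    intro g
    have := hfix g
    calc g * (Pr : G) = (g * (Pr : G) * g⁻¹) * g := by group
      _ = (Pr : G) * g := by rw [this]
  -- `Pr = β * b ^ |S|` with `β ∈ B`
  let b' : ↥M := ⟨b, hbM⟩
  have hsplit : Pr = (∏ c ∈ S, c * b'⁻¹) * b' ^ S.card := by
    rw [Finset.prod_mul_distrib, Finset.prod_const, mul_assoc, ← mul_pow, inv_mul_cancel, one_pow,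
      mul_one]
  have hβ : (∏ c ∈ S, c * b'⁻¹) ∈ B.subgroupOf M := by
    refine Subgroup.prod_mem _ fun c hc => ?_
    rw [hS] at hc
    obtain ⟨k, hk⟩ := hc
    rw [Subgroup.mem_subgroupOf]
    have : ((c * b'⁻¹ : ↥M) : G) = k * b * k⁻¹ * b⁻¹ := by
      rw [Subgroup.coe_mul, Subgroup.coe_inv, hk]
    rw [this]
    exact hcen k
  have hpow : b ^ S.card ∈ B := by
    have h1 : (Pr : ↥M) = 1 := Subtype.ext hPr1
    rw [hsplit] at h1
    have h2 : b' ^ S.card = (∏ c ∈ S, c * b'⁻¹)⁻¹ := by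
      rw [eq_inv_iff_mul_eq_one, mul_comm]; exact h1
    have h3 : b' ^ S.card ∈ B.subgroupOf M := by rw [h2]; exact (B.subgroupOf M).inv_mem hβ
    rw [Subgroup.mem_subgroupOf] at h3
    simpa [b'] using h3
  -- `|S| = cs b`
  have hcard : S.card = cs b := by
    rw [← cg3c_card_class b]
    have e : {m : ↥M // m ∈ S} ≃ {c : G // ∃ k : G, c = k * b * k⁻¹} :=
      { toFun := fun m => ⟨(m.1 : G), (hS m.1).mp m.2⟩
        invFun := fun c => ⟨⟨c.1, by obtain ⟨k, hk⟩ := c.2; rw [hk]; exact hconjM k⟩,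
          (hS _).mpr c.2⟩
        left_inv := fun m => rfl
        right_inv := fun c => rfl }
    rw [← Nat.card_congr e, Nat.card_eq_fintype_card, Fintype.card_coe]
  rw [hcard] at hpow
  obtain ⟨m, hm⟩ := exists_pow_eq_self_of_coprime hcop
  rw [← hm]
  exact B.pow_mem hpow m

end Cfsg.Agent.Lib.Helper41.Ps
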