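import Mathlib
import Cfsg.Agent.Lib.Helper90.PsuDefs
import Cfsg.Agent.Lib.Helper40.SpGen3

set_option autoImplicit false

/-! # Psu hive (helper90, S2412): leaf PSU-SING (helper69)

The `σ`-twisted Singer pair: from helper40's `SpGen.exists_singer_pair` (`A * Bᵀ = 1`), take
`A' := B.map (· ^ q)`. -/

namespace Cfsg.Agent.Lib.Helper90.Psu

open Matrix Cfsg.Agent.Lib.Helper99 Cfsg.Agent.Lib.Helper13

variable {F : Type*} [Field F] [Fintype F] {q n : ℕ}

local notation "hh" => Cfsg.hermForm n F q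

/-- `B.map (· ^ q)` is `B` mapped along the Frobenius ring hom -/
theorem sing_map_eq (hF : Fintype.card F = q ^ 2) {m : ℕ} (B : Matrix (Fin m) (Fin m) F) :
    B.map (· ^ q) = (frobU hF).mapMatrix B := by
  ext i j
  simp [frobU_apply hF]

/-- mapping twice along `· ^ q` is the identity -/
theorem sing_map_map (hF : Fintype.card F = q ^ 2) {m : ℕ} (B : Matrix (Fin m) (Fin m) F) :
    (B.map (· ^ q)).map (· ^ q) = B := by
  ext i j
  simp only [Matrix.map_apply]
  exact Cfsg.Agent.Lib.Helper13.pow_q_pow_q hF _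

/-- fixed-point-freeness transfers along the Frobenius twist -/
theorem sing_fpf (hF : Fintype.card F = q ^ 2) {m : ℕ} (B : Matrix (Fin m) (Fin m) F) (k : ℕ)
    (hB : ∀ v : Fin m → F, B ^ k *ᵥ v = v → v = 0) (v : Fin m → F)
    (hv : (B.map (· ^ q)) ^ k *ᵥ v = v) : v = 0 := by
  rw [sing_map_eq hF, ← map_pow] at hv
  -- `v = σ ∘ u` with `u = σ ∘ v`
  have hvu : v = (frobU hF) ∘ ((frobU hF) ∘ v) := by
    funext i
    simp only [Function.comp_apply]
    rw [frobU_frobU]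
  have hu : B ^ k *ᵥ ((frobU hF) ∘ v) = (frobU hF) ∘ v := by
    funext i
    apply (frobU hF).injective
    have h1 := RingHom.map_mulVec (frobU hF) (B ^ k) ((frobU hF) ∘ v) i
    rw [h1, ← hvu]
    have h2 := congrFun hv i
    rw [RingHom.mapMatrix_apply] at h2
    rw [h2]
    exact congrFun hvu i
  have h0 := hB _ hu
  rw [hvu, h0]
  funext i
  simp

/-- PSU-SING (σ-twisted Singer pair). -/
theorem exists_twisted_singer (hF : Fintype.card F = q ^ 2) (m : ℕ) (hm : 0 < m) :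
    ∃ A A' : Matrix (Fin m) (Fin m) F, Aᵀ * A'.map (· ^ q) = 1 ∧
      (∀ v w : Fin m → F, v ≠ 0 → w ≠ 0 → ∃ j : ℕ, (A ^ j) *ᵥ v = w) ∧
      (∀ v w : Fin m → F, v ≠ 0 → w ≠ 0 → ∃ j : ℕ, (A' ^ j) *ᵥ v = w) := by
  obtain ⟨A, B, N, hN, hAB, hA, hB, hfA, hfB⟩ :=
    Cfsg.Agent.Lib.Helper40.SpGen.exists_singer_pair (F := F) m hm
  refine ⟨A, B.map (· ^ q), ?_, ?_, ?_⟩
  · rw [sing_map_map hF]
    have h1 : B * Aᵀ = 1 := by
      have := congrArg Matrix.transpose hAB
      rwa [Matrix.transpose_mul, Matrix.transpose_transpose, Matrix.transpose_one] at this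
    exact mul_eq_one_comm.mp h1
  · intro v w hv hw
    exact Cfsg.Agent.Lib.Helper40.SpGen.singer_transitive A hN hA hfA v w hv hw
  · intro v w hv hw
    have hB' : (B.map (· ^ q)) ^ N = 1 := by
      rw [sing_map_eq hF, ← map_pow, hB, map_one]
    exact Cfsg.Agent.Lib.Helper40.SpGen.singer_transitive (B.map (· ^ q)) hN hB'
      (fun k hk0 hkN u hu => sing_fpf hF B k (hfB k hk0 hkN) u hu) v w hv hw

end Cfsg.Agent.Lib.Helper90.Psu
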