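import Mathlib
import Cfsg.Agent.Lib.Helper3.Ortho
import Cfsg.Agent.Lib.Helper3.CharOps
import Cfsg.Agent.Lib.Helper25.CharUtil
import Cfsg.Agent.Lib.Helper25.IndNormal
import Cfsg.Agent.Lib.Helper79.Abelian
import Cfsg.Agent.Lib.Helper81.OneIrr
import Cfsg.Agent.Lib.Helper81.Irr
import Cfsg.Agent.Lib.Helper80.Integral
import Cfsg.Agent.Lib.Helper17.ElementCount
import Cfsg.Agent.Lib.Helper17.PGroupNorm
import Cfsg.Agent.Lib.Helper15.LinearChar
import Cfsg.Agent.Lib.Helper80.JointEigen

/-!
# Characters induced from a subgroup of prime order (TI set): the Gram relations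

`P ≤ G` of prime order `p` with normalizer `N`, `C_G(P) ≤ P`.  For `μ ∈ Irr(P)` we consider the
generalized character `1_P - μ` of `P` and its induction to `G`.  We compute the inner products
of these induced class functions (Brauer–Suzuki exceptional character set-up).
-/

set_option autoImplicit false
set_option linter.style.haveILetI false
set_option linter.unusedSectionVars false

namespace Cfsg.Agent.Lib.Helper69.TI

open Cfsg Subgroup
open scoped ComplexConjugate

universe u

variable {G : Type u} [Group G]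

/-- conjugation `x ↦ g⁻¹ x g` on `P`, for `g` normalizing `P` -/
def cjHom (P : Subgroup G) (g : G) (hg : g ∈ normalizer (P : Set G)) : P →* P where
  toFun x := ⟨g⁻¹ * x * g, by
    have := (mem_normalizer_iff.mp (inv_mem hg)) x
    simpa using this.mp x.2⟩
  map_one' := by ext; simp
  map_mul' x y := by ext; simp [mul_assoc]

theorem cjHom_coe (P : Subgroup G) (g : G) (hg : g ∈ normalizer (P : Set G)) (x : P) :
    ((cjHom P g hg x : P) : G) = g⁻¹ * x * g := rfl

theorem cjHom_bijective (P : Subgroup G) (g : G) (hg : g ∈ normalizer (P : Set G)) :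
    Function.Bijective (cjHom P g hg) := by
  constructor
  · intro x y h
    have h1 : g⁻¹ * (x : G) * g = g⁻¹ * (y : G) * g := congrArg Subtype.val h
    apply Subtype.ext
    have h2 : (x : G) = g * (g⁻¹ * (x : G) * g) * g⁻¹ := by group
    rw [h2, h1]; group
  · intro y
    refine ⟨⟨g * (y : G) * g⁻¹, (mem_normalizer_iff.mp hg y).mp y.2⟩, ?_⟩
    apply Subtype.ext
    rw [cjHom_coe]
    simp only
    group

/-- the conjugate `ν^g` of a function on `P` -/
def cjFun (P : Subgroup G) (g : G) (hg : g ∈ normalizer (P : Set G)) (ν : P → ℂ) : P → ℂ :=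
  fun x => ν (cjHom P g hg x)

theorem cjFun_isIrr (P : Subgroup G) (g : G) (hg : g ∈ normalizer (P : Set G)) {ν : P → ℂ}
    (hν : IsIrrCharacter P ν) : IsIrrCharacter P (cjFun P g hg ν) :=
  Cfsg.Agent.Lib.Helper25.IsIrrCharacter.comp_surj (cjHom P g hg) (cjHom_bijective P g hg).2 hν

/-- `TI`: a conjugate of a nonidentity element of the prime order subgroup `P` lying in `P`
forces the conjugating element into the normalizer. -/
theorem mem_normalizer_of_conj_mem [Finite G] {p : ℕ} [hp : Fact p.Prime] (P : Subgroup G)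
    (hP : Nat.card P = p) (x : G) (hx : x ∈ P) (hx1 : x ≠ 1) (g : G) (h : g⁻¹ * x * g ∈ P) :
    g ∈ normalizer (P : Set G) := by
  have hz : zpowers x = P :=
    Cfsg.Agent.Lib.Helper17.zpowers_eq_of_mem_of_card_prime P hP x hx hx1
  have : g⁻¹ ∈ normalizer (P : Set G) := by
    haveI : Finite (P : Set G) := Subtype.finite
    apply mem_normalizer_fintype
    intro n hn
    have hn' : n ∈ zpowers x := by rw [hz]; exact hn
    obtain ⟨k, rfl⟩ := Subgroup.mem_zpowers_iff.mp hn'
    have : g⁻¹ * x ^ k * g⁻¹⁻¹ = (g⁻¹ * x * g) ^ k := by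
      rw [inv_inv]
      have := map_zpow (MulAut.conj g⁻¹) x k
      simp only [MulAut.conj_apply, inv_inv] at this
      exact this
    rw [this]
    exact P.zpow_mem h k
  have h2 := inv_mem this
  rwa [inv_inv] at h2

section Gram

variable [Fintype G] {p : ℕ} [hp : Fact p.Prime] (P : Subgroup G) [Fintype P]

open Cfsg.Agent.Lib.Helper25

/-- the `g`-summand of the restriction to `P` of an induced function -/
noncomputable def sumd (β : P → ℂ) (g : G) : P → ℂ := by
  classical
  exact if hg : g ∈ normalizer (P : Set G) then cjFun P g hg β else 0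

theorem sumd_of_mem (β : P → ℂ) {g : G} (hg : g ∈ normalizer (P : Set G)) :
    sumd P β g = cjFun P g hg β := by
  unfold sumd; rw [dif_pos hg]

theorem sumd_of_not_mem (β : P → ℂ) {g : G} (hg : g ∉ normalizer (P : Set G)) :
    sumd P β g = 0 := by
  unfold sumd; rw [dif_neg hg]

theorem indFun_restrict (hP : Nat.card P = p) (β : P → ℂ) (hβ : β 1 = 0) (x : P) :
    indFun P β (x : G) = (p : ℂ)⁻¹ * ∑ g : G, sumd P β g x := by
  rw [indFun_apply, hP]
  congr 1
  apply Finset.sum_congr rfl
  intro g _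
  by_cases hg : g ∈ normalizer (P : Set G)
  · rw [sumd_of_mem P β hg]
    have hmem : g⁻¹ * (x : G) * g ∈ P := (cjHom P g hg x).2
    rw [extendByZero_of_mem P β hmem]
    rfl
  · rw [sumd_of_not_mem P β hg, Pi.zero_apply]
    by_cases hx1 : (x : G) = 1
    · have h1 : g⁻¹ * (x : G) * g = 1 := by rw [hx1]; group
      rw [h1, extendByZero_of_mem P β P.one_mem]
      exact hβ
    · apply extendByZero_of_not_mem
      intro hmem
      exact hg (mem_normalizer_of_conj_mem P hP x x.2 hx1 g hmem)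

theorem classInner_indFun_indFun (hP : Nat.card P = p) (α β : P → ℂ) (hβ : β 1 = 0) :
    classInner (indFun P α) (indFun P β) = (p : ℂ)⁻¹ * ∑ g : G, classInner α (sumd P β g) := by
  rw [frobenius_reciprocity P α (indFun P β) (indFun_isClassFunction P β)]
  have h1 : (fun h : P => indFun P β (h : G)) = (p : ℂ)⁻¹ • ∑ g : G, sumd P β g := by
    funext x
    rw [indFun_restrict P hP β hβ x]
    simp [Finset.sum_apply]
  rw [h1, classInner_smul_right, classInner_sum_right]
  simp

end Gram

section Prime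

variable {p : ℕ} [hp : Fact p.Prime] (P : Subgroup G)

/-- a subgroup of prime order is commutative (instance form) -/
theorem isMulCommutative_of_card_prime (hP : Nat.card P = p) : IsMulCommutative P := by
  haveI : IsCyclic P := isCyclic_of_prime_card hP
  obtain ⟨g, hg⟩ := IsCyclic.exists_generator (α := P)
  refine ⟨⟨fun a b => ?_⟩⟩
  obtain ⟨m, hm⟩ := Subgroup.mem_zpowers_iff.mp (hg a)
  obtain ⟨n, hn⟩ := Subgroup.mem_zpowers_iff.mp (hg b)
  rw [← hm, ← hn, ← zpow_add, ← zpow_add, add_comm]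

/-- a nontrivial irreducible character of a group of prime order is injective -/
theorem irr_injective_of_card_prime (hP : Nat.card P = p) {μ : P → ℂ}
    (hμ : IsIrrCharacter P μ) (hμ1 : μ ≠ fun _ => 1) : Function.Injective μ := by
  haveI := isMulCommutative_of_card_prime P hP
  have hlin : IsCharacter P μ ∧ μ 1 = 1 :=
    Cfsg.Agent.Lib.Helper80.irr_isLinear_of_comm (⟨μ, hμ⟩ : IrrCharacter P)
  set φ := Cfsg.Agent.Lib.Helper15.linCharUnitsHom hlin with hφ
  haveI : Fact (Nat.card P).Prime := ⟨by rw [hP]; exact hp.out⟩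
  rcases φ.ker.eq_bot_or_eq_top_of_prime_card with h | h
  · have hinj : Function.Injective φ := (MonoidHom.ker_eq_bot_iff φ).mp h
    intro x y hxy
    apply hinj
    apply Units.ext
    rw [hφ, Cfsg.Agent.Lib.Helper15.linCharUnitsHom_apply,
      Cfsg.Agent.Lib.Helper15.linCharUnitsHom_apply]
    exact hxy
  · exfalso
    apply hμ1
    funext x
    have hx : x ∈ φ.ker := by rw [h]; exact Subgroup.mem_top x
    have h2 := MonoidHom.mem_ker.mp hx
    have h3 : ((φ x : ℂˣ) : ℂ) = μ x := Cfsg.Agent.Lib.Helper15.linCharUnitsHom_apply hlin x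
    rw [h2] at h3
    simpa using h3.symm

/-- for `g ∈ N(P)` and `μ` a nontrivial irreducible character of `P` (prime order, `C(P) ≤ P`):
`μ^g = μ` iff `g ∈ P`. -/
theorem cjFun_eq_self_iff (hP : Nat.card P = p) (hC : centralizer (P : Set G) ≤ P) {μ : P → ℂ}
    (hμ : IsIrrCharacter P μ) (hμ1 : μ ≠ fun _ => 1) (g : G)
    (hg : g ∈ normalizer (P : Set G)) : cjFun P g hg μ = μ ↔ g ∈ P := by
  haveI := isMulCommutative_of_card_prime P hP
  constructor
  · intro h
    apply hC
    rw [Subgroup.mem_centralizer_iff]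
    intro x hx
    have h1 : μ (cjHom P g hg ⟨x, hx⟩) = μ ⟨x, hx⟩ := congrFun h ⟨x, hx⟩
    have h2 := irr_injective_of_card_prime P hP hμ hμ1 h1
    have h3 : g⁻¹ * x * g = x := congrArg Subtype.val h2
    calc x * g = g * (g⁻¹ * x * g) := by group
      _ = g * x := by rw [h3]
  · intro hgP
    funext x
    unfold cjFun
    congr 1
    apply Subtype.ext
    rw [cjHom_coe]
    have hc : (⟨g, hgP⟩ : P) * x = x * ⟨g, hgP⟩ :=
      (inferInstance : IsMulCommutative P).is_comm.comm _ _
    have hc' : g * (x : G) = (x : G) * g := congrArg Subtype.val hc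
    calc g⁻¹ * (x : G) * g = g⁻¹ * ((x : G) * g) := by group
      _ = g⁻¹ * (g * (x : G)) := by rw [hc']
      _ = x := by group

end Prime

section GramValues

variable [Fintype G] {p : ℕ} [hp : Fact p.Prime] (P : Subgroup G) [Fintype P]

open Cfsg.Agent.Lib.Helper25

/-- the generalized character `1_P - μ` -/
def al (μ : P → ℂ) : P → ℂ := (fun _ => (1 : ℂ)) - μ

theorem al_one (hP : Nat.card P = p) {μ : P → ℂ} (hμ : IsIrrCharacter P μ) : al P μ 1 = 0 := by
  haveI := isMulCommutative_of_card_prime P hP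
  have := Cfsg.Agent.Lib.Helper79.irr_one_eq_one_of_comm (⟨μ, hμ⟩ : IrrCharacter P)
  simp only at this
  unfold al
  simp [this]

theorem cjFun_al (g : G) (hg : g ∈ normalizer (P : Set G)) (ν : P → ℂ) :
    cjFun P g hg (al P ν) = al P (cjFun P g hg ν) := rfl

theorem cjFun_ne_one (g : G) (hg : g ∈ normalizer (P : Set G)) {ν : P → ℂ}
    (hν : ν ≠ fun _ => 1) : cjFun P g hg ν ≠ fun _ => 1 := by
  intro h
  apply hν
  funext y
  obtain ⟨x, rfl⟩ := (cjHom_bijective P g hg).2 y
  exact congrFun h x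

theorem classInner_al_al {μ ν : P → ℂ} (hμ : IsIrrCharacter P μ) (hν : IsIrrCharacter P ν)
    (hμ1 : μ ≠ fun _ => 1) (hν1 : ν ≠ fun _ => 1) [Decidable (μ = ν)] :
    classInner (al P μ) (al P ν) = 1 + if μ = ν then 1 else 0 := by
  classical
  have h1 : IsIrrCharacter P (fun _ => (1 : ℂ)) := Cfsg.Agent.Lib.Helper81.isIrrCharacter_one
  unfold al
  rw [classInner_sub_left, classInner_sub_right, classInner_sub_right,
    Cfsg.Agent.Lib.Helper3.classInner_irr h1 h1, Cfsg.Agent.Lib.Helper3.classInner_irr h1 hν,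
    Cfsg.Agent.Lib.Helper3.classInner_irr hμ h1, Cfsg.Agent.Lib.Helper3.classInner_irr hμ hν]
  rw [if_pos rfl, if_neg (fun h => hν1 h.symm), if_neg hμ1]
  split_ifs <;> ring

/-- The diagonal Gram entry: `‖Ind(1_P - μ)‖² = e + 1`. -/
theorem gram_diag (hP : Nat.card P = p) (hC : centralizer (P : Set G) ≤ P) (e : ℕ)
    (hN : Nat.card (normalizer (P : Set G)) = e * p) {μ : P → ℂ} (hμ : IsIrrCharacter P μ)
    (hμ1 : μ ≠ fun _ => 1) :
    classInner (indFun P (al P μ)) (indFun P (al P μ)) = (e : ℂ) + 1 := by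
  classical
  rw [classInner_indFun_indFun P hP _ _ (al_one P hP hμ)]
  have hterm : ∀ g : G, classInner (al P μ) (sumd P (al P μ) g) =
      (if g ∈ normalizer (P : Set G) then (1 : ℂ) else 0) + (if g ∈ P then (1 : ℂ) else 0) := by
    intro g
    by_cases hg : g ∈ normalizer (P : Set G)
    · rw [sumd_of_mem P _ hg, cjFun_al, classInner_al_al P hμ (cjFun_isIrr P g hg hμ) hμ1
        (cjFun_ne_one P g hg hμ1), if_pos hg]
      congr 1
      by_cases hgP : g ∈ P
      · rw [if_pos hgP, if_pos ((cjFun_eq_self_iff P hP hC hμ hμ1 g hg).mpr hgP).symm]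
      · rw [if_neg hgP, if_neg]
        intro h
        exact hgP ((cjFun_eq_self_iff P hP hC hμ hμ1 g hg).mp h.symm)
    · rw [sumd_of_not_mem P _ hg, classInner_zero_right, if_neg hg, if_neg, add_zero]
      intro hgP
      exact hg (le_normalizer hgP)
  simp_rw [hterm]
  rw [Finset.sum_add_distrib]
  have e1 : ∑ g : G, (if g ∈ normalizer (P : Set G) then (1 : ℂ) else 0) =
      (Nat.card (normalizer (P : Set G)) : ℂ) := by
    rw [Finset.sum_ite, Finset.sum_const_zero, add_zero, Finset.sum_const, nsmul_eq_mul, mul_one,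
      Nat.card_eq_fintype_card, Fintype.card_subtype]
  have e2 : ∑ g : G, (if g ∈ P then (1 : ℂ) else 0) = (Nat.card P : ℂ) := by
    rw [Finset.sum_ite, Finset.sum_const_zero, add_zero, Finset.sum_const, nsmul_eq_mul, mul_one,
      Nat.card_eq_fintype_card, Fintype.card_subtype]
  rw [e1, e2, hN, hP]
  have hp0 : (p : ℂ) ≠ 0 := by exact_mod_cast hp.out.ne_zero
  push_cast
  field_simp

/-- The off-diagonal Gram entry for non-conjugate characters: `⟨Ind(1-μ), Ind(1-ν)⟩ = e`. -/
theorem gram_off (hP : Nat.card P = p) (e : ℕ)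
    (hN : Nat.card (normalizer (P : Set G)) = e * p) {μ ν : P → ℂ} (hμ : IsIrrCharacter P μ)
    (hν : IsIrrCharacter P ν) (hμ1 : μ ≠ fun _ => 1) (hν1 : ν ≠ fun _ => 1)
    (hrel : ∀ (g : G) (hg : g ∈ normalizer (P : Set G)), cjFun P g hg ν ≠ μ) :
    classInner (indFun P (al P μ)) (indFun P (al P ν)) = (e : ℂ) := by
  classical
  rw [classInner_indFun_indFun P hP _ _ (al_one P hP hν)]
  have hterm : ∀ g : G, classInner (al P μ) (sumd P (al P ν) g) =
      (if g ∈ normalizer (P : Set G) then (1 : ℂ) else 0) := by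
    intro g
    by_cases hg : g ∈ normalizer (P : Set G)
    · rw [sumd_of_mem P _ hg, cjFun_al, classInner_al_al P hμ (cjFun_isIrr P g hg hν) hμ1
        (cjFun_ne_one P g hg hν1), if_pos hg, if_neg (fun h => hrel g hg h.symm), add_zero]
    · rw [sumd_of_not_mem P _ hg, classInner_zero_right, if_neg hg]
  simp_rw [hterm]
  have e1 : ∑ g : G, (if g ∈ normalizer (P : Set G) then (1 : ℂ) else 0) =
      (Nat.card (normalizer (P : Set G)) : ℂ) := by
    rw [Finset.sum_ite, Finset.sum_const_zero, add_zero, Finset.sum_const, nsmul_eq_mul, mul_one,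
      Nat.card_eq_fintype_card, Fintype.card_subtype]
  rw [e1, hN]
  have hp0 : (p : ℂ) ≠ 0 := by exact_mod_cast hp.out.ne_zero
  push_cast
  field_simp

end GramValues

section Coeff

variable [Fintype G] {p : ℕ} [hp : Fact p.Prime] (P : Subgroup G) [Fintype P]

open Cfsg.Agent.Lib.Helper25

/-- the coefficient `⟨Ind(1_P - μ), ψ⟩ = ⟨1_P - μ, ψ|_P⟩` -/
noncomputable def cc (μ : P → ℂ) (ψ : G → ℂ) : ℂ := classInner (al P μ) (fun h : P => ψ h)

theorem classInner_indFun_al (μ : P → ℂ) {ψ : G → ℂ} (hψ : IsClassFunction G ψ) :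
    classInner (indFun P (al P μ)) ψ = cc P μ ψ :=
  frobenius_reciprocity P (al P μ) ψ hψ

theorem cc_int {μ : P → ℂ} (hμ : IsIrrCharacter P μ) {ψ : G → ℂ} (hψ : IsCharacter G ψ) :
    ∃ n : ℤ, cc P μ ψ = (n : ℂ) := by
  have h1 : IsCharacter P (fun _ => (1 : ℂ)) :=
    Cfsg.Agent.Lib.Helper3.IsIrrCharacter.isCharacter Cfsg.Agent.Lib.Helper81.isIrrCharacter_one
  have h2 : IsCharacter P μ := Cfsg.Agent.Lib.Helper3.IsIrrCharacter.isCharacter hμ
  have h3 : IsCharacter P (fun h : P => ψ h) := Cfsg.Agent.Lib.Helper3.IsCharacter.restrict hψ P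
  obtain ⟨a, ha⟩ := classInner_char_nat h1 h3
  obtain ⟨b, hb⟩ := classInner_char_nat h2 h3
  refine ⟨(a : ℤ) - b, ?_⟩
  unfold cc al
  rw [classInner_sub_left, ha, hb]
  push_cast
  ring

theorem cc_one {μ : P → ℂ} (hμ : IsIrrCharacter P μ) (hμ1 : μ ≠ fun _ => 1) :
    cc P μ (fun _ => (1 : ℂ)) = 1 := by
  classical
  have h1 : IsIrrCharacter P (fun _ => (1 : ℂ)) := Cfsg.Agent.Lib.Helper81.isIrrCharacter_one
  unfold cc al
  rw [classInner_sub_left, Cfsg.Agent.Lib.Helper3.classInner_irr h1 h1,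
    Cfsg.Agent.Lib.Helper3.classInner_irr hμ h1, if_pos rfl, if_neg hμ1, sub_zero]

/-- Parseval for the induced functions. -/
theorem sum_cc_mul_conj [Fintype (IrrCharacter G)] (μ ν : P → ℂ) :
    ∑ ψ : IrrCharacter G, cc P μ (ψ : G → ℂ) * conj (cc P ν (ψ : G → ℂ)) =
      classInner (indFun P (al P μ)) (indFun P (al P ν)) := by
  have hcl : ∀ ψ : IrrCharacter G, IsClassFunction G (ψ : G → ℂ) := fun ψ =>
    Cfsg.Agent.Lib.Helper3.IsCharacter.isClassFunction
      (Cfsg.Agent.Lib.Helper3.IsIrrCharacter.isCharacter ψ.2)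
  have h1 := Cfsg.Agent.Lib.Helper3.classFunction_eq_sum (indFun_isClassFunction P (al P μ))
  conv_rhs => rw [h1]
  rw [classInner_sum_left]
  apply Finset.sum_congr rfl
  intro ψ _
  rw [classInner_smul_left, classInner_indFun_al P μ (hcl ψ), ← classInner_conj_symm,
    classInner_indFun_al P ν (hcl ψ)]

theorem indFun_al_one (hP : Nat.card P = p) {μ : P → ℂ} (hμ : IsIrrCharacter P μ) :
    indFun P (al P μ) 1 = 0 := by
  rw [indFun_apply]
  have : ∀ x : G, extendByZero P (al P μ) (x⁻¹ * 1 * x) = 0 := by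
    intro x
    have h1 : x⁻¹ * 1 * x = 1 := by group
    rw [h1, extendByZero_of_mem P _ P.one_mem]
    exact al_one P hP hμ
  simp_rw [this]
  simp

/-- The degree equation. -/
theorem sum_cc_mul_degree [Fintype (IrrCharacter G)] (hP : Nat.card P = p) {μ : P → ℂ}
    (hμ : IsIrrCharacter P μ) :
    ∑ ψ : IrrCharacter G, cc P μ (ψ : G → ℂ) * (ψ : G → ℂ) 1 = 0 := by
  have hcl : ∀ ψ : IrrCharacter G, IsClassFunction G (ψ : G → ℂ) := fun ψ =>
    Cfsg.Agent.Lib.Helper3.IsCharacter.isClassFunction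
      (Cfsg.Agent.Lib.Helper3.IsIrrCharacter.isCharacter ψ.2)
  have h1 := Cfsg.Agent.Lib.Helper3.classFunction_eq_sum (indFun_isClassFunction P (al P μ))
  have h2 := congrFun h1 1
  rw [indFun_al_one P hP hμ, Finset.sum_apply] at h2
  rw [h2]
  apply Finset.sum_congr rfl
  intro ψ _
  rw [Pi.smul_apply, smul_eq_mul, classInner_indFun_al P μ (hcl ψ)]

/-- conjugate characters of `P` give the same coefficients -/
theorem cc_cjFun (g : G) (hg : g ∈ normalizer (P : Set G)) (μ : P → ℂ) {ψ : G → ℂ}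
    (hψ : IsClassFunction G ψ) : cc P (cjFun P g hg μ) ψ = cc P μ ψ := by
  unfold cc
  rw [← cjFun_al]
  have h1 : (fun h : P => ψ h) = cjFun P g hg (fun h : P => ψ h) := by
    funext x
    unfold cjFun
    show ψ (x : G) = ψ ((cjHom P g hg x : P) : G)
    rw [cjHom_coe]
    have := hψ (x : G) g⁻¹
    rw [inv_inv] at this
    exact this.symm
  conv_lhs => rw [h1]
  rw [classInner_def, classInner_def]
  congr 1
  exact Function.Bijective.sum_comp (cjHom_bijective P g hg)
    (fun y => al P μ y * conj (ψ (y : G)))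

theorem card_irr_eq (hP : Nat.card P = p) [Fintype (IrrCharacter P)] :
    Fintype.card (IrrCharacter P) = p := by
  haveI := isMulCommutative_of_card_prime P hP
  have h := Cfsg.Agent.Lib.Helper81.sum_irr_deg_mul_one (G := P)
  have h1 : ∀ μ : IrrCharacter P, (μ : P → ℂ) 1 * (μ : P → ℂ) 1 = 1 := by
    intro μ
    rw [Cfsg.Agent.Lib.Helper79.irr_one_eq_one_of_comm μ, mul_one]
  simp_rw [h1] at h
  rw [Finset.sum_const, Finset.card_univ, nsmul_eq_mul, mul_one, hP] at h
  exact_mod_cast h

/-- The degree of a character of `G` in terms of the coefficients. -/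
theorem degree_formula (hP : Nat.card P = p) [Fintype (IrrCharacter P)] {ψ : G → ℂ}
    (hψ : IsCharacter G ψ) :
    ∃ a : ℕ, ψ 1 + ∑ μ : IrrCharacter P, cc P (μ : P → ℂ) ψ = (p : ℂ) * a := by
  haveI := isMulCommutative_of_card_prime P hP
  have h1 : IsCharacter P (fun _ => (1 : ℂ)) :=
    Cfsg.Agent.Lib.Helper3.IsIrrCharacter.isCharacter Cfsg.Agent.Lib.Helper81.isIrrCharacter_one
  have h3 : IsCharacter P (fun h : P => ψ h) := Cfsg.Agent.Lib.Helper3.IsCharacter.restrict hψ P
  obtain ⟨a, ha⟩ := classInner_char_nat h1 h3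
  refine ⟨a, ?_⟩
  have hexp := Cfsg.Agent.Lib.Helper3.classFunction_eq_sum
    (Cfsg.Agent.Lib.Helper3.IsCharacter.isClassFunction h3)
  have h4 := congrFun hexp 1
  rw [Finset.sum_apply] at h4
  have h5 : ∀ μ : IrrCharacter P, (classInner (fun h : P => ψ h) (μ : P → ℂ) • (μ : P → ℂ)) 1 =
      (a : ℂ) - cc P (μ : P → ℂ) ψ := by
    intro μ
    have h2 : IsCharacter P (μ : P → ℂ) := Cfsg.Agent.Lib.Helper3.IsIrrCharacter.isCharacter μ.2
    obtain ⟨b, hb⟩ := classInner_char_nat h2 h3
    rw [Pi.smul_apply, smul_eq_mul, Cfsg.Agent.Lib.Helper79.irr_one_eq_one_of_comm μ, mul_one]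
    have h6 : classInner (fun h : P => ψ h) (μ : P → ℂ) = (b : ℂ) := by
      rw [← classInner_conj_symm, hb]; simp
    unfold cc al
    rw [h6, classInner_sub_left, ha, hb]
    ring
  simp_rw [h5] at h4
  have h7 : ψ 1 = ∑ μ : IrrCharacter P, ((a : ℂ) - cc P (μ : P → ℂ) ψ) := h4
  rw [h7, Finset.sum_sub_distrib, Finset.sum_const, Finset.card_univ, card_irr_eq P hP,
    nsmul_eq_mul]
  ring

end Coeff

section Orbit

variable {p : ℕ} [hp : Fact p.Prime] (P : Subgroup G)

theorem cjFun_congr {g g' : G} (h : g = g') (hg : g ∈ normalizer (P : Set G))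
    (hg' : g' ∈ normalizer (P : Set G)) (ν : P → ℂ) : cjFun P g hg ν = cjFun P g' hg' ν := by
  subst h; rfl

theorem cjFun_mul (a b : G) (ha : a ∈ normalizer (P : Set G)) (hb : b ∈ normalizer (P : Set G))
    (ν : P → ℂ) :
    cjFun P (a * b) (mul_mem ha hb) ν = cjFun P a ha (cjFun P b hb ν) := by
  funext x
  unfold cjFun
  congr 1
  apply Subtype.ext
  rw [cjHom_coe, cjHom_coe, cjHom_coe]
  group

theorem cjFun_of_mem (hP : Nat.card P = p) {g : G} (hgP : g ∈ P) (ν : P → ℂ) :
    cjFun P g (le_normalizer hgP) ν = ν := by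
  haveI := isMulCommutative_of_card_prime P hP
  funext x
  unfold cjFun
  congr 1
  apply Subtype.ext
  rw [cjHom_coe]
  have hc : (⟨g, hgP⟩ : P) * x = x * ⟨g, hgP⟩ :=
    (inferInstance : IsMulCommutative P).is_comm.comm _ _
  have hc' : g * (x : G) = (x : G) * g := congrArg Subtype.val hc
  calc g⁻¹ * (x : G) * g = g⁻¹ * ((x : G) * g) := by group
    _ = g⁻¹ * (g * (x : G)) := by rw [hc']
    _ = x := by group

/-- The orbit of an irreducible character of `P` under `N(P)` has at most `e = |N(P) : P|`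
elements. -/
theorem exists_orbit_finset [Finite G] (hP : Nat.card P = p) (e : ℕ)
    (hN : Nat.card (normalizer (P : Set G)) = e * p) (μ : IrrCharacter P) :
    ∃ F : Finset (IrrCharacter P), F.card ≤ e ∧
      ∀ (g : G) (hg : g ∈ normalizer (P : Set G)),
        (⟨cjFun P g hg (μ : P → ℂ), cjFun_isIrr P g hg μ.2⟩ : IrrCharacter P) ∈ F := by
  classical
  set N := normalizer (P : Set G) with hNdef
  set H : Subgroup N := P.subgroupOf N with hH
  obtain ⟨S, hS, -⟩ := H.exists_isComplement_left 1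
  have hcard : Nat.card S * Nat.card H = Nat.card N := hS.card_mul_card
  have hHc : Nat.card H = p := by
    rw [hH, Cfsg.Agent.Lib.Helper17.card_subgroupOf_of_le le_normalizer, hP]
  rw [hHc, hN] at hcard
  have hSe : Nat.card S = e := Nat.eq_of_mul_eq_mul_right hp.out.pos hcard
  haveI : Fintype S := Fintype.ofFinite S
  refine ⟨Finset.univ.image (fun s : S =>
    (⟨cjFun P ((s : N) : G) (s : N).2 (μ : P → ℂ), cjFun_isIrr P _ _ μ.2⟩ : IrrCharacter P)), ?_, ?_⟩
  · calc _ ≤ (Finset.univ : Finset S).card := Finset.card_image_le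
      _ = e := by rw [Finset.card_univ, ← Nat.card_eq_fintype_card, hSe]
  · intro g hg
    obtain ⟨⟨s, h⟩, hsh, -⟩ := hS.existsUnique (⟨g, hg⟩ : N)
    simp only at hsh
    rw [Finset.mem_image]
    refine ⟨s, Finset.mem_univ _, ?_⟩
    apply Subtype.ext
    simp only
    have hhP : ((h : N) : G) ∈ P := h.2
    have hg' : g = ((s : N) : G) * ((h : N) : G) := by
      have := congrArg (Subtype.val : N → G) hsh
      simpa using this.symm
    rw [cjFun_congr P hg' hg (mul_mem (s : N).2 (le_normalizer hhP)),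
      cjFun_mul P _ _ (s : N).2 (le_normalizer hhP), cjFun_of_mem P hP hhP]

/-- Selection of a nontrivial irreducible character of `P` not conjugate to any member of a
small finset. -/
theorem exists_unrelated [Finite G] (hP : Nat.card P = p) (e : ℕ)
    (hN : Nat.card (normalizer (P : Set G)) = e * p) (A : Finset (IrrCharacter P))
    (hA : A.card * e + 1 < p) :
    ∃ ν : IrrCharacter P, (ν : P → ℂ) ≠ (fun _ => 1) ∧
      ∀ μ ∈ A, ∀ (g : G) (hg : g ∈ normalizer (P : Set G)),
        cjFun P g hg (ν : P → ℂ) ≠ (μ : P → ℂ) := by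
  classical
  haveI : Fintype G := Fintype.ofFinite G
  haveI : Fintype (IrrCharacter P) := Fintype.ofFinite _
  choose F hF1 hF2 using exists_orbit_finset P hP e hN
  set B := A.biUnion F ∪ {Cfsg.Agent.Lib.Helper81.oneIrr P} with hB
  have hBcard : B.card < (Finset.univ : Finset (IrrCharacter P)).card := by
    rw [Finset.card_univ, card_irr_eq P hP]
    calc B.card ≤ (A.biUnion F).card + 1 := by
          apply (Finset.card_union_le _ _).trans
          simp
      _ ≤ A.card * e + 1 := by
          apply Nat.add_le_add_right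
          apply Finset.card_biUnion_le_card_mul
          intro μ _
          exact hF1 μ
      _ < p := hA
  obtain ⟨ν, -, hν⟩ := Finset.exists_mem_notMem_of_card_lt_card hBcard
  rw [hB, Finset.mem_union, not_or, Finset.mem_biUnion, Finset.mem_singleton] at hν
  refine ⟨ν, ?_, ?_⟩
  · intro h
    apply hν.2
    apply Subtype.ext
    rw [h]
    rfl
  · intro μ hμA g hg h
    apply hν.1
    refine ⟨μ, hμA, ?_⟩
    have h2 := hF2 μ g⁻¹ (inv_mem hg)
    have h3 : (⟨cjFun P g⁻¹ (inv_mem hg) (μ : P → ℂ), cjFun_isIrr P _ _ μ.2⟩ : IrrCharacter P) = ν := by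
      apply Subtype.ext
      simp only
      rw [← h, ← cjFun_mul P g⁻¹ g (inv_mem hg) hg]
      rw [cjFun_congr P (inv_mul_cancel g) _ (one_mem _)]
      funext x
      unfold cjFun
      have hx : cjHom P 1 (one_mem _) x = x := by
        apply Subtype.ext
        rw [cjHom_coe]
        group
      rw [hx]
    rw [h3] at h2
    exact h2

end Orbit

end Cfsg.Agent.Lib.Helper69.TI
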