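import Mathlib
import Cfsg.Agent.Lib.Helper69.TIChar
import Cfsg.Agent.Lib.Helper69.AvgVanish
import Cfsg.Agent.Lib.Helper74.SelfCent2

/-!
# Characters of degree `p - 1` in a group with a self-centralizing subgroup of prime order `p`
-/

set_option autoImplicit false
set_option linter.style.haveILetI false
set_option linter.unusedSectionVars false

namespace Cfsg.Agent.Lib.Helper69.SelfCent

open Cfsg Subgroup
open scoped ComplexConjugate
open Cfsg.Agent.Lib.Helper25 Cfsg.Agent.Lib.Helper69.TI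

universe u

variable {G : Type u} [Group G]

/-- If the restriction of `χ` to the self-centralizing subgroup `⟨x⟩` of prime order has no
trivial constituent, then `χ` vanishes on `N(⟨x⟩) ∖ ⟨x⟩`. -/
theorem vanish_off [Finite G] {p : ℕ} (hp : p.Prime) {x : G} (hx : orderOf x = p)
    (hC : centralizer ({x} : Set G) = zpowers x) {χ : G → ℂ} (hχ : IsCharacter G χ)
    [Fintype (zpowers x)]
    (h0 : ∑ g : zpowers x, χ (g : G) = 0) {y : G}
    (hyN : y ∈ normalizer ((zpowers x : Subgroup G) : Set G)) (hyP : y ∉ zpowers x) :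
    χ y = 0 := by
  classical
  have hcl := Cfsg.Agent.Lib.Helper3.IsCharacter.isClassFunction hχ
  let c : zpowers x → zpowers x := fun u =>
    ⟨(u : G) * (y * (u : G)⁻¹ * y⁻¹),
      (zpowers x).mul_mem u.2 ((mem_normalizer_iff.mp hyN _).mp ((zpowers x).inv_mem u.2))⟩
  have hinj : Function.Injective c := by
    intro u v huv
    have h1 : (u : G) * (y * (u : G)⁻¹ * y⁻¹) = (v : G) * (y * (v : G)⁻¹ * y⁻¹) :=
      congrArg Subtype.val huv
    have hwP : (v : G)⁻¹ * (u : G) ∈ zpowers x := (zpowers x).mul_mem ((zpowers x).inv_mem v.2) u.2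
    have h2 : (u : G) * y * (u : G)⁻¹ = (v : G) * y * (v : G)⁻¹ := by
      have h3 : (u : G) * (y * (u : G)⁻¹ * y⁻¹) * y = (v : G) * (y * (v : G)⁻¹ * y⁻¹) * y := by
        rw [h1]
      calc (u : G) * y * (u : G)⁻¹ = (u : G) * (y * (u : G)⁻¹ * y⁻¹) * y := by group
        _ = (v : G) * (y * (v : G)⁻¹ * y⁻¹) * y := h3
        _ = (v : G) * y * (v : G)⁻¹ := by group
    have hwy : y * ((v : G)⁻¹ * (u : G)) = ((v : G)⁻¹ * (u : G)) * y := by
      calc y * ((v : G)⁻¹ * (u : G)) = (v : G)⁻¹ * ((v : G) * y * (v : G)⁻¹) * (u : G) := by group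
        _ = (v : G)⁻¹ * ((u : G) * y * (u : G)⁻¹) * (u : G) := by rw [h2]
        _ = ((v : G)⁻¹ * (u : G)) * y := by group
    by_contra hne
    have hw1 : (v : G)⁻¹ * (u : G) ≠ 1 := by
      intro hw
      apply hne
      apply Subtype.ext
      have : (u : G) = (v : G) * ((v : G)⁻¹ * (u : G)) := by group
      rw [this, hw, mul_one]
    exact hyP ((Cfsg.Agent.Lib.Helper74.comm_iff_mem_zpowers hp hx hC hwP hw1 y).mp hwy)
  have hsurj : Function.Surjective c := Finite.injective_iff_surjective.mp hinj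
  have hconst : ∀ g : zpowers x, χ ((g : G) * y) = χ y := by
    intro g
    obtain ⟨u, hu⟩ := hsurj g
    have h1 : (g : G) = (u : G) * (y * (u : G)⁻¹ * y⁻¹) := (congrArg Subtype.val hu).symm
    have h2 : (g : G) * y = (u : G) * y * (u : G)⁻¹ := by rw [h1]; group
    rw [h2]
    exact hcl y u
  have hsum := Cfsg.Agent.Lib.Helper69.Avg.sum_char_mul_eq_zero hχ (zpowers x) h0 y
  simp_rw [hconst] at hsum
  rw [Finset.sum_const, Finset.card_univ, nsmul_eq_mul] at hsum
  rcases mul_eq_zero.mp hsum with h | h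
  · exfalso
    have : 0 < Fintype.card (zpowers x) := Fintype.card_pos
    have h' : Fintype.card (zpowers x) = 0 := by exact_mod_cast h
    omega
  · exact h

section Mult

variable [Fintype G] {p : ℕ} [hp : Fact p.Prime] (P : Subgroup G) [Fintype P]

/-- An irreducible character of degree `p - 1` restricted to `P` (self-centralizing of prime
order `p`, with `|N(P) : P| = e ≥ 2`) has no trivial constituent. -/
theorem trivial_mult_zero (hP : Nat.card P = p) (hC : centralizer (P : Set G) ≤ P) (e : ℕ)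
    (he2 : 2 ≤ e) (hedvd : e ∣ p - 1) (hN : Nat.card (normalizer (P : Set G)) = e * p)
    (hfib : ∀ y ∈ P, y ≠ 1 →
      Nat.card {z : G // (z ∈ P ∧ z ≠ 1) ∧ ConjClasses.mk z = ConjClasses.mk y} = e)
    (χ : IrrCharacter G) (hdeg : (χ : G → ℂ) 1 = (p : ℂ) - 1) (hp3 : 3 ≤ p) :
    ∑ g : P, (χ : G → ℂ) (g : G) = 0 := by
  classical
  haveI : Fintype (IrrCharacter G) := Fintype.ofFinite _
  haveI : Fintype (IrrCharacter P) := Fintype.ofFinite _
  haveI := isMulCommutative_of_card_prime P hP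
  have hχc : IsCharacter G (χ : G → ℂ) := Cfsg.Agent.Lib.Helper3.IsIrrCharacter.isCharacter χ.2
  have hχcl : IsClassFunction G (χ : G → ℂ) :=
    Cfsg.Agent.Lib.Helper3.IsCharacter.isClassFunction hχc
  have h1irr : IsIrrCharacter P (fun _ => (1 : ℂ)) := Cfsg.Agent.Lib.Helper81.isIrrCharacter_one
  have h1P : IsCharacter P (fun _ => (1 : ℂ)) :=
    Cfsg.Agent.Lib.Helper3.IsIrrCharacter.isCharacter h1irr
  have h3 : IsCharacter P (fun h : P => (χ : G → ℂ) h) :=
    Cfsg.Agent.Lib.Helper3.IsCharacter.restrict hχc P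
  obtain ⟨a, ha⟩ := classInner_char_nat h1P h3
  have hp0 : (p : ℂ) ≠ 0 := by exact_mod_cast hp.out.ne_zero
  -- the sum of `χ` over `P`
  have hsum : ∑ g : P, (χ : G → ℂ) (g : G) = (p : ℂ) * a := by
    have h4 := ha
    rw [classInner_def, hP] at h4
    simp only [one_mul] at h4
    have h5 : ∑ g : P, conj ((χ : G → ℂ) (g : G)) = (p : ℂ) * a := by
      rw [← h4, ← mul_assoc, mul_inv_cancel₀ hp0, one_mul]
    have h6 := congrArg conj h5
    rw [map_sum] at h6
    simp only [Complex.conj_conj, map_mul, Complex.conj_natCast] at h6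
    exact h6
  -- multiplicities
  have hmex : ∀ μ : IrrCharacter P, ∃ b : ℕ,
      classInner (μ : P → ℂ) (fun h : P => (χ : G → ℂ) h) = (b : ℂ) := fun μ =>
    classInner_char_nat (Cfsg.Agent.Lib.Helper3.IsIrrCharacter.isCharacter μ.2) h3
  choose m hm using hmex
  have hcc : ∀ μ : IrrCharacter P, cc P (μ : P → ℂ) (χ : G → ℂ) = (a : ℂ) - m μ := by
    intro μ
    unfold cc al
    rw [classInner_sub_left, ha, hm μ]
  -- degree as the sum of multiplicities
  have hdegsum : (χ : G → ℂ) 1 = ∑ μ : IrrCharacter P, (m μ : ℂ) := by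
    have hexp := Cfsg.Agent.Lib.Helper3.classFunction_eq_sum
      (Cfsg.Agent.Lib.Helper3.IsCharacter.isClassFunction h3)
    have h4 := congrFun hexp 1
    rw [Finset.sum_apply] at h4
    have h5 : ∀ μ : IrrCharacter P,
        (classInner (fun h : P => (χ : G → ℂ) h) (μ : P → ℂ) • (μ : P → ℂ)) 1 = (m μ : ℂ) := by
      intro μ
      rw [Pi.smul_apply, smul_eq_mul, Cfsg.Agent.Lib.Helper79.irr_one_eq_one_of_comm μ, mul_one,
        ← classInner_conj_symm, hm μ]
      simp
    simp_rw [h5] at h4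
    exact h4
  by_contra hne
  have ha0 : a ≠ 0 := by
    intro h
    apply hne
    rw [hsum, h]
    simp
  -- the trivial character of `P`
  set τ : IrrCharacter P := ⟨fun _ => (1 : ℂ), h1irr⟩ with hτ
  have hmτ : m τ = a := by
    have h4 := hm τ
    have h5 : classInner (τ : P → ℂ) (fun h : P => (χ : G → ℂ) h) = (a : ℂ) := ha
    rw [h5] at h4
    exact_mod_cast h4.symm
  have hsumm : ∑ μ : IrrCharacter P, m μ = p - 1 := by
    have h4 : ((∑ μ : IrrCharacter P, m μ : ℕ) : ℂ) = ((p - 1 : ℕ) : ℂ) := by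
      rw [Nat.cast_sum, ← hdegsum, hdeg, Nat.cast_sub (by omega)]
      simp
    exact_mod_cast h4
  have hsplit : m τ + ∑ μ ∈ (Finset.univ : Finset (IrrCharacter P)).erase τ, m μ = p - 1 := by
    rw [Finset.add_sum_erase _ _ (Finset.mem_univ τ)]
    exact hsumm
  have hcarderase : ((Finset.univ : Finset (IrrCharacter P)).erase τ).card = p - 1 := by
    rw [Finset.card_erase_of_mem (Finset.mem_univ τ), Finset.card_univ, card_irr_eq P hP]
  obtain ⟨μ₀, hμ₀mem, hμ₀⟩ : ∃ μ₀ ∈ (Finset.univ : Finset (IrrCharacter P)).erase τ, m μ₀ = 0 := by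
    by_contra hcon
    push Not at hcon
    have h4 : ((Finset.univ : Finset (IrrCharacter P)).erase τ).card • 1 ≤
        ∑ μ ∈ (Finset.univ : Finset (IrrCharacter P)).erase τ, m μ :=
      Finset.card_nsmul_le_sum _ _ _ (fun μ hμ => Nat.one_le_iff_ne_zero.mpr (hcon μ hμ))
    rw [hcarderase, smul_eq_mul, mul_one] at h4
    rw [hmτ] at hsplit
    have : 0 < a := Nat.pos_of_ne_zero ha0
    omega
  have hμ₀1 : (μ₀ : P → ℂ) ≠ fun _ => 1 := by
    intro h
    have : μ₀ = τ := Subtype.ext h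
    exact (Finset.ne_of_mem_erase hμ₀mem) this
  -- Parseval: `a ^ 2 ≤ e`
  have hasq : a * a ≤ e := by
    have hpars := sum_cc_mul_conj P (μ₀ : P → ℂ) (μ₀ : P → ℂ) (G := G)
    rw [gram_diag P hP hC e hN μ₀.2 hμ₀1] at hpars
    set τG : IrrCharacter G := ⟨fun _ => (1 : ℂ), Cfsg.Agent.Lib.Helper81.isIrrCharacter_one⟩
      with hτG
    have hne' : τG ≠ χ := by
      intro h
      have h4 : (χ : G → ℂ) 1 = 1 := by rw [← h]
      rw [hdeg] at h4
      have h5 : (p : ℂ) = 2 := by linear_combination h4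
      have h6 : p = 2 := by exact_mod_cast h5
      omega
    have hterm : ∀ ψ : IrrCharacter G,
        cc P (μ₀ : P → ℂ) (ψ : G → ℂ) * conj (cc P (μ₀ : P → ℂ) (ψ : G → ℂ)) =
          ((Complex.normSq (cc P (μ₀ : P → ℂ) (ψ : G → ℂ)) : ℝ) : ℂ) := fun ψ =>
      Complex.mul_conj _
    simp_rw [hterm] at hpars
    have hreal : ∑ ψ : IrrCharacter G, Complex.normSq (cc P (μ₀ : P → ℂ) (ψ : G → ℂ)) =
        (e : ℝ) + 1 := by
      have : ((∑ ψ : IrrCharacter G, Complex.normSq (cc P (μ₀ : P → ℂ) (ψ : G → ℂ)) : ℝ) : ℂ) =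
          (((e : ℝ) + 1 : ℝ) : ℂ) := by
        push_cast
        exact hpars
      exact_mod_cast this
    have hsub : ∑ ψ ∈ ({τG, χ} : Finset (IrrCharacter G)),
        Complex.normSq (cc P (μ₀ : P → ℂ) (ψ : G → ℂ)) ≤
        ∑ ψ : IrrCharacter G, Complex.normSq (cc P (μ₀ : P → ℂ) (ψ : G → ℂ)) :=
      Finset.sum_le_sum_of_subset_of_nonneg (Finset.subset_univ _)
        (fun ψ _ _ => Complex.normSq_nonneg _)
    rw [Finset.sum_pair hne', hreal] at hsub
    have h4 : cc P (μ₀ : P → ℂ) (τG : G → ℂ) = 1 := cc_one P μ₀.2 hμ₀1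
    have h5 : cc P (μ₀ : P → ℂ) (χ : G → ℂ) = (a : ℂ) := by
      rw [hcc μ₀, hμ₀]
      simp
    rw [h4, h5] at hsub
    have h6 : Complex.normSq ((a : ℂ)) = (a : ℝ) * a := by
      rw [← Complex.ofReal_natCast, Complex.normSq_ofReal]
    rw [h6, Complex.normSq_one] at hsub
    have h7 : ((a * a : ℕ) : ℝ) ≤ (e : ℝ) := by
      push_cast
      linarith
    exact_mod_cast h7
  -- `e ∣ a`
  have hea : e ∣ a := by
    -- the sum over `P` as a sum over a finset of `G`
    have h4 : ∑ g : P, (χ : G → ℂ) (g : G) =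
        ∑ z ∈ (Finset.univ : Finset G).filter (fun z => z ∈ P), (χ : G → ℂ) z := by
      rw [Finset.sum_subtype ((Finset.univ : Finset G).filter (fun z => z ∈ P))
        (p := fun z => z ∈ P) (by intro z; simp) (fun z => (χ : G → ℂ) z)]
    have h5 : ∑ z ∈ (Finset.univ : Finset G).filter (fun z => z ∈ P), (χ : G → ℂ) z =
        (χ : G → ℂ) 1 +
          ∑ z ∈ (Finset.univ : Finset G).filter (fun z => z ∈ P ∧ z ≠ 1), (χ : G → ℂ) z := by
      rw [← Finset.sum_filter_add_sum_filter_not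
        ((Finset.univ : Finset G).filter (fun z => z ∈ P)) (fun z => z ≠ 1)]
      rw [Finset.filter_filter, Finset.filter_filter, add_comm]
      congr 1
      have : (Finset.univ : Finset G).filter (fun z => z ∈ P ∧ ¬ z ≠ 1) = {1} := by
        ext z
        simp only [Finset.mem_filter, Finset.mem_univ, true_and, Finset.mem_singleton, not_not]
        constructor
        · rintro ⟨_, h⟩; exact h
        · rintro rfl; exact ⟨P.one_mem, rfl⟩
      rw [this, Finset.sum_singleton]
    set S' : Finset G := (Finset.univ : Finset G).filter (fun z => z ∈ P ∧ z ≠ 1) with hS'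
    let f : ConjClasses G → ℂ := fun b => (χ : G → ℂ) (Quotient.out b)
    have hf : ∀ z : G, (χ : G → ℂ) z = f (ConjClasses.mk z) := by
      intro z
      have h6 : ConjClasses.mk (Quotient.out (ConjClasses.mk z)) = ConjClasses.mk z :=
        Quotient.out_eq _
      have h7 : IsConj (Quotient.out (ConjClasses.mk z)) z :=
        ConjClasses.mk_eq_mk_iff_isConj.mp h6
      exact (Cfsg.Agent.Lib.Helper3.IsClassFunction.eq_of_isConj hχcl h7).symm
    have h6 : ∑ z ∈ S', (χ : G → ℂ) z =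
        (e : ℂ) * ∑ b ∈ S'.image ConjClasses.mk, f b := by
      simp_rw [hf]
      rw [Finset.sum_comp f ConjClasses.mk, Finset.mul_sum]
      refine Finset.sum_congr rfl (fun b hb => ?_)
      obtain ⟨y, hy, rfl⟩ := Finset.mem_image.mp hb
      rw [hS', Finset.mem_filter] at hy
      have h7 : (S'.filter (fun z => ConjClasses.mk z = ConjClasses.mk y)).card = e := by
        rw [hS', Finset.filter_filter, ← hfib y hy.2.1 hy.2.2, Nat.card_eq_fintype_card,
          Fintype.card_subtype]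
      rw [h7, nsmul_eq_mul]
    set s : ℂ := ∑ b ∈ S'.image ConjClasses.mk, f b with hs
    have hsint : IsIntegral ℤ s := by
      apply IsIntegral.sum
      intro b _
      obtain ⟨n, ρ, hρ⟩ := hχc
      show IsIntegral ℤ ((χ : G → ℂ) (Quotient.out b))
      rw [← hρ]
      exact Cfsg.Agent.Lib.Helper80.char_isIntegral ρ _
    have he0 : (e : ℂ) ≠ 0 := by
      have : e ≠ 0 := by omega
      exact_mod_cast this
    have h7 : (p : ℂ) * a = ((p : ℂ) - 1) + (e : ℂ) * s := by
      rw [← hsum, h4, h5, h6, hdeg]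
    have hsq : s = (((p : ℚ) * a - ((p : ℚ) - 1)) / (e : ℚ) : ℚ) := by
      push_cast
      rw [eq_div_iff he0]
      linear_combination (-1 : ℂ) * h7
    have h8 : IsIntegral ℤ (((p : ℚ) * a - ((p : ℚ) - 1)) / (e : ℚ) : ℚ) := by
      rw [← isIntegral_algebraMap_iff (algebraMap ℚ ℂ).injective]
      have : (algebraMap ℚ ℂ) (((p : ℚ) * a - ((p : ℚ) - 1)) / (e : ℚ)) = s := by
        rw [hsq]
        rfl
      rw [this]
      exact hsint
    obtain ⟨k, hk⟩ := IsIntegrallyClosed.isIntegral_iff.mp h8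
    have he0q : (e : ℚ) ≠ 0 := by
      have : e ≠ 0 := by omega
      exact_mod_cast this
    rw [eq_div_iff he0q] at hk
    have hk' : (k : ℤ) * (e : ℤ) = (p : ℤ) * a - ((p : ℤ) - 1) := by
      have : (((k : ℤ) * (e : ℤ) : ℤ) : ℚ) = (((p : ℤ) * a - ((p : ℤ) - 1) : ℤ) : ℚ) := by
        push_cast
        simpa using hk
      exact_mod_cast this
    have hdvd1 : (e : ℤ) ∣ (p : ℤ) - 1 := by
      have : ((p - 1 : ℕ) : ℤ) = (p : ℤ) - 1 := by
        rw [Nat.cast_sub (by omega)]
        simp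
      rw [← this]
      exact_mod_cast hedvd
    have hdvd2 : (e : ℤ) ∣ (p : ℤ) * a := by
      have h9 : (p : ℤ) * a = (k : ℤ) * (e : ℤ) + ((p : ℤ) - 1) := by rw [hk']; ring
      rw [h9]
      exact dvd_add (dvd_mul_left _ _) hdvd1
    have hdvd3 : e ∣ p * a := by exact_mod_cast hdvd2
    have hcop : Nat.Coprime e p := by
      apply Nat.Coprime.symm
      rw [Nat.Prime.coprime_iff_not_dvd hp.out]
      intro hpe
      have h9 : p ≤ e := Nat.le_of_dvd (by omega) hpe
      have h10 : e ≤ p - 1 := Nat.le_of_dvd (by omega) hedvd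
      omega
    exact hcop.dvd_of_dvd_mul_left hdvd3
  have hle : e ≤ a := Nat.le_of_dvd (Nat.pos_of_ne_zero ha0) hea
  nlinarith

end Mult

end Cfsg.Agent.Lib.Helper69.SelfCent
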