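import Cfsg.Agent.Lib.Helper69.ShiftSylow

set_option autoImplicit false

namespace Cfsg.Agent.Lib.Helper69.ShiftMono

open Matrix

section fin
variable {p : ℕ} [hp : Fact p.Prime]

theorem fin_two_nsmul_ne_zero (hp2 : p ≠ 2) {j : Fin p} (hj : j ≠ 0) : j + j ≠ 0 := by
  haveI : NeZero p := ⟨hp.out.ne_zero⟩
  intro h
  have h1 : addOrderOf j = p := addOrderOf_eq_prime (card_nsmul_fin j) hj
  have h2 : addOrderOf j ∣ 2 := addOrderOf_dvd_of_nsmul_eq_zero (by rw [two_nsmul]; exact h)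
  rw [h1] at h2
  exact hp2 ((Nat.prime_dvd_prime_iff_eq hp.out Nat.prime_two).1 h2)

theorem fin_exists_nsmul {j : Fin p} (hj : j ≠ 0) (i : Fin p) : ∃ m, m < p ∧ m • j = i := by
  haveI : NeZero p := ⟨hp.out.ne_zero⟩
  have hc : Nat.card (Fin p) = p := by simp
  obtain ⟨m, hm⟩ := (AddSubmonoid.mem_multiples_iff _ _).1 (mem_multiples_of_prime_card hc (g := j) (g' := i) hj)
  refine ⟨m % p, Nat.mod_lt _ hp.out.pos, ?_⟩
  rw [← hm]
  conv_rhs => rw [← Nat.mod_add_div m p]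
  rw [add_nsmul, mul_nsmul', card_nsmul_fin, add_zero]

theorem fin_nsmul_inj {j : Fin p} (hj : j ≠ 0) {m m' : ℕ} (hm : m < p) (hm' : m' < p)
    (h : m • j = m' • j) : m = m' := by
  haveI : NeZero p := ⟨hp.out.ne_zero⟩
  have h1 : addOrderOf j = p := addOrderOf_eq_prime (card_nsmul_fin j) hj
  have := nsmul_inj_mod.1 h
  rwa [h1, Nat.mod_eq_of_lt hm, Nat.mod_eq_of_lt hm'] at this

end fin

section conj
variable {F : Type*} [Field F] {p : ℕ} [NeZero p]

/-- the diagonal matrix with `ω` at position `i₀` and `1` elsewhere -/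
def yE (i₀ : Fin p) : Fin p → ℕ := fun i => if i = i₀ then 1 else 0

theorem mkM_yE (ω : F) (i₀ : Fin p) :
    mkM ω (yE i₀) 0 = Matrix.diagonal (fun l => if l = i₀ then ω else 1) := by
  ext i k
  rw [mkM_apply, add_zero]
  by_cases hik : i = k
  · subst hik
    rw [if_pos rfl, Matrix.diagonal_apply_eq]
    unfold yE
    by_cases h : i = i₀
    · rw [if_pos h, if_pos h, pow_one]
    · rw [if_neg h, if_neg h, pow_zero]
  · rw [if_neg hik, Matrix.diagonal_apply_ne _ hik]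

theorem conj_yE_apply (ω : F) (i₀ : Fin p) (A B : Matrix (Fin p) (Fin p) F) (i k : Fin p) :
    (A * mkM ω (yE i₀) 0 * B) i k = (A * B) i k + (ω - 1) * (A i i₀ * B i₀ k) := by
  rw [mkM_yE, Matrix.mul_apply, Matrix.mul_apply]
  have h1 : ∀ l, (A * Matrix.diagonal (fun l => if l = i₀ then ω else 1)) i l * B l k
      = A i l * B l k + (if l = i₀ then (ω - 1) * (A i i₀ * B i₀ k) else 0) := by
    intro l
    rw [Matrix.mul_diagonal]
    by_cases h : l = i₀
    · subst h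
      rw [if_pos rfl, if_pos rfl]
      ring
    · rw [if_neg h, if_neg h, mul_one, add_zero]
  rw [Finset.sum_congr rfl (fun l _ => h1 l), Finset.sum_add_distrib, Finset.sum_ite_eq' Finset.univ i₀,
    if_pos (Finset.mem_univ _)]

theorem not_mem_normalizer_of_not_sh {g y : GL (Fin p) F} (hy : y ∈ Q0 F p)
    (h : ¬ ∃ j, Sh ((g * y * g⁻¹ : GL (Fin p) F) : Matrix (Fin p) (Fin p) F) j) :
    g ∉ Subgroup.normalizer (Q0 F p : Set (GL (Fin p) F)) := by
  intro hg
  exact h ((Subgroup.mem_normalizer_iff.1 hg y).1 hy)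

theorem not_mem_normalizer_of_not_sh' {g y : GL (Fin p) F} (hy : y ∈ Q0 F p)
    (h : ¬ ∃ j, Sh ((g⁻¹ * y * g : GL (Fin p) F) : Matrix (Fin p) (Fin p) F) j) :
    g ∉ Subgroup.normalizer (Q0 F p : Set (GL (Fin p) F)) := by
  intro hg
  have hg' := Subgroup.inv_mem _ hg
  have := (Subgroup.mem_normalizer_iff.1 hg' y).1 hy
  rw [inv_inv] at this
  exact h this

end conj

end Cfsg.Agent.Lib.Helper69.ShiftMono
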