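import Cfsg.Agent.Lib.Helper69.ShiftCases

set_option autoImplicit false

namespace Cfsg.Agent.Lib.Helper69.ShiftMono

open Matrix

variable {F : Type*} [Field F] {p : ℕ} [hp : Fact p.Prime]

/-- `x` lies in a conjugate of `Q0` by an element that does not normalise `Q0`. -/
def Second (x : GL (Fin p) F) : Prop :=
  ∃ g : GL (Fin p) F, g ∉ Subgroup.normalizer (Q0 F p : Set (GL (Fin p) F)) ∧ g⁻¹ * x * g ∈ Q0 F p

theorem second_of_comm {x g : GL (Fin p) F} (hx : x ∈ Q0 F p) (hcomm : x * g = g * x)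
    (hg : g ∉ Subgroup.normalizer (Q0 F p : Set (GL (Fin p) F))) : Second x := by
  refine ⟨g, hg, ?_⟩
  rw [mul_assoc, hcomm, ← mul_assoc, inv_mul_cancel, one_mul]
  exact hx

theorem fin_one_ne_zero : (1 : Fin p) ≠ 0 := by
  intro h
  have := congrArg Fin.val h
  rw [Fin.val_one', Fin.val_zero, Nat.mod_eq_of_lt hp.out.one_lt] at this
  exact one_ne_zero this

/-- Case (i): diagonal with a repeated entry. -/
theorem second_of_diag_repeat {ω : F} (hω : ω ^ p = 1) (hω1 : ω ≠ 1)
    {x : GL (Fin p) F} (hx : Sh (x : Matrix (Fin p) (Fin p) F) 0) {a b : Fin p} (hab : a ≠ b)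
    (heq : (x : Matrix (Fin p) (Fin p) F) a a = (x : Matrix (Fin p) (Fin p) F) b b) : Second x := by
  classical
  let g : GL (Fin p) F := ⟨Matrix.transvection a b 1, Matrix.transvection a b (-1),
    by rw [Matrix.transvection_mul_transvection_same a b hab, add_neg_cancel, Matrix.transvection_zero],
    by rw [Matrix.transvection_mul_transvection_same a b hab, neg_add_cancel, Matrix.transvection_zero]⟩
  have hgv : (g : Matrix (Fin p) (Fin p) F) = Matrix.transvection a b 1 := rfl
  have hgi : ((g⁻¹ : GL (Fin p) F) : Matrix (Fin p) (Fin p) F) = Matrix.transvection a b (-1) := rfl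
  apply second_of_comm (g := g) ⟨0, hx⟩
  · apply Units.ext
    rw [Units.val_mul, Units.val_mul, hgv]
    set d : Fin p → F := fun i => (x : Matrix (Fin p) (Fin p) F) i i with hd
    rw [hx.eq_diagonal]
    ext i k
    rw [Matrix.transvection, mul_add, add_mul, mul_one, one_mul, Matrix.add_apply, Matrix.add_apply,
      Matrix.diagonal_mul, Matrix.mul_diagonal, Matrix.single_apply]
    by_cases h : a = i ∧ b = k
    · obtain ⟨rfl, rfl⟩ := h
      rw [if_pos ⟨rfl, rfl⟩, heq]
      ring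
    · rw [if_neg h, mul_zero, zero_mul]
  · apply not_mem_normalizer_of_not_sh (y := mkG hω (yE b) 0) (mkG_mem hω _ _)
    rintro ⟨j', hj'⟩
    have hT : ∀ i k, ((g * mkG hω (yE b) 0 * g⁻¹ : GL (Fin p) F) : Matrix (Fin p) (Fin p) F) i k
        = (1 : Matrix (Fin p) (Fin p) F) i k + (ω - 1) *
          ((g : Matrix (Fin p) (Fin p) F) i b * ((g⁻¹ : GL (Fin p) F) : Matrix (Fin p) (Fin p) F) b k) := by
      intro i k
      rw [Units.val_mul, Units.val_mul, mkG_val, conj_yE_apply, ← Units.val_mul, mul_inv_cancel,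
        Units.val_one]
    have h1 : ((g * mkG hω (yE b) 0 * g⁻¹ : GL (Fin p) F) : Matrix (Fin p) (Fin p) F) a a ≠ 0 := by
      rw [hT, hgi, Matrix.transvection, Matrix.add_apply, Matrix.single_apply,
        if_neg (fun h => hab h.2.symm), Matrix.one_apply_ne hab.symm, add_zero, mul_zero, mul_zero,
        add_zero, Matrix.one_apply_eq]
      exact one_ne_zero
    have h2 : ((g * mkG hω (yE b) 0 * g⁻¹ : GL (Fin p) F) : Matrix (Fin p) (Fin p) F) a b ≠ 0 := by
      rw [hT, hgi, hgv, Matrix.transvection, Matrix.transvection, Matrix.add_apply, Matrix.add_apply,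
        Matrix.single_apply, Matrix.single_apply, if_pos ⟨rfl, rfl⟩, if_neg (fun h => hab h.1),
        Matrix.one_apply_ne hab, Matrix.one_apply_eq, add_zero, zero_add, zero_add, mul_one, mul_one]
      exact sub_ne_zero.2 hω1
    exact hab (hj'.row_unique h1 h2)

/-- Case (ii): diagonal with pairwise distinct entries. -/
theorem second_of_diag_inj (hp2 : p ≠ 2) {ω : F} (hω : ω ^ p = 1) (hω1 : ω ≠ 1)
    {x : GL (Fin p) F} (hx : Sh (x : Matrix (Fin p) (Fin p) F) 0)
    (hinj : Function.Injective (fun i => (x : Matrix (Fin p) (Fin p) F) i i)) : Second x := by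
  classical
  set d : Fin p → F := fun i => (x : Matrix (Fin p) (Fin p) F) i i with hd
  have hdp : ∀ i, d i ^ p = 1 := fun i => (hx i i).1 (by rw [add_zero])
  have hd0 : ∀ i, d i ≠ 0 := fun i => hx.ne_zero (by rw [add_zero])
  let g : GL (Fin p) F := Matrix.GeneralLinearGroup.mkOfDetNeZero (Matrix.vandermonde d)
    (Matrix.det_vandermonde_ne_zero_iff.2 hinj)
  have hgv : (g : Matrix (Fin p) (Fin p) F) = Matrix.vandermonde d := rfl
  let s : GL (Fin p) F := mkG hω (fun _ => 0) 1
  have hxs : x * g = g * s := by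
    apply Units.ext
    rw [Units.val_mul, Units.val_mul, hgv, mkG_val]
    ext i k
    rw [mul_apply_right _ (sh_mkM hω (fun _ => 0) 1), mkM_apply, if_pos rfl, pow_zero, mul_one]
    conv_lhs => rw [hx.eq_diagonal]
    rw [Matrix.diagonal_mul, Matrix.vandermonde_apply, Matrix.vandermonde_apply, ← pow_succ']
    show d i ^ ((k : ℕ) + 1) = d i ^ ((k + 1 : Fin p) : ℕ)
    rw [Fin.val_add, Fin.val_one', Nat.mod_eq_of_lt hp.out.one_lt]
    exact pow_eq_pow_mod _ (hdp i)
  refine ⟨g, ?_, ?_⟩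
  · apply not_mem_normalizer_of_not_sh' (y := mkG hω (yE 0) 0) (mkG_mem hω _ _)
    rintro ⟨j', hj'⟩
    have hT : ∀ i k, ((g⁻¹ * mkG hω (yE 0) 0 * g : GL (Fin p) F) : Matrix (Fin p) (Fin p) F) i k
        = (1 : Matrix (Fin p) (Fin p) F) i k + (ω - 1) *
          (((g⁻¹ : GL (Fin p) F) : Matrix (Fin p) (Fin p) F) i 0 * (g : Matrix (Fin p) (Fin p) F) 0 k) := by
      intro i k
      rw [Units.val_mul, Units.val_mul, mkG_val, conj_yE_apply, ← Units.val_mul, inv_mul_cancel,
        Units.val_one]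
    obtain ⟨a, ha⟩ : ∃ a, ((g⁻¹ : GL (Fin p) F) : Matrix (Fin p) (Fin p) F) a 0 ≠ 0 := by
      by_contra hcon
      push Not at hcon
      have h1 : ((g * g⁻¹ : GL (Fin p) F) : Matrix (Fin p) (Fin p) F) 0 0 = 1 := by
        rw [mul_inv_cancel, Units.val_one, Matrix.one_apply_eq]
      rw [Units.val_mul, Matrix.mul_apply, Finset.sum_eq_zero (fun l _ => by rw [hcon l, mul_zero])] at h1
      exact zero_ne_one h1
    have hg0 : ∀ k, (g : Matrix (Fin p) (Fin p) F) 0 k ≠ 0 := by
      intro k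
      rw [hgv, Matrix.vandermonde_apply]
      exact pow_ne_zero _ (hd0 0)
    have hne : ∀ k, k ≠ a →
        ((g⁻¹ * mkG hω (yE 0) 0 * g : GL (Fin p) F) : Matrix (Fin p) (Fin p) F) a k ≠ 0 := by
      intro k hk
      rw [hT, Matrix.one_apply_ne hk.symm, zero_add]
      exact mul_ne_zero (sub_ne_zero.2 hω1) (mul_ne_zero ha (hg0 k))
    have h10 : (1 : Fin p) ≠ 0 := fin_one_ne_zero
    have h20 : (1 : Fin p) + 1 ≠ 0 := fin_two_nsmul_ne_zero hp2 h10
    have hk1 : a + 1 ≠ a := by
      intro h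
      exact h10 (by simpa using h)
    have hk2 : a + (1 + 1) ≠ a := by
      intro h
      exact h20 (by simpa using h)
    have := hj'.row_unique (hne _ hk1) (hne _ hk2)
    apply h10
    have h3 : (1 : Fin p) = 1 + 1 := add_left_cancel this
    have h4 : (1 : Fin p) + 0 = 1 + 1 := by rw [add_zero]; exact h3
    exact (add_left_cancel h4).symm
  · rw [mul_assoc, hxs, ← mul_assoc, inv_mul_cancel, one_mul]
    exact mkG_mem hω _ _

/-- Case (iii): nonzero shift and `x - 1` invertible. -/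
theorem second_of_shift_det (hp2 : p ≠ 2) {ω : F} (hω : ω ^ p = 1) (hω1 : ω ≠ 1)
    {x : GL (Fin p) F} {j : Fin p} (hx : Sh (x : Matrix (Fin p) (Fin p) F) j) (hj : j ≠ 0)
    (hdet : ((x : Matrix (Fin p) (Fin p) F) - 1).det ≠ 0) : Second x := by
  classical
  set X : Matrix (Fin p) (Fin p) F := (x : Matrix (Fin p) (Fin p) F) with hX
  let g : GL (Fin p) F := Matrix.GeneralLinearGroup.mkOfDetNeZero (X - 1) hdet
  have hgv : (g : Matrix (Fin p) (Fin p) F) = X - 1 := rfl
  have hjj : j + j ≠ 0 := fin_two_nsmul_ne_zero hp2 hj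
  apply second_of_comm (g := g) ⟨j, hx⟩
  · apply Units.ext
    rw [Units.val_mul, Units.val_mul, hgv, ← hX, mul_sub, sub_mul, mul_one, one_mul]
  · apply not_mem_normalizer_of_not_sh (y := mkG hω (yE 0) 0) (mkG_mem hω _ _)
    rintro ⟨j', hj'⟩
    have hT : ∀ i k, ((g * mkG hω (yE 0) 0 * g⁻¹ : GL (Fin p) F) : Matrix (Fin p) (Fin p) F) i k
        = (1 : Matrix (Fin p) (Fin p) F) i k + (ω - 1) *
          ((g : Matrix (Fin p) (Fin p) F) i 0 * ((g⁻¹ : GL (Fin p) F) : Matrix (Fin p) (Fin p) F) 0 k) := by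
      intro i k
      rw [Units.val_mul, Units.val_mul, mkG_val, conj_yE_apply, ← Units.val_mul, mul_inv_cancel,
        Units.val_one]
    set v : Fin p → F := fun k => ((g⁻¹ : GL (Fin p) F) : Matrix (Fin p) (Fin p) F) 0 k with hv
    have hrel : ∀ k, v (k + j) * X (k + j) k - v k = (1 : Matrix (Fin p) (Fin p) F) 0 k := by
      intro k
      have h1 : ((g⁻¹ * g : GL (Fin p) F) : Matrix (Fin p) (Fin p) F) 0 k
          = (1 : Matrix (Fin p) (Fin p) F) 0 k := by
        rw [inv_mul_cancel, Units.val_one]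
      rw [Units.val_mul, hgv, mul_sub, mul_one, Matrix.sub_apply, mul_apply_right _ hx] at h1
      exact h1
    obtain ⟨k, hk0, hkj, hvk⟩ : ∃ k, k ≠ 0 ∧ k ≠ j ∧ v k ≠ 0 := by
      by_contra hcon
      push Not at hcon
      have e1 := hrel j
      rw [hcon (j + j) hjj (fun h => hj (by simpa using h)), zero_mul, zero_sub,
        Matrix.one_apply_ne (Ne.symm hj), neg_eq_zero] at e1
      have e2 := hrel 0
      rw [zero_add, e1, zero_mul, zero_sub, Matrix.one_apply_eq] at e2
      have e3 := hrel (-j)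
      have hnj0 : -j ≠ 0 := neg_ne_zero.2 hj
      have hnjj : -j ≠ j := by
        intro h
        apply hjj
        nth_rewrite 1 [← h]
        exact neg_add_cancel j
      rw [neg_add_cancel, hcon (-j) hnj0 hnjj, sub_zero, Matrix.one_apply_ne (Ne.symm hnj0)] at e3
      have hx0 : X 0 (-j) ≠ 0 := hx.ne_zero (neg_add_cancel j).symm
      rcases mul_eq_zero.1 e3 with h | h
      · rw [h, neg_zero] at e2
        exact zero_ne_one e2
      · exact hx0 h
    have hg00 : (g : Matrix (Fin p) (Fin p) F) 0 0 = -1 := by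
      rw [hgv, Matrix.sub_apply, Matrix.one_apply_eq, (hx 0 0).2 (by rw [zero_add]; exact hj.symm),
        zero_sub]
    have hgj0 : (g : Matrix (Fin p) (Fin p) F) j 0 ≠ 0 := by
      rw [hgv, Matrix.sub_apply, Matrix.one_apply_ne hj, sub_zero]
      exact hx.ne_zero (zero_add j).symm
    have h1 : ((g * mkG hω (yE 0) 0 * g⁻¹ : GL (Fin p) F) : Matrix (Fin p) (Fin p) F) 0 k ≠ 0 := by
      rw [hT, Matrix.one_apply_ne hk0.symm, zero_add, hg00]
      exact mul_ne_zero (sub_ne_zero.2 hω1) (mul_ne_zero (neg_ne_zero.2 one_ne_zero) hvk)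
    have h2 : ((g * mkG hω (yE 0) 0 * g⁻¹ : GL (Fin p) F) : Matrix (Fin p) (Fin p) F) j k ≠ 0 := by
      rw [hT, Matrix.one_apply_ne hkj.symm, zero_add]
      exact mul_ne_zero (sub_ne_zero.2 hω1) (mul_ne_zero hgj0 hvk)
    exact hj (hj'.col_unique h1 h2).symm

end Cfsg.Agent.Lib.Helper69.ShiftMono
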