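import Cfsg.Agent.Lib.Helper69.ShiftCases2

set_option autoImplicit false

namespace Cfsg.Agent.Lib.Helper69.ShiftMono

open Matrix

variable {F : Type*} [Field F] {p : ℕ} [hp : Fact p.Prime]

theorem pow_card_eq_one_of_fix {X : Matrix (Fin p) (Fin p) F} {j : Fin p} (hx : Sh X j) (hj : j ≠ 0)
    (hdet : (X - 1).det = 0) : X ^ p = 1 := by
  classical
  set D := X ^ p with hDdef
  have hD : Sh D 0 := by
    have := hx.pow p
    rwa [card_nsmul_fin] at this
  have hcomm : D * X = X * D := by rw [hDdef, ← pow_succ, ← pow_succ']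
  have hconst : ∀ k, D (k + j) (k + j) = D k k := by
    intro k
    have h1 := congrFun (congrFun hcomm (k + j)) k
    rw [mul_apply_left hD, mul_apply_right X hD, sub_zero, add_zero] at h1
    have hne : X (k + j) k ≠ 0 := hx.ne_zero rfl
    apply mul_right_cancel₀ hne
    rw [h1, mul_comm]
  have hall : ∀ i, D i i = D 0 0 := by
    intro i
    obtain ⟨m, -, rfl⟩ := fin_exists_nsmul hj i
    induction m with
    | zero => rw [zero_smul]
    | succ m ih => rw [succ_nsmul, hconst, ih]
  obtain ⟨w, hw0, hw⟩ := Matrix.exists_mulVec_eq_zero_iff.2 hdet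
  have hXw : X *ᵥ w = w := by
    rw [Matrix.sub_mulVec, Matrix.one_mulVec, sub_eq_zero] at hw
    exact hw
  have hpw : ∀ n : ℕ, (X ^ n) *ᵥ w = w := by
    intro n
    induction n with
    | zero => rw [pow_zero, Matrix.one_mulVec]
    | succ n ih => rw [pow_succ, ← Matrix.mulVec_mulVec, hXw, ih]
  obtain ⟨i, hi⟩ : ∃ i, w i ≠ 0 := by
    by_contra h
    push Not at h
    exact hw0 (funext h)
  have hDi : D i i = 1 := by
    have h1 := congrFun (hpw p) i
    rw [← hDdef, hD.eq_diagonal, Matrix.mulVec_diagonal] at h1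
    exact mul_right_cancel₀ hi (by rw [h1, one_mul])
  rw [hD.eq_diagonal, ← Matrix.diagonal_one]
  congr 1
  funext k
  show D k k = 1
  rw [hall k, ← hall i, hDi]

/-- Case (iv): nonzero shift and `x` has eigenvalue `1`. -/
theorem second_of_shift_fix [Fintype F] (hp2 : p ≠ 2) {ω : F} (hω : ω ^ p = 1) (hω1 : ω ≠ 1)
    (hcard : 3 < Fintype.card F)
    {x : GL (Fin p) F} {j : Fin p} (hx : Sh (x : Matrix (Fin p) (Fin p) F) j) (hj : j ≠ 0)
    (hdet : ((x : Matrix (Fin p) (Fin p) F) - 1).det = 0) : Second x := by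
  classical
  set X : Matrix (Fin p) (Fin p) F := (x : Matrix (Fin p) (Fin p) F) with hX
  have hXp : X ^ p = 1 := pow_card_eq_one_of_fix hx hj hdet
  have hjj : j + j ≠ 0 := fin_two_nsmul_ne_zero hp2 hj
  set N : Matrix (Fin p) (Fin p) F := ∑ m ∈ Finset.range p, X ^ m with hN
  have hXN : X * N = N := by
    have h1 : ∑ i ∈ Finset.range (p + 1), X ^ i = X * N + 1 := geom_sum_succ
    rw [Finset.sum_range_succ, hXp] at h1
    exact (add_right_cancel h1).symm
  have hNX : N * X = N := by
    have : N * X = X * N := by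
      rw [hN, Finset.mul_sum, Finset.sum_mul]
      exact Finset.sum_congr rfl (fun m _ => by rw [← pow_succ, ← pow_succ'])
    rw [this, hXN]
  have hXmN : ∀ m : ℕ, X ^ m * N = N := by
    intro m
    induction m with
    | zero => rw [pow_zero, one_mul]
    | succ m ih => rw [pow_succ, mul_assoc, hXN, ih]
  have hNN : N * N = (p : F) • N := by
    conv_lhs => rw [hN, Finset.sum_mul]
    rw [← hN, Finset.sum_congr rfl (fun m _ => hXmN m), Finset.sum_const, Finset.card_range,
      Nat.cast_smul_eq_nsmul]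
  -- choice of a
  obtain ⟨a, ha⟩ : ∃ a : F, a ∉ ({0, -(p : F), 1 - (p : F)} : Finset F) := by
    by_contra h
    push Not at h
    have h1 : (Finset.univ : Finset F) ⊆ ({0, -(p : F), 1 - (p : F)} : Finset F) := fun a _ => h a
    have h2 := Finset.card_le_card h1
    have h3 : ({0, -(p : F), 1 - (p : F)} : Finset F).card ≤ 3 := Finset.card_le_three
    rw [Finset.card_univ] at h2
    omega
  simp only [Finset.mem_insert, Finset.mem_singleton, not_or] at ha
  obtain ⟨ha0, ha1, ha2⟩ := ha
  have hap : a + (p : F) ≠ 0 := by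
    intro h
    exact ha1 (eq_neg_of_add_eq_zero_left h)
  have hap1 : a + (p : F) - 1 ≠ 0 := by
    intro h
    apply ha2
    linear_combination h
  set β : F := (a * (a + (p : F)))⁻¹ with hβ
  have hβ0 : β ≠ 0 := inv_ne_zero (mul_ne_zero ha0 hap)
  set gM : Matrix (Fin p) (Fin p) F := a • (1 : Matrix (Fin p) (Fin p) F) + N with hgM
  set gM' : Matrix (Fin p) (Fin p) F := a⁻¹ • (1 : Matrix (Fin p) (Fin p) F) - β • N with hgM'
  have hcoef : a⁻¹ - a * β - β * (p : F) = 0 := by
    rw [hβ]
    field_simp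
    ring
  have h12 : gM * gM' = 1 := by
    have e : gM * gM' = (a * a⁻¹) • (1 : Matrix (Fin p) (Fin p) F)
        + (a⁻¹ - a * β - β * (p : F)) • N := by
      rw [hgM, hgM']
      simp only [add_mul, mul_sub, smul_mul_assoc, mul_smul_comm, one_mul, mul_one, hNN, smul_smul]
      module
    rw [e, hcoef, zero_smul, add_zero, mul_inv_cancel₀ ha0, one_smul]
  have h21 : gM' * gM = 1 := by
    have e : gM' * gM = (a⁻¹ * a) • (1 : Matrix (Fin p) (Fin p) F)
        + (a⁻¹ - a * β - β * (p : F)) • N := by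
      rw [hgM, hgM']
      simp only [mul_add, sub_mul, smul_mul_assoc, mul_smul_comm, one_mul, mul_one, hNN, smul_smul]
      module
    rw [e, hcoef, zero_smul, add_zero, inv_mul_cancel₀ ha0, one_smul]
  let g : GL (Fin p) F := ⟨gM, gM', h12, h21⟩
  have hgv : (g : Matrix (Fin p) (Fin p) F) = gM := rfl
  have hgi : ((g⁻¹ : GL (Fin p) F) : Matrix (Fin p) (Fin p) F) = gM' := rfl
  -- entries of N
  have hNentry : ∀ (i k : Fin p) (m₀ : ℕ), m₀ < p → i = k + m₀ • j → N i k = (X ^ m₀) i k := by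
    intro i k m₀ hm₀ hik
    rw [hN, Matrix.sum_apply]
    apply Finset.sum_eq_single m₀
    · intro m hm hne
      apply ((hx.pow m) i k).2
      intro h
      rw [hik] at h
      exact hne (fin_nsmul_inj hj (Finset.mem_range.1 hm) hm₀ (add_left_cancel h).symm)
    · intro h
      exact absurd (Finset.mem_range.2 hm₀) h
  have hNj0 : N j 0 ≠ 0 := by
    rw [hNentry j 0 1 hp.out.one_lt (by rw [one_smul, zero_add]), pow_one]
    exact hx.ne_zero (zero_add j).symm
  have hN00 : N 0 0 = 1 := by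
    rw [hNentry 0 0 0 hp.out.pos (by rw [zero_smul, add_zero]), pow_zero, Matrix.one_apply_eq]
  have hN0jj : N 0 (j + j) ≠ 0 := by
    obtain ⟨m₀, hm₀, hm₀j⟩ := fin_exists_nsmul hj (-(j + j))
    have h0 : (0 : Fin p) = (j + j) + m₀ • j := by rw [hm₀j, add_neg_cancel]
    rw [hNentry 0 (j + j) m₀ hm₀ h0]
    exact (hx.pow m₀).ne_zero h0
  apply second_of_comm (g := g) ⟨j, hx⟩
  · apply Units.ext
    rw [Units.val_mul, Units.val_mul, hgv, ← hX, hgM, mul_add, add_mul, mul_smul_comm, smul_mul_assoc,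
      mul_one, one_mul, hXN, hNX]
  · apply not_mem_normalizer_of_not_sh (y := mkG hω (yE 0) 0) (mkG_mem hω _ _)
    rintro ⟨j', hj'⟩
    have hT : ∀ i k, ((g * mkG hω (yE 0) 0 * g⁻¹ : GL (Fin p) F) : Matrix (Fin p) (Fin p) F) i k
        = (1 : Matrix (Fin p) (Fin p) F) i k + (ω - 1) * (gM i 0 * gM' 0 k) := by
      intro i k
      rw [Units.val_mul, Units.val_mul, mkG_val, conj_yE_apply, ← Units.val_mul, mul_inv_cancel,
        Units.val_one, hgv, hgi]
    have hgj0 : gM j 0 ≠ 0 := by
      rw [hgM, Matrix.add_apply, Matrix.smul_apply, Matrix.one_apply_ne hj, smul_zero, zero_add]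
      exact hNj0
    have hg'jj : gM' 0 (j + j) ≠ 0 := by
      rw [hgM', Matrix.sub_apply, Matrix.smul_apply, Matrix.smul_apply, Matrix.one_apply_ne hjj.symm,
        smul_zero, zero_sub, smul_eq_mul]
      exact neg_ne_zero.2 (mul_ne_zero hβ0 hN0jj)
    have hg'00 : gM' 0 0 ≠ 0 := by
      rw [hgM', Matrix.sub_apply, Matrix.smul_apply, Matrix.smul_apply, Matrix.one_apply_eq, hN00,
        smul_eq_mul, smul_eq_mul, mul_one, mul_one, hβ]
      intro h
      apply hap1
      field_simp at h
      linear_combination h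
    have hjjj : j ≠ j + j := by
      intro h
      apply hj
      have : j + 0 = j + j := by rw [add_zero]; exact h
      exact (add_left_cancel this).symm
    have h1 : ((g * mkG hω (yE 0) 0 * g⁻¹ : GL (Fin p) F) : Matrix (Fin p) (Fin p) F) j (j + j) ≠ 0 := by
      rw [hT, Matrix.one_apply_ne hjjj, zero_add]
      exact mul_ne_zero (sub_ne_zero.2 hω1) (mul_ne_zero hgj0 hg'jj)
    have h2 : ((g * mkG hω (yE 0) 0 * g⁻¹ : GL (Fin p) F) : Matrix (Fin p) (Fin p) F) j 0 ≠ 0 := by
      rw [hT, Matrix.one_apply_ne hj, zero_add]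
      exact mul_ne_zero (sub_ne_zero.2 hω1) (mul_ne_zero hgj0 hg'00)
    exact hjj (hj'.row_unique h1 h2)

/-- every element of `Q0` lies in a second conjugate -/
theorem second_of_mem [Fintype F] (hp2 : p ≠ 2) {ω : F} (hω : ω ^ p = 1) (hω1 : ω ≠ 1)
    (hcard : 3 < Fintype.card F) {x : GL (Fin p) F} (hx : x ∈ Q0 F p) : Second x := by
  classical
  obtain ⟨j, hj⟩ := hx
  by_cases hj0 : j = 0
  · subst hj0
    by_cases hinj : Function.Injective (fun i => (x : Matrix (Fin p) (Fin p) F) i i)
    · exact second_of_diag_inj hp2 hω hω1 hj hinj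
    · unfold Function.Injective at hinj
      push Not at hinj
      obtain ⟨a, b, hab, hne⟩ := hinj
      exact second_of_diag_repeat hω hω1 hj hne hab
  · by_cases hdet : ((x : Matrix (Fin p) (Fin p) F) - 1).det = 0
    · exact second_of_shift_fix hp2 hω hω1 hcard hj hj0 hdet
    · exact second_of_shift_det hp2 hω hω1 hj hj0 hdet

end Cfsg.Agent.Lib.Helper69.ShiftMono
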