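import Mathlib

set_option autoImplicit false

namespace Cfsg.Agent.Lib.Helper69.ShiftMono

open Matrix

variable {F : Type*} [Field F] {p : ℕ} [NeZero p]

/-- `M` is a shift-monomial matrix with shift `j` and entries in `μ_p`. -/
def Sh (M : Matrix (Fin p) (Fin p) F) (j : Fin p) : Prop :=
  ∀ i k, (i = k + j → M i k ^ p = 1) ∧ (i ≠ k + j → M i k = 0)

theorem Sh.ne_zero {M : Matrix (Fin p) (Fin p) F} {j : Fin p} (h : Sh M j) {i k : Fin p}
    (hik : i = k + j) : M i k ≠ 0 := by
  intro h0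
  have := (h i k).1 hik
  rw [h0, zero_pow (NeZero.ne p)] at this
  exact zero_ne_one this

theorem Sh.eq_of_ne_zero {M : Matrix (Fin p) (Fin p) F} {j : Fin p} (h : Sh M j) {i k : Fin p}
    (h0 : M i k ≠ 0) : i = k + j := by
  by_contra hne
  exact h0 ((h i k).2 hne)

theorem Sh.one : Sh (1 : Matrix (Fin p) (Fin p) F) 0 := by
  intro i k
  constructor
  · intro h
    rw [add_zero] at h
    rw [h, Matrix.one_apply_eq, one_pow]
  · intro h
    rw [add_zero] at h
    exact Matrix.one_apply_ne h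

/-- right multiplication by a shift matrix -/
theorem mul_apply_right (A : Matrix (Fin p) (Fin p) F) {N : Matrix (Fin p) (Fin p) F} {b : Fin p}
    (hN : Sh N b) (i k : Fin p) : (A * N) i k = A i (k + b) * N (k + b) k := by
  rw [Matrix.mul_apply]
  apply Finset.sum_eq_single (k + b)
  · intro l _ hl
    rw [(hN l k).2 hl, mul_zero]
  · intro h
    exact absurd (Finset.mem_univ _) h

/-- left multiplication by a shift matrix -/
theorem mul_apply_left {M : Matrix (Fin p) (Fin p) F} {a : Fin p} (hM : Sh M a)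
    (B : Matrix (Fin p) (Fin p) F) (i k : Fin p) : (M * B) i k = M i (i - a) * B (i - a) k := by
  rw [Matrix.mul_apply]
  apply Finset.sum_eq_single (i - a)
  · intro l _ hl
    have : i ≠ l + a := by
      intro h
      apply hl
      rw [h, add_sub_cancel_right]
    rw [(hM i l).2 this, zero_mul]
  · intro h
    exact absurd (Finset.mem_univ _) h

theorem Sh.mul {M N : Matrix (Fin p) (Fin p) F} {a b : Fin p} (hM : Sh M a) (hN : Sh N b) :
    Sh (M * N) (a + b) := by
  intro i k
  rw [mul_apply_right M hN]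
  constructor
  · intro h
    have h1 : i = (k + b) + a := by rw [h]; abel
    rw [mul_pow, (hM i (k + b)).1 h1, (hN (k + b) k).1 rfl, one_mul]
  · intro h
    have h1 : i ≠ (k + b) + a := by
      intro h2
      apply h
      rw [h2]; abel
    rw [(hM i (k + b)).2 h1, zero_mul]

theorem Sh.pow {M : Matrix (Fin p) (Fin p) F} {a : Fin p} (hM : Sh M a) (n : ℕ) :
    Sh (M ^ n) (n • a) := by
  induction n with
  | zero => rw [pow_zero, zero_smul]; exact Sh.one
  | succ n ih =>
    rw [pow_succ, succ_nsmul]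
    exact ih.mul hM

theorem Sh.shift_unique {M : Matrix (Fin p) (Fin p) F} {a b : Fin p} (h1 : Sh M a) (h2 : Sh M b) :
    a = b := by
  have h := h1.ne_zero (i := 0 + a) (k := 0) rfl
  have := h2.eq_of_ne_zero h
  simpa using this

theorem Sh.row_unique {M : Matrix (Fin p) (Fin p) F} {j : Fin p} (h : Sh M j) {i k k' : Fin p}
    (h1 : M i k ≠ 0) (h2 : M i k' ≠ 0) : k = k' := by
  have e1 := h.eq_of_ne_zero h1
  have e2 := h.eq_of_ne_zero h2
  rw [e1] at e2
  exact add_right_cancel e2

theorem Sh.col_unique {M : Matrix (Fin p) (Fin p) F} {j : Fin p} (h : Sh M j) {i i' k : Fin p}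
    (h1 : M i k ≠ 0) (h2 : M i' k ≠ 0) : i = i' := by
  rw [h.eq_of_ne_zero h1, h.eq_of_ne_zero h2]

theorem Sh.eq_diagonal {M : Matrix (Fin p) (Fin p) F} (h : Sh M 0) :
    M = Matrix.diagonal (fun i => M i i) := by
  ext i k
  by_cases hik : i = k
  · subst hik
    rw [Matrix.diagonal_apply_eq]
  · rw [Matrix.diagonal_apply_ne _ hik]
    apply (h i k).2
    rwa [add_zero]

theorem Sh.pow_card_of_zero {M : Matrix (Fin p) (Fin p) F} (h : Sh M 0) : M ^ p = 1 := by
  rw [h.eq_diagonal, Matrix.diagonal_pow]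
  rw [← Matrix.diagonal_one]
  congr 1
  funext i
  show M i i ^ p = 1
  exact (h i i).1 (by rw [add_zero])

theorem card_nsmul_fin (j : Fin p) : p • j = 0 := by
  have := card_nsmul_eq_zero (x := j)
  rwa [Fintype.card_fin] at this

theorem Sh.pow_sq {M : Matrix (Fin p) (Fin p) F} {j : Fin p} (h : Sh M j) : M ^ (p ^ 2) = 1 := by
  rw [pow_two, pow_mul]
  have h1 := h.pow p
  rw [card_nsmul_fin] at h1
  exact h1.pow_card_of_zero

theorem Sh.inv {M N : Matrix (Fin p) (Fin p) F} {j : Fin p} (h : Sh M j) (hNM : N * M = 1) :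
    Sh N (-j) := by
  intro i m
  have key : N i m * M m (m - j) = (1 : Matrix (Fin p) (Fin p) F) i (m - j) := by
    rw [← hNM, mul_apply_right N h, sub_add_cancel]
  have hm : M m (m - j) ^ p = 1 := (h m (m - j)).1 (by rw [sub_add_cancel])
  have hm0 : M m (m - j) ≠ 0 := h.ne_zero (by rw [sub_add_cancel])
  constructor
  · intro hi
    have hi' : i = m - j := by rw [hi, sub_eq_add_neg]
    rw [hi', Matrix.one_apply_eq] at key
    rw [hi']
    have : (N (m - j) m * M m (m - j)) ^ p = 1 := by rw [key, one_pow]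
    rwa [mul_pow, hm, mul_one] at this
  · intro hi
    have hi' : i ≠ m - j := by rwa [sub_eq_add_neg]
    rw [Matrix.one_apply_ne hi'] at key
    rcases mul_eq_zero.1 key with h0 | h0
    · exact h0
    · exact absurd h0 hm0

variable (F p) in
/-- The subgroup of shift-monomial matrices with entries in `μ_p`. -/
def Q0 : Subgroup (GL (Fin p) F) where
  carrier := {g | ∃ j, Sh (g : Matrix (Fin p) (Fin p) F) j}
  mul_mem' := by
    rintro g h ⟨a, ha⟩ ⟨b, hb⟩
    exact ⟨a + b, by rw [Units.val_mul]; exact ha.mul hb⟩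
  one_mem' := ⟨0, by rw [Units.val_one]; exact Sh.one⟩
  inv_mem' := by
    rintro g ⟨j, hj⟩
    exact ⟨-j, hj.inv (Units.inv_mul g)⟩

theorem mem_Q0 {g : GL (Fin p) F} : g ∈ Q0 F p ↔ ∃ j, Sh (g : Matrix (Fin p) (Fin p) F) j := Iff.rfl

theorem isPGroup_Q0 : IsPGroup p (Q0 F p) := by
  rintro ⟨g, j, hj⟩
  refine ⟨2, ?_⟩
  apply Subtype.ext
  apply Units.ext
  show ((g ^ (p ^ 2) : GL (Fin p) F) : Matrix (Fin p) (Fin p) F) = 1
  rw [Units.val_pow_eq_pow_val]
  exact hj.pow_sq

end Cfsg.Agent.Lib.Helper69.ShiftMono
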