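import Cfsg.Agent.Lib.Helper69.ShiftMono

set_option autoImplicit false

namespace Cfsg.Agent.Lib.Helper69.ShiftMono

open Matrix

section mk
variable {F : Type*} [Field F] {p : ℕ} [NeZero p] (ω : F)

/-- the shift-monomial matrix with entries `ω ^ e i` and shift `j` -/
def mkM (e : Fin p → ℕ) (j : Fin p) : Matrix (Fin p) (Fin p) F :=
  Matrix.of fun i k => if i = k + j then ω ^ (e i) else 0

def mkM' (e : Fin p → ℕ) (j : Fin p) : Matrix (Fin p) (Fin p) F :=
  Matrix.of fun i k => if k = i + j then (ω ^ (e k))⁻¹ else 0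

theorem mkM_apply (e : Fin p → ℕ) (j i k : Fin p) :
    mkM ω e j i k = if i = k + j then ω ^ (e i) else 0 := rfl

theorem mkM'_apply (e : Fin p → ℕ) (j i k : Fin p) :
    mkM' ω e j i k = if k = i + j then (ω ^ (e k))⁻¹ else 0 := rfl

variable {ω}

theorem sh_mkM (hω : ω ^ p = 1) (e : Fin p → ℕ) (j : Fin p) : Sh (mkM ω e j) j := by
  intro i k
  constructor
  · intro h
    rw [mkM_apply, if_pos h, ← pow_mul, mul_comm, pow_mul, hω, one_pow]
  · intro h
    rw [mkM_apply, if_neg h]

theorem mkM_mul_mkM' (hω : ω ^ p = 1) (e : Fin p → ℕ) (j : Fin p) :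
    mkM ω e j * mkM' ω e j = 1 := by
  have hω0 : ω ≠ 0 := by
    intro h
    rw [h, zero_pow (NeZero.ne p)] at hω
    exact zero_ne_one hω
  ext i k
  rw [mul_apply_left (sh_mkM hω e j), mkM_apply, if_pos (sub_add_cancel i j).symm, mkM'_apply,
    sub_add_cancel, Matrix.one_apply]
  by_cases h : i = k
  · subst h
    rw [if_pos rfl, if_pos rfl, mul_inv_cancel₀ (pow_ne_zero _ hω0)]
  · rw [if_neg (fun h' => h h'.symm), if_neg h, mul_zero]

theorem mkM'_mul_mkM (hω : ω ^ p = 1) (e : Fin p → ℕ) (j : Fin p) :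
    mkM' ω e j * mkM ω e j = 1 := by
  have hω0 : ω ≠ 0 := by
    intro h
    rw [h, zero_pow (NeZero.ne p)] at hω
    exact zero_ne_one hω
  ext i k
  rw [mul_apply_right _ (sh_mkM hω e j), mkM_apply, if_pos rfl, mkM'_apply, Matrix.one_apply]
  by_cases h : i = k
  · subst h
    rw [if_pos rfl, if_pos rfl, inv_mul_cancel₀ (pow_ne_zero _ hω0)]
  · rw [if_neg (fun h' => h (add_right_cancel h').symm), if_neg h, zero_mul]

/-- the element of `GL` -/
def mkG (hω : ω ^ p = 1) (e : Fin p → ℕ) (j : Fin p) : GL (Fin p) F :=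
  ⟨mkM ω e j, mkM' ω e j, mkM_mul_mkM' hω e j, mkM'_mul_mkM hω e j⟩

theorem mkG_val (hω : ω ^ p = 1) (e : Fin p → ℕ) (j : Fin p) :
    ((mkG hω e j : GL (Fin p) F) : Matrix (Fin p) (Fin p) F) = mkM ω e j := rfl

theorem mkG_mem (hω : ω ^ p = 1) (e : Fin p → ℕ) (j : Fin p) : mkG hω e j ∈ Q0 F p :=
  ⟨j, sh_mkM hω e j⟩

theorem card_Q0_ge [Finite F] (u : Fˣ) (hu : orderOf u = p) (hωu : ω = (u : F)) :
    p ^ p * p ≤ Nat.card (Q0 F p) := by
  classical
  haveI : Fintype F := Fintype.ofFinite F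
  have hω : orderOf ω = p := by rw [hωu, orderOf_units, hu]
  have hω1 : ω ^ p = 1 := by rw [← hω]; exact pow_orderOf_eq_one ω
  let ψ : (Fin p → Fin p) × Fin p → Q0 F p := fun x =>
    ⟨mkG hω1 (fun i => (x.1 i : ℕ)) x.2, mkG_mem hω1 _ _⟩
  have hinj : Function.Injective ψ := by
    rintro ⟨e, j⟩ ⟨e', j'⟩ h
    have h1 : mkM ω (fun i => (e i : ℕ)) j = mkM ω (fun i => (e' i : ℕ)) j' := by
      have := congrArg (fun x : Q0 F p => ((x : GL (Fin p) F) : Matrix (Fin p) (Fin p) F)) h
      exact this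
    have hj : j = j' := by
      have s1 := sh_mkM hω1 (fun i => (e i : ℕ)) j
      have s2 := sh_mkM hω1 (fun i => (e' i : ℕ)) j'
      rw [← h1] at s2
      exact s1.shift_unique s2
    subst hj
    have he : e = e' := by
      funext i
      have h2 := congrFun (congrFun h1 i) (i - j)
      rw [mkM_apply, mkM_apply, if_pos (sub_add_cancel i j).symm,
        if_pos (sub_add_cancel i j).symm] at h2
      have h2' : u ^ (e i : ℕ) = u ^ (e' i : ℕ) := by
        apply Units.ext
        rw [Units.val_pow_eq_pow_val, Units.val_pow_eq_pow_val, ← hωu]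
        exact h2
      have h3 : (e i : ℕ) % orderOf u = (e' i : ℕ) % orderOf u := pow_inj_mod.1 h2'
      rw [hu, Nat.mod_eq_of_lt (e i).2, Nat.mod_eq_of_lt (e' i).2] at h3
      exact Fin.ext h3
    rw [he]
  have := Nat.card_le_card_of_injective ψ hinj
  simpa [Nat.card_eq_fintype_card] using this

end mk

section val
variable {p : ℕ} [hp : Fact p.Prime]

theorem factorization_GL {F : Type*} [Field F] [Fintype F] (hp2 : p ≠ 2)
    (h1 : p ∣ Fintype.card F - 1) (h2 : ¬ p ^ 2 ∣ Fintype.card F - 1) :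
    (Nat.card (GL (Fin p) F)).factorization p = p + 1 := by
  classical
  rw [Matrix.card_GL_field]
  have hq1' : 1 < Fintype.card F := Fintype.one_lt_card
  generalize Fintype.card F = q at *
  have hq1 : 1 < q := hq1'
  have hodd : Odd p := hp.out.odd_of_ne_two hp2
  have hpq : ¬ p ∣ q := by
    intro h
    have : p ∣ q - (q - 1) := Nat.dvd_sub h h1
    rw [Nat.sub_sub_self hq1.le] at this
    exact hp.out.one_lt.ne' (Nat.dvd_one.1 this)
  have hq10 : q - 1 ≠ 0 := by omega
  have hv : padicValNat p (q - 1) = 1 := by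
    apply le_antisymm
    · by_contra hlt
      push Not at hlt
      exact h2 ((padicValNat_dvd_iff_le hq10).2 hlt)
    · exact one_le_padicValNat_of_dvd hq10 h1
  rw [Nat.factorization_prod]
  · rw [Finset.sum_apply']
    have hterm : ∀ i : Fin p, (q ^ p - q ^ (i : ℕ)).factorization p
        = 1 + (if (i : ℕ) = 0 then 1 else 0) := by
      intro i
      have hi : (i : ℕ) < p := i.2
      have hsplit : q ^ p - q ^ (i : ℕ) = q ^ (i : ℕ) * (q ^ (p - i) - 1 ^ (p - i)) := by
        rw [one_pow, Nat.mul_sub, mul_one, ← pow_add]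
        congr 2
        omega
      have hpi : p - (i : ℕ) ≠ 0 := by omega
      have hne1 : q ^ (i : ℕ) ≠ 0 := pow_ne_zero _ (by omega)
      have hne2 : q ^ (p - (i : ℕ)) - 1 ^ (p - (i : ℕ)) ≠ 0 := by
        rw [one_pow]
        have : 1 < q ^ (p - (i : ℕ)) := Nat.one_lt_pow hpi hq1
        omega
      rw [Nat.factorization_def _ hp.out, hsplit, padicValNat.mul hne1 hne2,
        padicValNat.pow q (i : ℕ), padicValNat.eq_zero_of_not_dvd hpq, mul_zero, zero_add,
        padicValNat.pow_sub_pow hodd hq1 h1 hpq hpi, hv]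
      congr 1
      by_cases h0 : (i : ℕ) = 0
      · rw [if_pos h0, h0, Nat.sub_zero, padicValNat_self]
      · rw [if_neg h0]
        apply padicValNat.eq_zero_of_not_dvd
        intro hdvd
        have := Nat.le_of_dvd (by omega) hdvd
        omega
    rw [Finset.sum_congr rfl (fun i _ => hterm i), Finset.sum_add_distrib, Finset.sum_const,
      Finset.card_univ, Fintype.card_fin, smul_eq_mul, mul_one]
    congr 1
    haveI : NeZero p := ⟨hp.out.ne_zero⟩
    rw [Finset.sum_eq_single (0 : Fin p)]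
    · rw [if_pos (by simp)]
    · intro i _ hi
      rw [if_neg]
      intro h
      apply hi
      exact Fin.ext (by simpa using h)
    · intro h
      exact absurd (Finset.mem_univ _) h
  · intro i _
    have hi : (i : ℕ) < p := i.2
    have : q ^ (i : ℕ) < q ^ p := Nat.pow_lt_pow_right hq1 hi
    omega

theorem card_Q0 {F : Type*} [Field F] [Fintype F] (hp2 : p ≠ 2)
    (h1 : p ∣ Fintype.card F - 1) (h2 : ¬ p ^ 2 ∣ Fintype.card F - 1) :
    haveI : NeZero p := ⟨hp.out.ne_zero⟩
    Nat.card (Q0 F p) = p ^ (Nat.card (GL (Fin p) F)).factorization p := by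
  classical
  haveI : NeZero p := ⟨hp.out.ne_zero⟩
  rw [factorization_GL hp2 h1 h2]
  -- an element of order p
  have hcardu : p ∣ Fintype.card Fˣ := by
    rw [Fintype.card_units]
    exact h1
  obtain ⟨u, hu⟩ := exists_prime_orderOf_dvd_card p hcardu
  have hge := card_Q0_ge (p := p) (ω := (u : F)) u hu rfl
  obtain ⟨a, ha⟩ := IsPGroup.iff_card.1 (isPGroup_Q0 (F := F) (p := p))
  have hdvd : p ^ a ∣ Nat.card (GL (Fin p) F) := by
    rw [← ha]
    exact Subgroup.card_subgroup_dvd_card _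
  have hle : a ≤ p + 1 := by
    have := (hp.out.pow_dvd_iff_le_factorization (Nat.card_pos (α := GL (Fin p) F)).ne').1 hdvd
    rwa [factorization_GL hp2 h1 h2] at this
  have hge' : p + 1 ≤ a := by
    rw [ha, ← pow_succ] at hge
    exact (Nat.pow_le_pow_iff_right hp.out.one_lt).1 hge
  rw [ha, le_antisymm hle hge']

end val

end Cfsg.Agent.Lib.Helper69.ShiftMono
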