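import Cfsg.Agent.Lib.Helper69.SlK2CONJ2core
import Cfsg.Agent.Lib.Helper80.SlK2CONJQ

/-! # Sl hive (S2332, helper76), sub-hive K2 (helper70): leaf K2-CONJ2 `exists_conj_of_mem_Tset` (helper69) -/

set_option autoImplicit false

namespace Cfsg.Agent.Lib.Helper76.Sl

open Matrix Cfsg

variable {F : Type*} [Field F] [Fintype F] [DecidableEq F]

/-- K2-CONJ2 -/
theorem exists_conj_of_mem_Tset (m : ℕ) (hm : 1 ≤ m) {g : Gm F m} (hg : g ∈ Tset F m) :
    ∃ h : Gm F m, h * tv F m * h⁻¹ = g :=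
  k2conj2_core m (fun {_} hg h1 => exists_conj_of_mem_Qset m hm hg h1) hg

end Cfsg.Agent.Lib.Helper76.Sl
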