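import Cfsg.Agent.Lib.Helper70.SlK2Defs
import Cfsg.Agent.Lib.Helper69.SLVec

/-! # Sl hive (S2332, helper76), sub-hive K2 (helper70): leaf K2-VEC `exists_sl_mulVec_e0` (helper69) -/

set_option autoImplicit false

namespace Cfsg.Agent.Lib.Helper76.Sl

open Matrix Cfsg

variable {F : Type*} [Field F] [Fintype F] [DecidableEq F]

/-- the diagonal `diag(a⁻¹, a, 1, …, 1)` -/
def k2vec_d (m : ℕ) (a : F) : Fin (m + 2) → F :=
  fun i => if i = 0 then a⁻¹ else if i = 1 then a else 1

theorem k2vec_det (m : ℕ) (a : F) (ha : a ≠ 0) : (Matrix.diagonal (k2vec_d m a)).det = 1 := by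
  rw [Matrix.det_diagonal, Fin.prod_univ_succ, Fin.prod_univ_succ]
  have h0 : k2vec_d m a 0 = a⁻¹ := by simp [k2vec_d]
  have h1 : k2vec_d m a (Fin.succ 0) = a := by
    have : (Fin.succ 0 : Fin (m + 2)) = 1 := rfl
    rw [this]
    have h10 : (1 : Fin (m + 2)) ≠ 0 := by
      intro h; have := congrArg Fin.val h; simp at this
    simp [k2vec_d, h10]
  have h2 : ∀ i : Fin m, k2vec_d m a (Fin.succ (Fin.succ i)) = 1 := by
    intro i
    have hne0 : (Fin.succ (Fin.succ i) : Fin (m + 2)) ≠ 0 := Fin.succ_ne_zero _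
    have hne1 : (Fin.succ (Fin.succ i) : Fin (m + 2)) ≠ 1 := by
      intro h
      have := congrArg Fin.val h
      simp at this
    simp [k2vec_d, hne0, hne1]
  rw [h0, h1]
  simp only [h2, Finset.prod_const_one, mul_one]
  exact inv_mul_cancel₀ ha

/-- K2-VEC -/
theorem exists_sl_mulVec_e0 (m : ℕ) (v : Fin (m + 2) → F) (hv : v ≠ 0) :
    ∃ h : Gm F m, h.1.mulVec (Pi.single 0 1) = v := by
  have h01 : (0 : Fin (m + 2)) ≠ 1 := by
    intro h; have := congrArg Fin.val h; simp at this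
  -- a vector `w ≠ 0` not proportional to `v`
  obtain ⟨w, hw, hwv⟩ : ∃ w : Fin (m + 2) → F, w ≠ 0 ∧ ∀ a : F, a • w ≠ v := by
    by_cases hprop : ∃ c : F, c • (Pi.single 0 1 : Fin (m + 2) → F) = v
    · obtain ⟨c, hc⟩ := hprop
      refine ⟨Pi.single 1 1, ?_, ?_⟩
      · intro h; have := congrFun h 1; simp at this
      · intro a ha
        have hc0 : c ≠ 0 := by
          rintro rfl
          apply hv
          rw [← hc, zero_smul]
        have := congrFun ha 0
        rw [← hc] at this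
        simp [h01] at this
        exact hc0 this.symm
    · refine ⟨Pi.single 0 1, ?_, ?_⟩
      · intro h; have := congrFun h 0; simp at this
      · intro a ha
        exact hprop ⟨a, ha⟩
  obtain ⟨g, a, b, ha, hb, hg0, hg1⟩ :=
    Cfsg.Agent.Lib.Helper69.SLVec.exists_g1 (F := F) (0 : Fin (m + 2)) 1 h01 v w hv hw hwv
  let D : Gm F m := ⟨Matrix.diagonal (k2vec_d m a), k2vec_det m a ha⟩
  refine ⟨g * D, ?_⟩
  have hD : D.1.mulVec (Pi.single 0 1) = a⁻¹ • (Pi.single 0 1 : Fin (m + 2) → F) := by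
    ext i
    simp only [D, Matrix.mulVec_diagonal, Pi.smul_apply, smul_eq_mul]
    by_cases hi : i = 0
    · subst hi; simp [k2vec_d]
    · simp [Pi.single_apply, hi]
  rw [Matrix.SpecialLinearGroup.coe_mul, ← Matrix.mulVec_mulVec, hD, Matrix.mulVec_smul, hg0, smul_smul,
    inv_mul_cancel₀ ha, one_smul]

end Cfsg.Agent.Lib.Helper76.Sl
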