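import Cfsg.Agent.Lib.Helper70.SlK2Defs
import Cfsg.Agent.Lib.Helper69.SlK2VEC

/-! # Sl hive (S2332, helper76), sub-hive K2 (helper70): core of leaf K2-CONJ2 (helper69):
`exists_conj_of_mem_Tset` with the K2-CONJQ statement as a hypothesis. -/

set_option autoImplicit false

namespace Cfsg.Agent.Lib.Helper76.Sl

open Matrix Cfsg

variable {F : Type*} [Field F] [Fintype F] [DecidableEq F]

/-- core of K2-CONJ2: every transvection is conjugate to `tv`, given that every non-identity element of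
`Qset` is. -/
theorem k2conj2_core (m : ℕ)
    (hconjq : ∀ {g : Gm F m}, g ∈ Qset F m → g ≠ 1 → ∃ h : Gm F m, h * tv F m * h⁻¹ = g)
    {g : Gm F m} (hg : g ∈ Tset F m) :
    ∃ h : Gm F m, h * tv F m * h⁻¹ = g := by
  obtain ⟨v, f, hv, hf, hfv, hgv⟩ := hg
  obtain ⟨h₁, hh₁⟩ := exists_sl_mulVec_e0 (F := F) m v hv
  have hinv : (h₁⁻¹).1.mulVec v = Pi.single 0 1 := by
    rw [← hh₁, Matrix.mulVec_mulVec, Cfsg.Agent.Lib.Helper69.SLVec.inv_val_mul, Matrix.one_mulVec]
  set g' : Gm F m := h₁⁻¹ * g * h₁ with hg'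
  have hg'v : g'.1 = 1 + Matrix.vecMulVec (Pi.single 0 1) (Matrix.vecMul f h₁.1) := by
    rw [hg', Matrix.SpecialLinearGroup.coe_mul, Matrix.SpecialLinearGroup.coe_mul, hgv, Matrix.mul_add,
      Matrix.add_mul, Matrix.mul_one, Cfsg.Agent.Lib.Helper69.SLVec.inv_val_mul, Matrix.mul_vecMulVec,
      Matrix.vecMulVec_mul, hinv]
  have hQ : g' ∈ Qset F m := by
    intro i j hi
    rw [hg'v, Matrix.add_apply, Matrix.vecMulVec_apply, Pi.single_apply, if_neg hi, zero_mul, add_zero]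
  have hne : g' ≠ 1 := by
    intro h1
    have hg1 : g = 1 := by
      have : g = h₁ * g' * h₁⁻¹ := by rw [hg']; group
      rw [this, h1]; group
    have : Matrix.vecMulVec v f = 0 := by
      have h2 : g.1 = 1 := by rw [hg1]; rfl
      rw [hgv] at h2
      exact add_left_cancel (a := (1 : Matrix (Fin (m + 2)) (Fin (m + 2)) F)) (by rw [h2, add_zero])
    rcases Matrix.vecMulVec_eq_zero.mp this with h | h
    · exact hv h
    · exact hf h
  obtain ⟨h₂, hh₂⟩ := hconjq hQ hne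
  refine ⟨h₁ * h₂, ?_⟩
  calc h₁ * h₂ * tv F m * (h₁ * h₂)⁻¹ = h₁ * (h₂ * tv F m * h₂⁻¹) * h₁⁻¹ := by group
    _ = h₁ * g' * h₁⁻¹ := by rw [hh₂]
    _ = g := by rw [hg']; group

end Cfsg.Agent.Lib.Helper76.Sl
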