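import Cfsg.Agent.Lib.Helper70.SpUDefs
import Cfsg.Agent.Lib.Helper41.SpBNMain

/-! # S2316 hive (helper70): core of the leaf SPU-CARD (`card_Usp`), with SPU-UT (`Usp_sup_T`,
`Usp_inf_T`) and the normality of `U` in `B` (SPU-NORM + SPU-TRI) as hypotheses. -/

set_option autoImplicit false

namespace Cfsg.Agent.Lib.Helper70.SpU

open Matrix Cfsg Cfsg.Agent.Lib.Helper13 Cfsg.Agent.Lib.Helper41.SpBN

universe u

/-- `|U T| = |U| |T|` for `U ∩ T = 1`, `T` normalising `U` -/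
theorem card_sup_of_disjoint {G : Type*} [Group G] (U T B : Subgroup G) (hsup : U ⊔ T = B)
    (hinf : U ⊓ T = ⊥) (hn : T ≤ Subgroup.normalizer (U : Set G)) :
    Nat.card B = Nat.card U * Nat.card T := by
  have hUB : U ≤ B := hsup ▸ le_sup_left
  have hTB : T ≤ B := hsup ▸ le_sup_right
  let f : U × T → B := fun p => ⟨(p.1 : G) * (p.2 : G), B.mul_mem (hUB p.1.2) (hTB p.2.2)⟩
  have hinj : Function.Injective f := by
    rintro ⟨u, t⟩ ⟨u', t'⟩ h
    have h1 : (u : G) * (t : G) = (u' : G) * (t' : G) := congrArg Subtype.val h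
    have h2 : (u' : G)⁻¹ * (u : G) = (t' : G) * (t : G)⁻¹ := by
      rw [inv_mul_eq_iff_eq_mul, ← mul_assoc, ← h1, mul_assoc, mul_inv_cancel, mul_one]
    have h3 : (u' : G)⁻¹ * (u : G) ∈ U ⊓ T := by
      refine Subgroup.mem_inf.2 ⟨U.mul_mem (U.inv_mem u'.2) u.2, ?_⟩
      rw [h2]
      exact T.mul_mem t'.2 (T.inv_mem t.2)
    rw [hinf, Subgroup.mem_bot] at h3
    have h4 : (u : G) = (u' : G) := by
      rw [inv_mul_eq_one] at h3
      exact h3.symm
    have h5 : (t : G) = (t' : G) := by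
      rw [h4] at h1
      exact mul_left_cancel h1
    exact Prod.ext (Subtype.ext h4) (Subtype.ext h5)
  have hsurj : Function.Surjective f := by
    rintro ⟨b, hb⟩
    have h1 : b ∈ ((U ⊔ T : Subgroup G) : Set G) := by rw [hsup]; exact hb
    rw [Subgroup.coe_mul_of_right_le_normalizer_left U T hn] at h1
    obtain ⟨u, hu, t, ht, rfl⟩ := Set.mem_mul.1 h1
    exact ⟨(⟨u, hu⟩, ⟨t, ht⟩), rfl⟩
  rw [← Nat.card_prod]
  exact (Nat.card_congr (Equiv.ofBijective f ⟨hinj, hsurj⟩)).symm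

variable {F : Type u} [Field F] {m : ℕ}

/-- core of SPU-CARD -/
theorem card_core [Fintype F] (hsup : Usp F m ⊔ (Bsp F m ⊓ Nsp F m) = Bsp F m)
    (hinf : Usp F m ⊓ (Bsp F m ⊓ Nsp F m) = ⊥)
    (hnorm : Bsp F m ≤ Subgroup.normalizer (Usp F m : Set (SpG F m))) :
    Nat.card (Usp F m) = Fintype.card F ^ (m ^ 2) := by
  have h1 := card_sup_of_disjoint (Usp F m) (Bsp F m ⊓ Nsp F m) (Bsp F m) hsup hinf
    (inf_le_left.trans hnorm)
  have hB : Nat.card (Bsp F m) = Fintype.card F ^ (m ^ 2) * (Fintype.card F - 1) ^ m :=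
    Cfsg.Agent.S0774.result rfl m
  rw [hB, card_T] at h1
  have hq : 2 ≤ Fintype.card F := Fintype.one_lt_card
  have hpos : 0 < (Fintype.card F - 1) ^ m := Nat.pow_pos (by omega)
  exact (Nat.eq_of_mul_eq_mul_right hpos h1).symm

end Cfsg.Agent.Lib.Helper70.SpU
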