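import Cfsg.Agent.Lib.Helper70.SpUDefs
import Cfsg.Agent.Lib.Helper41.SpBNMain

/-! # S2316 hive (helper70): core of the leaf SPU-JP (`closure_le_Pl`), with SPU-LEV3 `lev_perm` as a
hypothesis. -/

set_option autoImplicit false

namespace Cfsg.Agent.Lib.Helper70.SpU

open Matrix Cfsg Cfsg.Agent.Lib.Helper13 Cfsg.Agent.Lib.Helper41.SpBN

universe u

variable {F : Type u} [Field F] {m : ℕ}

/-- core of SPU-JP -/
theorem jp_core [Finite F] (J : Set (SpG F m)) (hJ : J ⊆ Ssp F m)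
    (hlev : ∀ {σ : Equiv.Perm (Idx m)}, σ ∈ permsOf J → ∀ a : Idx m, lev J (σ a) = lev J a) :
    Subgroup.closure J ≤ Pl F (lev J) := by
  rw [Subgroup.closure_le]
  intro s hs
  obtain ⟨σ, hσ, hsσ⟩ := hJ hs
  have hσJ : σ ∈ permsOf J := ⟨hσ, s, hs, hsσ⟩
  show s ∈ Pl F (lev J)
  rw [mem_Pl]
  intro a b hab
  rw [hsσ, (monoMat_isMono σ (1 : Fin m → Fˣ)) a b, if_neg]
  rintro rfl
  rw [hlev hσJ b] at hab
  exact lt_irrefl _ hab

end Cfsg.Agent.Lib.Helper70.SpU
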