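import Mathlib
import Cfsg.Agent.Lib.Helper20.SuMain
import Cfsg.Agent.Lib.Helper20.SqCore
import Cfsg.Agent.Lib.Helper48.SqPSUB

set_option autoImplicit false
set_option linter.unusedSectionVars false

/-! # Sq hive (helper20, S4625): leaf SQ-PSU, the core (helper69)

`U = UU ⊓ SUJ F` (upper unitriangular unitary matrices for the antidiagonal form, helper20's SU library), in
characteristic 2: every square of an element of `U` lies in `[U, U]`.

Tower `C_k` = elements of `U` fixing the last `k` basis vectors; every `g ∈ C_k` factors as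
`g = r * l` with `r = SgT (eb k) w c` a Siegel element in `C_k` and `l ∈ C_(k+1)`; squares of the Siegel
elements are commutators (hypothesis `hB` = sub-leaf SQ-PSU-B). -/

namespace Cfsg.Agent.Lib.Helper20.Sq

open Matrix Subgroup Cfsg.Agent.Lib.Helper20.PslF Cfsg.Agent.Lib.Helper20.SuF
open scoped commutatorElement

variable {n : ℕ} {K : Type*} [Field K] [Fintype K] (F : SuF.Inv K)

omit [Fintype K] in
theorem psu_mulVec_eb (M : Matrix (Fin n) (Fin n) K) (a i : Fin n) :
    (M *ᵥ (eb a : Fin n → K)) i = M i a := by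
  simp [Matrix.mulVec, dotProduct, eb_apply]

omit [Fintype K] in
theorem psu_mulVec_eb_iff (M : Matrix (Fin n) (Fin n) K) (a : Fin n) :
    M *ᵥ (eb a : Fin n → K) = eb a ↔ ∀ i, M i a = (1 : Matrix (Fin n) (Fin n) K) i a := by
  constructor
  · intro h i
    have h1 := psu_mulVec_eb M a i
    rw [h, eb_apply] at h1
    rw [← h1, Matrix.one_apply]
  · intro h
    funext i
    rw [psu_mulVec_eb, h, eb_apply, Matrix.one_apply]

/-- the tower: elements of `U` fixing the last `k` basis vectors -/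
def psu_C (k : ℕ) : Subgroup (SLn n K) where
  carrier := {g | g ∈ (UU : Subgroup (SLn n K)) ⊓ SUJ F ∧
    ∀ j : Fin n, ((Fin.rev j : Fin n) : ℕ) < k → mt g *ᵥ (eb j : Fin n → K) = eb j}
  one_mem' := ⟨one_mem _, fun j _ => by rw [mt_one, Matrix.one_mulVec]⟩
  mul_mem' := by
    rintro a b ⟨ha, ha'⟩ ⟨hb, hb'⟩
    refine ⟨mul_mem ha hb, fun j hj => ?_⟩
    rw [mt_mul, ← Matrix.mulVec_mulVec, hb' j hj, ha' j hj]
  inv_mem' := by
    rintro a ⟨ha, ha'⟩
    refine ⟨inv_mem ha, fun j hj => ?_⟩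
    have h1 : mt a⁻¹ *ᵥ (mt a *ᵥ (eb j : Fin n → K)) = eb j := by
      rw [Matrix.mulVec_mulVec, ← mt_mul, inv_mul_cancel, mt_one, Matrix.one_mulVec]
    rw [ha' j hj] at h1
    exact h1

theorem psu_mem_C (k : ℕ) (g : SLn n K) : g ∈ psu_C F k ↔
    g ∈ (UU : Subgroup (SLn n K)) ⊓ SUJ F ∧
    ∀ j : Fin n, ((Fin.rev j : Fin n) : ℕ) < k → mt g *ᵥ (eb j : Fin n → K) = eb j := Iff.rfl

theorem psu_C_zero : psu_C (n := n) F 0 = (UU : Subgroup (SLn n K)) ⊓ SUJ F := by
  ext g
  rw [psu_mem_C]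
  exact ⟨fun h => h.1, fun h => ⟨h, fun j hj => absurd hj (Nat.not_lt_zero _)⟩⟩

/-- columns -/
theorem psu_C_col {k : ℕ} {g : SLn n K} (hg : g ∈ psu_C F k) {j : Fin n}
    (hj : ((Fin.rev j : Fin n) : ℕ) < k) (i : Fin n) :
    mt g i j = (1 : Matrix (Fin n) (Fin n) K) i j :=
  (psu_mulVec_eb_iff (mt g) j).1 (hg.2 j hj) i

/-- rows -/
theorem psu_C_row {k : ℕ} {g : SLn n K} (hg : g ∈ psu_C F k) {i : Fin n}
    (hi : (i : ℕ) < k) (j : Fin n) :
    mt g i j = (1 : Matrix (Fin n) (Fin n) K) i j := by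
  have hginv : g⁻¹ ∈ psu_C F k := inv_mem hg
  have h1 := inv_apply_of_mem F hginv.1.2 i j
  rw [inv_inv] at h1
  rw [h1, psu_C_col F hginv (j := Fin.rev i) (by rw [Fin.rev_rev]; exact hi) (Fin.rev j)]
  rw [Matrix.one_apply, Matrix.one_apply]
  by_cases h : i = j
  · subst h; simp
  · have : Fin.rev j ≠ Fin.rev i := fun e => h (Fin.rev_injective e).symm
    rw [if_neg this, if_neg h, map_zero]

/-- when `rev k ≤ k` the next level is the same -/
theorem psu_C_succ_of_le {k : ℕ} (hk : k < n) (hrev : ((Fin.rev (⟨k, hk⟩ : Fin n) : Fin n) : ℕ) ≤ k)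
    {g : SLn n K} (hg : g ∈ psu_C F k) : g ∈ psu_C F (k + 1) := by
  refine ⟨hg.1, fun j hj => ?_⟩
  by_cases hjk : ((Fin.rev j : Fin n) : ℕ) < k
  · exact hg.2 j hjk
  · have hjk' : ((Fin.rev j : Fin n) : ℕ) = k := by omega
    rw [psu_mulVec_eb_iff]
    intro i
    by_cases hi : (i : ℕ) < k
    · exact psu_C_row F hg hi j
    · -- `i ≥ k ≥ rev k = j`
      have hj' : (j : ℕ) = ((Fin.rev (⟨k, hk⟩ : Fin n) : Fin n) : ℕ) := by
        rw [Fin.val_rev] at hjk' ⊢
        simp only at hjk' ⊢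
        omega
      have hUU := (mem_UU g).1 hg.1.1
      by_cases hij : i = j
      · subst hij
        rw [hUU.2, Matrix.one_apply_eq]
      · have hlt : j < i := by
          rw [Fin.lt_def]
          have : (i : ℕ) ≠ (j : ℕ) := fun e => hij (Fin.ext e)
          omega
        rw [hUU.1 i j hlt, Matrix.one_apply_ne hij]

/-- the top level is trivial -/
theorem psu_C_top {k : ℕ} (hk : n ≤ k) {g : SLn n K} (hg : g ∈ psu_C F k) : g = 1 := by
  apply mt_ext
  ext i j
  rw [mt_one]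
  exact psu_C_col F hg (by have := (Fin.rev j).2; omega) i

/-- the factorization step: `g = r * l`, `r` a Siegel element of level `k`, `l` of level `k + 1` -/
theorem psu_factor {k : ℕ} (hk : k < n)
    (hlt : (⟨k, hk⟩ : Fin n) < Fin.rev (⟨k, hk⟩ : Fin n))
    {g : SLn n K} (hg : g ∈ psu_C F k) :
    ∃ (w : Fin n → K) (c : K),
      (∀ x, w x ≠ 0 → (⟨k, hk⟩ : Fin n) < x ∧ x < Fin.rev (⟨k, hk⟩ : Fin n)) ∧
      c + F.sg c + hf F w w = 0 ∧
      SgT F (eb (⟨k, hk⟩ : Fin n)) w c ∈ psu_C F k ∧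
      (SgT F (eb (⟨k, hk⟩ : Fin n)) w c)⁻¹ * g ∈ psu_C F (k + 1) := by
  classical
  set kk : Fin n := ⟨k, hk⟩ with hkk
  have hkv : (kk : ℕ) = k := rfl
  have hne : kk ≠ Fin.rev kk := ne_of_lt hlt
  have hUU := (mem_UU g).1 hg.1.1
  -- the data
  set w : Fin n → K := fun i => if kk < i ∧ i < Fin.rev kk then mt g i (Fin.rev kk) else 0 with hw_def
  set c : K := mt g kk (Fin.rev kk) with hc_def
  have hw : ∀ x, w x ≠ 0 → kk < x ∧ x < Fin.rev kk := by
    intro x hx
    by_contra h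
    apply hx
    rw [hw_def]
    simp only
    rw [if_neg h]
  have hwz : ∀ x, ¬ (kk < x ∧ x < Fin.rev kk) → w x = 0 := by
    intro x hx
    rw [hw_def]
    simp only
    rw [if_neg hx]
  have hwk : w kk = 0 := hwz kk (fun h => lt_irrefl _ h.1)
  have hwr : w (Fin.rev kk) = 0 := hwz _ (fun h => lt_irrefl _ h.2)
  -- the column `rev k` of `g`
  have hcol : mt g *ᵥ (eb (Fin.rev kk) : Fin n → K) = eb (Fin.rev kk) + w + c • eb kk := by
    funext i
    rw [psu_mulVec_eb, Pi.add_apply, Pi.add_apply, Pi.smul_apply, smul_eq_mul]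
    by_cases h1 : i = kk
    · subst h1
      rw [eb_ne hne, hwk, eb_same]
      ring
    · rw [eb_ne h1, mul_zero, add_zero]
      by_cases h2 : i = Fin.rev kk
      · subst h2
        rw [hUU.2, eb_same, hwr, add_zero]
      · rw [eb_ne h2, zero_add]
        by_cases h3 : kk < i ∧ i < Fin.rev kk
        · rw [hw_def]
          simp only
          rw [if_pos h3]
        · rw [hwz i h3]
          -- `i < kk` or `rev kk < i`
          by_cases h4 : i < kk
          · have := psu_C_row F hg (i := i) (by rw [← hkv]; exact h4) (Fin.rev kk)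
            rw [this, Matrix.one_apply_ne h2]
          · have h5 : Fin.rev kk < i := by
              rw [Fin.lt_def] at h4 ⊢
              have e1 : (i : ℕ) ≠ (kk : ℕ) := fun e => h1 (Fin.ext e)
              have e2 : (i : ℕ) ≠ ((Fin.rev kk : Fin n) : ℕ) := fun e => h2 (Fin.ext e)
              by_contra h6
              apply h3
              rw [Fin.lt_def, Fin.lt_def]
              omega
            exact hUU.1 i (Fin.rev kk) h5
  have h1 : hf F (eb kk : Fin n → K) (eb kk) = 0 := hf_eb_self_eq_zero F hne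
  have h2 : hf F w (eb kk) = 0 := by rw [hf_eb_right]; exact hwr
  -- unitarity gives the norm equation
  have hc : c + F.sg c + hf F w w = 0 := by
    have e1 := hf_mem F hg.1.2 (eb (Fin.rev kk) : Fin n → K) (eb (Fin.rev kk))
    rw [hcol, hf_eb_eb, if_neg (fun e => hne (by rw [Fin.rev_rev] at e; exact e.symm))] at e1
    simp only [hf_add_left, hf_add_right, hf_smul_left, hf_smul_right, hf_eb_eb, hf_eb_left,
      hf_eb_right, Fin.rev_rev, hwk, hwr, map_zero, if_neg hne, if_neg (Ne.symm hne), if_true,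
      mul_zero, mul_one, add_zero, zero_add] at e1
    have ev1 : (eb (Fin.rev kk) + w + c • eb kk : Fin n → K) kk = c := by
      rw [Pi.add_apply, Pi.add_apply, Pi.smul_apply, smul_eq_mul, eb_ne hne, hwk, eb_same]
      ring
    have ev2 : (eb (Fin.rev kk) + w + c • eb kk : Fin n → K) (Fin.rev kk) = 1 := by
      rw [Pi.add_apply, Pi.add_apply, Pi.smul_apply, smul_eq_mul, eb_same, hwr,
        eb_ne (Ne.symm hne)]
      ring
    rw [ev1, ev2] at e1
    linear_combination e1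
  have hrUU : SgT F (eb kk) w c ∈ (UU : Subgroup (SLn n K)) := SgT_mem_UU F c hlt hw
  have hrSU : SgT F (eb kk) w c ∈ SUJ F := SgT_mem_SUJ F h1 h2 hc
  have hrC : SgT F (eb kk) w c ∈ psu_C F k := by
    refine ⟨⟨hrUU, hrSU⟩, fun j hj => ?_⟩
    apply SgT_mulVec_of_orth F c h1 h2
    · rw [hf_eb_eb, if_neg]
      intro e
      rw [e, Fin.rev_rev] at hj
      exact lt_irrefl _ hj
    · rw [hf_eb_left, hwz, map_zero]
      rintro ⟨h, -⟩
      rw [Fin.lt_def] at h
      omega
  have hre : mt (SgT F (eb kk) w c) *ᵥ (eb (Fin.rev kk) : Fin n → K)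
      = eb (Fin.rev kk) + w + c • eb kk := by
    rw [SgT_mulVec F c h1 h2, hf_eb_eb, if_pos rfl, hf_eb_left, Fin.rev_rev, hwk, map_zero]
    simp
  refine ⟨w, c, hw, hc, hrC, ?_⟩
  have hl : (SgT F (eb kk) w c)⁻¹ * g ∈ psu_C F k := mul_mem (inv_mem hrC) hg
  refine ⟨hl.1, fun j hj => ?_⟩
  by_cases hjk : ((Fin.rev j : Fin n) : ℕ) < k
  · exact hl.2 j hjk
  · have hj' : j = Fin.rev kk := by
      have e : Fin.rev j = kk := Fin.ext (by rw [hkv]; omega)
      rw [← e, Fin.rev_rev]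
    subst hj'
    rw [mt_mul, ← Matrix.mulVec_mulVec, hcol, ← hre, Matrix.mulVec_mulVec, ← mt_mul,
      inv_mul_cancel, mt_one, Matrix.one_mulVec]

/-- **the core of SQ-PSU**: in characteristic 2 every square of an element of `U = UU ⊓ SUJ F` lies in
`[U, U]` -/
theorem psu_core (F : SuF.Inv K) [CharP K 2] :
    ∀ x ∈ ((UU : Subgroup (SLn n K)) ⊓ SUJ F),
      x ^ 2 ∈ ⁅((UU : Subgroup (SLn n K)) ⊓ SUJ F), ((UU : Subgroup (SLn n K)) ⊓ SUJ F)⁆ := by
  have key : ∀ d k : ℕ, k + d = n → ∀ g ∈ psu_C (n := n) F k,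
      g ^ 2 ∈ ⁅((UU : Subgroup (SLn n K)) ⊓ SUJ F), ((UU : Subgroup (SLn n K)) ⊓ SUJ F)⁆ := by
    intro d
    induction d with
    | zero =>
      intro k hk g hg
      rw [psu_C_top F (by omega) hg, one_pow]
      exact one_mem _
    | succ d ih =>
      intro k hk g hg
      have hkn : k < n := by omega
      by_cases hlt : (⟨k, hkn⟩ : Fin n) < Fin.rev (⟨k, hkn⟩ : Fin n)
      · obtain ⟨w, c, hw, hc, hrC, hlC⟩ := psu_factor F hkn hlt hg
        have hr2 := psu_siegel_sq F hlt hw hc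
        have hl2 := ih (k + 1) (by omega) _ hlC
        have hcomm : ⁅(SgT F (eb (⟨k, hkn⟩ : Fin n)) w c)⁻¹,
            (SgT F (eb (⟨k, hkn⟩ : Fin n)) w c)⁻¹ * g⁆ ∈
            ⁅((UU : Subgroup (SLn n K)) ⊓ SUJ F), ((UU : Subgroup (SLn n K)) ⊓ SUJ F)⁆ :=
          Subgroup.commutator_mem_commutator (inv_mem hrC.1) hlC.1
        have hid : g ^ 2 = (SgT F (eb (⟨k, hkn⟩ : Fin n)) w c) ^ 2 *
            ⁅(SgT F (eb (⟨k, hkn⟩ : Fin n)) w c)⁻¹, (SgT F (eb (⟨k, hkn⟩ : Fin n)) w c)⁻¹ * g⁆ *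
            ((SgT F (eb (⟨k, hkn⟩ : Fin n)) w c)⁻¹ * g) ^ 2 := by
          simp only [commutatorElement_def, pow_two]
          group
        rw [hid]
        exact mul_mem (mul_mem hr2 hcomm) hl2
      · have hrev : ((Fin.rev (⟨k, hkn⟩ : Fin n) : Fin n) : ℕ) ≤ k := by
          have := not_lt.mp hlt
          rw [Fin.le_def] at this
          exact this
        exact ih (k + 1) (by omega) g (psu_C_succ_of_le F hkn hrev hg)
  intro x hx
  apply key n 0 (by omega) x
  rw [psu_C_zero]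
  exact hx

end Cfsg.Agent.Lib.Helper20.Sq
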