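import Cfsg.Agent.Lib.Helper86.StnSymDefs
import Cfsg.Agent.Lib.Helper80.Stn_BASIC
import Cfsg.Agent.Lib.Helper13.Stn_WINV
import Cfsg.Agent.Lib.Helper25.Stn_WPAIR
import Cfsg.Agent.Lib.Helper95.Stn_WSYMM

/-! # Stn hive (S2401, helper41), sub-hive SYM (helper86): leaf SYM-WADD `ww_add` (helper69)
`w(p+r) = w(p) w(-pr/(p+r)) w(r)` (rank-one calculus from `y(a) y(b) = y(a+b)`). -/

set_option autoImplicit false

namespace Cfsg.Agent.Lib.Helper41.Stn

open Matrix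

variable {K : Type*} [Field K] {n : ℕ}

/-- the pure group-theoretic step -/
theorem wadd_group {G : Type*} [Group G] {xp xr xm A B C y : G}
    (h1 : xp * A * xp * (xr * C * xr) = xm * B * xm)
    (h5 : xp⁻¹ * xm = A * y * A⁻¹)
    (h6 : xm * xr⁻¹ = C⁻¹ * y * C) :
    A⁻¹ * B * C⁻¹ = y⁻¹ * (xp * xr) * y⁻¹ := by
  have hm1 : xm = xp * (A * y * A⁻¹) := by rw [← h5]; group
  have hm2 : xm = (C⁻¹ * y * C) * xr := by rw [← h6]; group
  have h1' : xp * A * xp * (xr * C * xr) = (xp * (A * y * A⁻¹)) * B * ((C⁻¹ * y * C) * xr) := by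
    rw [← hm1, ← hm2]; exact h1
  calc A⁻¹ * B * C⁻¹
      = y⁻¹ * (A⁻¹ * xp⁻¹) * ((xp * (A * y * A⁻¹)) * B * ((C⁻¹ * y * C) * xr)) * (xr⁻¹ * C⁻¹) * y⁻¹ := by
        group
    _ = y⁻¹ * (A⁻¹ * xp⁻¹) * (xp * A * xp * (xr * C * xr)) * (xr⁻¹ * C⁻¹) * y⁻¹ := by rw [h1']
    _ = y⁻¹ * (xp * xr) * y⁻¹ := by group

/-- `y(a⁻¹) = x(a) w(-a) x(a)` -/
theorem wadd_y (i j : Fin n) (a : K) :
    xx i j a * ww i j (-a) * xx i j a = xx j i a⁻¹ := by
  have e : -(-a)⁻¹ = a⁻¹ := by rw [inv_neg, neg_neg]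
  unfold ww
  rw [e]
  have h1 : xx i j a * xx i j (-a) = 1 := by rw [xx_add, add_neg_cancel, xx_zero]
  have h2 : xx i j (-a) * xx i j a = 1 := by rw [xx_add, neg_add_cancel, xx_zero]
  calc xx i j a * (xx i j (-a) * xx j i a⁻¹ * xx i j (-a)) * xx i j a
      = (xx i j a * xx i j (-a)) * xx j i a⁻¹ * (xx i j (-a) * xx i j a) := by group
    _ = xx j i a⁻¹ := by rw [h1, h2, one_mul, mul_one]

/-- SYM-WADD -/
theorem ww_add (hn : 3 ≤ n) {i j : Fin n} (hij : i ≠ j) {p r : K} (hp : p ≠ 0) (hr : r ≠ 0)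
    (hpr : p + r ≠ 0) :
    ww i j (p + r) = ww i j p * ww i j (-(p * r) / (p + r)) * ww i j r := by
  set s : K := p + r with hs
  set m : K := p * r / s with hm
  have hm0 : m ≠ 0 := div_ne_zero (mul_ne_zero hp hr) hpr
  have hs1 : (1 / s : K) ≠ 0 := one_div_ne_zero hpr
  -- E1
  have h1 : xx i j p * ww i j (-p) * xx i j p * (xx i j r * ww i j (-r) * xx i j r) =
      xx i j m * ww i j (-m) * xx i j m := by
    rw [wadd_y, wadd_y, wadd_y, xx_add]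
    congr 1
    rw [hm]; field_simp; ring
  have h5 : (xx i j p)⁻¹ * xx i j m = ww i j (-p) * xx j i (1 / s) * (ww i j (-p))⁻¹ := by
    rw [(ww_conj_xx_pair hn hij (neg_ne_zero.mpr hp) (1 / s)).2, xx_inv, xx_add]
    congr 1
    rw [hm]; field_simp; ring
  have h6 : xx i j m * (xx i j r)⁻¹ = (ww i j (-r))⁻¹ * xx j i (1 / s) * ww i j (-r) := by
    have h := (ww_conj_xx_pair hn hij hr (1 / s)).2
    rw [ww_inv i j r] at h
    rw [ww_inv i j (-r), neg_neg, h, xx_inv, xx_add]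
    congr 1
    rw [hm]; field_simp; ring
  have key := wadd_group h1 h5 h6
  rw [ww_inv i j (-p), ww_inv i j (-r), neg_neg, neg_neg, xx_inv, xx_add] at key
  have hw : ww j i (-(1 / s)) = xx j i (-(1 / s)) * xx i j s * xx j i (-(1 / s)) := by
    unfold ww
    congr 2
    rw [inv_neg, neg_neg, one_div, inv_inv]
  have hsym := ww_symm hn hij (neg_ne_zero.mpr hs1)
  rw [show -(-(1 / s))⁻¹ = s by rw [inv_neg, neg_neg, one_div, inv_inv]] at hsym
  rw [← hsym, hw, ← key, neg_div]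

end Cfsg.Agent.Lib.Helper41.Stn
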