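import Mathlib

set_option autoImplicit false

/-!
# Counting conjugacy classes of symmetric and alternating groups via cycle types (helper69)
-/

namespace Cfsg.Agent.Lib.Helper69

open Equiv

/-- The finite set of cycle types of permutations of `Fin n`. -/
noncomputable def cycTypes (n : ℕ) : Finset (Multiset ℕ) :=
  (Finset.univ : Finset (Perm (Fin n))).image Perm.cycleType

theorem mem_cycTypes {n : ℕ} {m : Multiset ℕ} :
    m ∈ cycTypes n ↔ m.sum ≤ n ∧ ∀ a ∈ m, 2 ≤ a := by
  rw [cycTypes, Finset.mem_image]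
  simp only [Finset.mem_univ, true_and]
  rw [Perm.exists_with_cycleType_iff (Fin n), Fintype.card_fin]

/-- The cycle type of a conjugacy class of `Perm (Fin n)`. -/
noncomputable def classType (n : ℕ) : ConjClasses (Perm (Fin n)) → Multiset ℕ :=
  Quotient.lift (fun g : Perm (Fin n) => g.cycleType)
    (fun _ _ h => Perm.isConj_iff_cycleType_eq.mp h)

theorem classType_mk (n : ℕ) (g : Perm (Fin n)) :
    classType n (ConjClasses.mk g) = g.cycleType := rfl

theorem classType_injective (n : ℕ) : Function.Injective (classType n) := by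
  intro x y h
  obtain ⟨g, rfl⟩ := ConjClasses.exists_rep x
  obtain ⟨g', rfl⟩ := ConjClasses.exists_rep y
  rw [classType_mk, classType_mk] at h
  exact ConjClasses.mk_eq_mk_iff_isConj.mpr (Perm.isConj_iff_cycleType_eq.mpr h)

theorem card_conjClasses_perm (n : ℕ) :
    Nat.card (ConjClasses (Perm (Fin n))) = (cycTypes n).card := by
  classical
  rw [Nat.card_eq_fintype_card, ← Finset.card_univ,
    ← Finset.card_image_of_injective _ (classType_injective n)]
  congr 1
  ext m
  simp only [Finset.mem_image, Finset.mem_univ, true_and, cycTypes]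
  constructor
  · rintro ⟨y, rfl⟩
    obtain ⟨g, rfl⟩ := ConjClasses.exists_rep y
    exact ⟨g, rfl⟩
  · rintro ⟨g, rfl⟩
    exact ⟨ConjClasses.mk g, rfl⟩

theorem cycTypes_five : (cycTypes 5).card ≤ 7 := by
  have hsub : cycTypes 5 ⊆ ({0, {2}, {3}, {4}, {5}, {2, 2}, {2, 3}} : Finset (Multiset ℕ)) := by
    intro m hm
    rw [mem_cycTypes] at hm
    obtain ⟨hs, hge⟩ := hm
    induction m using Multiset.induction_on with
    | empty => simp
    | cons a m₁ _ =>
      induction m₁ using Multiset.induction_on with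
      | empty =>
        have h2 := hge a (by simp)
        simp at hs
        interval_cases a <;> decide
      | cons b m₂ _ =>
        induction m₂ using Multiset.induction_on with
        | empty =>
          have h2 := hge a (by simp)
          have h3 := hge b (by simp)
          simp at hs
          have ha : a ≤ 3 := by omega
          have hb : b ≤ 3 := by omega
          interval_cases a <;> interval_cases b <;> first | decide | omega
        | cons c m₃ _ =>
          exfalso
          have h2 := hge a (by simp)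
          have h3 := hge b (by simp)
          have h4 := hge c (by simp)
          simp at hs
          omega
  exact (Finset.card_le_card hsub).trans (by decide)

theorem card_cycTypes_succ_le (n : ℕ) : (cycTypes (n + 1)).card ≤ 2 * (cycTypes n).card := by
  classical
  have hsplit : cycTypes (n + 1) ⊆
      cycTypes n ∪ (cycTypes (n + 1)).filter (fun m => m.sum = n + 1) := by
    intro m hm
    by_cases h : m.sum = n + 1
    · exact Finset.mem_union_right _ (Finset.mem_filter.mpr ⟨hm, h⟩)
    · apply Finset.mem_union_left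
      rw [mem_cycTypes] at hm ⊢
      exact ⟨by omega, hm.2⟩
  have hQ : ((cycTypes (n + 1)).filter (fun m => m.sum = n + 1)).card ≤ (cycTypes n).card := by
    apply Finset.card_le_card_of_forall_subsingleton (fun m m' => ∃ a ∈ m, (∀ b ∈ m, a ≤ b) ∧
      m' = if a = 2 then m.erase a else (a - 1) ::ₘ m.erase a)
    · intro m hm
      rw [Finset.mem_filter, mem_cycTypes] at hm
      obtain ⟨⟨-, hge⟩, hsum⟩ := hm
      have hne : m ≠ 0 := by
        rintro rfl
        simp at hsum
      obtain ⟨a, ha, hmin⟩ := Multiset.exists_min_image id hne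
      refine ⟨_, ?_, a, ha, hmin, rfl⟩
      have hsum' : a + (m.erase a).sum = n + 1 := by
        rw [← Multiset.sum_cons, Multiset.cons_erase ha, hsum]
      have ha2 := hge a ha
      rw [mem_cycTypes]
      split_ifs with h2
      · exact ⟨by omega, fun b hb => hge b (Multiset.mem_of_mem_erase hb)⟩
      · refine ⟨by rw [Multiset.sum_cons]; omega, fun b hb => ?_⟩
        rcases Multiset.mem_cons.mp hb with rfl | hb
        · omega
        · exact hge b (Multiset.mem_of_mem_erase hb)
    · intro m' _ m₁ hm₁ m₂ hm₂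
      obtain ⟨hm₁Q, a₁, ha₁, hmin₁, e₁⟩ := hm₁
      obtain ⟨hm₂Q, a₂, ha₂, hmin₂, e₂⟩ := hm₂
      rw [Finset.mem_filter, mem_cycTypes] at hm₁Q hm₂Q
      obtain ⟨⟨-, hge₁⟩, hsum₁⟩ := hm₁Q
      obtain ⟨⟨-, hge₂⟩, hsum₂⟩ := hm₂Q
      have hs₁ : a₁ + (m₁.erase a₁).sum = n + 1 := by
        rw [← Multiset.sum_cons, Multiset.cons_erase ha₁, hsum₁]
      have hs₂ : a₂ + (m₂.erase a₂).sum = n + 1 := by
        rw [← Multiset.sum_cons, Multiset.cons_erase ha₂, hsum₂]
      have h21 := hge₁ a₁ ha₁
      have h22 := hge₂ a₂ ha₂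
      by_cases c₁ : a₁ = 2
      · by_cases c₂ : a₂ = 2
        · rw [if_pos c₁] at e₁
          rw [if_pos c₂] at e₂
          rw [← Multiset.cons_erase ha₁, ← Multiset.cons_erase ha₂, ← e₁, ← e₂, c₁, c₂]
        · exfalso
          rw [if_pos c₁] at e₁
          rw [if_neg c₂] at e₂
          have h := congrArg Multiset.sum (e₁.symm.trans e₂)
          rw [Multiset.sum_cons] at h
          omega
      · by_cases c₂ : a₂ = 2
        · exfalso
          rw [if_neg c₁] at e₁
          rw [if_pos c₂] at e₂
          have h := congrArg Multiset.sum (e₁.symm.trans e₂)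
          rw [Multiset.sum_cons] at h
          omega
        · rw [if_neg c₁] at e₁
          rw [if_neg c₂] at e₂
          have hmem₁ : a₁ - 1 ∈ (a₂ - 1) ::ₘ m₂.erase a₂ := by
            rw [← e₂, e₁]; exact Multiset.mem_cons_self _ _
          have hmem₂ : a₂ - 1 ∈ (a₁ - 1) ::ₘ m₁.erase a₁ := by
            rw [← e₁, e₂]; exact Multiset.mem_cons_self _ _
          have haa : a₁ = a₂ := by
            rcases Multiset.mem_cons.mp hmem₁ with h | h
            · omega
            · have k1 := hmin₂ _ (Multiset.mem_of_mem_erase h)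
              rcases Multiset.mem_cons.mp hmem₂ with k2 | k2
              · omega
              · have k3 := hmin₁ _ (Multiset.mem_of_mem_erase k2)
                omega
          subst haa
          have := (e₁.symm.trans e₂)
          rw [Multiset.cons_inj_right] at this
          rw [← Multiset.cons_erase ha₁, this, Multiset.cons_erase ha₂]
  calc (cycTypes (n + 1)).card
      ≤ (cycTypes n ∪ (cycTypes (n + 1)).filter (fun m => m.sum = n + 1)).card :=
        Finset.card_le_card hsplit
    _ ≤ (cycTypes n).card + ((cycTypes (n + 1)).filter (fun m => m.sum = n + 1)).card :=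
        Finset.card_union_le _ _
    _ ≤ 2 * (cycTypes n).card := by omega

theorem card_cycTypes_le (n : ℕ) (hn : 5 ≤ n) : (cycTypes n).card ≤ 2 ^ (n - 2) := by
  induction n, hn using Nat.le_induction with
  | base => exact cycTypes_five.trans (by norm_num)
  | succ k hk ih =>
    have h1 := card_cycTypes_succ_le k
    have h2 : 2 ^ (k + 1 - 2) = 2 * 2 ^ (k - 2) := by
      have : k + 1 - 2 = (k - 2) + 1 := by omega
      rw [this, pow_succ, mul_comm]
    rw [h2]
    omega

/-- "distinct odd parts, at most one fixed point": the types of split classes. -/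
def IsDO (n : ℕ) (m : Multiset ℕ) : Prop :=
  (∀ c ∈ m, Odd c) ∧ n ≤ m.sum + 1 ∧ ∀ i, m.count i ≤ 1

theorem even_sum_add_card_of_odd (m : Multiset ℕ) (h : ∀ c ∈ m, Odd c) :
    Even (m.sum + Multiset.card m) := by
  induction m using Multiset.induction_on with
  | empty => simp
  | cons a m ih =>
    have ha : Odd a := h a (Multiset.mem_cons_self _ _)
    have hm := ih (fun c hc => h c (Multiset.mem_cons_of_mem hc))
    rw [Multiset.sum_cons, Multiset.card_cons]
    have : a + m.sum + (Multiset.card m + 1) = (a + 1) + (m.sum + Multiset.card m) := by ring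
    rw [this]
    exact Even.add ha.add_one hm

open Classical in
theorem card_DO_lt (n : ℕ) (hn : 5 ≤ n) :
    ((cycTypes n).filter (IsDO n)).card <
      ((cycTypes n).filter (fun m => ¬ Even (m.sum + Multiset.card m))).card := by
  classical
  set O := (cycTypes n).filter (fun m => ¬ Even (m.sum + Multiset.card m)) with hO
  have h2 : ({2} : Multiset ℕ) ∈ O := by
    rw [hO, Finset.mem_filter, mem_cycTypes]
    refine ⟨⟨by simp; omega, by simp⟩, by decide⟩
  have hle : ((cycTypes n).filter (IsDO n)).card ≤ (O.erase {2}).card := by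
    apply Finset.card_le_card_of_forall_subsingleton
      (fun m m' => ∃ a ∈ m, m' = (a - 1) ::ₘ m.erase a)
    · intro m hm
      rw [Finset.mem_filter, mem_cycTypes] at hm
      obtain ⟨⟨hsum, hge⟩, hodd, hn1, hcount⟩ := hm
      have hne : m ≠ 0 := by
        rintro rfl
        simp at hn1
        omega
      obtain ⟨a, ha⟩ := Multiset.exists_mem_of_ne_zero hne
      refine ⟨_, ?_, a, ha, rfl⟩
      have ha2 := hge a ha
      have hao := hodd a ha
      have ha3 : 3 ≤ a := by
        obtain ⟨k, hk⟩ := hao
        omega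
      have hsum' : a + (m.erase a).sum = m.sum := by
        rw [← Multiset.sum_cons, Multiset.cons_erase ha]
      have hcard' : Multiset.card (m.erase a) + 1 = Multiset.card m := by
        rw [← Multiset.card_cons a, Multiset.cons_erase ha]
      have hpar : Even (m.sum + Multiset.card m) := even_sum_add_card_of_odd m hodd
      rw [Finset.mem_erase, hO, Finset.mem_filter, mem_cycTypes]
      refine ⟨?_, ⟨?_, ?_⟩, ?_⟩
      · intro h
        have hc := congrArg Multiset.card h
        have hs := congrArg Multiset.sum h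
        rw [Multiset.card_cons, Multiset.card_singleton] at hc
        rw [Multiset.sum_cons, Multiset.sum_singleton] at hs
        omega
      · rw [Multiset.sum_cons]; omega
      · intro b hb
        rcases Multiset.mem_cons.mp hb with rfl | hb
        · omega
        · exact hge b (Multiset.mem_of_mem_erase hb)
      · rw [Multiset.sum_cons, Multiset.card_cons]
        have e : (a - 1) + (m.erase a).sum + (Multiset.card (m.erase a) + 1) + 1 =
            m.sum + Multiset.card m := by omega
        intro hev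
        rw [← e] at hpar
        rw [Nat.even_add_one] at hpar
        exact hpar hev
    · intro m' _ m₁ hm₁ m₂ hm₂
      obtain ⟨hm₁Q, a₁, ha₁, e₁⟩ := hm₁
      obtain ⟨hm₂Q, a₂, ha₂, e₂⟩ := hm₂
      rw [Finset.mem_filter] at hm₁Q hm₂Q
      obtain ⟨-, hodd₁, -, -⟩ := hm₁Q
      obtain ⟨-, hodd₂, -, -⟩ := hm₂Q
      have ho₁ := hodd₁ a₁ ha₁
      have ho₂ := hodd₂ a₂ ha₂
      have hmem₂ : a₂ - 1 ∈ (a₁ - 1) ::ₘ m₁.erase a₁ := by
        rw [← e₁, e₂]; exact Multiset.mem_cons_self _ _
      have haa : a₁ = a₂ := by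
        rcases Multiset.mem_cons.mp hmem₂ with h | h
        · obtain ⟨k₁, hk₁⟩ := ho₁
          obtain ⟨k₂, hk₂⟩ := ho₂
          omega
        · exfalso
          have h3 := hodd₁ _ (Multiset.mem_of_mem_erase h)
          obtain ⟨k₂, hk₂⟩ := ho₂
          obtain ⟨k₃, hk₃⟩ := h3
          omega
      subst haa
      have := (e₁.symm.trans e₂)
      rw [Multiset.cons_inj_right] at this
      rw [← Multiset.cons_erase ha₁, this, Multiset.cons_erase ha₂]
  calc ((cycTypes n).filter (IsDO n)).card ≤ (O.erase {2}).card := hle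
    _ < O.card := Finset.card_erase_lt_of_mem h2

/-- The cycle type of a conjugacy class of the alternating group. -/
noncomputable def altType (n : ℕ) : ConjClasses (alternatingGroup (Fin n)) → Multiset ℕ :=
  Quotient.lift (fun g : alternatingGroup (Fin n) => (g : Perm (Fin n)).cycleType)
    (fun a b h => by
      obtain ⟨c, hc⟩ := isConj_iff.mp h
      have : (b : Perm (Fin n)) = (c : Perm (Fin n)) * a * (c : Perm (Fin n))⁻¹ := by
        rw [← hc]; rfl
      simp only [this, Perm.cycleType_conj])

theorem altType_mk (n : ℕ) (g : alternatingGroup (Fin n)) :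
    altType n (ConjClasses.mk g) = (g : Perm (Fin n)).cycleType := rfl

theorem alt_mk_eq_of_conj {n : ℕ} (g₁ g₂ : alternatingGroup (Fin n)) (c : Perm (Fin n))
    (hc : c ∈ alternatingGroup (Fin n)) (h : c * g₁ * c⁻¹ = g₂) :
    ConjClasses.mk g₁ = ConjClasses.mk g₂ := by
  rw [ConjClasses.mk_eq_mk_iff_isConj, isConj_iff]
  exact ⟨⟨c, hc⟩, Subtype.ext (by simpa using h)⟩

theorem mul_inv_mem_alt {n : ℕ} (c d : Perm (Fin n)) (hc : c ∉ alternatingGroup (Fin n))
    (hd : d ∉ alternatingGroup (Fin n)) : c * d⁻¹ ∈ alternatingGroup (Fin n) := by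
  rw [Perm.mem_alternatingGroup] at hc hd ⊢
  rcases Int.units_eq_one_or (Perm.sign c) with h | h
  · exact absurd h hc
  rcases Int.units_eq_one_or (Perm.sign d) with h' | h'
  · exact absurd h' hd
  rw [map_mul, map_inv, h, h']
  decide

theorem mul_mem_alt {n : ℕ} (c d : Perm (Fin n)) (hc : c ∉ alternatingGroup (Fin n))
    (hd : d ∉ alternatingGroup (Fin n)) : c * d ∈ alternatingGroup (Fin n) := by
  rw [Perm.mem_alternatingGroup] at hc hd ⊢
  rcases Int.units_eq_one_or (Perm.sign c) with h | h
  · exact absurd h hc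
  rcases Int.units_eq_one_or (Perm.sign d) with h' | h'
  · exact absurd h' hd
  rw [map_mul, h, h']
  decide

theorem alt_fiber_le_two (n : ℕ) (x₁ x₂ x₃ : ConjClasses (alternatingGroup (Fin n)))
    (h12 : altType n x₁ = altType n x₂) (h13 : altType n x₁ = altType n x₃)
    (hne12 : x₁ ≠ x₂) (hne13 : x₁ ≠ x₃) : x₂ = x₃ := by
  obtain ⟨g₁, rfl⟩ := ConjClasses.exists_rep x₁
  obtain ⟨g₂, rfl⟩ := ConjClasses.exists_rep x₂
  obtain ⟨g₃, rfl⟩ := ConjClasses.exists_rep x₃
  rw [altType_mk, altType_mk] at h12 h13
  obtain ⟨c, hc⟩ := isConj_iff.mp (Perm.isConj_iff_cycleType_eq.mpr h12)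
  obtain ⟨d, hd⟩ := isConj_iff.mp (Perm.isConj_iff_cycleType_eq.mpr h13)
  have hcA : c ∉ alternatingGroup (Fin n) := fun h => hne12 (alt_mk_eq_of_conj g₁ g₂ c h hc)
  have hdA : d ∉ alternatingGroup (Fin n) := fun h => hne13 (alt_mk_eq_of_conj g₁ g₃ d h hd)
  apply alt_mk_eq_of_conj g₂ g₃ (d * c⁻¹) (mul_inv_mem_alt d c hdA hcA)
  rw [← hc, ← hd]
  group

theorem alt_fiber_le_one (n : ℕ) (x₁ x₂ : ConjClasses (alternatingGroup (Fin n)))
    (h12 : altType n x₁ = altType n x₂) (hDO : ¬ IsDO n (altType n x₁)) : x₁ = x₂ := by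
  obtain ⟨g₁, rfl⟩ := ConjClasses.exists_rep x₁
  obtain ⟨g₂, rfl⟩ := ConjClasses.exists_rep x₂
  rw [altType_mk] at hDO
  rw [altType_mk, altType_mk] at h12
  obtain ⟨c, hc⟩ := isConj_iff.mp (Perm.isConj_iff_cycleType_eq.mpr h12)
  by_cases hcA : c ∈ alternatingGroup (Fin n)
  · exact alt_mk_eq_of_conj g₁ g₂ c hcA hc
  · have hnle : ¬ (Subgroup.centralizer {(g₁ : Perm (Fin n))} ≤ alternatingGroup (Fin n)) := by
      rw [Perm.centralizer_le_alternating_iff, Fintype.card_fin]
      exact hDO
    obtain ⟨t, ht, htA⟩ := SetLike.not_le_iff_exists.mp hnle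
    rw [Subgroup.mem_centralizer_singleton_iff] at ht
    apply alt_mk_eq_of_conj g₁ g₂ (c * t) (mul_mem_alt c t hcA htA)
    rw [← hc]
    have h1 : t * (g₁ : Perm (Fin n)) * t⁻¹ = g₁ := by rw [ht]; group
    calc c * t * (g₁ : Perm (Fin n)) * (c * t)⁻¹ = c * (t * g₁ * t⁻¹) * c⁻¹ := by group
      _ = c * g₁ * c⁻¹ := by rw [h1]

open Classical in
theorem card_conjClasses_alt_le (n : ℕ) :
    Nat.card (ConjClasses (alternatingGroup (Fin n))) ≤
      ((cycTypes n).filter (fun m => Even (m.sum + Multiset.card m))).card +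
        ((cycTypes n).filter (IsDO n)).card := by
  rw [Nat.card_eq_fintype_card, ← Finset.card_univ]
  set I := (Finset.univ : Finset (ConjClasses (alternatingGroup (Fin n)))).image (altType n)
    with hI
  have h1 := Finset.card_eq_sum_card_fiberwise (f := altType n) (s := Finset.univ) (t := I)
    (fun x _ => Finset.mem_image_of_mem _ (Finset.mem_univ x))
  rw [h1]
  have h2 : ∀ m ∈ I, (Finset.univ.filter (fun x => altType n x = m)).card ≤
      1 + (if IsDO n m then 1 else 0) := by
    intro m _
    split_ifs with hDO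
    · rw [← not_lt]
      change ¬ (2 < _)
      rw [Finset.two_lt_card_iff]
      rintro ⟨x₁, x₂, x₃, hx₁, hx₂, hx₃, h12, h13, h23⟩
      rw [Finset.mem_filter] at hx₁ hx₂ hx₃
      exact h23 (alt_fiber_le_two n x₁ x₂ x₃ (hx₁.2.trans hx₂.2.symm) (hx₁.2.trans hx₃.2.symm)
        h12 h13)
    · rw [add_zero, Finset.card_le_one_iff]
      intro x₁ x₂ hx₁ hx₂
      rw [Finset.mem_filter] at hx₁ hx₂
      exact alt_fiber_le_one n x₁ x₂ (hx₁.2.trans hx₂.2.symm) (by rw [hx₁.2]; exact hDO)
  have hIsub : I ⊆ (cycTypes n).filter (fun m => Even (m.sum + Multiset.card m)) := by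
    intro m hm
    rw [hI, Finset.mem_image] at hm
    obtain ⟨x, -, rfl⟩ := hm
    obtain ⟨g, rfl⟩ := ConjClasses.exists_rep x
    rw [altType_mk, Finset.mem_filter]
    refine ⟨Finset.mem_image_of_mem _ (Finset.mem_univ _), ?_⟩
    have hs : Perm.sign (g : Perm (Fin n)) = 1 := Perm.mem_alternatingGroup.mp g.2
    rw [Perm.sign_of_cycleType] at hs
    exact (neg_one_pow_eq_one_iff_even (by decide)).mp hs
  calc ∑ m ∈ I, (Finset.univ.filter (fun x => altType n x = m)).card
      ≤ ∑ m ∈ I, (1 + (if IsDO n m then 1 else 0)) := Finset.sum_le_sum h2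
    _ = I.card + (I.filter (IsDO n)).card := by
        rw [Finset.sum_add_distrib, Finset.sum_const, smul_eq_mul, mul_one, Finset.sum_boole]
        simp
    _ ≤ _ := add_le_add (Finset.card_le_card hIsub)
        (Finset.card_le_card (Finset.filter_subset_filter _
          (hIsub.trans (Finset.filter_subset _ _))))

end Cfsg.Agent.Lib.Helper69
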