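import Mathlib
import Cfsg.Agent.Lib.Helper66.TpDefs
import Cfsg.Agent.S3282

/-! # Tp hive (S4017, helper66): leaf TP-BSW1 `bsw_concl_of_caseII` (helper69) -/

set_option autoImplicit false

namespace Cfsg.Agent.Lib.Helper66.Tp

section ctx

variable {p : ℕ} {G : Type*} [Group G] [Finite G]

/-- elements of `R ⊔ ⟨u⟩` when `u² = 1` and `u` centralises `R` -/
theorem tpbsw1_mem_sup {R : Subgroup G} {u : G} (huu : u * u = 1)
    (hRu : R ≤ Subgroup.centralizer ({u} : Set G)) {a : G} (ha : a ∈ R ⊔ Subgroup.zpowers u) :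
    a ∈ R ∨ a * u ∈ R := by
  have hle : R ⊔ Subgroup.zpowers u ≤ Subgroup.centralizer ({u} : Set G) :=
    sup_le hRu (by
      rw [Subgroup.zpowers_le]
      exact Subgroup.mem_centralizer_singleton_iff.mpr rfl)
  rw [Subgroup.sup_eq_closure] at ha hle
  induction ha using Subgroup.closure_induction with
  | mem x hx =>
    rcases hx with hx | hx
    · exact Or.inl hx
    · obtain ⟨i, rfl⟩ := Subgroup.mem_zpowers_iff.mp hx
      have hu2 : u ^ (2 : ℤ) = 1 := by rw [zpow_two]; exact huu
      rcases Int.even_or_odd' i with ⟨k, rfl | rfl⟩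
      · left
        rw [zpow_mul, hu2, one_zpow]
        exact R.one_mem
      · right
        rw [zpow_add, zpow_mul, hu2, one_zpow, one_mul, zpow_one, huu]
        exact R.one_mem
  | one => exact Or.inl R.one_mem
  | mul x y hx hy ihx ihy =>
    have hyu : y * u = u * y := Subgroup.mem_centralizer_singleton_iff.mp (hle hy)
    rcases ihx with ihx | ihx <;> rcases ihy with ihy | ihy
    · exact Or.inl (R.mul_mem ihx ihy)
    · right
      rw [mul_assoc]
      exact R.mul_mem ihx ihy
    · right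
      have h1 : x * y * u = x * u * y := by rw [mul_assoc, hyu, ← mul_assoc]
      rw [h1]
      exact R.mul_mem ihx ihy
    · left
      have h1 : x * y = x * u * (y * u) := by
        rw [hyu, mul_assoc, ← mul_assoc u u y, huu, one_mul]
      rw [h1]
      exact R.mul_mem ihx ihy
  | inv x hx ih =>
    have hxu : x * u = u * x := Subgroup.mem_centralizer_singleton_iff.mp (hle hx)
    rcases ih with ih | ih
    · exact Or.inl (R.inv_mem ih)
    · right
      have huinv : u⁻¹ = u := (eq_inv_of_mul_eq_one_left huu).symm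
      have h1 : x⁻¹ * u = (x * u)⁻¹ := by rw [hxu, mul_inv_rev, huinv]
      rw [h1]
      exact R.inv_mem ih

/-- an involution in a `p`-group, `p` odd, is trivial -/
theorem tpbsw1_odd (hp : p.Prime) (hp2 : p ≠ 2) {R : Subgroup G} (hR : IsPGroup p R) {y : G}
    (hy : y ∈ R) (hyy : y * y = 1) : y = 1 := by
  obtain ⟨k, hk⟩ := hR ⟨y, hy⟩
  have hk' : y ^ p ^ k = 1 := by
    have h1 := congrArg Subtype.val hk
    simpa using h1
  have h2 : y ^ 2 = 1 := by rw [pow_two]; exact hyy
  have hd1 : orderOf y ∣ p ^ k := orderOf_dvd_of_pow_eq_one hk'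
  have hd2 : orderOf y ∣ 2 := orderOf_dvd_of_pow_eq_one h2
  have hcop : Nat.Coprime (p ^ k) 2 := by
    apply Nat.Coprime.pow_left
    rw [Nat.coprime_primes hp Nat.prime_two]
    exact hp2
  have h3 := Nat.dvd_gcd hd1 hd2
  rw [hcop.gcd_eq_one] at h3
  exact orderOf_eq_one_iff.mp (Nat.dvd_one.mp h3)

/-- proper inclusion of subgroups at least doubles the order -/
theorem tpbsw1_two_mul_le {H K : Subgroup G} (hle : H ≤ K) (hne : H ≠ K) :
    2 * Nat.card H ≤ Nat.card K := by
  obtain ⟨c, hc⟩ := Subgroup.card_dvd_of_le hle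
  have hpos : 0 < Nat.card H := Nat.card_pos
  have hKpos : 0 < Nat.card K := Nat.card_pos
  have hneq : Nat.card H ≠ Nat.card K := by
    intro heq
    exact hne (Subgroup.eq_of_le_of_card_ge hle heq.ge)
  rcases c with _ | _ | c
  · rw [hc] at hKpos; simp at hKpos
  · rw [hc] at hneq; simp at hneq
  · rw [hc]; nlinarith

variable (s : Setup p G)
include s

/-- TP-BSW1 -/
theorem bsw_concl_of_caseII {u : G} (hu : u ∈ (s.Q : Subgroup G)) (hu1 : u ≠ 1)
    (hcu : Nat.card (Subgroup.centralizer ({u} : Set G)) = Nat.card (Yof p u) * (p + 1))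
    (h : CaseII s u) : BSWConcl G := by
  have hp3 : p = 3 := h.p3
  have hp : p.Prime := s.ctx.hp
  have hp2 : p ≠ 2 := s.ctx.hp2
  haveI : Fact p.Prime := ⟨hp⟩
  haveI : Fact (Nat.Prime 2) := ⟨Nat.prime_two⟩
  obtain ⟨R, hR⟩ := h.sylow
  have hYp : IsPGroup p (Yof p u) := by rw [← hR]; exact R.isPGroup'
  have hYab : ∀ a ∈ Yof p u, ∀ b ∈ Yof p u, a * b = b * a := by
    intro a ha b hb
    rw [← hR] at ha hb
    exact congrArg Subtype.val ((s.ctx.abel R).is_comm.comm ⟨a, ha⟩ ⟨b, hb⟩)
  have hYC : Yof p u ≤ Subgroup.centralizer ({u} : Set G) := Yof_le_centralizer p u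
  have huu : u * u = 1 := s.hexp u hu
  have hou : orderOf u = 2 := orderOf_eq_prime (by rw [pow_two]; exact huu) hu1
  have huinv : u⁻¹ = u := (eq_inv_of_mul_eq_one_left huu).symm
  have hQab : ∀ a ∈ (s.Q : Subgroup G), ∀ b ∈ (s.Q : Subgroup G), a * b = b * a := by
    intro a ha b hb
    have h1 := s.hexp a ha
    have h2 := s.hexp b hb
    have h3 := s.hexp (a * b) (mul_mem ha hb)
    have ha' : a⁻¹ = a := (eq_inv_of_mul_eq_one_left h1).symm
    have hb' : b⁻¹ = b := (eq_inv_of_mul_eq_one_left h2).symm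
    calc a * b = (a * b)⁻¹ := eq_inv_of_mul_eq_one_left h3
      _ = b⁻¹ * a⁻¹ := mul_inv_rev a b
      _ = b * a := by rw [ha', hb']
  have hQ4 : Nat.card (s.Q : Subgroup G) = 4 := by
    rw [Sylow.card_eq_multiplicity, s.ctx.two_part, hp3]
  obtain ⟨v, hv, hv1, hvu⟩ : ∃ v ∈ (s.Q : Subgroup G), v ≠ 1 ∧ v ≠ u := by
    by_contra hcon
    push_neg at hcon
    have hsub : (s.Q : Subgroup G) ≤ Subgroup.zpowers u := by
      intro w hw
      by_cases hw1 : w = 1
      · rw [hw1]; exact one_mem _
      · rw [hcon w hw hw1]; exact Subgroup.mem_zpowers u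
    have h1 := Subgroup.card_le_of_le hsub
    rw [hQ4, Nat.card_zpowers, hou] at h1
    omega
  have hvv : v * v = 1 := s.hexp v hv
  have hov : orderOf v = 2 := orderOf_eq_prime (by rw [pow_two]; exact hvv) hv1
  have hvu' : v * u = u * v := hQab v hv u hu
  have hvinv : ∀ y ∈ Yof p u, v * y * v⁻¹ = y⁻¹ := h.inv v hv hv1 hvu
  have hvH : v ∈ Subgroup.centralizer ({u} : Set G) :=
    Subgroup.mem_centralizer_singleton_iff.mpr hvu'
  have hodd : ∀ y ∈ Yof p u, y * y = 1 → y = 1 := fun y hy hyy => tpbsw1_odd hp hp2 hYp hy hyy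
  have huY : u ∉ Yof p u := fun hcon => hu1 (hodd u hcon huu)
  have hYne : ∃ y ∈ Yof p u, y ≠ 1 := by
    by_contra hcon
    push_neg at hcon
    exact h.ne_bot ((Subgroup.eq_bot_iff_forall _).mpr hcon)
  -- `y ∈ Y` commuting with `v` is trivial
  have key : ∀ y ∈ Yof p u, y * v = v * y → y = 1 := by
    intro y hy hyv
    have h1 := hvinv y hy
    rw [← hyv, mul_assoc, mul_inv_cancel, mul_one] at h1
    exact hodd y hy (mul_eq_one_iff_eq_inv.mpr h1)
  -- the subgroup `K`
  obtain ⟨K, hK⟩ : ∃ K : Subgroup G, K = Yof p u ⊔ Subgroup.zpowers u := ⟨_, rfl⟩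
  have hKdesc : ∀ a ∈ K, a ∈ Yof p u ∨ a * u ∈ Yof p u := by
    intro a ha
    rw [hK] at ha
    exact tpbsw1_mem_sup huu hYC ha
  have hKH : K ≤ Subgroup.centralizer ({u} : Set G) := by
    rw [hK]
    exact sup_le hYC (by
      rw [Subgroup.zpowers_le]
      exact Subgroup.mem_centralizer_singleton_iff.mpr rfl)
  have hYK : Yof p u ≤ K := by rw [hK]; exact le_sup_left
  have htK : u ∈ K := by
    rw [hK]
    exact (le_sup_right : Subgroup.zpowers u ≤ _) (Subgroup.mem_zpowers u)
  have hKu : ∀ a ∈ K, a * u = u * a := fun a ha =>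
    Subgroup.mem_centralizer_singleton_iff.mp (hKH ha)
  -- `K` is abelian
  have hKY : ∀ a ∈ K, ∀ y ∈ Yof p u, a * y = y * a := by
    intro a ha y hy
    have hyu : y * u = u * y := Subgroup.mem_centralizer_singleton_iff.mp (hYC hy)
    rcases hKdesc a ha with h' | h'
    · exact hYab a h' y hy
    · have ha_eq : a = a * u * u := by rw [mul_assoc, huu, mul_one]
      rw [ha_eq]
      calc a * u * u * y = a * u * (u * y) := by simp only [mul_assoc]
        _ = a * u * (y * u) := by rw [hyu]
        _ = (a * u * y) * u := by simp only [mul_assoc]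
        _ = (y * (a * u)) * u := by rw [hYab _ h' y hy]
        _ = y * (a * u * u) := by simp only [mul_assoc]
  have hKcomm : ∀ a ∈ K, ∀ b ∈ K, a * b = b * a := by
    intro a ha b hb
    have hau := hKu a ha
    rcases hKdesc b hb with h' | h'
    · exact hKY a ha b h'
    · have hb_eq : b = b * u * u := by rw [mul_assoc, huu, mul_one]
      rw [hb_eq]
      calc a * (b * u * u) = (a * (b * u)) * u := by simp only [mul_assoc]
        _ = (b * u * a) * u := by rw [hKY a ha _ h']
        _ = b * u * (a * u) := by simp only [mul_assoc]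
        _ = b * u * (u * a) := by rw [hau]
        _ = b * u * u * a := by simp only [mul_assoc]
  have hKab : IsMulCommutative ↥K := ⟨⟨fun a b => Subtype.ext (hKcomm a.1 a.2 b.1 b.2)⟩⟩
  have hvK : v ∉ K := by
    intro hcon
    obtain ⟨y, hy, hy1⟩ := hYne
    exact hy1 (key y hy (hKY v hcon y hy).symm)
  -- cardinalities
  have hM_le : K ⊔ Subgroup.zpowers v ≤ Subgroup.centralizer ({u} : Set G) :=
    sup_le hKH (by rw [Subgroup.zpowers_le]; exact hvH)
  have hc1 : 2 * Nat.card (Yof p u) ≤ Nat.card K :=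
    tpbsw1_two_mul_le hYK (fun heq => huY (heq ▸ htK))
  have hc2 : 2 * Nat.card K ≤ Nat.card (K ⊔ Subgroup.zpowers v : Subgroup G) :=
    tpbsw1_two_mul_le le_sup_left (fun heq => hvK (by
      rw [heq]
      exact (le_sup_right : Subgroup.zpowers v ≤ _) (Subgroup.mem_zpowers v)))
  have hc3 : Nat.card (K ⊔ Subgroup.zpowers v : Subgroup G) ≤
      Nat.card (Subgroup.centralizer ({u} : Set G)) := Subgroup.card_le_of_le hM_le
  have hcu4 : Nat.card (Subgroup.centralizer ({u} : Set G)) = Nat.card (Yof p u) * 4 := by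
    rw [hcu, hp3]
  have hH : K ⊔ Subgroup.zpowers v = Subgroup.centralizer ({u} : Set G) :=
    Subgroup.eq_of_le_of_card_ge hM_le (by omega)
  have hcardC : Nat.card (Subgroup.centralizer ({u} : Set G)) = 2 * Nat.card K := by omega
  -- `K ⊓ C(v) = ⟨u⟩`
  have hCK : K ⊓ Subgroup.centralizer ({v} : Set G) = Subgroup.zpowers u := by
    apply le_antisymm
    · rintro a ⟨haK, hav⟩
      have hav' : a * v = v * a := Subgroup.mem_centralizer_singleton_iff.mp hav
      rcases hKdesc a haK with h' | h'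
      · rw [key a h' hav']; exact one_mem _
      · have h1 : a * u = 1 := key _ h' (by
          rw [mul_assoc, ← hvu', ← mul_assoc, hav', mul_assoc])
        have h2 : a = u := by
          rw [eq_inv_of_mul_eq_one_left h1]; exact huinv
        rw [h2]; exact Subgroup.mem_zpowers u
    · rw [Subgroup.zpowers_le]
      exact ⟨htK, Subgroup.mem_centralizer_singleton_iff.mpr hvu'.symm⟩
  -- `v` inverts `K`
  have hinvK : ∀ x ∈ K, v * x * v⁻¹ = x⁻¹ := by
    intro x hx
    rcases hKdesc x hx with h' | h'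
    · exact hvinv x h'
    · have h1 := hvinv _ h'
      have hxu := hKu x hx
      have hcm : u * v⁻¹ = v⁻¹ * u := (Commute.inv_right (show Commute u v from hvu'.symm)).eq
      have h2 : v * (x * u) * v⁻¹ = v * x * v⁻¹ * u := by
        calc v * (x * u) * v⁻¹ = v * x * (u * v⁻¹) := by simp only [mul_assoc]
          _ = v * x * (v⁻¹ * u) := by rw [hcm]
          _ = v * x * v⁻¹ * u := by simp only [mul_assoc]
      have h3 : (x * u)⁻¹ = x⁻¹ * u := by rw [hxu, mul_inv_rev, huinv]
      rw [h2, h3] at h1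
      exact mul_right_cancel h1
  -- involutions of `K`
  have hKinvol : ∀ a ∈ K, a * a = 1 → a = 1 ∨ a = u := by
    intro a ha haa
    have hau := hKu a ha
    rcases hKdesc a ha with h' | h'
    · exact Or.inl (hodd a h' haa)
    · right
      have h1 : a * u * (a * u) = 1 := by
        calc a * u * (a * u) = a * (u * a) * u := by simp only [mul_assoc]
          _ = a * (a * u) * u := by rw [hau]
          _ = (a * a) * (u * u) := by simp only [mul_assoc]
          _ = 1 := by rw [haa, huu, mul_one]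
      have h2 := hodd _ h' h1
      rw [eq_inv_of_mul_eq_one_left h2]; exact huinv
  have hKsq : ∀ a ∈ K, a * a ∈ Yof p u := by
    intro a ha
    have hau := hKu a ha
    rcases hKdesc a ha with h' | h'
    · exact mul_mem h' h'
    · have h1 : a * a = a * u * (a * u) := by
        calc a * a = (a * a) * (u * u) := by rw [huu, mul_one]
          _ = a * (a * u) * u := by simp only [mul_assoc]
          _ = a * (u * a) * u := by rw [hau]
          _ = a * u * (a * u) := by simp only [mul_assoc]
      rw [h1]; exact mul_mem h' h'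
  -- elements of `C(u)` centralising `Y` lie in `K`
  have hZ : ∀ c ∈ Subgroup.centralizer ({u} : Set G), (∀ y ∈ Yof p u, c * y = y * c) → c ∈ K := by
    intro c hc hcY
    obtain ⟨Z, hZdef⟩ : ∃ Z : Subgroup G, Z = Subgroup.centralizer ({u} : Set G) ⊓
        Subgroup.centralizer ((Yof p u : Subgroup G) : Set G) := ⟨_, rfl⟩
    have hKZ : K ≤ Z := by
      intro a ha
      rw [hZdef]
      exact Subgroup.mem_inf.mpr ⟨hKH ha, Subgroup.mem_centralizer_iff.mpr
        (fun y hy => (hKY a ha y hy).symm)⟩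
    have hZC : Z ≤ Subgroup.centralizer ({u} : Set G) := by rw [hZdef]; exact inf_le_left
    have hvZ : v ∉ Z := by
      intro hcon
      rw [hZdef] at hcon
      obtain ⟨y, hy, hy1⟩ := hYne
      exact hy1 (key y hy ((Subgroup.mem_centralizer_iff.mp hcon.2) y hy))
    have hZne : Z ≠ Subgroup.centralizer ({u} : Set G) := fun heq => hvZ (heq ▸ hvH)
    have h1 := tpbsw1_two_mul_le hZC hZne
    have h2 : Nat.card Z ≤ Nat.card K := by omega
    have hKZeq : K = Z := Subgroup.eq_of_le_of_card_ge hKZ h2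
    rw [hKZeq, hZdef]
    exact Subgroup.mem_inf.mpr ⟨hc, Subgroup.mem_centralizer_iff.mpr
      (fun y hy => (hcY y hy).symm)⟩
  -- TI
  have hTI : ∀ g : G, g ∉ Subgroup.centralizer ({u} : Set G) →
      K ⊓ K.map (MulAut.conj g).toMonoidHom = ⊥ := by
    intro g hg
    rw [Subgroup.eq_bot_iff_forall]
    rintro z ⟨hzK, hzg⟩
    by_contra hz1
    apply hg
    obtain ⟨k, hkK, hkz⟩ := Subgroup.mem_map.mp hzg
    have hkz' : g * k * g⁻¹ = z := hkz
    suffices hconj : g * u * g⁻¹ = u by
      rw [Subgroup.mem_centralizer_singleton_iff]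
      calc g * u = g * u * g⁻¹ * g := by group
        _ = u * g := by rw [hconj]
    have hk1 : k ≠ 1 := by
      rintro rfl
      apply hz1
      rw [← hkz']
      group
    by_cases hzz : z * z = 1
    · have hz_u : z = u := (hKinvol z hzK hzz).resolve_left hz1
      have hkk : k * k = 1 := by
        have h1 : g * (k * k) * g⁻¹ = 1 := by
          rw [← hzz, ← hkz']; group
        have h2 : k * k = g⁻¹ * (g * (k * k) * g⁻¹) * g := by group
        rw [h2, h1]; group
      have hk_u : k = u := (hKinvol k hkK hkk).resolve_left hk1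
      have h3 := hkz'
      rw [hk_u, hz_u] at h3
      exact h3
    · have hwY : z * z ∈ Yof p u := hKsq z hzK
      have hkkY : k * k ∈ Yof p u := hKsq k hkK
      have hw_conj : g * (k * k) * g⁻¹ = z * z := by rw [← hkz']; group
      have hcent := h.cent (z * z) hwY hzz
      have hconjY_C : ∀ y ∈ Yof p u, g * y * g⁻¹ ∈ Subgroup.centralizer ({u} : Set G) := by
        intro y hy
        apply hcent
        rw [Subgroup.mem_centralizer_singleton_iff, ← hw_conj]
        have h1 := hYab y hy (k * k) hkkY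
        calc g * y * g⁻¹ * (g * (k * k) * g⁻¹) = g * (y * (k * k)) * g⁻¹ := by group
          _ = g * ((k * k) * y) * g⁻¹ := by rw [h1]
          _ = g * (k * k) * g⁻¹ * (g * y * g⁻¹) := by group
      have hconjY : ∀ y ∈ Yof p u, g * y * g⁻¹ ∈ Yof p u := by
        intro y hy
        apply mem_Yof (hconjY_C y hy)
        obtain ⟨j, hj⟩ := (IsPGroup.iff_orderOf.mp hYp) ⟨y, hy⟩
        refine ⟨j, ?_⟩
        have h1 := MulEquiv.orderOf_eq (MulAut.conj g) y
        rw [MulAut.conj_apply] at h1
        rw [h1, ← hj, Subgroup.orderOf_mk]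
      -- conjugation by `g` is a bijection of `Y`
      have hsurj : ∀ y ∈ Yof p u, ∃ y' ∈ Yof p u, g * y' * g⁻¹ = y := by
        have hinj : Function.Injective
            (fun y : Yof p u => (⟨g * y.1 * g⁻¹, hconjY y.1 y.2⟩ : Yof p u)) := by
          intro a b hab
          have h1 : g * a.1 * g⁻¹ = g * b.1 * g⁻¹ := congrArg Subtype.val hab
          apply Subtype.ext
          have h2 : a.1 = g⁻¹ * (g * a.1 * g⁻¹) * g := by group
          rw [h2, h1]; group
        have hsur := Finite.surjective_of_injective hinj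
        intro y hy
        obtain ⟨y', hy'⟩ := hsur ⟨y, hy⟩
        exact ⟨y'.1, y'.2, congrArg Subtype.val hy'⟩
      -- `u' = g u g⁻¹`
      have hu'C : g * u * g⁻¹ ∈ Subgroup.centralizer ({u} : Set G) := by
        apply hcent
        rw [Subgroup.mem_centralizer_singleton_iff, ← hw_conj]
        have h1 : u * (k * k) = (k * k) * u :=
          (Subgroup.mem_centralizer_singleton_iff.mp (hYC hkkY)).symm
        calc g * u * g⁻¹ * (g * (k * k) * g⁻¹) = g * (u * (k * k)) * g⁻¹ := by group
          _ = g * ((k * k) * u) * g⁻¹ := by rw [h1]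
          _ = g * (k * k) * g⁻¹ * (g * u * g⁻¹) := by group
      have hu'Y : ∀ y ∈ Yof p u, g * u * g⁻¹ * y = y * (g * u * g⁻¹) := by
        intro y hy
        obtain ⟨y', hy', rfl⟩ := hsurj y hy
        have h1 : u * y' = y' * u := (Subgroup.mem_centralizer_singleton_iff.mp (hYC hy')).symm
        calc g * u * g⁻¹ * (g * y' * g⁻¹) = g * (u * y') * g⁻¹ := by group
          _ = g * (y' * u) * g⁻¹ := by rw [h1]
          _ = g * y' * g⁻¹ * (g * u * g⁻¹) := by group
      have hu'K : g * u * g⁻¹ ∈ K := hZ _ hu'C hu'Y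
      have hu'sq : g * u * g⁻¹ * (g * u * g⁻¹) = 1 := by
        calc g * u * g⁻¹ * (g * u * g⁻¹) = g * (u * u) * g⁻¹ := by group
          _ = 1 := by rw [huu]; group
      have hu'1 : g * u * g⁻¹ ≠ 1 := by
        intro hcon
        apply hu1
        have h2 : u = g⁻¹ * (g * u * g⁻¹) * g := by group
        rw [h2, hcon]; group
      exact (hKinvol _ hu'K hu'sq).resolve_left hu'1
  -- all involutions are conjugate
  have hconj : ∀ a b : G, orderOf a = 2 → orderOf b = 2 → IsConj a b := by
    have keyc : ∀ a : G, orderOf a = 2 → ∃ c : G, c * a * c⁻¹ = u := by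
      intro a ha
      have ha1 : a ≠ 1 := by
        rintro rfl
        simp at ha
      have hpg : IsPGroup 2 (Subgroup.zpowers a) := by
        apply IsPGroup.of_card (n := 1)
        rw [Nat.card_zpowers, ha, pow_one]
      obtain ⟨Q', hQ'⟩ := hpg.exists_le_sylow
      obtain ⟨g, hg⟩ := MulAction.exists_smul_eq G Q' s.Q
      have haQ' : a ∈ (Q' : Subgroup G) := hQ' (Subgroup.mem_zpowers a)
      have hga : g * a * g⁻¹ ∈ (s.Q : Subgroup G) := by
        rw [← hg, Sylow.coe_subgroup_smul]
        have h1 := Subgroup.smul_mem_pointwise_smul a (MulAut.conj g) (Q' : Subgroup G) haQ'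
        simpa [MulAut.smul_def] using h1
      have hga1 : g * a * g⁻¹ ≠ 1 := by
        intro hcon
        apply ha1
        have h2 : a = g⁻¹ * (g * a * g⁻¹) * g := by group
        rw [h2, hcon]; group
      obtain ⟨k, hk⟩ := s.htrans _ hga u hu hga1 hu1
      refine ⟨s.x ^ k * g, ?_⟩
      rw [← hk]; group
    intro a b ha hb
    obtain ⟨c, hc⟩ := keyc a ha
    obtain ⟨d, hd⟩ := keyc b hb
    rw [isConj_iff]
    refine ⟨d⁻¹ * c, ?_⟩
    have h1 : b = d⁻¹ * u * d := by rw [← hd]; group
    rw [h1, ← hc]; group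
  exact Cfsg.Agent.S3282.result u hou K hKab hKH htK v hov hvH hvK hH hCK hinvK hTI hconj

end ctx

end Cfsg.Agent.Lib.Helper66.Tp
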