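import Mathlib

/-!
# U3 hive (S2283, owner helper23), sub-hive U3-XE: the number theory leaf XE-NT (core)

`|F| = q²`, `3 ≤ q`, `q ≠ 5`, `q ≠ 8`, `orderOf μ = q + 1`: the powers of `ν = μ⁻¹ ^ 3` span `F` additively.
Private names (`u3xent69_*`); the exact-name wrapper of the sub-skeleton is a one-liner over `u3xent69_main`.
-/

set_option autoImplicit false

namespace Cfsg.Agent.Lib.Helper23.U3

/-- pure arithmetic core -/
theorem u3xent69_arith (q Q d m : ℕ) (hq : 3 ≤ q) (h5 : q ≠ 5) (h8 : q ≠ 8) (hQ : 2 ≤ Q)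
    (hd : Q ^ d = q ^ 2) (hm : m * Nat.gcd (q + 1) 3 = q + 1) (hdiv : m ∣ Q - 1) : d = 1 := by
  -- g ∈ {1,3}
  have hg : Nat.gcd (q + 1) 3 = 1 ∨ Nat.gcd (q + 1) 3 = 3 := by
    have h := Nat.gcd_dvd_right (q + 1) 3
    have := (Nat.dvd_prime Nat.prime_three).mp h
    exact this
  have h3m : q + 1 ≤ 3 * m := by
    rcases hg with h | h <;> rw [h] at hm <;> omega
  have hmdvd : m ∣ q + 1 := ⟨Nat.gcd (q + 1) 3, hm.symm⟩
  by_contra hd1
  have hd0 : d ≠ 0 := by
    rintro rfl
    rw [pow_zero] at hd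
    nlinarith
  rcases Nat.even_or_odd' d with ⟨e, he | he⟩
  · -- d = 2e
    have he1 : 1 ≤ e := by omega
    have hqe : Q ^ e = q := by
      have : (Q ^ e) ^ 2 = q ^ 2 := by rw [← pow_mul, mul_comm, ← he, hd]
      exact Nat.pow_left_injective (by norm_num : 2 ≠ 0) this
    have h1 : Q - 1 ∣ q - 1 := by
      rw [← hqe]; exact Nat.sub_one_dvd_pow_sub_one Q e
    have h2 : m ∣ q - 1 := hdiv.trans h1
    have h3 : m ∣ 2 := by
      have : m ∣ (q + 1) - (q - 1) := Nat.dvd_sub hmdvd h2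
      have e2 : (q + 1) - (q - 1) = 2 := by omega
      rwa [e2] at this
    have hm2 : m ≤ 2 := Nat.le_of_dvd (by norm_num) h3
    have hq5 : q ≤ 5 := by omega
    interval_cases q
    · -- q = 3
      norm_num at hm
      subst hm
      omega
    · norm_num at hm
      subst hm
      omega
    · exact h5 rfl
  · -- d = 2e+1, e ≥ 1
    have he1 : 1 ≤ e := by omega
    have hdvd : Q ^ e ∣ q := by
      have : (Q ^ e) ^ 2 ∣ q ^ 2 := by
        rw [← hd, he]
        have e1 : Q ^ (2 * e + 1) = (Q ^ e) ^ 2 * Q := by rw [pow_succ, ← pow_mul, mul_comm e 2]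
        rw [e1]
        exact dvd_mul_right _ _
      exact (Nat.pow_dvd_pow_iff (by norm_num : 2 ≠ 0)).mp this
    obtain ⟨c, hc⟩ := hdvd
    have hQpos : 0 < Q ^ e := pow_pos (by omega) e
    have hQc : Q = c ^ 2 := by
      have h1 : Q ^ (2 * e) * Q = Q ^ (2 * e) * c ^ 2 := by
        have : Q ^ (2 * e + 1) = (Q ^ e * c) ^ 2 := by rw [← he, hd, hc]
        rw [pow_succ] at this
        rw [this, mul_pow, ← pow_mul, mul_comm e 2]
      exact Nat.eq_of_mul_eq_mul_left (pow_pos (by omega) _) h1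
    have hqc : q = c ^ d := by
      rw [hc, hQc, ← pow_mul, he, pow_succ]
    have hc2 : 2 ≤ c := by
      by_contra h
      have : c ≤ 1 := by omega
      have : c ^ 2 ≤ 1 := by nlinarith
      omega
    have hmle : m ≤ c ^ 2 - 1 := by
      apply Nat.le_of_dvd
      · have : 4 ≤ c ^ 2 := by nlinarith
        omega
      · rwa [hQc] at hdiv
    have hd3 : 3 ≤ d := by omega
    have hc3 : c ^ 3 ≤ q := by
      rw [hqc]; exact Nat.pow_le_pow_right (by omega) hd3
    have hc4 : 4 ≤ c ^ 2 := by nlinarith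
    have hkey : c ^ 3 + 4 ≤ 3 * c ^ 2 := by omega
    have hceq : c = 2 := by
      by_contra hne
      have h3 : 3 ≤ c := by omega
      have : 3 * c ^ 2 ≤ c ^ 3 := by nlinarith [sq_nonneg c]
      omega
    subst hceq
    have hq9 : q ≤ 8 := by omega
    have hd4 : d ≤ 3 := by
      by_contra h
      have h4 : 4 ≤ d := by omega
      have : 2 ^ 4 ≤ 2 ^ d := Nat.pow_le_pow_right (by norm_num) h4
      rw [← hqc] at this
      omega
    have hd3' : d = 3 := by omega
    rw [hd3'] at hqc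
    exact h8 (by rw [hqc]; norm_num)

theorem u3xent69_main {F : Type*} [Field F] [Fintype F] {q : ℕ} (hF : Fintype.card F = q ^ 2)
    (hq3 : 3 ≤ q) (hq5 : q ≠ 5) (hq8 : q ≠ 8) (μ : F) (hμ : orderOf μ = q + 1) :
    AddSubgroup.closure {x : F | ∃ j : ℕ, x = (μ⁻¹ ^ 3) ^ j} = ⊤ := by
  classical
  set ν : F := μ⁻¹ ^ 3 with hν
  have hμ0 : μ ≠ 0 := by
    rintro rfl
    have h := pow_orderOf_eq_one (0 : F)
    rw [hμ, zero_pow (by omega)] at h
    exact zero_ne_one h
  have hν0 : ν ≠ 0 := pow_ne_zero _ (inv_ne_zero hμ0)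
  let R : Subring F := Subring.closure {ν}
  have hinv : ∀ x ∈ R, x⁻¹ ∈ R := by
    intro x hx
    by_cases hx0 : x = 0
    · rw [hx0, inv_zero]; exact R.zero_mem
    · have h1 := FiniteField.pow_card_sub_one_eq_one x hx0
      have hcard : 2 ≤ Fintype.card F := Fintype.one_lt_card
      have : x⁻¹ = x ^ (Fintype.card F - 2) := by
        apply inv_eq_of_mul_eq_one_right
        rw [← pow_succ', show Fintype.card F - 2 + 1 = Fintype.card F - 1 by omega, h1]
      rw [this]; exact pow_mem hx _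
  let K : Subfield F := { R with inv_mem' := hinv }
  have hKR : ∀ x : F, x ∈ K ↔ x ∈ R := fun x => Iff.rfl
  have hcardF : Nat.card F = Nat.card K ^ Module.finrank K F := Module.natCard_eq_pow_finrank
  rw [Nat.card_eq_fintype_card, hF] at hcardF
  have hQ2 : 2 ≤ Nat.card K := Finite.one_lt_card
  have hm : orderOf ν * Nat.gcd (q + 1) 3 = q + 1 := by
    have hinvord : orderOf μ⁻¹ = orderOf μ := by
      have h1 : μ⁻¹ = (((Units.mk0 μ hμ0)⁻¹ : Fˣ) : F) := by simp
      have h2 : μ = ((Units.mk0 μ hμ0 : Fˣ) : F) := by simp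
      rw [h1, orderOf_units, orderOf_inv]
      conv_rhs => rw [h2, orderOf_units]
    rw [hν, orderOf_pow' (μ⁻¹) (by norm_num : (3 : ℕ) ≠ 0), hinvord, hμ]
    exact Nat.div_mul_cancel (Nat.gcd_dvd_left _ _)
  have hνK : ν ∈ K := Subring.subset_closure rfl
  have hdiv : orderOf ν ∣ Nat.card K - 1 := by
    have : Fintype K := Fintype.ofFinite K
    have hν'0 : (⟨ν, hνK⟩ : K) ≠ 0 := by
      intro h
      exact hν0 (congrArg Subtype.val h)
    have h1 := FiniteField.pow_card_sub_one_eq_one (⟨ν, hνK⟩ : K) hν'0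
    rw [Nat.card_eq_fintype_card]
    apply orderOf_dvd_of_pow_eq_one
    have h2 := congrArg Subtype.val h1
    simpa using h2
  have hd1 : Module.finrank K F = 1 :=
    u3xent69_arith q (Nat.card K) _ (orderOf ν) hq3 hq5 hq8 hQ2 hcardF.symm hm hdiv
  rw [hd1, pow_one] at hcardF
  have hsurj : Function.Surjective (Subtype.val : K → F) := by
    have hinj : Function.Injective (Subtype.val : K → F) := Subtype.val_injective
    have := hinj.bijective_of_nat_card_le (by rw [Nat.card_eq_fintype_card (α := F), hF, hcardF])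
    exact this.2
  rw [eq_top_iff]
  intro x _
  obtain ⟨⟨y, hy⟩, rfl⟩ := hsurj x
  have hyR : y ∈ R := (hKR y).mp hy
  have h3 := Subring.mem_closure_iff.mp hyR
  refine AddSubgroup.closure_mono ?_ h3
  intro z hz
  obtain ⟨n, hn⟩ := Submonoid.mem_closure_singleton.mp hz
  exact ⟨n, hn.symm⟩

end Cfsg.Agent.Lib.Helper23.U3
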