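import Cfsg.Agent.Lib.Helper6.Uni.Defs

/-! # S2314 hive, leaf UNI-A1: summing a permutation character over the `p`-elements. -/

set_option autoImplicit false

namespace Cfsg.Agent.Lib.Helper6.Uni

open Cfsg Cfsg.Agent.Lib.Helper6 Cfsg.Agent.Lib.Helper6.St

universe u

section A
variable {L : Type u} [Group L] [Fintype L]

/-- conjugation preserves `IsPElt` -/
theorem a1_isPElt_conj (p : ℕ) (x g : L) : IsPElt p (x * g * x⁻¹) ↔ IsPElt p g := by
  unfold IsPElt
  have : orderOf (x * g * x⁻¹) = orderOf g := by
    have := MulEquiv.orderOf_eq (MulAut.conj x) g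
    simpa [MulAut.conj_apply] using this
  rw [this]

/-- for each coset `c`, the `p`-elements fixing `c` are in bijection with the `p`-elements of `K` -/
theorem a1_card_fix (p : ℕ) (K : Subgroup L) (c : L ⧸ K) :
    Nat.card {g : L // IsPElt p g ∧ g • c = c} = npe p K := by
  induction c using QuotientGroup.induction_on with
  | H x =>
    unfold npe
    have hfix : ∀ g : L, g • (QuotientGroup.mk x : L ⧸ K) = QuotientGroup.mk x ↔ x⁻¹ * g * x ∈ K := by
      intro g
      rw [MulAction.Quotient.smul_mk, QuotientGroup.eq]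
      constructor
      · intro h
        have := K.inv_mem h
        simpa [mul_assoc] using this
      · intro h
        have := K.inv_mem h
        simpa [mul_assoc] using this
    apply Nat.card_congr
    refine
      { toFun := fun g => ⟨x⁻¹ * g.1 * x, (hfix g.1).mp g.2.2, ?_⟩
        invFun := fun h => ⟨x * h.1 * x⁻¹, ?_, ?_⟩
        left_inv := ?_
        right_inv := ?_ }
    · have := (a1_isPElt_conj p x⁻¹ g.1).mpr g.2.1
      simpa using this
    · exact (a1_isPElt_conj p x h.1).mpr h.2.2
    · rw [hfix]
      have : x⁻¹ * (x * h.1 * x⁻¹) * x = h.1 := by group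
      rw [this]
      exact h.2.1
    · intro g
      apply Subtype.ext
      show x * (x⁻¹ * g.1 * x) * x⁻¹ = g.1
      group
    · intro h
      apply Subtype.ext
      show x⁻¹ * (x * h.1 * x⁻¹) * x = h.1
      group

/-- UNI-A1. Summing a permutation character over the `p`-elements: `∑_{g p-elt} 1_K^L(g) = |L:K| · #{p-elts of K}`.
Proof: double count `{(g, xK) | g p-element, g x K = x K}`; `g x K = x K ↔ x⁻¹ g x ∈ K`; for fixed `x` the
`p`-elements of `x K x⁻¹` are in bijection with those of `K` (conjugation preserves `orderOf`). -/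
theorem sum_fpc (p : ℕ) (K : Subgroup L) :
    ∑ g ∈ pElts p L, fixedPointCharacter K g = (K.index : ℂ) * (npe p K : ℂ) := by
  classical
  haveI : Fintype (L ⧸ K) := Fintype.ofFinite _
  have h1 : ∀ g : L, fixedPointCharacter K g =
      ((∑ c : L ⧸ K, if g • c = c then 1 else 0 : ℕ) : ℂ) := by
    intro g
    unfold fixedPointCharacter
    congr 1
    rw [Nat.card_eq_fintype_card]
    have : Fintype.card (MulAction.fixedBy (L ⧸ K) g) =
        (Finset.univ.filter (fun c : L ⧸ K => g • c = c)).card := by
      rw [← Fintype.card_subtype]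
      apply Fintype.card_congr
      exact Equiv.subtypeEquivRight (fun c => MulAction.mem_fixedBy)
    rw [this, Finset.card_filter]
  have h2 : ∀ c : L ⧸ K, (∑ g ∈ pElts p L, if g • c = c then 1 else 0 : ℕ) = npe p K := by
    intro c
    rw [← a1_card_fix p K c, Nat.card_eq_fintype_card, Fintype.card_subtype]
    unfold pElts
    rw [← Finset.card_filter, Finset.filter_filter]
  calc ∑ g ∈ pElts p L, fixedPointCharacter K g
      = ∑ g ∈ pElts p L, ((∑ c : L ⧸ K, if g • c = c then 1 else 0 : ℕ) : ℂ) :=
        Finset.sum_congr rfl (fun g _ => h1 g)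
    _ = ((∑ g ∈ pElts p L, ∑ c : L ⧸ K, if g • c = c then 1 else 0 : ℕ) : ℂ) := by
        push_cast; rfl
    _ = ((∑ c : L ⧸ K, ∑ g ∈ pElts p L, if g • c = c then 1 else 0 : ℕ) : ℂ) := by
        rw [Finset.sum_comm]
    _ = ((∑ _c : L ⧸ K, npe p K : ℕ) : ℂ) := by
        congr 1
        exact Finset.sum_congr rfl (fun c _ => h2 c)
    _ = (K.index : ℂ) * (npe p K : ℂ) := by
        rw [Finset.sum_const, Finset.card_univ, smul_eq_mul, ← Nat.card_eq_fintype_card,
          ← Subgroup.index_eq_card]
        push_cast; rfl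

end A

end Cfsg.Agent.Lib.Helper6.Uni
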